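import Cfsg.Statements.S4035
import Mathlib
import Cfsg.Agent.L0.M4
import Cfsg.Agent.H3.Complete

set_option autoImplicit false
open Cfsg

namespace Cfsg.Agent.S4035

open Cfsg Subgroup CfsgH2 CfsgL0

/-- Let G be a finite group and p a prime such that p divides the size of no conjugacy class of p-regular elements (elements of order prime to p). Then G is the internal direct product of a Sylow p-subgroup P and a normal subgroup H of order prime to p: P is normal, P ⊓ H = 1 and PH = G. -/
theorem result {G : Type*} [Group G] [Finite G] {p : ℕ} [Fact p.Prime]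
    (h : ∀ x : G, (orderOf x).Coprime p → ¬ p ∣ (ConjClasses.mk x).carrier.ncard) (P : Sylow p G) :
    (P : Subgroup G).Normal ∧ ∃ H : Subgroup G, H.Normal ∧ ¬ p ∣ Nat.card H ∧
      (P : Subgroup G) ⊓ H = ⊥ ∧ (P : Subgroup G) ⊔ H = ⊤ := by
  rename_i hp
  have h' : ∀ x : G, (orderOf x).Coprime p → ¬ p ∣ C1[x].relIndex ⊤ := fun x hx => by
    rw [relIndex_top_right, ← CfsgH3.card_isConj_eq_index]
    convert h x hx using 2
    exact Nat.card_congr (Equiv.subtypeEquivRight fun y => by
      rw [ConjClasses.mem_carrier_iff_mk_eq, ConjClasses.mk_eq_mk_iff_isConj, isConj_comm])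
  have hP := syl_top P
  have hN : N[(P : Subgroup G)] = ⊤ := by
    refine CfsgH1.eq_of_forall_conj_mem le_top fun x _ => ?_
    obtain ⟨a, ha, b, hb, rfl, h1, h2⟩ := exists_pi_parts {p} x
    obtain ⟨Q, hQ, haQ⟩ := exists_syl_ge (isPGroup_iff_piN.2 (piN_card_zpowers h1))
      (zpowers_le.2 (mem_centralizer_singleton_iff.2 (commute_of_mem_zpowers ha hb)) : zpowers a ≤ C1[b])
    obtain ⟨g, -, hg⟩ := (hQ.trans le_top (h' b ((piN_compl_singleton' hp.out).1 h2))).conj hP
    refine ⟨g, mem_top _, ?_⟩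
    rw [← hg, normalizer_map_cj]
    exact conj_mem_map_cj (mul_mem (le_normalizer (haQ (mem_zpowers a))) (cent_le_norm _ (le_cent1_iff.1 hQ.le)))
  obtain ⟨h1, h2⟩ := direct_of_comm hP (piRes_le_iff.2 fun y _ hy => by
    obtain ⟨Q, hQ⟩ := exists_syl p C1[y]
    rw [← hP.eq_of_norm (hQ.trans le_top (h' y hy)) hN.ge]
    exact le_cent1_iff.1 hQ.le)
  exact ⟨h1, piRes {p} ⊤, top_le_norm_iff.1 le_norm_piRes, h2,
    inf_eq_bot_of_coprime' (coprime_of_pgroup P.isPGroup' h2), by rw [sup_comm]; exact hP.piRes_sup⟩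

end Cfsg.Agent.S4035
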