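import Cfsg.Statements.S5295
import Mathlib
import Cfsg.Agent.L0.Fus12

set_option autoImplicit false
universe u
open Cfsg

namespace Cfsg.Agent.S5295

open Cfsg Subgroup CfsgH2 CfsgL0 Cfsg.FusionSystem

theorem loc {L : Type u} [Group L] [Finite L] {p : ℕ} [hp : Fact p.Prime] (hp2 : p ≠ 2) {T Y : Subgroup L}
    (hT : Syl p T ⊤) (hL : C[pCore p L] ≤ pCore p L) (h : N[J[0, T]] ≤ C[Y]) : ⊤ ≤ C[Y] := by
  have hQ : pCore p L ≤ T := hT.le_of_norm isPGroup_pCore le_top le_normalizer_of_normal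
  refine fun g _ => mem_cent_iff.2 fun y hy => ?_
  have h1 := le_centralizer_iff.1 h hy
  have h2 := hL (cent_anti (hQ.trans le_norm_J) h1)
  refine (mul_inv_eq_iff_eq_mul.1 (wce_of_local (W := inducedFunctor (wJ 0)) (iw_cf (wJ_char (dvd_zero p)))
    (fun P _ => iw_J (P := P) ▸ center_le_J) (fun H T hT hn => ?_) hT
    ⟨hQ h2, by rwa [top_inf_eq, iw_J]⟩ (mem_top g) (hQ (Normal.conj_mem inferInstance _ h2 g)))).symm
  rw [iw_J] at hn
  obtain ⟨A, a1, a2, a3⟩ := quad_J hT hn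
  obtain ⟨g, g1, g2⟩ := SetLike.not_le_iff_exists.1 a2
  rw [omegaOne_zero] at a3
  have ha := zpowers_le.2 g1
  refine ⟨g, a1.le g1, g2, fun X Y h hX => iterComm_le_of_le (zpowers_le.2 (h.nY (hT.le (a1.le g1)))) (i := 2)
    (by have := hp.out.two_le; omega) (le_trans (iterComm_mono hX le_rfl 2) (le_trans ?_ bot_le))⟩
  exact (commutator_eq_bot_iff_le_centralizer.2 ((commutator_mono le_rfl ha).trans ((comm_le_right a3).trans
    (le_cent_of_comm a1.ab ha)))).le

/-- Let F be a saturated fusion system over a finite p-group S with p odd. Then the centre Z(F) of F is a direct factor of Z(S): there is a subgroup K of Z(S) with Z(F) ∩ K = 1 and Z(F)K = Z(S). (At the prime 2 this can fail.) -/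
theorem result {Ω : Type u} [Group Ω] {S : Subgroup Ω} [Finite S] (p : ℕ) [Fact p.Prime] (hp : p ≠ 2) (hS : IsPGroup p S)
    (F : Cfsg.FusionSystem S) (hF : F.IsSaturated p) :
    ∃ K : Subgroup Ω, K ≤ (S ⊓ Subgroup.centralizer (S : Set Ω)) ∧ F.center ⊓ K = ⊥ ∧ F.center ⊔ K = (S ⊓ Subgroup.centralizer (S : Set Ω)) := by
  have e : ∀ {L : Type u} [Group L] (T : Subgroup L), Wa (wJ 0) T = J[0, T] := fun T => iw_J
  have hW : WI p (wJ 0) := (wJ_char (dvd_zero p)).2
  have hWZ : ∀ (Q : Type u) [Group Q] [Finite Q], IsPGroup p Q → Subgroup.center Q ≤ wJ 0 Q := fun Q _ _ _ =>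
    le_trans (le_inf le_top cent_top.ge) center_le_J
  set J := Wa (wJ 0) S with hJ
  have hJS : J ≤ S := Wa_le
  haveI := finite_of_le hJS
  have nJ : S ≤ N[J] := le_normalizer.trans (hW.norm hS)
  have hZ : Z[S] ≤ Z[J] := le_inf (Z_le_Wa (hWZ S hS)) (inf_le_right.trans (cent_anti hJS))
  have hs := sat_syl hS hF (hW.fn (F := F) hS)
  letI : CommGroup Z[J] := { mul_comm := (isMulComm_cent_inf J).is_comm.comm }
  let τ : Z[J] →* Z[J] := MonoidHom.mk' (fun z => trc (F.autGroup J) (autInducedBy S J) fun g => aZ g z)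
    fun a b => by rw [← trc_mul]; exact trc_congr fun g _ => map_mul _ _ _
  have hτ : ∀ z, τ z = trc (F.autGroup J) (autInducedBy S J) fun g => aZ g z := fun _ => rfl
  have h1 : ∀ z : Z[J], z.1 ∈ Z[S] → (τ z).1 ∈ F.center := fun z hz => by
    have k : ∀ α ∈ F.autGroup J, af α (τ z) = τ z := fun α hα => by
      rw [← aZ_coe, hτ]
      refine congrArg _ ((map_trc _).trans (Eq.trans (trc_congr fun g _ => ?_) (trc_shift
        (F := fun g => aZ g z) (fun g _ m _ hm => Subtype.ext ?_) hα)))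
      · exact Subtype.ext (af_mul _ _ z.2.1).symm
      · obtain ⟨s, s1, s2⟩ := mem_autInd'.1 hm
        rw [aZ_coe, aZ_coe, af_mul _ _ z.2.1, s2 _ z.2.1, mem_cent_iff.1 hz.2 s s1, mul_inv_cancel_right]
    refine le_center (W_center hS hF hW hWZ (zpowers_le.2 ⟨hJS (τ z).2.1, mem_cent_iff.2 fun s hs => ?_⟩)
      (fun f a b y hy => ?_) fun V _ _ N _ L _ ι hL h _ => ?_) (mem_zpowers _)
    · have := k _ (autInd_le_aut hJS le_rfl (cA_mem (nJ hs) hs))
      rwa [af_cA _ (τ z).2.1, mul_inv_eq_iff_eq_mul] at this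
    · obtain ⟨α, c, d⟩ := a.exists_aut b
      obtain ⟨i, rfl⟩ := mem_zpowers_iff.1 hy
      rw [a.zpow (τ z).2.1, ← d _ (τ z).2.1, k α c]
    · haveI := hL.1
      exact loc hp (model_syl hL) hL.2.2.2 (by rwa [e] at h)
  have h2 : ∀ z : Z[J], z.1 ∈ F.center → τ z = z ^ (autInducedBy S J).relIndex (F.autGroup J) := fun z hz =>
    (hτ z).trans (Eq.trans (trc_congr fun g hg => Subtype.ext (by
      exact central_fix central_center ((mem_aut hJS).1 hg) z.2.1 hz)) (trc_const z))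
  have hc : F.center ≤ Z[S] := le_inf center_le (le_centralizer_iff.1 (central_le_cent central_center))
  haveI := finite_of_le (inf_le_left.trans hJS : Z[J] ≤ S)
  have hm : (Nat.card Z[J]).Coprime ((autInducedBy S J).relIndex (F.autGroup J)) := by
    obtain ⟨k, hk⟩ := IsPGroup.iff_card.1 (hS.to_le (inf_le_left.trans hJS : Z[J] ≤ S))
    rw [hk]; exact Nat.Coprime.pow_left _ ((Nat.Prime.coprime_iff_not_dvd Fact.out).2 hs.nd)
  refine ⟨τ.ker.map Z[J].subtype ⊓ Z[S], inf_le_right, le_bot_iff.1 ?_, le_antisymm (sup_le hc inf_le_right)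
    fun z hz => ?_⟩
  · rintro _ ⟨a, ⟨z, b, rfl⟩, -⟩
    have := (h2 z a).symm.trans b
    rw [← one_pow ((autInducedBy S J).relIndex (F.autGroup J))] at this
    rw [(powCoprime hm).injective this]; exact one_mem _
  · let w := (powCoprime hm).symm (τ ⟨z, hZ hz⟩)
    have hw : w.1 ∈ F.center := by
      have := h1 ⟨z, hZ hz⟩ hz
      simp only [w, powCoprime_symm_apply]
      exact zpow_mem this _
    rw [show z = w * ((w : Ω)⁻¹ * z) by group]
    refine mul_mem (mem_sup_left hw) (mem_sup_right ⟨⟨w⁻¹ * ⟨z, hZ hz⟩, ?_, rfl⟩,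
      mul_mem (Subgroup.inv_mem _ (hc hw)) hz⟩)
    show τ _ = 1
    rw [map_mul, map_inv, h2 w hw, inv_mul_eq_one]
    exact (powCoprime hm).apply_symm_apply _

end Cfsg.Agent.S5295
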