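import Cfsg.Statements.S5198
import Mathlib
import Cfsg.Agent.L0.Deg2

set_option autoImplicit false
open Cfsg

namespace Cfsg.Agent.S5198

open CfsgL0 CfsgH2 Subgroup

/-- Let F be a saturated fusion system over a finite p-group S and T a subgroup of S strongly closed in F (so T is normal in S). Then every element x of the hyperfocal subgroup of F acts on T by conjugation as an element of O^p(Aut_F(T))·Inn(T): there is an automorphism of T in the subgroup generated by the elements of Aut_F(T) of order prime to p together with the inner automorphisms of T that agrees with conjugation by x. -/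
theorem result {Ω : Type*} [Group Ω] {S : Subgroup Ω} [Finite S] (p : ℕ) [Fact p.Prime] (hS : IsPGroup p S) (F : Cfsg.FusionSystem S) (hF : F.IsSaturated p) (T : Subgroup Ω) (hT : F.StronglyClosed T) : ∀ x ∈ F.hyperfocalSubgroup p, ∃ α ∈ ((Cfsg.pResidual p ↥(F.autGroup T)).map (F.autGroup T).subtype ⊔ Cfsg.Inn ↥T : Subgroup (MulAut ↥T)), ∀ t : ↥T, ((α t : ↥T) : Ω) = x * (t : Ω) * x⁻¹ := by
  haveI := finite_of_le hT.1
  rw [map_pResidual]
  set K := piRes {p} (F.autGroup T) ⊔ Inn T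
  have hn := sc_le_norm hT
  intro x hx
  replace hx := hyp_le_of_over hS hF hT (R := NSK S K) (fun t ht => mem_NSK.2 ⟨hT.1 ht, (Kf_cA (hn (hT.1 ht))).2
    (mem_sup_right (inn_eq T ▸ cA_mem _ ht))⟩) NSK_le (fun P hP hTP α hα y hy => ?_) hx
  · obtain ⟨α, a, b⟩ := (mem_NSK.1 hx).2
    exact ⟨α, a, fun t => (af_coe α t).symm.trans (b t t.2)⟩
  obtain ⟨β, a, b⟩ := res_piRes hP hTP (fun α hα => sc_im hT ((mem_aut hP).1 hα) hTP) hα
  have hM := (mem_aut hP).1 (piRes_le hα)
  have h1 := hn (inv_mem (hP hy))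
  refine mem_NSK.2 ⟨mul_mem (inv_mem (hP hy)) (hM.mem hy), _, mem_sup_left (mul_mem (conj_mem_of_norm
    (le_norm_piRes (autInd_le_aut hT.1 le_rfl (cA_mem h1 (inv_mem (hP hy))))) a) (inv_mem a)), fun z hz => ?_⟩
  obtain ⟨t, ht, rfl⟩ := (homOn_af β).mem_im.1 ((im_af β).ge hz)
  have h2 := conj_mem_of_norm (hn (hP hy)) ht
  rw [af_mul _ _ hz, af_inv_af _ ht, ← cA_inv, af_mul _ _ ht, af_cA _ ht, inv_inv, af_mul _ _ h2,
    af_cA _ (af_mem _ h2), b _ h2, b _ ht, hM.conj hy (hTP ht)]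
  group

end Cfsg.Agent.S5198
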