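import Cfsg.Statements.S0214
import Mathlib
import Cfsg.Agent.L0.StrEmb

set_option autoImplicit false
open Cfsg

namespace Cfsg.Agent.S0214

/-- Let H be a proper subgroup of the finite group G and P a nontrivial Sylow 2-subgroup of H. Then H is strongly embedded in G if and only if N_G(X) ≤ H for every nontrivial subgroup X of P. -/
theorem result {G : Type*} [Group G] [Finite G] (H : Subgroup G) (hH : H ≠ ⊤) (P : Sylow 2 ↥H) (hP : (P : Subgroup ↥H) ≠ ⊥) : Cfsg.IsStronglyEmbedded H ↔ (∀ X : Subgroup ↥H, X ≤ (P : Subgroup ↥H) → X ≠ ⊥ → Subgroup.normalizer ((X.map H.subtype : Subgroup G) : Set G) ≤ H) := by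
  constructor
  · intro h X hX hne g hg
    obtain ⟨t, ht, ho⟩ := CfsgL0.exists_orderOf_prime_of_ne_bot (P.isPGroup'.to_le hX) hne
    refine CfsgL0.se_mem h t.2 (by rw [Subgroup.orderOf_coe, ho]) ?_
    exact Subgroup.map_subtype_le X (CfsgL0.conj_mem_of_mem_normalizer hg ⟨t, ht, rfl⟩)
  · intro h
    obtain ⟨t, ht, ho⟩ := CfsgL0.exists_orderOf_prime_of_ne_bot P.isPGroup' hP
    refine CfsgL0.se_iff.2 ⟨hH, ⟨t, t.2, by rw [Subgroup.orderOf_coe, ho]⟩, fun s hs hso g hg => ?_⟩
    refine CfsgL0.mem_of_normalizers_le (Subgroup.map_subtype_le _) (P.isPGroup'.map _)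
      (CfsgL0.sylow_map_max P) (fun X => X ≠ ⊥) (fun g X hX => by rwa [Ne, CfsgL0.cj_eq_bot_iff])
      (fun X Y hXY hX hY => hX (le_bot_iff.1 (hY ▸ hXY))) ?_
      (CfsgL0.isPGroup_zpowers_of_orderOf hso) ?_ (Subgroup.zpowers_le_of_mem hs) ?_
    · intro X hX hne
      have hXH : X ≤ H := hX.trans (Subgroup.map_subtype_le _)
      have e : (X.subgroupOf H).map H.subtype = X := by
        rw [Subgroup.subgroupOf_map_subtype, inf_eq_left.2 hXH]
      have := h (X.subgroupOf H) (fun x hx => by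
        obtain ⟨y, hy, hyx⟩ := hX hx
        rwa [← Subtype.ext hyx]) (fun hb => hne (by rw [← e, hb, Subgroup.map_bot]))
      rwa [e] at this
    · simpa using CfsgL0.inv_ne_one hso
    · rw [CfsgL0.cj_zpowers]; exact Subgroup.zpowers_le_of_mem hg

end Cfsg.Agent.S0214
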