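import Cfsg.Statements.S4455
import Mathlib
import Cfsg.Agent.H4.Ch2
import Cfsg.Agent.H2.NPC

set_option autoImplicit false
open Cfsg

open Cfsg CfsgH3 CfsgH4 CfsgH1 Function
open CfsgH2 hiding cj
open scoped ComplexConjugate Pointwise

namespace Cfsg.Agent.S4455

/-- Fix a prime p and a finite group G. Let s be the sum of χ(1)² over the irreducible characters χ of G whose degree is not divisible by p and whose determinantal order o(χ) is not divisible by p. Then the order of O^p(G), the subgroup generated by the elements of order prime to p, is congruent to s modulo p. -/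
theorem result {G : Type*} [Group G] [Finite G] (p : ℕ) (hp : p.Prime) : (Nat.card (Cfsg.pResidual p G) : ℤ) ≡ (∑ᶠ χ ∈ {χ : Cfsg.IrrCharacter G | ¬ p ∣ Cfsg.charDegree (χ : G → ℂ) ∧ ¬ p ∣ Cfsg.detOrder (χ : G → ℂ)}, (Cfsg.charDegree (χ : G → ℂ) : ℤ) ^ 2) [ZMOD p] := by
  classical
  have := Fact.mk hp
  set K := pResidual p G with hK
  have hn : K.Normal := by
    rw [hK, pResidual_eq, ← Subgroup.normalizer_eq_top_iff, eq_top_iff]; exact le_norm_piRes
  obtain ⟨k, hk⟩ : ∃ k, K.index = p ^ k := by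
    rw [hK, pResidual_eq, ← Subgroup.relIndex_top_right]
    exact (PiNum.singleton_iff hp (by simp [Subgroup.FiniteIndex.index_ne_zero])).1 piN_relIndex_piRes
  have hc : ∀ {m}, ¬ p ∣ m → K.index.Coprime m := fun h =>
    hk ▸ ((Nat.Prime.coprime_iff_not_dvd hp).2 h).pow_left k
  have h1 := dvd_sum_not_inv (N := K) (IsPGroup.of_card (K.index_eq_card.symm.trans hk))
    (fun θ => (charDegree θ : ℤ) ^ 2) fun g θ _ => by simp [charDegree, cj_apply_one]
  have h2 : ∀ l : K →* ℂˣ, ¬ p ∣ orderOf l := fun l h => by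
    obtain ⟨a, m, hm, e⟩ := Nat.exists_eq_pow_mul_and_not_dvd (orderOf_pos l).ne' p hp.ne_one
    have : orderOf l ∣ m := orderOf_lin_dvd.2 fun ⟨g, hg⟩ => by
      induction hg using Subgroup.closure_induction with
      | mem x hx =>
        rw [← orderOf_dvd_iff_pow_eq_one]
        refine Nat.Coprime.dvd_of_dvd_mul_left (m := p ^ a) (Nat.Coprime.pow_right _
          (Nat.Coprime.coprime_dvd_left ((orderOf_map_dvd l _).trans
            (Subgroup.orderOf_mk x _).dvd) hx)) ?_
        rw [← e, orderOf_dvd_iff_pow_eq_one, lin_pow_orderOf]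
      | one => exact (congrArg (· ^ m) l.map_one).trans (one_pow m)
      | mul x y hx hy a b =>
        exact (congrArg (· ^ m) (l.map_mul ⟨x, hx⟩ ⟨y, hy⟩)).trans (by rw [mul_pow, a, b, mul_one])
      | inv x hx a =>
        exact (congrArg (· ^ m) (l.map_inv ⟨x, hx⟩)).trans (by rw [inv_pow, a, inv_one])
    exact hm (h.trans this)
  have h3 : ∑ θ ∈ (Finset.univ.filter fun θ : IrrCharacter K => ∀ g, cj g θ.1 = θ.1) with
      ¬ p ∣ charDegree θ.1, (charDegree θ.1 : ℤ) ^ 2 = ∑ χ : IrrCharacter G with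
      ¬ p ∣ charDegree χ.1 ∧ ¬ p ∣ detOrder χ.1, (charDegree χ.1 : ℤ) ^ 2 := by
    symm
    refine Finset.sum_bij (fun χ h => ⟨_, restrict_irr_of_coprime χ.2
      (coe_charDegree χ.2.isCharacter).symm (hc (Finset.mem_filter.1 h).2.1)⟩) (fun χ h => ?_)
      (fun χ h ψ h' e => ?_) (fun θ h => ?_) fun _ _ => rfl
    · simp only [Finset.mem_filter, Finset.mem_univ, true_and] at h ⊢
      exact ⟨cj_restrict χ.2.isClassFunction, h.1⟩
    · have a := restrict_irr_of_coprime χ.2
        (coe_charDegree χ.2.isCharacter).symm (hc (Finset.mem_filter.1 h).2.1)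
      exact Subtype.ext (canon_ext_unique a (coe_charDegree χ.2.isCharacter).symm
        (hc (Finset.mem_filter.1 h).2.1) χ.2 ψ.2 (fun _ => rfl)
        (fun n => (congrFun (congrArg Subtype.val e) n).symm) (hc (Finset.mem_filter.1 h).2.2)
        (hc (Finset.mem_filter.1 h').2.2))
    · simp only [Finset.mem_filter, Finset.mem_univ, true_and] at h
      have a : ¬ p ∣ detOrder θ.1 := detOrder_eq θ.1 ▸ h2 _
      obtain ⟨χ, hχ, b, c⟩ := exists_canon_ext θ.2 h.1 (coe_charDegree θ.2.isCharacter).symm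
        (hc h.2) (hc a)
      refine ⟨⟨χ, hχ⟩, Finset.mem_filter.2 ⟨Finset.mem_univ _, ?_, c ▸ a⟩, Subtype.ext (funext b)⟩
      rw [charDegree_eq ((b 1).trans (coe_charDegree θ.2.isCharacter).symm)]
      exact h.2
  rw [finsum_mem_irr, Finset.sum_congr rfl (g := fun χ => if ¬ p ∣ charDegree χ.1 ∧
    ¬ p ∣ detOrder χ.1 then (charDegree χ.1 : ℤ) ^ 2 else 0) fun _ _ => by congr,
    ← Finset.sum_filter, ← h3, ← sum_deg_sq_nat, Nat.cast_sum,
    ← Finset.sum_filter_add_sum_filter_not _ fun θ : IrrCharacter K => ∀ g, cj g θ.1 = θ.1,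
    ← Finset.sum_filter_add_sum_filter_not (Finset.filter _ _)
      fun θ : IrrCharacter K => ¬ p ∣ charDegree θ.1, add_assoc]
  push_cast
  refine (Int.modEq_iff_dvd.2 ?_).symm
  rw [add_sub_cancel_left]
  exact dvd_add (Finset.dvd_sum fun θ h => (Int.natCast_dvd_natCast.2
    (not_not.1 (Finset.mem_filter.1 h).2)).trans (dvd_pow_self _ two_ne_zero)) h1

end Cfsg.Agent.S4455
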