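import Cfsg.Statements.S4456
import Mathlib
import Cfsg.Agent.H4.Ch2
import Cfsg.Agent.S4455
import Cfsg.Agent.H2.NPC

set_option autoImplicit false
open Cfsg

open Cfsg CfsgH3 CfsgH4 CfsgH1 Function
open CfsgH2 hiding cj
open scoped ComplexConjugate Pointwise

namespace Cfsg.Agent.S4456

/-- Let p be a prime and G a finite group such that p divides the degree of every irreducible character of G of degree greater than one. Then G has a normal p-complement: a normal subgroup of order prime to p whose index is a power of p. -/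
theorem result {G : Type*} [Group G] [Finite G] (p : ℕ) (hp : p.Prime) (hdeg : ∀ χ : Cfsg.IrrCharacter G, Cfsg.charDegree (χ : G → ℂ) ≠ 1 → p ∣ Cfsg.charDegree (χ : G → ℂ)) : ∃ N : Subgroup G, N.Normal ∧ (Nat.card N).Coprime p ∧ ∃ k : ℕ, N.index = p ^ k := by
  classical
  have := Fact.mk hp
  have hn : (pResidual p G).Normal := by
    rw [pResidual_eq, ← Subgroup.normalizer_eq_top_iff, eq_top_iff]; exact le_norm_piRes
  refine ⟨pResidual p G, hn, ((Nat.Prime.coprime_iff_not_dvd hp).2 fun h => ?_).symm, ?_⟩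
  · have h1 := S4455.result (G := G) p hp
    let S : Subgroup (G →* ℂˣ) :=
      { carrier := {l | p.Coprime (orderOf l)}
        one_mem' := by simp
        mul_mem' := fun {a b} ha hb => (Nat.Coprime.mul_right ha hb).coprime_dvd_right
          (Commute.all a b).orderOf_mul_dvd_mul_orderOf
        inv_mem' := by simp }
    have h2 : ∀ χ ∈ {χ : IrrCharacter G | ¬ p ∣ charDegree χ.1 ∧ ¬ p ∣ detOrder χ.1},
        charDegree χ.1 = 1 := fun χ h => of_not_not (mt (hdeg χ) h.1)
    rw [finsum_mem_congr rfl (g := fun _ => ((1 : ℕ) : ℤ)) fun χ h => by rw [h2 χ h]; rfl,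
      ← Nat.cast_finsum_mem (Set.toFinite _), finsum_one, ← Nat.card_coe_set_eq,
      ← Nat.card_congr (Equiv.ofBijective (α := S) (β := {χ : IrrCharacter G |
        ¬ p ∣ charDegree χ.1 ∧ ¬ p ∣ detOrder χ.1}) (fun l => ⟨⟨_, isIrr_of_unitsHom l.1⟩, by
        rw [(charDegree_eq_one (isIrr_of_unitsHom l.1).isCharacter).2 (by simp)]
        exact hp.not_dvd_one, by
        rw [detOrder_eq, dt_lin]; exact (Nat.Prime.coprime_iff_not_dvd hp).1 l.2⟩)
        ⟨fun a b e => Subtype.ext (unitsHom_injective
          (congrArg (fun x => x.1.1) e)), fun χ => by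
          obtain ⟨l, hl⟩ := χ.1.2.isCharacter.exists_monoidHom
            ((charDegree_eq_one χ.1.2.isCharacter).1 (h2 _ χ.2))
          refine ⟨⟨l, (Nat.Prime.coprime_iff_not_dvd hp).2 ?_⟩, Subtype.ext (Subtype.ext hl.symm)⟩
          have := χ.2.2
          rwa [hl, detOrder_eq, dt_lin] at this⟩), Int.natCast_modEq_iff] at h1
    obtain ⟨l, hl⟩ := exists_prime_orderOf_dvd_card' p ((h1.dvd_iff dvd_rfl).1 h)
    have : p.Coprime (orderOf l.1) := l.2
    rw [Subgroup.orderOf_coe, hl] at this
    exact hp.ne_one ((Nat.coprime_self p).1 this)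
  · rw [pResidual_eq, ← Subgroup.relIndex_top_right]
    exact (PiNum.singleton_iff hp (by simp [Subgroup.FiniteIndex.index_ne_zero])).1 piN_relIndex_piRes

end Cfsg.Agent.S4456
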