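import Cfsg.Statements.S4022
import Mathlib
import Cfsg.Agent.H1.Hall
import Cfsg.Agent.H2.PG1

set_option autoImplicit false
open Cfsg

open Subgroup CfsgH1 Pointwise

namespace Cfsg.Agent.S4022

universe u

theorem hall_card {G : Type*} [Group G] {π : Set ℕ} {H K L M : Subgroup G} (h : HallIn π H L)
    (k : HallIn π K M) (e : Nat.card L = Nat.card M) : Nat.card H = Nat.card K := by
  have h1 := card_mul_relIndex h.le
  have k1 := card_mul_relIndex k.le
  exact Nat.dvd_antisymm
    ((h.piNum.coprime k.piNum_relIndex).dvd_of_dvd_mul_right (k1 ▸ e ▸ Dvd.intro _ h1))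
    ((k.piNum.coprime h.piNum_relIndex).dvd_of_dvd_mul_right (h1 ▸ e ▸ Dvd.intro _ k1))

theorem exists_sub {G : Type*} [Group G] {p k : ℕ} (hp : p.Prime) {X : Subgroup G} (hX : IsPGroup p X)
    (h : p ^ k ≤ Nat.card X) : ∃ Y ≤ X, Nat.card Y = p ^ k := by
  obtain ⟨Y, hY⟩ := Sylow.exists_subgroup_card_pow_prime_of_le_card hp hX h
  exact ⟨Y.map X.subtype, map_subtype_le _, by rw [card_map_of_injective X.subtype_injective, hY]⟩

theorem hall_sup {G : Type*} [Group G] [Finite G] {π : Set ℕ} {H X Y : Subgroup G} (h : HallIn π X H)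
    (k : HallIn πᶜ Y H) (hn : Y ≤ normalizer (X : Set G)) : X ⊔ Y = H :=
  eq_of_le_of_card_ge (sup_le h.le k.le)
    (by rw [card_sup_of_coprime hn (h.piNum.coprime k.piNum), h.card_mul_card k])

theorem aux (r n : ℕ) : ∀ (G : Type u) [Group G] [Finite G] [Group.IsSolvable G], Nat.card G = n →
    (∀ p : ℕ, p.Prime → ∀ H K : Subgroup G, IsPGroup p H → IsPGroup p K → Nat.card H = Nat.card K →
      ∃ g : G, MulAut.conj g • H = K) →
    (∀ p : ℕ, p.Prime → p ≠ r → ∀ P : Subgroup G, IsPGroup p P → IsCyclic P) →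
    ∀ H K : Subgroup G, Nat.card H = Nat.card K → ∃ g : G, MulAut.conj g • H = K := by
  induction n using Nat.strong_induction_on with | _ n ih => ?_
  intro G _ _ _ hn hD hc H K hHK
  rcases subsingleton_or_nontrivial G with _ | _
  · exact ⟨1, Subsingleton.elim _ _⟩
  have hs : ∀ (π : Set ℕ) (L : Subgroup G), HallSep π L := fun π L => hallSep_of_isSolvable π
  obtain ⟨N, p, hNn, h0, -, hp, -, hNp, hexp, -⟩ := exists_elementary_normal_le (⊤ : Subgroup G) top_ne_bot
  haveI := Fact.mk hp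
  have lift : ∀ q : ℕ, q.Prime → ∀ X : Subgroup (G ⧸ N), IsPGroup q X → ∃ Y : Subgroup G,
      HallIn {q} Y (X.comap (QuotientGroup.mk' N)) ∧ IsPGroup q Y ∧ Y.map (QuotientGroup.mk' N) = X := by
    intro q hq X hX
    haveI := Fact.mk hq
    obtain ⟨Y, hY⟩ := exists_hallIn {q} (X.comap (QuotientGroup.mk' N))
    have := hY.map (QuotientGroup.mk' N)
    rw [map_comap_eq_self_of_surjective (QuotientGroup.mk'_surjective N)] at this
    exact ⟨Y, hY, piNum_singleton_card_iff.1 hY.piNum, this.eq_self (piNum_singleton_card_iff.2 hX)⟩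
  have quo : ∀ H K : Subgroup G, N ≤ H → N ≤ K → Nat.card H = Nat.card K → ∃ g : G, MulAut.conj g • H = K := by
    intro H K hH hK e
    have m : ∀ H : Subgroup G, N ≤ H → (H.map (QuotientGroup.mk' N)).comap (QuotientGroup.mk' N) = H :=
      fun H hH => comap_map_eq_self (by rwa [QuotientGroup.ker_mk'])
    obtain ⟨g, hg⟩ := ih _ (hn ▸ card_quotient_lt h0) (G ⧸ N) rfl (fun q hq X Y hX hY e => by
        obtain ⟨X', x1, x2, x3⟩ := lift q hq X hX
        obtain ⟨Y', y1, y2, y3⟩ := lift q hq Y hY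
        obtain ⟨g, hg⟩ := hD q hq X' Y' x2 y2 (hall_card x1 y1 (by rw [card_comap_mk', card_comap_mk', e]))
        exact ⟨QuotientGroup.mk' N g, by rw [← x3, ← y3, ← hg, map_conj_smul]⟩)
      (fun q hq hqr X hX => by
        obtain ⟨X', -, x2, rfl⟩ := lift q hq X hX
        haveI := hc q hq hqr X' x2
        exact isCyclic_of_surjective _ (MonoidHom.subgroupMap_surjective _ X'))
      (H.map (QuotientGroup.mk' N)) (K.map (QuotientGroup.mk' N)) (by
        apply Nat.eq_of_mul_eq_mul_left (Nat.card_pos (α := N))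
        rw [← card_comap_mk', ← card_comap_mk', m H hH, m K hK, e])
    obtain ⟨g, rfl⟩ := QuotientGroup.mk'_surjective N g
    exact ⟨g, by rw [← m K hK, ← hg, comap_conj_smul, m H hH]⟩
  obtain ⟨k, hk⟩ := hNp.exists_card_eq
  have big : ∀ X : Subgroup G, IsPGroup p X → Nat.card N ≤ Nat.card X → N ≤ X := by
    intro X hX e
    obtain ⟨Y, y1, y2⟩ := exists_sub hp hX (hk ▸ e)
    obtain ⟨g, hg⟩ := hD p hp N Y hNp (hX.to_le y1) (hk.trans y2.symm)
    rw [conj_smul_eq_of_mem_normalizer (le_normalizer_of_normal (mem_top g))] at hg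
    exact hg ▸ y1
  have small : ∀ X : Subgroup G, IsPGroup p X → Nat.card X ≤ Nat.card N → X ≤ N := by
    intro X hX e
    obtain ⟨j, hj⟩ := hX.exists_card_eq
    obtain ⟨Y, y1, y2⟩ := exists_sub hp hNp (hj ▸ e)
    obtain ⟨g, hg⟩ := hD p hp Y X (hNp.to_le y1) hX (y2.trans hj.symm)
    exact hg ▸ conj_smul_le_of_normal g y1
  obtain ⟨X, hX⟩ := exists_hallIn {p} H
  obtain ⟨Y, hY⟩ := exists_hallIn {p} K
  have hXp := piNum_singleton_card_iff.1 hX.piNum
  have hYp := piNum_singleton_card_iff.1 hY.piNum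
  have hXY := hall_card hX hY hHK
  by_cases hb : Nat.card N ≤ Nat.card X
  · exact quo H K ((big X hXp hb).trans hX.le) ((big Y hYp (hXY ▸ hb)).trans hY.le) hHK
  push Not at hb
  have hXN := small X hXp hb.le
  have hYN := small Y hYp (hXY ▸ hb.le)
  have hpN : p ∣ Nat.card N := (hNp.card_eq_or_dvd).resolve_left (mt card_eq_one.1 h0)
  by_cases hpr : p = r
  · subst hpr
    have nrm : ∀ H X : Subgroup G, HallIn {p} X H → X ≤ N → H ≤ normalizer (X : Set G) := by
      intro H X hX hXN
      have : H ⊓ N = X := hX.eq_of_le (piNum_singleton_card_iff.2 (hNp.to_le inf_le_right))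
        (le_inf hX.le hXN) inf_le_left
      exact le_normalizer_iff.2 fun g hg x hx => this ▸ mem_inf.2 ⟨mul_mem (mul_mem hg (hX.le hx)) (inv_mem hg),
        hNn.conj_mem x (hXN hx) g⟩
    obtain ⟨g, hg⟩ := hD p hp X Y hXp hYp hXY
    have hX' := hX.smul g
    rw [hg] at hX'
    set H1 := MulAut.conj g • H with hH1
    obtain ⟨A, hA⟩ := exists_hallIn {p}ᶜ H1
    obtain ⟨B, hB⟩ := exists_hallIn {p}ᶜ K
    have hAB := hall_card hA hB (by rw [hH1, card_conj_smul, hHK])
    have nA := hA.le.trans (nrm _ _ hX' hYN)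
    have nB := hB.le.trans (nrm _ _ hY hYN)
    obtain ⟨T, hT, hBT⟩ := exists_hallIn_ge hB.piNum nB
    obtain ⟨a, ha, haT⟩ := hT.exists_conj_le (hs _ _) hA.piNum nA
    have hTp : ¬ p ∣ Nat.card T := fun h => hT.piNum p hp h rfl
    have hT1 : T ≠ ⊤ := by
      rintro rfl
      exact hTp (hpN.trans (card_dvd_of_le le_top))
    have cyc : ∀ q : ℕ, q.Prime → ∀ P : Subgroup T, IsPGroup q P → IsCyclic P := by
      intro q hq P hP
      haveI := Fact.mk hq
      by_cases e : q = p
      · subst e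
        have : P = ⊥ := card_eq_one.1 (hP.card_eq_or_dvd.resolve_right fun h => hTp (h.trans (card_subgroup_dvd_card P)))
        subst this; infer_instance
      · haveI := hc q hq e _ (hP.map T.subtype)
        exact isCyclic_of_surjective _ (P.equivMapOfInjective _ T.subtype_injective).symm.surjective
    obtain ⟨t, ht⟩ := ih _ (hn ▸ card_lt_of_ne_top hT1) T rfl (fun q hq U W hU hW e => by
        haveI := Fact.mk hq
        obtain ⟨S, hS, hWS⟩ := exists_hallIn_ge (π := {q}) (piNum_singleton_card_iff.2 hW) (le_top : W ≤ ⊤)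
        obtain ⟨c, -, hc⟩ := hS.exists_conj_le (hallSep_of_isSolvable _) (piNum_singleton_card_iff.2 hU) le_top
        exact ⟨c, CfsgH2.eq_of_card_eq_of_cyclic (cyc q hq S (piNum_singleton_card_iff.1 hS.piNum)) hc hWS
          (by rw [card_conj_smul, e])⟩)
      (fun q hq _ => cyc q hq) ((MulAut.conj a • A).subgroupOf T) (B.subgroupOf T)
      (by rw [card_subgroupOf_of_le haT, card_subgroupOf_of_le hBT, card_conj_smul, hAB])
    have ht' := congrArg (Subgroup.map T.subtype) ht
    rw [map_conj_smul, map_subgroupOf_eq_of_le haT, map_subgroupOf_eq_of_le hBT, conj_smul_conj_smul] at ht'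
    refine ⟨T.subtype t * a * g, ?_⟩
    rw [← conj_smul_conj_smul, ← hH1, ← hall_sup hX' hA nA, ← hall_sup hY hB nB, smul_sup, ht',
      conj_smul_eq_of_mem_normalizer (g := T.subtype t * a) (mul_mem (hT.le t.2) ha)]
  · haveI := hc p hp hpr N hNp
    have hN : Nat.card N ≤ p := by
      rw [← IsCyclic.exponent_eq_card]
      exact Nat.le_of_dvd hp.pos (Monoid.exponent_dvd_of_forall_pow_eq_one fun x => Subtype.ext (hexp x x.2))
    have triv : ∀ H X : Subgroup G, HallIn {p} X H → Nat.card X < Nat.card N →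
        HallIn {p}ᶜ H (N ⊔ H) ∧ Nat.card (N ⊔ H : Subgroup G) = Nat.card N * Nat.card H := by
      intro H X hX hlt
      have e : X = ⊥ := card_eq_one.1 ((piNum_singleton_card_iff.1 hX.piNum).card_eq_or_dvd.resolve_right
        fun h => absurd (Nat.le_of_dvd Nat.card_pos h) (by omega))
      subst e
      have h1 := hX.piNum_relIndex
      rw [relIndex_bot_left] at h1
      have h2 := card_sup_of_coprime (le_normalizer_of_normal : H ≤ normalizer (N : Set G))
        ((piNum_singleton_card_iff.2 hNp).coprime h1)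
      refine ⟨(hallIn_iff_card_eq (h2.trans (mul_comm _ _)) h1 (by
        rw [compl_compl]; exact piNum_singleton_card_iff.2 hNp) le_sup_right).2 rfl, h2⟩
    obtain ⟨a1, a2⟩ := triv H X hX hb
    obtain ⟨b1, b2⟩ := triv K Y hY (hXY ▸ hb)
    obtain ⟨g, hg⟩ := quo _ _ le_sup_left le_sup_left (a2.trans (hHK ▸ b2.symm))
    have a3 := a1.smul g
    rw [hg] at a3
    obtain ⟨c, -, hc⟩ := a3.exists_conj (hs _ _) b1
    exact ⟨c * g, by rw [← conj_smul_conj_smul, hc]⟩

/-- Let G be a finite solvable group in which, for every prime p, any two p-subgroups of the same order are conjugate, and suppose the Sylow p-subgroups of G are cyclic for all primes p with at most one exception. Then any two subgroups of G of the same order are conjugate. -/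
theorem result {G : Type*} [Group G] [Finite G]
    [Group.IsSolvable G] (hD : ∀ p : ℕ, p.Prime → ∀ H K : Subgroup G, IsPGroup p H → IsPGroup p K → Nat.card H = Nat.card K →
      ∃ g : G, K = H.map (MulAut.conj g).toMonoidHom)
    (r : ℕ) (hcyc : ∀ p : ℕ, p.Prime → p ≠ r → ∀ P : Sylow p G, IsCyclic P) :
    ∀ H K : Subgroup G, Nat.card H = Nat.card K → ∃ g : G, K = H.map (MulAut.conj g).toMonoidHom := by
  intro H K e
  obtain ⟨g, hg⟩ := aux r _ G rfl (fun p hp H K h1 h2 e => by
    obtain ⟨g, hg⟩ := hD p hp H K h1 h2 e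
    exact ⟨g, by rw [hg, conj_smul_eq_map]⟩) (fun p hp hr P hP => by
    haveI := Fact.mk hp
    obtain ⟨S, hS⟩ := hP.exists_le_sylow
    haveI := hcyc p hp hr S
    exact isCyclic_of_le hS) H K e
  exact ⟨g, by rw [← hg, conj_smul_eq_map]⟩

end Cfsg.Agent.S4022
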