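import Mathlib
import Cfsg.Statements.S1230
import Cfsg.Agent.H8.Za4

set_option autoImplicit false
open Cfsg

namespace Cfsg.Agent.S1230

open CfsgH8 CfsgH8.Za CfsgH2 Subgroup

/-- Let G be a finite group with a Sylow 2-subgroup T that is neither cyclic nor normal, such that the centralizer of every involution is an elementary abelian 2-group. Then G ≅ PSL(2,F) for a finite field F with |F| = |T|. -/
theorem result {G : Type*} [Group G] [Finite G] (T : Sylow 2 G) (hnc : ¬ IsCyclic (T : Subgroup G)) (hnn : ¬ (T : Subgroup G).Normal) (hC : ∀ t : G, orderOf t = 2 → IsMulCommutative (Subgroup.centralizer ({t} : Set G)) ∧ ∀ c ∈ Subgroup.centralizer ({t} : Set G), c ^ 2 = 1) : ∃ (F : Type) (_ : Field F) (_ : Fintype F), Fintype.card F = Nat.card T ∧ Nonempty (G ≃* Matrix.ProjectiveSpecialLinearGroup (Fin 2) F) := by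
  obtain ⟨z, y, h, hy, oy, yz, h2⟩ := tc_of_elem T hnc hnn hC
  obtain ⟨u, hu, huH⟩ := h.exists_out
  have Z := h.zk hy oy yz hu huH
  have hd : o[HH G _ _] = _ := (congrArg (fun X : Subgroup G => o[X]) (TC.HH_eq u)).trans
    ((h.card_D hu huH).trans (TC.card_elem h2))
  obtain ⟨F, _, _, hF⟩ := exists_field_card (Z.isPrimePow (h.frob hy oy yz hu huH).ker_ne (by omega))
  obtain ⟨e1⟩ := Z.iso_even hd h.even F hF
  obtain ⟨e2⟩ := psl_pgl (hF ▸ h.even)
  exact ⟨F, inferInstance, inferInstance, hF, ⟨e1.trans e2⟩⟩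

end Cfsg.Agent.S1230
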