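import Cfsg.Statements.S4014
import Cfsg.Agent.H1.Sn1
import Cfsg.Agent.H1.Frattini

set_option autoImplicit false
open Cfsg

namespace Cfsg.Agent.S4014

section
open CfsgH1 CfsgH1.Sn Equiv Equiv.Perm MulAction
open scoped commutatorElement

theorem upper {p : ℕ} [hp : Fact p.Prime] (k : ℕ) : ∀ (G : Type) [Group G] [Finite G], IsPGroup p G → ∀ H : Subgroup G,
    H.index < p ^ (k + 1) → derivedSeries G k ≤ H := by
  have key : ∀ (G : Type) [Group G] [Finite G], IsPGroup p G → ∀ H : Subgroup G, H.index < p → H = ⊤ := fun G _ _ hG H h => by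
    obtain ⟨_ | j, e⟩ := hG.index H
    · exact Subgroup.index_eq_one.1 e
    · exact absurd (Nat.le_of_dvd (e ▸ pow_pos hp.out.pos _) (e ▸ dvd_pow_self p j.succ_ne_zero)) h.not_ge
  induction k with
  | zero => exact fun G _ _ hG H h => (key G hG H (by simpa using h)).ge
  | succ k ih =>
    intro G _ _ hG H h
    rcases eq_top_or_exists_le_coatom H with rfl | ⟨M, hM, h1⟩
    · exact le_top
    have := hG.isNilpotent
    have h2 : _root_.commutator G ≤ M := le_frattini_iff.1 commutator_le_frattini M hM
    have h3 : p ≤ M.index := not_lt.1 fun e => hM.1 (key G hG M e)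
    have h4 := ih M (hG.to_subgroup M) (H.subgroupOf M) (by
      have := Subgroup.relIndex_mul_index h1
      rw [pow_succ] at h
      exact lt_of_mul_lt_mul_right ((Nat.mul_le_mul_left _ h3).trans_lt (this ▸ h)) p.zero_le)
    have h5 : ∀ j, derivedSeries G (j + 1) ≤ (derivedSeries M j).map M.subtype := fun j => by
      induction j with
      | zero => rwa [derivedSeries_zero, ← MonoidHom.range_eq_map, Subgroup.range_subtype]
      | succ j ih => rw [derivedSeries_succ M, Subgroup.map_commutator]; exact Subgroup.commutator_mono ih ih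
    exact (h5 k).trans (Subgroup.map_le_iff_le_comap.2 h4)

theorem wr {D Q : Type} [Group D] [Group Q] {q : Q} (hq : q ≠ 1) (j : ℕ) (h : derivedSeries (RegularWreathProduct D Q) (j + 1) = ⊥) :
    derivedSeries D j = ⊥ := by
  classical
  let π : (RegularWreathProduct.rightHom (D := D) (Q := Q)).ker →* D := MonoidHom.mk' (fun w => w.1.left 1) fun a b => by
    have : a.1.right = 1 := a.2
    simp [this]
  have : ∀ j, derivedSeries D j ≤ ((derivedSeries (RegularWreathProduct D Q) (j + 1)).subgroupOf _).map π := fun j => by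
    induction j with
    | zero =>
      intro d _
      refine ⟨⟨⁅(⟨Pi.mulSingle 1 d, 1⟩ : RegularWreathProduct D Q), RegularWreathProduct.inl q⁆, by
        simp [commutatorElement_def]⟩, Subgroup.commutator_mem_commutator (Subgroup.mem_top _) (Subgroup.mem_top _), ?_⟩
      simp [π, commutatorElement_def, hq]
    | succ j ih =>
      refine (Subgroup.commutator_mono ih ih).trans ?_
      rw [← Subgroup.map_commutator]
      exact Subgroup.map_mono (Subgroup.commutator_le.2 fun a ha b hb => Subgroup.commutator_mem_commutator ha hb)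
  exact eq_bot_iff.2 ((this j).trans (by rw [h]; simp))

theorem lower {p : ℕ} [hp : Fact p.Prime] (k : ℕ) : ∃ (W Λ : Type) (_ : Group W) (_ : Finite W) (_ : Finite Λ) (_ : Nonempty Λ)
    (_ : MulAction W Λ), FaithfulSMul W Λ ∧ Nat.card Λ = p ^ (k + 1) ∧ IsPGroup p W ∧ derivedSeries W k ≠ ⊥ := by
  have hc : Nat.card (Multiplicative (ZMod p)) = p := by simp
  induction k with
  | zero => exact ⟨Multiplicative (ZMod p), Multiplicative (ZMod p), inferInstance, inferInstance, inferInstance, inferInstance,
      inferInstance, inferInstance, by simp, IsPGroup.of_card (n := 1) (by simp), top_ne_bot⟩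
  | succ k ih =>
    obtain ⟨W, Λ, _, _, _, _, _, _, h1, h2, h3⟩ := ih
    obtain ⟨q, hq⟩ := exists_ne (1 : Multiplicative (ZMod p))
    obtain ⟨j, hj⟩ := IsPGroup.iff_card.1 h2
    exact ⟨RegularWreathProduct W (Multiplicative (ZMod p)), Λ × Multiplicative (ZMod p), inferInstance, inferInstance,
      inferInstance, inferInstance, inferInstance, inferInstance, by rw [Nat.card_prod, h1, hc, ← pow_succ],
      IsPGroup.of_card (n := j * p + 1) (by rw [RegularWreathProduct.card, hj, hc, ← pow_mul, ← pow_succ]),
      fun h => h3 (wr hq k h)⟩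

end

/-- Let p be a prime, n ≥ 1, and P a Sylow p-subgroup of the symmetric group on n letters. Then the derived length of P is exactly k = ⌊log_p n⌋ (the largest k with p^k ≤ n): the k-th derived subgroup of P is trivial and, when k ≥ 1, the (k−1)-st is not. -/
theorem result (p : ℕ) [Fact p.Prime] (n : ℕ) (hn : 1 ≤ n) (P : Sylow p (Equiv.Perm (Fin n))) : derivedSeries ↥(P : Subgroup (Equiv.Perm (Fin n))) (Nat.log p n) = ⊥ ∧ (1 ≤ Nat.log p n → derivedSeries ↥(P : Subgroup (Equiv.Perm (Fin n))) (Nat.log p n - 1) ≠ ⊥) := by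
  open CfsgH1 CfsgH1.Sn Equiv Equiv.Perm MulAction in
  open scoped commutatorElement in
  · have hp : p.Prime := Fact.out
    refine ⟨eq_bot_iff.2 fun g hg => Subtype.ext (Equiv.ext fun x => upper _ P P.2 (stabilizer P x) ?_ hg), fun h1 h => ?_⟩
    · rw [index_stabilizer]
      exact lt_of_le_of_lt (by simpa using Set.ncard_le_card (orbit P x)) (Nat.lt_pow_succ_log_self hp.one_lt n)
    · obtain ⟨W, Λ, _, _, _, _, _, _, h2, h3, h4⟩ := lower (p := p) (Nat.log p n - 1)
      have := Fintype.ofFinite Λ
      obtain ⟨ι⟩ : Nonempty (Λ ↪ Fin n) := Function.Embedding.nonempty_of_card_le (by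
        rw [← Nat.card_eq_fintype_card, h2, Nat.sub_add_cancel h1, Fintype.card_fin]
        exact Nat.pow_log_le_self p (by omega))
      let φ := (viaEmbeddingHom ι).comp (toPermHom W Λ)
      obtain ⟨Q, hQ⟩ := (h3.of_surjective _ φ.rangeRestrict_surjective).exists_le_sylow
      let ψ : W →* P := (Sylow.equiv Q P).toMonoidHom.comp (φ.codRestrict Q fun x => hQ ⟨x, rfl⟩)
      have h5 : Function.Injective ψ := (Sylow.equiv Q P).injective.comp fun a b e =>
        toPerm_injective (viaEmbeddingHom_injective ι (congrArg Subtype.val e))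
      exact h4 ((Subgroup.map_eq_bot_iff_of_injective _ h5).1 (eq_bot_iff.2 (h ▸ map_derivedSeries_le_derivedSeries ψ _)))

end Cfsg.Agent.S4014
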