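import Mathlib
import Cfsg.Statements.S2427
import Cfsg.Agent.H8.P2a
import Cfsg.Agent.H8.SL23
import Cfsg.Agent.H8.AutQ8

set_option autoImplicit false
open Cfsg

namespace Cfsg.Agent.S2427

open CfsgH8 QuaternionGroup
open scoped commutatorElement

/-- The embedding of the quaternion group. -/
def φ : Q8 →* SL23 := MonoidHom.mk' (fun
  | a n => ⟨!![0, -1; 1, 0], by decide⟩ ^ n.val
  | xa n => ⟨!![1, 1; 1, -1], by decide⟩ * ⟨!![0, -1; 1, 0], by decide⟩ ^ n.val) (by decide +kernel)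

theorem k1 : ∀ g : SL23, g ^ 4 = 1 ↔ ∃ u, φ u = g := by decide +kernel

theorem k2 : ∀ a b : SL23, ⁅a, b⁆ ^ 4 = 1 := by decide +kernel

theorem k3 : ∀ g : SL23, g ^ 4 = 1 → ∃ a b : SL23, ⁅a, b⁆ = g := by decide +kernel

theorem k4 : ∀ g : SL23, g ^ 4 ≠ 1 → ∃ a : SL23, a * g ^ 4 * a⁻¹ = s3x ∨ a * g ^ 2 * a⁻¹ = s3x := by decide +kernel

theorem k5 : ∀ g : SL23, g ^ 4 = 1 → g ≠ 1 → g ≠ -1 → ∀ h, h ^ 4 = 1 → h = 1 ∨ h = g ^ 2 ∨ ∃ a, h = a * g * a⁻¹ := by
  decide +kernel

theorem mem (g : SL23) : g ∈ commutator SL23 ↔ g ^ 4 = 1 := by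
  refine ⟨fun h => (k1 g).2 ((Subgroup.commutator_le (H₃ := φ.range)).2 (fun a _ b _ => (k1 _).1 (k2 a b)) h), fun h => ?_⟩
  obtain ⟨a, b, rfl⟩ := k3 g h
  exact Subgroup.commutator_mem_commutator trivial trivial

/-- The group SL₂ over the field with 3 elements has order 24 and centre of order 2; its commutator subgroup has order 8, is isomorphic to the quaternion group of order 8 and is complemented by every Sylow 3-subgroup (so the group is a semidirect product of a quaternion group of order 8 by a cyclic group of order 3); and its only normal subgroups besides the trivial subgroup and the whole group are the centre and the commutator subgroup. -/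
theorem result :
    Nat.card (Matrix.SpecialLinearGroup (Fin 2) (ZMod 3)) = 24 ∧
    Nat.card (Subgroup.center (Matrix.SpecialLinearGroup (Fin 2) (ZMod 3))) = 2 ∧
    Nat.card (commutator (Matrix.SpecialLinearGroup (Fin 2) (ZMod 3))) = 8 ∧
    Nonempty (commutator (Matrix.SpecialLinearGroup (Fin 2) (ZMod 3)) ≃* QuaternionGroup 2) ∧
    (∀ P : Sylow 3 (Matrix.SpecialLinearGroup (Fin 2) (ZMod 3)),
      Subgroup.IsComplement' (commutator (Matrix.SpecialLinearGroup (Fin 2) (ZMod 3)))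
        (P : Subgroup (Matrix.SpecialLinearGroup (Fin 2) (ZMod 3)))) ∧
    ∀ N : Subgroup (Matrix.SpecialLinearGroup (Fin 2) (ZMod 3)), N.Normal →
      N = ⊥ ∨ N = ⊤ ∨ N = Subgroup.center (Matrix.SpecialLinearGroup (Fin 2) (ZMod 3)) ∨
        N = commutator (Matrix.SpecialLinearGroup (Fin 2) (ZMod 3)) := by
  haveI : Fact (Nat.Prime 3) := ⟨by norm_num⟩
  have e : commutator SL23 ≃* Q8 := (MulEquiv.subgroupCongr (Subgroup.ext fun g => (mem g).trans (k1 g))).trans
    (MonoidHom.ofInjective (f := φ) (by decide +kernel)).symm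
  have c : Nat.card (commutator SL23) = 8 := by rw [Nat.card_congr e.toEquiv, Nat.card_eq_fintype_card, card]
  refine ⟨card_SL23, (card_center_SL2 (F := ZMod 3)).trans (by rw [ZMod.card]; rfl), c, ⟨e⟩, fun P => ?_, fun N hN => ?_⟩
  · have := (card_sylow_char 3 P).trans (ZMod.card 3)
    exact Subgroup.isComplement'_of_coprime (by rw [c, this, card_SL23]) (by rw [c, this]; norm_num)
  by_cases h : ∀ g ∈ N, g ^ 4 = 1
  · by_cases k : ∀ g ∈ N, g = 1 ∨ g = -1
    · by_cases m : -1 ∈ N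
      · refine .inr (.inr (.inl (Subgroup.ext fun g => ?_)))
        rw [mem_center_SL2, isSc_SL2]
        exact ⟨k g, by rintro (rfl | rfl); exacts [one_mem _, m]⟩
      · exact .inl (eq_bot_iff.2 fun g hg => (k g hg).resolve_right fun e => m (e ▸ hg))
    · push Not at k
      obtain ⟨g, hg, g1, g2⟩ := k
      refine .inr (.inr (.inr (Subgroup.ext fun x => ⟨fun hx => (mem x).2 (h x hx), fun hx => ?_⟩)))
      rcases k5 g (h g hg) g1 g2 x ((mem x).1 hx) with rfl | rfl | ⟨y, rfl⟩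
      exacts [one_mem _, pow_mem hg _, hN.conj_mem _ hg _]
  · push Not at h
    obtain ⟨g, hg, g1⟩ := h
    have x : s3x ∈ N := by
      obtain ⟨y, e | e⟩ := k4 g g1 <;> exact e ▸ hN.conj_mem _ (pow_mem hg _) _
    refine .inr (.inl (eq_top_s3 x ?_))
    rw [show s3y = φ (a 1) * s3x⁻¹ * (φ (a 1))⁻¹ by decide +kernel]
    exact hN.conj_mem _ (inv_mem x) _

end Cfsg.Agent.S2427
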