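import Mathlib
import Cfsg.Statements.S3740
import Cfsg.Agent.S2427
import Cfsg.Agent.H8.Dick5

set_option autoImplicit false
open Cfsg

namespace Cfsg.Agent.S3740

open CfsgH8
open scoped commutatorElement

theorem comm_le {G : Type*} [Group G] {R : Subgroup G} {a : G} (h : a ∈ Subgroup.normalizer (R : Set G)) :
    ⁅R ⊔ Subgroup.zpowers a, R ⊔ Subgroup.zpowers a⁆ ≤ R := by
  let π := QuotientGroup.mk' (R.subgroupOf (Subgroup.normalizer (R : Set G)))
  have : R ⊔ Subgroup.zpowers a ≤ ((Subgroup.zpowers (π ⟨a, h⟩)).comap π).map (Subgroup.subtype _) :=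
    sup_le (fun r hr => ⟨⟨r, Subgroup.le_normalizer hr⟩, ⟨0, (zpow_zero _).trans
      ((QuotientGroup.eq_one_iff (N := R.subgroupOf _) ⟨r, Subgroup.le_normalizer hr⟩).2 hr).symm⟩, rfl⟩) (Subgroup.zpowers_le.2 ⟨⟨a, h⟩, Subgroup.mem_zpowers _, rfl⟩)
  refine Subgroup.commutator_le.2 fun g hg k hk => ?_
  obtain ⟨g, ⟨m, hm⟩, rfl⟩ := this hg
  obtain ⟨k, ⟨n, hn⟩, rfl⟩ := this hk
  have : π ⁅g, k⁆ = 1 := by
    rw [map_commutatorElement, ← hm, ← hn]; exact (Commute.zpow_zpow_self _ m n).commutator_eq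
  exact (QuotientGroup.eq_one_iff ⁅g, k⁆).1 this

theorem comm_bot {G : Type*} [Group G] [Finite G] {R : Subgroup G} {a : G} {p : ℕ} [Fact p.Prime]
    (ha : IsPGroup p (Subgroup.zpowers a)) (hR : (Nat.card R).Coprime p) (haR : a ∈ Subgroup.normalizer (R : Set G))
    (h : Nat.card (Sylow p (R ⊔ Subgroup.zpowers a : Subgroup G)) = 1) : ⁅R, Subgroup.zpowers a⁆ = ⊥ := by
  haveI := (Nat.card_eq_one_iff_unique.1 h).1
  obtain ⟨P, hP⟩ := (ha.comap_subtype (K := R ⊔ Subgroup.zpowers a)).exists_le_sylow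
  haveI := P.normal_of_subsingleton
  refine le_bot_iff.1 ?_
  rw [← disjoint_iff.1 (Subgroup.disjoint_of_coprime_natCard (H := R) (K := P.1.map (Subgroup.subtype _)) ?_)]
  · refine le_inf (Subgroup.le_normalizer_iff_commutator_le_left.1 (Subgroup.zpowers_le.2 haR))
      (Subgroup.commutator_le.2 fun g hg k hk => ⟨⁅⟨g, Subgroup.mem_sup_left hg⟩, ⟨k, Subgroup.mem_sup_right hk⟩⁆,
        Subgroup.commutator_le_right ⊤ P.1 (Subgroup.commutator_mem_commutator trivial (hP hk)), rfl⟩)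
  · obtain ⟨k, hk⟩ := (P.2.map (Subgroup.subtype _)).exists_card_eq
    exact hk ▸ hR.pow_right k

theorem comm_le' {G G' : Type*} [Group G] [Group G'] {R H : Subgroup G} (h : ⁅H, H⁆ ≤ R) (e : H ≃* G') :
    commutator G' ≤ (R.subgroupOf H).map e.toMonoidHom := Subgroup.commutator_le.2 fun g _ k _ =>
  ⟨⁅e.symm g, e.symm k⁆, h (Subgroup.commutator_mem_commutator (e.symm g).2 (e.symm k).2), by
    simp [map_commutatorElement]⟩

/-- Let F be a finite field of odd characteristic p and let a be a p-element of SL₂(F) normalizing a subgroup R of order prime to p with [R, a] ≠ 1. Then p = 3, R is a quaternion group of order 8, and R⟨a⟩ is isomorphic to SL₂(3). -/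
theorem result (F : Type) [Field F] [Fintype F] {p : ℕ} [Fact p.Prime] [CharP F p] (hp : p ≠ 2) (a : Matrix.SpecialLinearGroup (Fin 2) F) (ha : IsPGroup p ↥(Subgroup.zpowers a)) (R : Subgroup (Matrix.SpecialLinearGroup (Fin 2) F)) (hR : (Nat.card R).Coprime p) (haR : a ∈ Subgroup.normalizer (R : Set (Matrix.SpecialLinearGroup (Fin 2) F))) (hnt : ⁅R, Subgroup.zpowers a⁆ ≠ ⊥) : p = 3 ∧ Nonempty (↥R ≃* QuaternionGroup 2) ∧ Nonempty (↥(R ⊔ Subgroup.zpowers a) ≃* Matrix.SpecialLinearGroup (Fin 2) (ZMod 3)) := by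
  have hc := comm_le haR
  have hp' : p.Prime := Fact.out
  have nd : ¬ p ∣ Nat.card R := hp'.coprime_iff_not_dvd.1 hR.symm
  set H := R ⊔ Subgroup.zpowers a with hH
  have cd : ∀ {G' : Type} [Group G'] {R H : Subgroup G'} {G'' : Type} [Group G''] (e : H ≃* G''), R ≤ H →
      Nat.card ((R.subgroupOf H).map e.toMonoidHom) = Nat.card R := fun e h => by
    rw [Subgroup.card_map_of_injective e.injective, Nat.card_congr (Subgroup.subgroupOfEquivOfLe h).toEquiv]
  have ns : Nat.card (Sylow p H) ≠ 1 := fun h => hnt (comm_bot ha hR haR h)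
  obtain ⟨-, ⟨rfl, ⟨e⟩⟩ | ⟨x, L, h1, h2⟩⟩ := sylow_cases p hp ns
  · have := comm_le' (R := R.map πS) (by rw [← Subgroup.map_commutator]; exact Subgroup.map_mono hc) e
    rw [commutator_alternatingGroup_eq_top (by simp), top_le_iff] at this
    refine absurd (.trans ?_ (Subgroup.card_map_dvd R πS)) nd
    rw [← cd e (Subgroup.map_mono le_sup_left), this, Subgroup.card_top, nat_card_alternatingGroup]
    simp [Nat.factorial]
  have k : ∀ c : Fˣ, triS c 0 ∈ H.map (cjE x).toMonoidHom → (c : F) * c = 1 := fun c h => by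
    by_contra n
    have := Subgroup.commutator_mem_commutator h (h1 (triS_mem_SLs.2 ⟨one_mem _, one_mem _⟩ : triS 1 (1 : F) ∈ SLs L))
    rw [← Subgroup.map_commutator] at this
    have m := Subgroup.map_mono (f := (cjE x).toMonoidHom) hc this
    have e : ⁅triS c 0, triS 1 (1 : F)⁆ = triS 1 ((c : F) * c - 1) := by
      rw [commutatorElement_def, mul_inv_eq_iff_eq_mul, mul_inv_eq_iff_eq_mul]
      simp [triS_mul, triS_inj, sub_mul]
    have := Subgroup.orderOf_dvd_natCard _ m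
    rw [e, orderOf_of_trace p (by simp [triS_val, Matrix.trace_fin_two, one_add_one_eq_two])
      (fun t => n (sub_eq_zero.1 (triS_inj.1 (t.trans triS_one.symm)).2)), Subgroup.card_map_of_injective (cjE x).injective] at this
    exact nd this
  have t2 : (2 : F) ≠ 0 := fun t => hp ((Nat.prime_dvd_prime_iff_eq hp' Nat.prime_two).1
    ((CharP.cast_eq_zero_iff F p 2).1 (by exact_mod_cast t)))
  have kL : ∀ c ∈ L, c = 0 ∨ c = 1 ∨ c = -1 := fun c h => or_iff_not_imp_left.2 fun n =>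
    mul_self_eq_one_iff.1 (k (.mk0 c n) (h1 (triS_mem_SLs.2 ⟨h, zero_mem _⟩)))
  have t3 : ((3 : ℕ) : F) = 0 := by
    rcases kL 2 (by simpa using natCast_mem L 2) with t | t | t
    · exact absurd t t2
    · exact absurd (by linear_combination t) (one_ne_zero (α := F))
    · push_cast; linear_combination t
  obtain rfl : p = 3 := (Nat.prime_dvd_prime_iff_eq hp' Nat.prime_three).1 ((CharP.cast_eq_zero_iff F p 3).1 t3)
  obtain rfl : L = ⊥ := le_bot_iff.1 fun c h => by
    rcases kL c h with rfl | rfl | rfl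
    exacts [zero_mem _, one_mem _, neg_mem (one_mem _)]
  have : H.map (cjE x).toMonoidHom = SLs ⊥ := by
    refine (eq_SLs_or_GLs h1 h2).elim id fun e => (GLs_eq_SLs_or ⊥).elim e.trans fun s => ?_
    obtain ⟨c, hc⟩ := s (-1) (neg_mem (one_mem _))
    have n : c ≠ 0 := by rintro rfl; simp at hc
    have : c * c = 1 := k (.mk0 c n) (e ▸ mem_GLs.2 ⟨c, n, forall_m2.2 (by simp [triS_val, ← hc, n])⟩)
    exact absurd (by linear_combination -this - hc) t2
  obtain ⟨e⟩ := nonempty_SLs_bot (F := F) 3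
  have e := ((H.equivMapOfInjective _ (cjE x).injective).trans (MulEquiv.subgroupCongr this)).trans e
  obtain ⟨c, -, cc, ⟨e'⟩, -⟩ := S2427.result
  have d := Subgroup.card_subgroup_dvd_card ((R.subgroupOf H).map e.toMonoidHom)
  have := Subgroup.eq_of_le_of_card_ge (comm_le' hc e) (cc ▸ Nat.le_of_dvd (by norm_num)
    (Nat.Coprime.dvd_of_dvd_mul_right (n := 3) (by rwa [cd e le_sup_left]) (d.trans (c.trans rfl).dvd)))
  exact ⟨rfl, ⟨(((Subgroup.subgroupOfEquivOfLe le_sup_left).symm.trans (Subgroup.equivMapOfInjective _ _ e.injective)).trans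
    (MulEquiv.subgroupCongr this.symm)).trans e'⟩, ⟨e⟩⟩

end Cfsg.Agent.S3740
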