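import Mathlib
import Cfsg.Statements.S3266
import Cfsg.Agent.H8.P2a
import Cfsg.Agent.H8.Klein2
import Cfsg.Agent.H8.Dick2

set_option autoImplicit false
open Cfsg

namespace Cfsg.Agent.S3266

open CfsgH8

variable {F : Type*} [Field F]

local notation "SL2" => Matrix.SpecialLinearGroup (Fin 2) F

theorem pow_lin (g : SL2) (k : ℕ) : ∃ a b : F, (g ^ k).1 = a • 1 + b • g.1 := by
  induction k with
  | zero => exact ⟨1, 0, by simp⟩
  | succ k ih =>
    obtain ⟨a, b, h⟩ := ih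
    refine ⟨-b, a + b * g.1.trace, ?_⟩
    rw [pow_succ, Matrix.SpecialLinearGroup.coe_mul, h, add_mul, smul_mul_assoc, smul_mul_assoc, sq_SL2, one_mul]
    module

theorem of_even [Fintype F] {g : SL2} (h : ¬ Odd (orderOf (πS g))) :
    ∃ a b : F, b ≠ 0 ∧ 2 * a + b * g.1.trace = 0 ∧ a ^ 2 + a * b * g.1.trace + b ^ 2 = 1 := by
  have o := orderOf_pow_orderOf_div (orderOf_pos (πS g)).ne' (Nat.not_odd_iff_even.1 h).two_dvd
  rw [← map_pow] at o
  obtain ⟨a, b, e⟩ := pow_lin g (orderOf (πS g) / 2)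
  have t := trace_of_orderOf_πS_two o
  have d := Matrix.SpecialLinearGroup.det_coe (g ^ (orderOf (πS g) / 2))
  have d' := sl2_det g
  rw [e] at t d
  refine ⟨a, b, fun b0 => ?_, ?_, ?_⟩
  · rw [πS_eq_one.2 (by rw [e]; simp [b0, IsSc])] at o
    simp at o
  · simpa [mul_comm] using t
  · simp [Matrix.det_fin_two, Matrix.trace_fin_two] at d ⊢
    linear_combination d - b ^ 2 * d'

theorem arith [Fintype F] (hq : Fintype.card F % 2 = 1) (h4 : 4 ≤ Fintype.card F) {t S : F} (hS : S ≠ 0) (h : 4 - t ^ 2 = S ^ 2) :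
    ∃ e A d : F, e ^ 2 = 1 ∧ (4 - A ^ 2 = 0 ∨ ¬ IsSquare (4 - A ^ 2)) ∧ A ^ 2 + d ^ 2 * (2 - e * t) = 2 - e * t := by
  classical
  have t2 : (2 : F) ≠ 0 := two_ne_zero_of_odd hq
  have n : ∀ e : F, e ^ 2 = 1 → 2 - e * t ≠ 0 := fun e he z => hS (pow_eq_zero_iff two_ne_zero |>.1 (by
    linear_combination -h + (2 + e * t) * z + t ^ 2 * he))
  by_cases m : IsSquare (-1 : F)
  · obtain ⟨i, hi⟩ := m
    have := n 1 (by simp)
    rw [one_mul] at this
    exact ⟨1, 2, i * S / (2 - t), by simp, .inl (by norm_num), by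
      rw [one_mul]; field_simp; linear_combination (-S ^ 2) * hi + h⟩
  have sq' : ∀ {a b : F}, b ≠ 0 → IsSquare (a * b ^ 2) → IsSquare a := fun {a b} hb ⟨r, hr⟩ =>
    ⟨r / b, by field_simp; linear_combination hr⟩
  have key : ∀ w : F, w ≠ 0 → ¬ IsSquare ((w ^ 2 - t * w + 1) * (2 - t)) → ∃ e A d : F, e ^ 2 = 1 ∧
      (4 - A ^ 2 = 0 ∨ ¬ IsSquare (4 - A ^ 2)) ∧ A ^ 2 + d ^ 2 * (2 - e * t) = 2 - e * t := fun w w0 hw => by
    obtain ⟨e, u, he, hu⟩ : ∃ e u : F, (e = 1 ∨ e = -1) ∧ w = -e * u ^ 2 := by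
      by_cases s : IsSquare w
      · obtain ⟨u, hu⟩ := s
        exact ⟨-1, u, .inr rfl, by linear_combination hu⟩
      · obtain ⟨u, hu⟩ := isSquare_mul_of_not m s
        exact ⟨1, u, .inl rfl, by linear_combination -hu⟩
    have e2 : e ^ 2 = 1 := by rcases he with rfl | rfl <;> simp
    have u0 : u ≠ 0 := by rintro rfl; simp [hu] at w0
    have ne := n e e2
    have : ¬ IsSquare ((w ^ 2 - t * w + 1) * (2 - e * t)) := by
      rcases he with rfl | rfl
      · rwa [one_mul]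
      · exact fun s => hw (sq' ne (by
          rw [show (w ^ 2 - t * w + 1) * (2 - t) * (2 - -1 * t) ^ 2 = (w ^ 2 - t * w + 1) * (2 - -1 * t) * S ^ 2 by
            linear_combination (w ^ 2 - t * w + 1) * (2 + t) * h]
          exact s.mul (IsSquare.sq S)))
    obtain ⟨r, hr⟩ := isSquare_mul_of_not m this
    refine ⟨e, u + u⁻¹, r / (u * (2 - e * t)), e2, or_iff_not_imp_left.2 fun z s => m (sq' (b := u - u⁻¹) (fun y => z ?_) ?_), ?_⟩
    · linear_combination -(u - u⁻¹) * y - 4 * mul_inv_cancel₀ u0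
    · convert s using 1
      linear_combination 4 * mul_inv_cancel₀ u0
    · subst hu
      field_simp
      linear_combination -hr - (2 - e * t) * u ^ 4 * e2
  by_cases s : IsSquare (2 - t)
  · obtain ⟨p, _, _, hp, -⟩ := FiniteField.card' F
    haveI : NeZero p := ⟨hp.ne_zero⟩
    obtain ⟨a, b, hab⟩ := CharP.sq_add_sq F p (-1)
    push_cast at hab
    have b0 : (b : F) ≠ 0 := fun b0 => m ⟨a, by rw [b0] at hab; linear_combination -hab⟩
    have : ¬ IsSquare (((t + a * S / b) / 2) ^ 2 - t * ((t + a * S / b) / 2) + 1) := fun s => m (sq' (b := S / (2 * b))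
      (by positivity) (by convert s using 1; field_simp; linear_combination (-S ^ 2) * hab - b ^ 2 * h))
    refine key ((t + a * S / b) / 2) (fun z => this (by rw [z]; simp)) fun s' => this ?_
    obtain ⟨r, hr⟩ := s
    exact sq' (b := r) (fun z => n 1 (by simp) (by simp [hr, z])) (by rwa [hr, ← sq] at s')
  have k : ∀ w : F, w ≠ 0 → w ^ 2 - t * w + 1 ≠ 0 → IsSquare (w ^ 2 - t * w + 1) →
      ¬ IsSquare ((w ^ 2 - t * w + 1) * (2 - t)) := fun w _ z ⟨r, hr⟩ s' =>
    s (sq' (b := r) (fun y => z (by simp [hr, y])) (by rwa [hr, ← sq, mul_comm] at s'))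
  by_cases t0 : t = 0
  · obtain ⟨u, u0, u1, u2⟩ : ∃ u : F, u ≠ 0 ∧ u ≠ 1 ∧ u ≠ -1 := by
      by_contra! c
      have := Finset.card_le_card (show (Finset.univ : Finset F) ⊆ {(0 : F), 1, -1} from fun u _ => by
        simp only [Finset.mem_insert, Finset.mem_singleton]; have := c u; tauto)
      have := Finset.card_le_three (a := (0 : F)) (b := 1) (c := -1)
      simp only [Finset.card_univ] at *
      omega
    have w0 : (u - u⁻¹) / 2 ≠ 0 := fun z => (mul_self_eq_one_iff.1 (by field_simp at z; linear_combination z)).elim u1 u2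
    exact key _ w0 (k _ w0 (fun z => m ⟨(u - u⁻¹) / 2, by rw [t0] at z; linear_combination -z⟩)
      ⟨(u + u⁻¹) / 2, by rw [t0]; field_simp; ring⟩)
  · have w0 : t / 2 ≠ 0 := div_ne_zero t0 t2
    have : (t / 2) ^ 2 - t * (t / 2) + 1 = (S / 2) ^ 2 := by field_simp; linear_combination h
    exact key _ w0 (k _ w0 (this ▸ by positivity) (this ▸ IsSquare.sq _))

theorem common [Fintype F] (h4 : 4 ≤ Fintype.card F) {x y : SL2} (hx : x.1.trace = 0) (hy : y.1.trace = 0) (sx : ¬ IsSc x.1)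
    (sy : ¬ IsSc y.1) (h : ¬ Odd (orderOf (πS (x * y)))) :
    ∃ z : SL2, z.1.trace = 0 ∧ ¬ IsSc z.1 ∧ Odd (orderOf (πS (x * z))) ∧ Odd (orderOf (πS (y * z))) := by
  have dx := sl2_det x
  have dy := sl2_det y
  rw [Matrix.trace_fin_two] at hx hy
  rcases Nat.mod_two_eq_zero_or_one (Fintype.card F) with hq | hq
  · have t2 : (2 : F) = 0 := by
      have := congrArg (fun g : SL2 => g.1 0 0) (neg_eq_self_of_even hq 1)
      simp at this
      linear_combination -this
    have o : ∀ g : SL2, g.1.trace ≠ 0 → Odd (orderOf (πS g)) := fun g n => by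
      by_contra c
      obtain ⟨a, b, b0, e, -⟩ := of_even c
      exact mul_ne_zero b0 n (by linear_combination e - a * t2)
    have k : ∀ g : SL2, g.1 0 0 + g.1 1 1 = 0 → ¬ IsSc g.1 → g.1 0 1 = 0 → g.1 1 0 ≠ 0 := fun g t s a b =>
      s ⟨a, b, by linear_combination t - g.1 1 1 * t2⟩
    have o1 : ∀ g : SL2, g.1 0 0 + g.1 1 1 = 0 → g.1 1 0 ≠ 0 → Odd (orderOf (πS (g * mS 1 1 0 1 (by simp)))) := fun g t n =>
      o _ fun z => n (by simp [Matrix.trace_fin_two, mS_val, Matrix.mul_apply] at z; linear_combination z - t)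
    have o2 : ∀ g : SL2, g.1 0 0 + g.1 1 1 = 0 → g.1 0 1 ≠ 0 → Odd (orderOf (πS (g * mS 1 0 1 1 (by simp)))) := fun g t n =>
      o _ fun z => n (by simp [Matrix.trace_fin_two, mS_val, Matrix.mul_apply] at z; linear_combination z - t)
    have o3 : ∀ g : SL2, g.1 0 1 - g.1 1 0 ≠ 0 → Odd (orderOf (πS (g * cS 0))) := fun g n =>
      o _ fun z => n (by simp [Matrix.trace_fin_two, cS_val, Matrix.mul_apply] at z; linear_combination z)
    by_cases a : x.1 1 0 ≠ 0 ∧ y.1 1 0 ≠ 0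
    · exact ⟨_, by simp [mS_val, one_add_one_eq_two, t2], by simp [mS_val, IsSc], o1 x hx a.1, o1 y hy a.2⟩
    by_cases b : x.1 0 1 ≠ 0 ∧ y.1 0 1 ≠ 0
    · exact ⟨_, by simp [mS_val, one_add_one_eq_two, t2], by simp [mS_val, IsSc], o2 x hx b.1, o2 y hy b.2⟩
    have kx := k x hx sx
    have ky := k y hy sy
    exact ⟨_, trace_cS 0, not_isSc_cS 0, o3 x (by grind), o3 y (by grind)⟩
  have o : ∀ g : SL2, (4 - g.1.trace ^ 2 = 0 ∨ ¬ IsSquare (4 - g.1.trace ^ 2)) → Odd (orderOf (πS g)) := fun g n => by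
    by_contra c
    obtain ⟨a, b, b0, e, e'⟩ := of_even c
    have : 4 - g.1.trace ^ 2 = (2 / b) ^ 2 := by field_simp; linear_combination 4 * e' - (2 * a + b * g.1.trace) * e
    have t2 : (2 : F) ≠ 0 := two_ne_zero_of_odd hq
    exact n.elim (this ▸ by positivity) fun n => n (this ▸ IsSquare.sq _)
  obtain ⟨s0, S, hS⟩ := not_or.1 (mt (o _) h) |>.imp_right not_not.1
  have S0 : S ≠ 0 := fun z => s0 (by rw [hS, z, mul_zero])
  obtain ⟨e, A, d, he, hA, hd⟩ := arith hq h4 S0 (hS.trans (sq S).symm)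
  set t := (x * y).1.trace with ht
  have n : 2 - e * t ≠ 0 := fun z => s0 (by linear_combination (2 + e * t) * z + t ^ 2 * he)
  obtain ⟨a, rfl⟩ : ∃ a, A = a * (2 - e * t) := ⟨A / (2 - e * t), by field_simp⟩
  obtain ⟨c, rfl⟩ : ∃ c, d = c * S := ⟨d / S, by field_simp⟩
  have hd : a ^ 2 * (2 - e * t) + c ^ 2 * (4 - t ^ 2) = 1 := mul_left_cancel₀ n (by rw [hS]; linear_combination hd)
  simp only [Matrix.trace_fin_two, sl2_mul] at ht
  have x1 : x.1 1 1 = -x.1 0 0 := by linear_combination hx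
  have y1 : y.1 1 1 = -y.1 0 0 := by linear_combination hy
  simp only [x1, y1] at dx dy ht
  let z : SL2 := ⟨a • (x.1 + e • y.1) + c • (x.1 * y.1 - y.1 * x.1), by
    simp only [Matrix.det_fin_two, Matrix.add_apply, Matrix.smul_apply, Matrix.sub_apply, Matrix.mul_apply, Fin.sum_univ_two,
      smul_eq_mul, x1, y1]
    rw [ht] at hd
    linear_combination hd + (a ^ 2 + 4 * c ^ 2 * (-y.1 0 0 ^ 2 - y.1 0 1 * y.1 1 0)) * dx + (a ^ 2 * e ^ 2 + 4 * c ^ 2) * dy +
      a ^ 2 * he⟩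
  have tz : z.1.trace = 0 := by
    simp only [z, Matrix.trace_fin_two, Matrix.add_apply, Matrix.smul_apply, Matrix.sub_apply, Matrix.mul_apply,
      Fin.sum_univ_two, smul_eq_mul, x1, y1]
    ring
  refine ⟨z, tz, (reg_of_trace_zero hq tz).not_isSc, o _ ?_, o _ ?_⟩
  · suffices (x * z).1.trace = -(a * (2 - e * t)) by rwa [this, neg_sq]
    rw [Matrix.trace_fin_two, sl2_mul, sl2_mul]
    simp only [z, Matrix.add_apply, Matrix.smul_apply, Matrix.sub_apply, Matrix.mul_apply,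
      Fin.sum_univ_two, smul_eq_mul, ht, x1, y1]
    linear_combination (-2 * a) * dx
  · suffices (y * z).1.trace = -e * (a * (2 - e * t)) by rwa [this, mul_pow, neg_sq, he, one_mul]
    rw [Matrix.trace_fin_two, sl2_mul, sl2_mul]
    simp only [z, Matrix.add_apply, Matrix.smul_apply, Matrix.sub_apply, Matrix.mul_apply,
      Fin.sum_univ_two, smul_eq_mul, x1, y1]
    linear_combination (-2 * a * e) * dy - a * t * he - a * ht

theorem conj0 [Fintype F] {x y : SL2} (hx : x.1.trace = 0) (hy : y.1.trace = 0) (sx : ¬ IsSc x.1) (sy : ¬ IsSc y.1) :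
    IsConj (πS x) (πS y) := by
  refine πS.map_isConj ?_
  rcases Nat.mod_two_eq_zero_or_one (Fintype.card F) with hq | hq
  · have k : ∀ g : SL2, g.1.trace = 0 → ¬ IsSc g.1 → IsConj (cS 0) g := fun g t s => by
      obtain ⟨u, hu⟩ := exists_cjS_cS s
      obtain ⟨r, hr⟩ := FiniteField.isSquare_of_char_two (FiniteField.even_card_iff_char_two.2 hq) u.1.det
      have r0 : r ≠ 0 := fun z => (Matrix.GeneralLinearGroup.det u).ne_zero (by simpa [z] using hr)
      obtain ⟨v, rfl⟩ := exists_eq_toGL_mul_of_det (hr.trans ((sq r).symm.trans (det_sc (.mk0 r r0)).symm))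
      rw [← cjS_cjS, cjS_sc, cjS_toGL, t] at hu
      exact isConj_iff.2 ⟨v, hu⟩
    exact (k x hx sx).symm.trans (k y hy sy)
  · exact (reg_of_trace_zero hq hx).isConj_SL (hx.trans hy.symm)

/-- Let F be a finite field with at least 4 elements and let X be a conjugacy class of involutions of PSL(2, F). The graph on X joining two distinct involutions whose product has odd order is connected and has diameter exactly 2. -/
theorem result {F : Type*} [Field F] [Fintype F] (hF : 4 ≤ Fintype.card F)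
    (t : Matrix.ProjectiveSpecialLinearGroup (Fin 2) F) (ht : orderOf t = 2) :
    (SimpleGraph.fromRel fun x y : {x : Matrix.ProjectiveSpecialLinearGroup (Fin 2) F // IsConj t x} =>
        Odd (orderOf (x.1 * y.1))).Connected ∧
      (SimpleGraph.fromRel fun x y : {x : Matrix.ProjectiveSpecialLinearGroup (Fin 2) F // IsConj t x} =>
        Odd (orderOf (x.1 * y.1))).diam = 2 := by
  have lift : ∀ g : Matrix.ProjectiveSpecialLinearGroup (Fin 2) F, orderOf g = 2 →
      ∃ x, πS x = g ∧ x.1.trace = 0 ∧ ¬ IsSc x.1 := fun g h => by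
    obtain ⟨x, rfl⟩ := πS_surj g
    exact ⟨x, rfl, trace_of_orderOf_πS_two h, fun s => by simp [πS_eq_one.2 s] at h⟩
  obtain ⟨x0, rfl, t0, s0⟩ := lift t ht
  have lift' : ∀ g, IsConj (πS x0) g → ∃ x, πS x = g ∧ x.1.trace = 0 ∧ ¬ IsSc x.1 := fun g h => by
    obtain ⟨c, rfl⟩ := isConj_iff.1 h
    exact lift _ (((MulAut.conj c).orderOf_eq _).trans ht)
  set Γ := SimpleGraph.fromRel fun x y : {x // IsConj (πS x0) x} => Odd (orderOf (x.1 * y.1))
  have l1 : ∀ u v : {x // IsConj (πS x0) x}, Odd (orderOf (u.1 * v.1)) → Γ.edist u v ≤ 1 := fun u v h =>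
    SimpleGraph.edist_le_one_iff_adj_or_eq.2 (or_iff_not_imp_right.2 fun n => ⟨n, .inl h⟩)
  have l2 : Γ.ediam ≤ 2 := SimpleGraph.ediam_le_of_edist_le fun u v => by
    by_cases h : Odd (orderOf (u.1 * v.1))
    · exact (l1 u v h).trans one_le_two
    obtain ⟨x, ex, tx, sx⟩ := lift' _ u.2
    obtain ⟨y, ey, ty, sy⟩ := lift' _ v.2
    obtain ⟨z, tz, sz, h1, h2⟩ := common hF tx ty sx sy (by rwa [map_mul, ex, ey])
    rw [map_mul] at h1 h2
    exact SimpleGraph.edist_triangle.trans ((add_le_add (l1 u ⟨_, conj0 t0 tz s0 sz⟩ (ex ▸ h1))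
      (SimpleGraph.edist_comm.trans_le (l1 v _ (ey ▸ h2)))).trans one_add_one_eq_two.le)
  obtain ⟨a, b, oa, ob, oc⟩ : ∃ a b : Matrix.ProjectiveSpecialLinearGroup (Fin 2) F, orderOf a = 2 ∧ orderOf b = 2 ∧
      orderOf (a * b) = 2 := by
    rcases Nat.mod_two_eq_zero_or_one (Fintype.card F) with hq | hq
    · haveI : CharP F 2 := ringChar.of_eq (FiniteField.even_card_iff_char_two.2 hq)
      have k : ∀ s : F, s ≠ 0 → orderOf (πS (triS 1 s)) = 2 := fun s n => orderOf_eq_prime (by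
        rw [← map_pow, pow_char_of_trace 2 (by simp [triS_val, one_add_one_eq_two]), map_one])
        fun e => by simpa [IsSc, triS_val, n] using πS_eq_one.1 e
      obtain ⟨s, h0, h1⟩ := (Finite.one_lt_card_iff_nontrivial.1 (show 1 < Nat.card Fˣ by
        rw [Nat.card_units, Nat.card_eq_fintype_card]; omega)).exists_pair_ne
      refine ⟨_, _, k s s.ne_zero, k (-h0) (neg_ne_zero.2 h0.ne_zero), ?_⟩
      rw [← map_mul, triS_mul, mul_one]
      exact k _ fun e => h1 (Units.ext (by simp at e; linear_combination e))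
    · obtain ⟨i, -, j, -, h⟩ := exists_Q8P (F := F) ⊤
      have k : ∀ z : Matrix.SpecialLinearGroup (Fin 2) F, z.1.trace = 0 → orderOf (πS z) = 2 := fun z t =>
        orderOf_eq_prime (πS_sq_iff.2 (.inr t)) (mt πS_eq_one.1 (reg_of_trace_zero hq t).not_isSc)
      exact ⟨_, _, k i h.ti, k j h.tj, map_mul πS i j ▸ k _ h.tk⟩
  have oc' : orderOf (b * a) = 2 := (SemiconjBy.orderOf_eq a (by simp [SemiconjBy, mul_assoc])).trans oc
  obtain ⟨x, rfl, tx, sx⟩ := lift a oa
  obtain ⟨y, rfl, ty, sy⟩ := lift b ob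
  have : 1 < Γ.edist ⟨_, conj0 t0 tx s0 sx⟩ ⟨_, conj0 t0 ty s0 sy⟩ := not_le.1 fun h => by
    rcases SimpleGraph.edist_le_one_iff_adj_or_eq.1 h with ⟨-, h | h⟩ | h
    · exact absurd (oc ▸ h : Odd 2) (by decide)
    · exact absurd (oc' ▸ h : Odd 2) (by decide)
    · rw [← show πS x = πS y from Subtype.ext_iff.1 h, ← sq, orderOf_dvd_iff_pow_eq_one.1 oa.dvd, orderOf_one] at oc
      omega
  have e : Γ.ediam = 2 := l2.antisymm ((Order.add_one_le_of_lt this).trans SimpleGraph.edist_le_ediam)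
  haveI : Nonempty {x // IsConj (πS x0) x} := ⟨⟨_, .refl _⟩⟩
  exact ⟨SimpleGraph.connected_of_ediam_ne_top (by rw [e]; simp), by rw [SimpleGraph.diam, e]; rfl⟩

end Cfsg.Agent.S3266
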