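import Cfsg.Statements.S2119
import Cfsg.Agent.H5.Sy2

set_option autoImplicit false
open Cfsg

namespace Cfsg.Agent.S2119

/-- Automorphisms of the alternating groups: for n ≥ 4 with n ≠ 6, every automorphism of the alternating group of degree n is conjugation by a unique permutation, i.e. conjugation induces an isomorphism from the symmetric group of degree n onto the automorphism group of the alternating group (so the outer automorphism group has order 2). -/
theorem result (n : ℕ) (hn : 4 ≤ n) (h6 : n ≠ 6) : Function.Bijective (MulAut.conjNormal : Equiv.Perm (Fin n) →* MulAut ↥(alternatingGroup (Fin n))) := by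
  have h4 : 4 ≤ Fintype.card (Fin n) := by simpa using hn
  constructor
  · rw [injective_iff_map_eq_one]
    intro g hg
    apply CfsgH5.Sy.cent_triv h4
    intro a ha
    have := congrArg (fun f : MulAut (alternatingGroup (Fin n)) => (f ⟨a, ha⟩).1) hg
    simp only [MulAut.conjNormal_apply, MulAut.one_apply] at this
    exact mul_inv_eq_iff_eq_mul.mp this
  · intro φ
    obtain ⟨π, hπ⟩ := CfsgH5.Sy.inner_of_three h4 φ (CfsgH5.Sy.three_of_aut (by simpa using h6) φ)
    exact ⟨π, MulEquiv.ext fun g => Subtype.ext (by rw [MulAut.conjNormal_apply, hπ])⟩

end Cfsg.Agent.S2119
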