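import Mathlib
import Cfsg.Statements.S0434
import Cfsg.Agent.H8.M11b

set_option autoImplicit false
open Cfsg

namespace Cfsg.Agent.S0434


/-- Sylow 3-normalisers in a simple group of order 7920 have order 144 (so there are 55 Sylow 3-subgroups). -/
theorem result {G : Type*} [Group G] [Finite G] (hG : Cfsg.IsM11 G) (P : Sylow 3 G) : Nat.card (Subgroup.normalizer ((P : Subgroup G) : Set G)) = 144 := by
  classical
  haveI := hG.1
  have h := hG.2
  obtain ⟨c11, c5, c2, cj, c3⟩ := CfsgH8.M11.main h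
  haveI : Fact (Nat.Prime 3) := ⟨by norm_num⟩
  have hP : Nat.card P = 9 := by
    rw [P.card_eq_multiplicity, CfsgSm.fact_eq (k := 2) (m := 880) (by norm_num) (by rw [h]; norm_num) (by norm_num)]; norm_num
  haveI hcomm : IsMulCommutative P := by
    letI := IsPGroup.commGroupOfCardEqPrimeSq (p := 3) (G := P) (by rw [hP]; norm_num)
    exact ⟨⟨fun a b => mul_comm a b⟩⟩
  set N := Subgroup.normalizer ((P : Subgroup G) : Set G) with hN
  set C := Subgroup.centralizer ((P : Subgroup G) : Set G) with hC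
  have hPC : (P : Subgroup G) ≤ C := Subgroup.le_centralizer _
  have hCN : C ≤ N := Subgroup.centralizer_le_normalizer _
  have hord : ∀ x ∈ (P : Subgroup G), orderOf x ∣ 9 := fun x hx => hP ▸ Subgroup.orderOf_dvd_natCard _ hx
  -- no element of order 5 or 11 normalizes P
  have hq : ∀ q : ℕ, q.Prime → ¬ q ∣ 9 → ¬ q ∣ 8 → (∀ g : G, g ≠ 1 → ¬ q ∣ orderOf g →
      ¬ q ∣ Nat.card (Subgroup.centralizer ({g} : Set G))) → ¬ q ∣ Nat.card N := fun q hq q9 q8 hc hd => by
    haveI := Fact.mk hq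
    obtain ⟨w, hw, ow⟩ := CfsgH2.exists_prime_order_mem hq hd
    let A := Subgroup.zpowers w
    have hA : IsPGroup q A := IsPGroup.of_card (n := 1) (by rw [Nat.card_zpowers, ow, pow_one])
    have hAN : A ≤ N := Subgroup.zpowers_le.2 hw
    letI : MulAction A {x : G // x ∈ (P : Subgroup G) ∧ x ≠ 1} :=
      { smul := fun a x => ⟨a * x * (a : G)⁻¹, (Subgroup.mem_normalizer_iff.1 (hAN a.2) x).1 x.2.1,
          fun e => x.2.2 (by simpa using e)⟩
        one_smul := fun x => Subtype.ext (by show (1 : G) * x * (1 : G)⁻¹ = x; simp)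
        mul_smul := fun a b x => Subtype.ext (by
          show ((a : G) * b) * x * ((a : G) * b)⁻¹ = a * (b * x * (b : G)⁻¹) * (a : G)⁻¹; group) }
    have h8 : Nat.card {x : G // x ∈ (P : Subgroup G) ∧ x ≠ 1} = 8 := by
      have e : {x : G // x ∈ (P : Subgroup G) ∧ x ≠ 1} ≃ {x : (P : Subgroup G) // x ≠ 1} :=
        ⟨fun x => ⟨⟨x.1, x.2.1⟩, fun e => x.2.2 (congrArg Subtype.val e)⟩,
          fun x => ⟨x.1.1, x.1.2, fun e => x.2 (Subtype.ext e)⟩, fun _ => rfl, fun _ => rfl⟩
      haveI := Fintype.ofFinite P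
      rw [Nat.card_congr e, Nat.card_eq_fintype_card, Fintype.card_subtype_compl, ← Nat.card_eq_fintype_card, hP]
      simp
    obtain ⟨x, hx⟩ := hA.nonempty_fixed_point_of_prime_not_dvd_card _ (h8 ▸ q8)
    have h1 : w * x * w⁻¹ = x := congrArg Subtype.val (hx ⟨w, Subgroup.mem_zpowers w⟩)
    refine hc x x.2.2 (fun e => q9 (e.trans (hord _ x.2.1))) ?_
    rw [← ow]
    exact Subgroup.orderOf_dvd_natCard _ (Subgroup.mem_centralizer_singleton_iff.2 (mul_inv_eq_iff_eq_mul.1 h1))
  have n5 := hq 5 (by norm_num) (by norm_num) (by norm_num) c5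
  have n11 := hq 11 (by norm_num) (by norm_num) (by norm_num) c11
  have hN144 : Nat.card N ∣ 144 := by
    have h4 : Nat.card N ∣ 144 * (5 * 11) := (Subgroup.card_subgroup_dvd_card _).trans (by rw [h])
    exact Nat.Coprime.dvd_of_dvd_mul_right (Nat.Coprime.mul_right
      ((Nat.Prime.coprime_iff_not_dvd Nat.prime_five).2 n5).symm
      ((Nat.Prime.coprime_iff_not_dvd (by norm_num)).2 n11).symm) h4
  have h9C : 9 ∣ Nat.card C := hP ▸ Subgroup.card_dvd_of_le hPC
  have hC2 : ¬ 2 ∣ Nat.card C := fun hd => by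
    obtain ⟨t, ht, ot⟩ := CfsgH2.exists_prime_order_mem Nat.prime_two hd
    have : (P : Subgroup G) ≤ Subgroup.centralizer ({t} : Set G) := fun x hx =>
      Subgroup.mem_centralizer_singleton_iff.2 (Subgroup.mem_centralizer_iff.1 ht x hx)
    have := Subgroup.card_dvd_of_le this
    rw [c2 t ot, hP] at this
    norm_num at this
  have hC9 : Nat.card C = 9 := by
    have h1 : Nat.card C ∣ 9 * 2 ^ 4 := (Subgroup.card_dvd_of_le hCN).trans hN144
    exact Nat.dvd_antisymm (Nat.Coprime.dvd_of_dvd_mul_right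
      (((Nat.Prime.coprime_iff_not_dvd Nat.prime_two).2 hC2).symm.pow_right _) h1) h9C
  have hs := card_sylow_modEq_one 3 G
  rw [P.card_eq_index_normalizer] at hs
  have hi := N.card_mul_index
  rw [h] at hi
  have h9N : 9 ∣ Nat.card N := h9C.trans (Subgroup.card_dvd_of_le hCN)
  have hcase : Nat.card N = 9 ∨ Nat.card N = 36 ∨ Nat.card N = 144 := by
    have key : ∀ d ∈ Nat.divisors 144, 9 ∣ d → 7920 / d % 3 = 1 → d = 9 ∨ d = 36 ∨ d = 144 := by decide +kernel
    refine key _ (Nat.mem_divisors.2 ⟨hN144, by norm_num⟩) h9N ?_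
    rw [← hi, Nat.mul_div_cancel_left _ Nat.card_pos]
    exact hs
  rcases hcase with h9 | h36 | h144
  · exfalso
    have hNC : N ≤ C := (Subgroup.eq_of_le_of_card_ge hCN (by omega)).ge
    have hc := MonoidHom.ker_transferSylow_isComplement' P hNC
    have h1 := hc.card_mul_card
    rcases (inferInstance : (MonoidHom.transferSylow P hNC).ker.Normal).eq_bot_or_eq_top with e | e
    · rw [e, Subgroup.card_bot, hP, h] at h1; norm_num at h1
    · rw [e, Subgroup.card_top, hP, h] at h1; norm_num at h1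
  · exfalso
    have hnc : ¬ IsCyclic P := fun hc => by
      have h1 : ((P : Subgroup G).normalizerMonoidHom).ker.index ∣ 6 := by
        rw [Subgroup.index_ker]
        have := ((P : Subgroup G).normalizerMonoidHom).range.card_subgroup_dvd_card
        rwa [IsCyclic.card_mulAut, hP] at this
      have h2 := ((P : Subgroup G).normalizerMonoidHom).ker.card_mul_index
      rw [Subgroup.normalizerMonoidHom_ker] at h1 h2
      rw [Nat.card_congr (Subgroup.subgroupOfEquivOfLe hCN).toEquiv, hC9, h36] at h2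
      have h3 : (C.subgroupOf N).index = 4 := by
        have : 9 * (C.subgroupOf N).index = 36 := h2
        omega
      have : (C.subgroupOf N).index ∣ 6 := h1
      rw [h3] at this; norm_num at this
    have ho3 : ∀ x ∈ (P : Subgroup G), x ≠ 1 → orderOf x = 3 := fun x hx x1 => by
      obtain ⟨k, hk, e⟩ := (Nat.dvd_prime_pow Nat.prime_three (m := 2)).1 (hord x hx)
      interval_cases k
      · exact absurd (orderOf_eq_one_iff.1 e) x1
      · exact e
      · exact absurd (isCyclic_of_orderOf_eq_card (⟨x, hx⟩ : (P : Subgroup G)) (by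
          rw [← Subgroup.orderOf_coe, hP]; exact e)) hnc
    obtain ⟨y, hy, y1⟩ : ∃ y ∈ (P : Subgroup G), y ≠ 1 := by
      by_contra hc
      push Not at hc
      have := (Subgroup.eq_bot_iff_forall _).2 hc
      rw [this, Subgroup.card_bot] at hP
      norm_num at hP
    -- all subgroups of order three are conjugate
    have hall : ∀ x ∈ (P : Subgroup G), x ≠ 1 → ∃ n ∈ N, x = n * y * n⁻¹ ∨ x = n * y⁻¹ * n⁻¹ := fun x hx x1 => by
      obtain ⟨t, ht, ot⟩ := CfsgH2.exists_prime_order_mem Nat.prime_two (c3 x (ho3 x hx x1))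
      obtain ⟨s, hs, os⟩ := CfsgH2.exists_prime_order_mem Nat.prime_two (c3 y (ho3 y hy y1))
      obtain ⟨g, hg⟩ := isConj_iff.1 (cj t s ot os)
      set K := Subgroup.centralizer ({s} : Set G) with hK
      have hyK : y ∈ K := Subgroup.mem_centralizer_singleton_iff.2 (Subgroup.mem_centralizer_singleton_iff.1 hs).symm
      have hxK : g * x * g⁻¹ ∈ K := Subgroup.mem_centralizer_singleton_iff.2 (by
        have := Subgroup.mem_centralizer_singleton_iff.1 ht
        rw [← hg]
        calc g * x * g⁻¹ * (g * t * g⁻¹) = g * (x * t) * g⁻¹ := by group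
          _ = _ := by rw [← this]; group)
      have o1 : orderOf (⟨y, hyK⟩ : K) = 3 := by rw [← Subgroup.orderOf_coe]; exact ho3 y hy y1
      have o2 : orderOf (⟨_, hxK⟩ : K) = 3 := by
        rw [← Subgroup.orderOf_coe]; exact ((MulAut.conj g).orderOf_eq x).trans (ho3 x hx x1)
      obtain ⟨Q, hQ⟩ := (IsPGroup.of_card (p := 3) (n := 1) (G := Subgroup.zpowers (⟨y, hyK⟩ : K))
        (by rw [Nat.card_zpowers, o1, pow_one])).exists_le_sylow
      obtain ⟨R, hR⟩ := (IsPGroup.of_card (p := 3) (n := 1) (G := Subgroup.zpowers (⟨_, hxK⟩ : K))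
        (by rw [Nat.card_zpowers, o2, pow_one])).exists_le_sylow
      have hQc : Nat.card Q = 3 := by
        rw [Q.card_eq_multiplicity, CfsgSm.fact_eq (k := 1) (m := 16) (by norm_num) (by rw [hK, c2 s os]; norm_num) (by norm_num), pow_one]
      have hQe := Subgroup.eq_of_le_of_card_ge hQ (by rw [Nat.card_zpowers, o1]; exact hQc.le)
      obtain ⟨k, hk⟩ := MulAction.exists_smul_eq K R Q
      have h1 : k * ⟨_, hxK⟩ * k⁻¹ ∈ Subgroup.zpowers (⟨y, hyK⟩ : K) := by
        rw [hQe, ← hk]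
        exact Subgroup.smul_mem_pointwise_smul _ (MulAut.conj k) _ (hR (Subgroup.mem_zpowers _))
      obtain ⟨j, hj⟩ := (mem_powers_iff_mem_zpowers (x := (⟨y, hyK⟩ : K))).2 h1
      have hj' : y ^ j = (k : G) * (g * x * g⁻¹) * (k : G)⁻¹ := congrArg Subtype.val hj
      have h2 : ((k : G) * g)⁻¹⁻¹ * x * ((k : G) * g)⁻¹ = y ^ j := by rw [hj']; group
      obtain ⟨n, hn, h3⟩ := P.conj_eq_normalizer_conj_of_mem x ((k : G) * g)⁻¹ hx (h2 ▸ (P : Subgroup G).pow_mem hy j)
      rw [h2, ← pow_mod_orderOf, ho3 y hy y1] at h3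
      have y3 : y ^ 3 = 1 := ho3 y hy y1 ▸ pow_orderOf_eq_one y
      refine ⟨n, hn, ?_⟩
      have : j % 3 < 3 := Nat.mod_lt _ (by norm_num)
      interval_cases j % 3
      · refine absurd ?_ x1
        calc x = n * (n⁻¹ * x * n) * n⁻¹ := by group
          _ = 1 := by rw [← h3]; group
      · left; rw [pow_one] at h3; rw [h3]; group
      · right
        rw [← show y ^ 2 = y⁻¹ from eq_inv_of_mul_eq_one_left (by rw [← pow_succ, y3]), h3]; group
    obtain ⟨s, hs, os⟩ := CfsgH2.exists_prime_order_mem (H := N) Nat.prime_two (by rw [h36]; norm_num)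
    have ss : s * s = 1 := CfsgL0.inv_mul_self os
    -- `s` normalizes some subgroup of order three, so we may take `s` to normalize `⟨y⟩`
    obtain ⟨s', hs', os', h1⟩ : ∃ s' ∈ N, orderOf s' = 2 ∧ (s' * y * s'⁻¹ = y ∨ s' * y * s'⁻¹ = y⁻¹) := by
      have hsy : s * y * s⁻¹ ∈ (P : Subgroup G) := (Subgroup.mem_normalizer_iff.1 hs y).1 hy
      by_cases e : y * (s * y * s⁻¹) = 1
      · exact ⟨s, hs, os, Or.inr (eq_inv_of_mul_eq_one_right e)⟩
      obtain ⟨n, hn, h2⟩ := hall _ ((P : Subgroup G).mul_mem hy hsy) e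
      have h3 : s * (y * (s * y * s⁻¹)) * s⁻¹ = y * (s * y * s⁻¹) := by
        have c : y * (s * y * s⁻¹) = (s * y * s⁻¹) * y := Subgroup.mem_centralizer_iff.1 (hPC hsy) y hy
        conv_rhs => rw [c]
        calc s * (y * (s * y * s⁻¹)) * s⁻¹ = s * y * s⁻¹ * ((s * s) * y * (s * s)⁻¹) := by group
          _ = _ := by rw [ss]; group
      refine ⟨n⁻¹ * s * n, N.mul_mem (N.mul_mem (N.inv_mem hn) hs) hn, by
        rw [← os]; simpa using (MulAut.conj n⁻¹).orderOf_eq s, Or.inl ?_⟩
      rcases h2 with h2 | h2 <;> rw [h2] at h3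
      · calc n⁻¹ * s * n * y * (n⁻¹ * s * n)⁻¹ = n⁻¹ * (s * (n * y * n⁻¹) * s⁻¹) * n := by group
          _ = _ := by rw [h3]; group
      · calc n⁻¹ * s * n * y * (n⁻¹ * s * n)⁻¹ = n⁻¹ * (s * (n * y⁻¹ * n⁻¹) * s⁻¹)⁻¹ * n := by group
          _ = _ := by rw [h3]; group
    -- the stabilizer of `{y, y⁻¹}` in `N` has index at most two
    let T : Subgroup G :=
      { carrier := {n | n ∈ N ∧ (n * y * n⁻¹ = y ∨ n * y * n⁻¹ = y⁻¹)}
        one_mem' := ⟨N.one_mem, Or.inl (by group)⟩
        mul_mem' := by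
          rintro a b ⟨ha, ha'⟩ ⟨hb, hb'⟩
          refine ⟨N.mul_mem ha hb, ?_⟩
          have e1 : a * b * y * (a * b)⁻¹ = a * (b * y * b⁻¹) * a⁻¹ := by group
          have e2 : a * y⁻¹ * a⁻¹ = (a * y * a⁻¹)⁻¹ := by group
          rw [e1]
          rcases hb' with hb' | hb' <;> rw [hb']
          · exact ha'
          · rw [e2]; rcases ha' with ha' | ha' <;> rw [ha'] <;> simp
        inv_mem' := by
          rintro a ⟨ha, ha'⟩
          refine ⟨N.inv_mem ha, ha'.imp (fun e => ?_) fun e => ?_⟩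
          · conv_lhs => rw [← e]
            group
          · calc a⁻¹ * y * a⁻¹⁻¹ = a⁻¹ * (y⁻¹)⁻¹ * a := by group
              _ = a⁻¹ * (a * y * a⁻¹)⁻¹ * a := by rw [e]
              _ = _ := by group }
    have hTN : T ≤ N := fun n hn => hn.1
    have hPT : (P : Subgroup G) ≤ T := fun x hx => ⟨hCN (hPC hx), Or.inl (by
      rw [← Subgroup.mem_centralizer_iff.1 (hPC hx) y hy]; group)⟩
    have t9 : 9 ∣ Nat.card T := hP ▸ Subgroup.card_dvd_of_le hPT
    have t2 : 2 ∣ Nat.card T := os' ▸ Subgroup.orderOf_dvd_natCard _ (show s' ∈ T from ⟨hs', h1⟩)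
    have hidx : (T.subgroupOf N).index ≤ 2 := by
      have h2 := (T.subgroupOf N).card_mul_index
      rw [Nat.card_congr (Subgroup.subgroupOfEquivOfLe hTN).toEquiv, h36] at h2
      have : 18 ≤ Nat.card T := Nat.le_of_dvd Nat.card_pos (Nat.Coprime.mul_dvd_of_dvd_of_dvd (by norm_num : Nat.Coprime 9 2) t9 t2)
      nlinarith
    let f : (N ⧸ T.subgroupOf N) × Bool → G := fun q =>
      (q.1.out : G) * (if q.2 then y else y⁻¹) * (q.1.out : G)⁻¹
    haveI := Fintype.ofFinite G
    haveI := Fintype.ofFinite (N ⧸ T.subgroupOf N)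
    have hsub : (Finset.univ.filter (· ∈ (P : Subgroup G))).erase 1 ⊆ Finset.univ.image f := fun x hx => by
      obtain ⟨x1, hx⟩ := Finset.mem_erase.1 hx
      obtain ⟨n, hn, h2⟩ := hall x (Finset.mem_filter.1 hx).2 x1
      obtain ⟨t, ht⟩ := QuotientGroup.mk_out_eq_mul (T.subgroupOf N) ⟨n, hn⟩
      have ht' : (((QuotientGroup.mk ⟨n, hn⟩ : N ⧸ T.subgroupOf N).out : N) : G) = n * (t : N) := congrArg Subtype.val ht
      have hT : ((t : N) : G) ∈ T := t.2
      have e1 : ∀ b : Bool, f (QuotientGroup.mk ⟨n, hn⟩, b) =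
          n * (((t : N) : G) * (if b then y else y⁻¹) * ((t : N) : G)⁻¹) * n⁻¹ := fun b => by
        simp only [f, ht']; group
      have e2 : ((t : N) : G) * y⁻¹ * ((t : N) : G)⁻¹ = (((t : N) : G) * y * ((t : N) : G)⁻¹)⁻¹ := by group
      rw [Finset.mem_image]
      rcases hT.2 with h3 | h3 <;> rcases h2 with h2 | h2
      · exact ⟨(_, true), Finset.mem_univ _, by rw [e1, if_pos rfl, h3, h2]⟩
      · exact ⟨(_, false), Finset.mem_univ _, by rw [e1, if_neg (by simp), e2, h3, h2]⟩
      · exact ⟨(_, false), Finset.mem_univ _, by rw [e1, if_neg (by simp), e2, h3, h2, inv_inv]⟩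
      · exact ⟨(_, true), Finset.mem_univ _, by rw [e1, if_pos rfl, h3, h2]⟩
    have h3 := (Finset.card_le_card hsub).trans Finset.card_image_le
    rw [Finset.card_erase_of_mem (by simp), ← Fintype.card_subtype, ← Nat.card_eq_fintype_card, Finset.card_univ,
      Fintype.card_prod, ← Nat.card_eq_fintype_card, Fintype.card_bool] at h3
    have h4 : Nat.card {x // x ∈ (P : Subgroup G)} = 9 := hP
    have h5 : Nat.card (N ⧸ T.subgroupOf N) ≤ 2 := hidx
    omega
  · exact h144

end Cfsg.Agent.S0434
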