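import Cfsg.Statements.S0426
import Cfsg.Agent.H1.St4

set_option autoImplicit false
open Cfsg

namespace Cfsg.Agent.S0426

/-- Aut of an S(4, 5, 11) is simple of order 7920 and sharply 4-transitive on points. -/
theorem result {α : Type*} [Fintype α] [DecidableEq α] (hα : Fintype.card α = 11) {B : Set (Finset α)} (hB : Cfsg.IsSteinerSystem 4 5 B) : Cfsg.IsM11 (Cfsg.setSystemAut B) ∧ MulAction.IsMultiplyPretransitive (Cfsg.setSystemAut B) α 4 ∧ ∀ x : Fin 4 ↪ α, MulAction.stabilizer (Cfsg.setSystemAut B) x = ⊥ := by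
  open CfsgH1.St CfsgH1.Un CfsgH7 CfsgH7.Gol Finset in
  open scoped commutatorElement in
  · obtain ⟨ι, h⟩ := n11 hα hB
    obtain ⟨φ, hφ⟩ := a11 h
    have m : ∀ a, ι a ∈ (S 0x5335f : Set Cfsg.GolayPt) \ {px 0} := fun a => by
      have := mem_of h.rng a
      rw [D1_eq, mem_erase] at this
      exact ⟨this.2, this.1⟩
    have m0 : px 0 ∈ S 0x5335f := by decide +kernel
    refine ⟨⟨haveI := simple11; φ.symm.isSimpleGroup, (Nat.card_congr φ.toEquiv).symm.trans card11⟩,
      mpt_of φ hφ 4 fun x y => cons_tr (px 0) m0 tr12 _ _ (ι.injective.comp x.injective)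
        (ι.injective.comp y.injective) (fun _ => m _) fun _ => m _, fun x => eq_bot_iff.2 fun σ hσ => ?_⟩
    obtain ⟨g, rfl⟩ := φ.surjective σ
    have : g = 1 := Subtype.ext (sharp12 g.2.1 (x := Fin.cons (px 0) fun i => ι (x i))
      (Fin.cons_injective_iff.2 ⟨by rintro ⟨i, e⟩; exact (m _).2 e, ι.injective.comp x.injective⟩)
      (Fin.forall_fin_succ.2 ⟨m0, fun i => (m _).1⟩) (Fin.forall_fin_succ.2 ⟨g.2.2, fun i => by
        rw [Fin.cons_succ, ← hφ]
        exact congrArg ι (DFunLike.congr_fun hσ i)⟩))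
    simp [this]

end Cfsg.Agent.S0426
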