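import Cfsg.Statements.S0895
import Cfsg.Agent.H3.Basic

set_option autoImplicit false
open Cfsg

namespace Cfsg.Agent.S0895
open CfsgH3

/-- Let χ be a real-valued irreducible character of a finite group G whose degree is an odd natural number. Then the average over s in G of χ (s * s) equals 1. -/
theorem result {G : Type*} [Group G] [Fintype G] (χ : G → ℂ) (hχ : Cfsg.IsIrrCharacter G χ) (hreal : ∀ g : G, (χ g).im = 0) (d : ℕ) (hd : χ 1 = d) (hodd : Odd d) : (Nat.card G : ℂ)⁻¹ * ∑ s : G, χ (s * s) = 1 := by
  classical
  obtain ⟨n, ρ, hρ, rfl⟩ := hχ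
  have hχ := isIrr_of_rep ρ
  have hn : n = d := by simpa [Representation.char_one] using hd
  subst hn
  let A : G → Matrix (Fin n) (Fin n) ℂ := fun g => LinearMap.toMatrix' (ρ g)
  have hA : ∀ g h, A (g * h) = A g * A h := fun g h => by
    simp only [A, map_mul, LinearMap.toMatrix'_mul]
  have hA1 : A 1 = 1 := by simp [A]
  have htr : ∀ g, ρ.character g = ∑ i, A g i i := fun g => by
    rw [Representation.character, LinearMap.trace_eq_matrix_trace ℂ (Pi.basisFun ℂ (Fin n))]
    rfl
  have key : ∀ W : Matrix (Fin n) (Fin n) ℂ, (∀ g, A g * W * (A g).transpose = W) →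
      W.transpose = -W → W = 0 := by
    intro W h1 h2
    have h3 : W.det = 0 := by
      have := Matrix.det_transpose W
      rw [h2, Matrix.det_neg, Fintype.card_fin, hodd.neg_one_pow] at this
      linear_combination (-1 / 2 : ℂ) * this
    rcases ((isIrreducible_iff ρ).1 hρ).2 (LinearMap.range (Matrix.toLin' W)) (by
      rintro g _ ⟨v, rfl⟩
      refine ⟨Matrix.toLin' (A g⁻¹).transpose v, ?_⟩
      have e : W * (A g⁻¹).transpose = A g * W := by
        conv_lhs => rw [← h1 g]
        rw [mul_assoc, ← Matrix.transpose_mul, ← hA, inv_mul_cancel, hA1]; simp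
      rw [← LinearMap.comp_apply, ← Matrix.toLin'_mul, e, Matrix.toLin'_mul]
      simp [A]) with h | h
    · rw [LinearMap.range_eq_bot] at h
      exact Matrix.toLin'.injective (by simpa using h)
    · exfalso
      have := (LinearMap.isUnit_iff_range_eq_top _).2 h
      rw [LinearMap.isUnit_iff_isUnit_det, LinearMap.det_toLin', h3] at this
      exact not_isUnit_zero this
  have key2 : ∀ i j, ∑ g, A g i i * A g j j = ∑ g, A g j i * A g i j := by
    intro i j
    let W := ∑ g, A g * Matrix.single i j (1 : ℂ) * (A g).transpose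
    have hW : ∀ h, A h * W * (A h).transpose = W := by
      intro h
      simp only [W, Finset.mul_sum, Finset.sum_mul]
      refine Fintype.sum_equiv (Equiv.mulLeft h) _ _ fun g => ?_
      simp only [Equiv.coe_mulLeft, hA, Matrix.transpose_mul, mul_assoc]
    have h1 := key (W - W.transpose) (fun g => by
      rw [mul_sub, sub_mul, hW]
      congr 1
      conv_rhs => rw [← hW g]
      simp only [Matrix.transpose_mul, Matrix.transpose_transpose, mul_assoc]) (by simp)
    have h2 := congrFun (congrFun (sub_eq_zero.1 h1) i) j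
    have h3 : ∀ a b, W a b = ∑ g, A g a i * A g b j := by
      intro a b
      simp only [W, Matrix.sum_apply]
      refine Finset.sum_congr rfl fun g _ => ?_
      simp [Matrix.mul_apply, Matrix.single_apply, ite_and]
    rwa [Matrix.transpose_apply, h3, h3] at h2
  have h4 := hχ.classInner_self
  rw [← h4]
  unfold Cfsg.classInner
  congr 1
  have h5 : ∀ g, starRingEnd ℂ (ρ.character g) = ρ.character g := fun g =>
    Complex.conj_eq_iff_im.2 (hreal g)
  simp_rw [h5, htr, hA, Matrix.mul_apply, Finset.sum_mul_sum]
  rw [Finset.sum_comm, Finset.sum_comm (s := Finset.univ (α := G))]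
  refine Finset.sum_congr rfl fun i _ => ?_
  rw [Finset.sum_comm, Finset.sum_comm (s := Finset.univ (α := G)) (t := Finset.univ (α := Fin n))]
  refine Finset.sum_congr rfl fun j _ => ?_
  rw [key2]
  simp only [mul_comm]


end Cfsg.Agent.S0895
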