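import Cfsg.Statements.S3784
import Cfsg.Agent.H1.Misc1

set_option autoImplicit false
open Cfsg

namespace Cfsg.Agent.S3784

section
open Pointwise Subgroup CfsgH1
open CfsgH2 hiding card_inf_mul_relIndex card_lt_of_lt card_lt_of_ne_top card_map_mul_card_inf_ker card_mul_relIndex card_subgroupOf card_sup_dvd card_sup_mul_card_inf exists_card_prime_le isNilpotent_map isNilpotent_of_le isPGroup_pCore isSolvable_map isSolvable_of_le le_pCore le_pPrimeCore relIndex_map_dvd
open scoped CfsgH2
open scoped commutatorElement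

theorem aux (x : ℤ) (n k : ℕ) (hx : Odd x) (hn : Odd n) (h : (x ^ n - 1).natAbs = 2 ^ k) :
    (x ^ n - 1).natAbs = (x - 1).natAbs := by
  have e := geom_sum_mul x n
  have h1 : Odd (∑ i ∈ Finset.range n, x ^ i) := by
    have : ∀ n : ℕ, (Odd (∑ i ∈ Finset.range n, x ^ i) ↔ Odd n) := fun n => by
      induction n with
      | zero => simp
      | succ n ih =>
        rw [Finset.sum_range_succ, Int.odd_add', Nat.odd_add_one, ← Int.not_odd_iff_even, ih]
        simp [hx.pow]
    exact (this n).2 hn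
  have h2 : (∑ i ∈ Finset.range n, x ^ i).natAbs ∣ 2 ^ k := h ▸ Int.natAbs_dvd_natAbs.2 (Dvd.intro _ e)
  rw [← e, Int.natAbs_mul, Nat.eq_one_of_dvd_coprimes ((Nat.coprime_two_right.2
    (Int.natAbs_odd.2 h1)).pow_right k) dvd_rfl h2, one_mul]

end

/-- Let p, q be primes and a, b positive integers with p^a = q^b + 1. Then either p = 2, b = 1, a is prime and q = 2^a − 1; or q = 2, a = 1, b is a power of 2 and p = 2^b + 1; or p^a = 9 and q^b = 8. -/
theorem result (p q a b : ℕ) (hp : p.Prime) (hq : q.Prime) (ha : 1 ≤ a) (hb : 1 ≤ b) (h : p ^ a = q ^ b + 1) : (p = 2 ∧ b = 1 ∧ a.Prime ∧ q + 1 = 2 ^ a) ∨ (q = 2 ∧ a = 1 ∧ (∃ m : ℕ, b = 2 ^ m) ∧ p = 2 ^ b + 1) ∨ (p ^ a = 9 ∧ q ^ b = 8) := by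
  open Pointwise Subgroup CfsgH1 in
  open CfsgH2 hiding card_inf_mul_relIndex card_lt_of_lt card_lt_of_ne_top card_map_mul_card_inf_ker card_mul_relIndex card_subgroupOf card_sup_dvd card_sup_mul_card_inf exists_card_prime_le isNilpotent_map isNilpotent_of_le isPGroup_pCore isSolvable_map isSolvable_of_le le_pCore le_pPrimeCore relIndex_map_dvd in
  open scoped CfsgH2 in
  open scoped commutatorElement in
  · have hq1 : 1 < q ^ b := Nat.one_lt_pow (by omega) hq.one_lt
    rcases hp.eq_two_or_odd' with rfl | hpo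
    · have hqo : Odd q := hq.odd_of_ne_two (by
        rintro rfl
        have h1 : 2 ∣ 2 ^ a := dvd_pow_self _ (by omega)
        have h2 : 2 ∣ 2 ^ b := dvd_pow_self _ (by omega)
        omega)
      have ha2 : 2 ≤ a := by
        by_contra h1
        obtain rfl : a = 1 := by omega
        omega
      have hbo : Odd b := by
        by_contra h1
        obtain ⟨c, rfl⟩ := Nat.not_odd_iff_even.1 h1
        obtain ⟨m, hm⟩ : Odd (q ^ c) := hqo.pow
        have : 2 ^ 2 ∣ 2 ^ a := pow_dvd_pow _ ha2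
        rw [h, pow_add, hm, show (2 * m + 1) * (2 * m + 1) + 1 = 4 * (m * m + m) + 2 by ring] at this
        omega
      have e : (-(q : ℤ)) ^ b - 1 = -((q ^ b + 1 : ℕ) : ℤ) := by rw [hbo.neg_pow]; push_cast; ring
      have h1 := aux (-q) b a (by simpa using hqo) hbo (by rw [e, Int.natAbs_neg, Int.natAbs_natCast, h])
      rw [e, Int.natAbs_neg, Int.natAbs_natCast] at h1
      have h2 : q ^ b = q ^ 1 := by rw [pow_one]; omega
      obtain rfl := Nat.pow_right_injective hq.two_le h2
      rw [pow_one] at h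
      exact .inl ⟨rfl, rfl, (Nat.prime_of_pow_sub_one_prime (a := 2) (by omega) (by
        rw [h]; exact hq)).2, h.symm⟩
    obtain rfl : q = 2 := by
      by_contra h1
      have h2 : Odd (q ^ b) := (hq.odd_of_ne_two h1).pow
      have h3 : Odd (p ^ a) := hpo.pow
      rw [h] at h3
      exact Nat.not_odd_iff_even.2 h2.add_one h3
    right
    rcases Nat.even_or_odd a with ⟨c, rfl⟩ | hao
    · right
      obtain ⟨m, hm⟩ : Odd (p ^ c) := hpo.pow
      rw [pow_add, hm] at h ⊢
      have e : 2 ^ b = 4 * (m * (m + 1)) := by nlinarith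
      have h1 : m ∣ 2 ^ b := e ▸ Dvd.dvd.mul_left (Dvd.intro _ rfl) _
      have h2 : m + 1 ∣ 2 ^ b := e ▸ Dvd.dvd.mul_left (Dvd.intro_left _ rfl) _
      obtain rfl : m = 1 := by
        rcases Nat.even_or_odd m with h3 | h3
        · have := Nat.eq_one_of_dvd_coprimes ((Nat.coprime_two_right.2 h3.add_one).pow_right b) dvd_rfl h2
          obtain rfl : m = 0 := by omega
          omega
        · exact Nat.eq_one_of_dvd_coprimes ((Nat.coprime_two_right.2 h3).pow_right b) dvd_rfl h1
      omega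
    · left
      have e : (p : ℤ) ^ a - 1 = ((2 ^ b : ℕ) : ℤ) := by
        have : ((p ^ a : ℕ) : ℤ) = ((2 ^ b + 1 : ℕ) : ℤ) := by rw [h]
        push_cast at this ⊢; linarith
      have h1 := aux p a b (by simpa using hpo) hao (by rw [e, Int.natAbs_natCast])
      rw [e, Int.natAbs_natCast] at h1
      have := hp.two_le
      have h2 : p ^ a = p ^ 1 := by rw [pow_one]; omega
      obtain rfl := Nat.pow_right_injective hp.two_le h2
      rw [pow_one] at h
      exact ⟨rfl, rfl, Nat.pow_of_pow_add_prime one_lt_two (by omega) (h ▸ hp), h⟩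

end Cfsg.Agent.S3784
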