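import Cfsg.Statements.S0081
import Mathlib
import Cfsg.Agent.L0.Chn

set_option autoImplicit false
open Cfsg

namespace Cfsg.Agent.S0081

open Cfsg Subgroup CfsgH2 CfsgL0

/-- If a normal subgroup meets a Sylow p-subgroup P inside the Frattini subgroup of P, then it has a normal p-complement. -/
theorem result {G : Type*} [Group G] [Finite G] {p : ℕ} [Fact p.Prime] (P : Sylow p G) (N : Subgroup G) [N.Normal] (h : N ⊓ (P : Subgroup G) ≤ (frattini P).map (P : Subgroup G).subtype) : Cfsg.HasNormalPComplement p N := by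
  have hP := (syl_top P).mono (le_sup_right : _ ≤ N ⊔ P) le_top
  refine npc_iff.2 (((npc_iff_inner hP).2 (inner_of_hyp hP.pg (sub_sat (hTH := hP.le) hP) ?_)).mono le_sup_left)
  rw [(sub_hyp hP).1]
  refine le_trans (le_inf (inf_le_right.trans (piRes_le_of le_normalizer_of_normal ?_)) inf_le_left) h
  rw [sup_comm, relIndex_sup_of_norm le_normalizer_of_normal]
  exact (isPGroup_iff_piN.1 hP.pg).of_dvd (relIndex_dvd_card _ _)

end Cfsg.Agent.S0081
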