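import Cfsg.Statements.S4172
import Mathlib
import Cfsg.Agent.H9.TwoG

set_option autoImplicit false
open Cfsg

namespace Cfsg.Agent.S4172

/-- Let p be a prime and G a finite group with a non-commutative Sylow p-subgroup P whose Frattini subgroup has index p² in P (P is generated by two elements). Suppose G has no nontrivial normal subgroup of order prime to p and the Frattini subgroup of P contains no nontrivial normal subgroup of G. Then the generalized Fitting subgroup F*(G) is the unique minimal normal subgroup of G, the image of P in G/F*(G) is cyclic, and if F*(G) is not commutative then P permutes the components of G transitively by conjugation. -/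
theorem result {G : Type*} [Group G] [Finite G] (p : ℕ) [Fact p.Prime] (P : Sylow p G) (hna : ¬ IsMulCommutative (P : Subgroup G)) (hgen : (frattini ↥(P : Subgroup G)).index = p ^ 2) (hcore : Cfsg.pPrimeCore p G = ⊥) (hfrat : ((frattini ↥(P : Subgroup G)).map (P : Subgroup G).subtype).normalCore = ⊥) [hFn : (Cfsg.generalizedFittingSubgroup G).Normal] :
    (Cfsg.generalizedFittingSubgroup G ≠ ⊥ ∧ ∀ K : Subgroup G, K.Normal → K ≠ ⊥ → Cfsg.generalizedFittingSubgroup G ≤ K) ∧
      IsCyclic ↥((P : Subgroup G).map (QuotientGroup.mk' (Cfsg.generalizedFittingSubgroup G))) ∧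
      (¬ IsMulCommutative (Cfsg.generalizedFittingSubgroup G) → ∀ K L : Subgroup G, Cfsg.IsComponent K → Cfsg.IsComponent L → ∃ x ∈ (P : Subgroup G), L = K.map (MulAut.conj x).toMonoidHom) := by
  open Subgroup Cfsg CfsgH2 Function in
  open scoped commutatorElement in
  open CfsgTG in
  classical
  have sP : Syl p (P : Subgroup G) ⊤ := syl_top P
  have hi : Φ[(P : Subgroup G)].relIndex P = p ^ 2 := by
    rw [Subgroup.relIndex, subgroupOf, comap_map_eq_self_of_injective (subtype_injective _)]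
    exact hgen
  rw [pPrimeCore_eq'] at hcore
  have nn : ∀ (K : Subgroup G) [K.Normal] (X : Subgroup G), X ≤ N[K] := fun K _ X =>
    le_top.trans (top_le_norm_iff.2 inferInstance)
  have core0 : ∀ (K : Subgroup G) [K.Normal], O[{p}ᶜ, K] = ⊥ := fun K _ =>
    le_bot_iff.1 (hcore ▸ piCoreOf_le_of_norm le_top (nn K _))
  have phi0 : ∀ (K : Subgroup G) [K.Normal], K ≤ Φ[(P : Subgroup G)] → K = ⊥ := fun K _ h =>
    le_bot_iff.1 (hfrat ▸ normal_le_normalCore.2 h)
  have A : ∀ (K : Subgroup G) [K.Normal], K ≠ ⊥ → ¬ K ⊓ P ≤ Φ[(P : Subgroup G)] := by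
    intro K _ h0 h
    have h1 := pg_of_npc (tate sP le_top (nn K _) h) (core0 K)
    have h2 : K ≤ P := sP.le_of_norm h1 le_top (nn K _)
    exact h0 (phi0 K ((le_inf le_rfl h2).trans h))
  have B : ∀ (K : Subgroup G) [K.Normal], K ≠ ⊥ → ⁅(P : Subgroup G), (P : Subgroup G)⁆ ≤ K :=
    fun K _ h0 => comm_le hi (nn K _) (A K h0)
  have P0 : ⁅(P : Subgroup G), (P : Subgroup G)⁆ ≠ ⊥ := fun h => hna (comm_self_eq_bot_iff.1 h)
  have ne0 : ∀ {X : Subgroup G}, ⁅(P : Subgroup G), (P : Subgroup G)⁆ ≤ X → X ≠ ⊥ :=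
    fun h e => P0 (le_bot_iff.1 (e ▸ h))
  have F0 : CfsgH9.Fs (⊤ : Subgroup G) ≠ ⊥ := fun h =>
    ne0 (le_top : _ ≤ (⊤ : Subgroup G)) (CfsgH9.Fs_eq_bot_iff.1 h)
  have hFit : CfsgH9.Fit (⊤ : Subgroup G) = O[{p}, ⊤] := fit_eq_core hcore
  haveI nE : (CfsgH9.Lay (⊤ : Subgroup G)).Normal :=
    normal_of_top_le_norm (CfsgH9.le_normalizer_Lay le_normalizer)
  have C : CfsgH9.Lay (⊤ : Subgroup G) ≠ ⊥ → O[{p}, (⊤ : Subgroup G)] = ⊥ := by
    intro hE
    by_contra hV
    set E := CfsgH9.Lay (⊤ : Subgroup G)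
    have h0 : E ⊓ O[{p}, ⊤] ≠ ⊥ := ne0 (le_inf (B _ hE) (B _ hV))
    refine A _ h0 ?_
    have s1 : Syl p ((P : Subgroup G) ⊓ E) E := sP.inf_norm le_top (nn E _)
    have h1 := (hall_singleton.2 s1).central_mem
    refine le_trans ?_ (h1.trans ((commutator_mono inf_le_left inf_le_left).trans
      (comm_le_phi (nil_of_pg sP.pg))))
    refine le_inf (le_inf (le_inf inf_le_right (inf_le_left.trans inf_le_left)) ?_) ?_
    · rw [CfsgH9.Lay_perfect]; exact inf_le_left.trans inf_le_left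
    · refine (inf_le_left.trans inf_le_right).trans (le_centralizer_iff.1 ?_)
      rw [← comm_eq_bot_iff, ← hFit]; exact CfsgH9.Lay_comm_Fit _
  have fit0 : O[{p}, (⊤ : Subgroup G)] = ⊥ → ∀ X Y : Subgroup G, Y.Normal → X ≤ Y → Y ≤ N[X] →
      Ab[X] → X = ⊥ := by
    intro hV X Y _ h1 h2 h3
    have h4 : X ≤ F[Y] := le_fit h1 h2 (CfsgH9.nilpotent_of_commutator_commutator (by
      rw [comm_self_eq_bot_iff.2 h3, commutator_bot_left]))
    have h5 : F[Y] ≤ F[(⊤ : Subgroup G)] := fit_le_of_norm le_top (nn Y _)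
    rw [fit_eq_core hcore, hV] at h5
    exact le_bot_iff.1 (h4.trans h5)
  refine ⟨⟨CfsgH9.Fs_top (G := G) ▸ F0, fun K hK K0 => ?_⟩, ?_, fun _ K L hK hL => ?_⟩
  · rw [← CfsgH9.Fs_top]
    by_cases hE : CfsgH9.Lay (⊤ : Subgroup G) = ⊥
    swap
    · rw [CfsgH9.Fs_eq, hFit, C hE, sup_bot_eq, CfsgH9.Lay_le_iff]
      intro L hL
      refine (hL.le_or_comm_of_normalizes le_top (nn K _)).resolve_right fun h => ?_
      have h1 : C[K] ≠ ⊥ := fun e => hL.ne_bot (le_bot_iff.1 (e ▸ comm_eq_bot_iff.1 h))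
      exact ne0 (le_inf (B K K0) (B _ h1))
        (fit0 (C hE) _ ⊤ inferInstance le_top (nn _ _) (isMulComm_cent_inf K))
    have hFs : CfsgH9.Fs (⊤ : Subgroup G) = O[{p}, ⊤] := by
      rw [CfsgH9.Fs_eq, hE, bot_sup_eq, hFit]
    have hC := CfsgH9.centralizer_Fs_le (⊤ : Subgroup G)
    rw [hFs] at hC F0 ⊢
    rw [top_inf_eq] at hC
    set V := O[{p}, (⊤ : Subgroup G)]
    have pV : PG[p, V] := isPGroup_piCoreOf
    have VP : V ≤ P := sP.pCoreOf_le
    haveI : Φ[V].Normal := normal_of_top_le_norm ((nn V _).trans norm_le_norm_phi)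
    have abV : Ab[V] := (elem_of_phi_eq_bot pV (phi0 _ (phi_mono sP.pg VP))).1
    set N := normalClosure ((⁅(P : Subgroup G), (P : Subgroup G)⁆ : Subgroup G) : Set G)
    have hN : ∀ (K : Subgroup G) [K.Normal], K ≠ ⊥ → N ≤ K := fun K _ h0 =>
      normalClosure_le_normal (B K h0)
    have N0 : N ≠ ⊥ := ne0 le_normalClosure
    have NV : N ≤ V := hN V F0
    refine le_trans ?_ (hN K K0)
    by_contra hVN
    obtain ⟨y, -, e⟩ := exists_sup hi inf_le_right (A N N0)
    have cP : Cyc[qt N P] := cyc_qt (nn N _) inf_le_left e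
    have V0 : qt N V ≠ ⊥ := fun h => hVN ((qt_eq_bot (nn N _)).1 h)
    haveI := cP
    have qT : qt N ⊤ = ⊤ := top_le_iff.1 (by rw [← qt_norm_self]; exact qt_mono le_top)
    have hPC : qt N P ≤ C[qt N V] := le_cent_of_comm inferInstance (qt_mono VP)
    have s1 : Syl p (qt N P) C[qt N V] := (sP.qt (nn N _)).mono hPC (qT ▸ le_top)
    have npc := cyc_cent s1 cP (qt_mono VP) V0 le_rfl
    have nC : qt N ⊤ ≤ N[C[qt N V]] := le_norm_cent (qt_le_norm (nn V _))
    set D := qc N O[{p}ᶜ, C[qt N V]]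
    haveI nD : D.Normal := normal_of_top_le_norm (le_norm_qc (nn N _) (le_norm_piCoreOf' nC))
    have pN : PG[p, N] := pV.to_le NV
    have hD : ¬ p ∣ N.relIndex D := by rw [relIndex_qc]; exact not_dvd_piCoreOf
    obtain ⟨L, l1, l2, l3, l4⟩ := exists_compl (le_qc : N ≤ D) (nn N _) (coprime_of_pgroup pN hD)
    have co : o[L].Coprime o[V] := (coprime_of_pgroup pV (l4 ▸ hD)).symm
    have hVL : ⁅V, L⁆ ≤ N := by
      rw [← qt_le_cent_iff (nn N _) (nn N _), le_centralizer_iff]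
      exact (qt_mono l1).trans (qt_qc.le.trans piCoreOf_le)
    have W0 : V ⊓ C[D] ≠ ⊥ := by
      intro h
      have h1 := coprime_comm_sup_cent (nn V L) co (Or.inr (isSolvable_of_pgroup pV))
      have h2 : V ⊓ C[L] ≤ V ⊓ C[D] := by
        rw [← (show N ⊔ L = D from l2), cent_sup]
        exact le_inf inf_le_left (le_inf (inf_le_left.trans (le_cent_of_comm abV NV)) inf_le_right)
      exact hVN (h1.ge.trans (sup_le hVL (h2.trans (h.le.trans bot_le))))
    have h3 : L ≤ C[N] := l1.trans (le_centralizer_iff.1 ((hN _ W0).trans inf_le_right))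
    have h4 : L ≤ C[V] :=
      coprime_le_cent_of_stable (nn V L) co (Or.inr (isSolvable_of_pgroup pV)) hVL h3
    have h5 : L = ⊥ := by
      rw [← inf_eq_bot_of_coprime' co]; exact (inf_eq_left.2 (h4.trans hC)).symm
    rw [h5, sup_bot_eq] at l2
    have h6 := pg_of_npc npc (qc_eq_self.1 l2.symm)
    haveI : (qc N C[qt N V]).Normal := normal_of_top_le_norm (le_norm_qc (nn N _) nC)
    have h7 : qc N C[qt N V] ≤ V := le_pCoreOf le_top (nn _ _) (isPGroup_qc h6 pN)
    exact hna (isMulComm_of_le abV (((qt_le_iff (nn N _)).1 hPC).trans h7))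
  · rw [CfsgH9.Fs_top] at F0
    obtain ⟨y, -, e⟩ := exists_sup hi inf_le_right (A _ F0)
    rw [← e, Subgroup.map_sup, MonoidHom.map_zpowers, (Subgroup.map_eq_bot_iff _).2 (by
      rw [QuotientGroup.ker_mk']; exact inf_le_left), bot_sup_eq]
    infer_instance
  · rw [← CfsgH9.comp_top_iff] at hK hL
    have hE : CfsgH9.Lay (⊤ : Subgroup G) ≠ ⊥ := fun e => hK.ne_bot (le_bot_iff.1 (e ▸ hK.le_Lay))
    by_contra hc
    push Not at hc
    set E := CfsgH9.Lay (⊤ : Subgroup G)
    have orb : ∀ K : Subgroup G, CfsgH9.Comp K ⊤ → ∃ A : Subgroup G, A ≤ E ∧ E ≤ N[A] ∧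
        ⁅(P : Subgroup G), (P : Subgroup G)⁆ ≤ A ∧
        ∀ X : Subgroup G, (∀ x ∈ (P : Subgroup G), K.map (cj x) ≤ X) → A ≤ X := by
      intro K hK
      have cc : ∀ x : G, CfsgH9.Comp (K.map (cj x)) ⊤ := fun x => hK.cj_of_mem (nn ⊤ ⊤ (mem_top x))
      set A := ⨆ x : P, K.map (cj (x : G)) with hA
      have a1 : A ≤ E := iSup_le fun x => (cc x).le_Lay
      have a2 : E ≤ N[A] := fun g hg => mem_norm_of_map_le (by
        rw [hA, Subgroup.map_iSup]
        exact iSup_mono fun x => (map_cj_eq ((cc x).Lay_le_normalizer hg)).le)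
      have a3 : (P : Subgroup G) ≤ N[A] := fun g hg => mem_norm_of_map_le (by
        rw [hA, Subgroup.map_iSup]
        refine iSup_le fun x => ?_
        rw [map_cj_cj]
        exact le_iSup (fun x : P => K.map (cj (x : G))) ⟨g * x, mul_mem hg x.2⟩)
      have a4 : K ≤ A := by
        have := le_iSup (fun x : P => K.map (cj (x : G))) ⟨1, one_mem _⟩
        rwa [map_cj_of_mem (one_mem _)] at this
      refine ⟨A, a1, a2, comm_le hi a3 fun h => ?_, fun X h => iSup_le fun x => h x x.2⟩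
      have s1 : Syl p (P : Subgroup G) (E ⊔ P) := sP.mono le_sup_right le_top
      have h1 := (tate s1 (a1.trans le_sup_left) (sup_le a2 a3) h).mono a4
      have h2 : O[{p}ᶜ, K] = ⊥ := le_bot_iff.1
        (core0 E ▸ piCoreOf_le_of_norm hK.le_Lay hK.Lay_le_normalizer)
      have h3 := sol_comm_lt (isSolvable_of_pgroup (pg_of_npc h1 h2)) hK.ne_bot
      rw [hK.perf] at h3
      exact lt_irrefl _ h3
    obtain ⟨A1, a1, a2, a3, a4⟩ := orb K hK
    obtain ⟨A2, b1, b2, b3, b4⟩ := orb L hL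
    have h12 : A1 ≤ C[A2] := a4 _ fun x hx => le_centralizer_iff.1 (b4 _ fun y hy => by
      rw [← comm_eq_bot_iff]
      refine (hL.cj_of_mem (nn ⊤ ⊤ (mem_top y))).comm_of_ne
        (hK.cj_of_mem (nn ⊤ ⊤ (mem_top x))) fun e => ?_
      refine hc (y⁻¹ * x) (mul_mem (inv_mem hy) hx) ?_
      change L.map (cj y) = K.map (cj x) at e
      change L = K.map (cj (y⁻¹ * x))
      rw [← map_cj_cj, ← e, map_cj_inv_cj])
    exact ne0 (le_inf a3 b3) (fit0 (C hE) _ E nE (inf_le_left.trans a1) (le_norm_inf a2 b2)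
      (isMulComm_of_le_cent ((inf_le_left.trans h12).trans (cent_anti inf_le_right))))

end Cfsg.Agent.S4172
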