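import Cfsg.Statements.S3683
import Cfsg.Agent.H3.Hv1
import Cfsg.Agent.H1.Gasch

set_option autoImplicit false
open Cfsg

namespace Cfsg.Agent.S3683
open Subgroup CfsgH2 MulAction

/-- Let a finite group G act faithfully and primitively on a set Ω, and suppose the stabilizer of a point a fixes a second point b ≠ a (a suborbit of length 1 other than {a}). Then the stabilizer of a is trivial and G is cyclic of prime order. -/
theorem result {G Ω : Type*} [Group G] [Finite G] [MulAction G Ω] [FaithfulSMul G Ω] [Finite Ω]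
    (hprim : MulAction.IsPreprimitive G Ω) (a b : Ω) (hab : a ≠ b) (hfix : ∀ g : G, g • a = a → g • b = b) :
    MulAction.stabilizer G a = ⊥ ∧ IsCyclic G ∧ (Nat.card G).Prime := by
  obtain ⟨g, rfl⟩ := exists_smul_eq G a b
  have g1 : g ∉ stabilizer G a := fun h => hab (mem_stabilizer_iff.1 h).symm
  haveI : Nontrivial G := ⟨g, 1, fun e => g1 (e ▸ one_mem _)⟩
  have hc := CfsgH1.coatom_stabilizer hprim a
  have e : stabilizer G a = (stabilizer G a).map (MulAut.conj g).toMonoidHom := by
    rw [← stabilizer_smul_eq_stabilizer_map_conj]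
    refine (hc.le_iff_eq (CfsgH1.coatom_stabilizer hprim _).1).1 hfix |>.symm
  have hn : N[stabilizer G a] = ⊤ := hc.2 _ (lt_of_le_of_ne le_normalizer fun h => g1 (h ▸ map_cj_eq_iff.1 e.symm))
  haveI := normalizer_eq_top_iff.1 hn
  have h0 : stabilizer G a = ⊥ := eq_bot_iff.2 fun x hx => eq_of_smul_eq_smul (α := Ω) fun c => by
    obtain ⟨k, rfl⟩ := exists_smul_eq G a c
    have := mem_stabilizer_iff.1 (this.conj_mem' x hx k)
    rw [mul_smul, mul_smul, inv_smul_eq_iff] at this
    rw [this, one_smul]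
  rw [h0] at hc
  obtain ⟨x, hx⟩ := exists_prime_orderOf_dvd_card' (G := G) (hp := ⟨Nat.minFac_prime Finite.one_lt_card.ne'⟩) _
    (Nat.minFac_dvd _)
  have hp := hx ▸ Nat.minFac_prime (Finite.one_lt_card (α := G)).ne'
  have ht : zpowers x = ⊤ := hc.2 _ (bot_lt_iff_ne_bot.2 fun e => hp.one_lt.ne' (by rw [zpowers_eq_bot.1 e, orderOf_one]))
  refine ⟨h0, ⟨x, fun y => (ht ▸ mem_top y : y ∈ zpowers x)⟩, ?_⟩
  rwa [← card_top, ← ht, Nat.card_zpowers]


end Cfsg.Agent.S3683
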