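import Cfsg.Statements.S3494
import Cfsg.Agent.H3.Hv1
import Cfsg.Agent.S3683
import Cfsg.Agent.H8.Basic

set_option autoImplicit false
open Cfsg

namespace Cfsg.Agent.S3494
open Subgroup CfsgH2 MulAction
section
variable {G : Type*} [Group G] {Ω : Type*} [MulAction G Ω]
variable (G) in
noncomputable def len (a x : Ω) : ℕ := (orbit (stabilizer G a) x).ncard
theorem st (g : G) (a : Ω) : stabilizer G (g • a) = (stabilizer G a).map (cj g) :=
  stabilizer_smul_eq_stabilizer_map_conj g a
theorem len_eq (a x : Ω) : len G a x = (stabilizer G x).relIndex (stabilizer G a) := by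
  rw [len, ← index_stabilizer]; rfl
theorem len_smul (g : G) (a x : Ω) : len G (g • a) (g • x) = len G a x := by
  rw [len_eq, len_eq, st, st, relIndex_map_cj]
theorem card_st [IsPretransitive G Ω] (a b : Ω) : o[stabilizer G a] = o[stabilizer G b] := by
  obtain ⟨g, rfl⟩ := exists_smul_eq G b a
  rw [st, card_map_cj]
theorem len_symm [Finite G] [IsPretransitive G Ω] (a x : Ω) : len G a x = len G x a := by
  rw [len_eq, len_eq]
  have h1 := card_inf_mul_relIndex (stabilizer G a) (stabilizer G x)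
  have h3 := card_inf_mul_relIndex (stabilizer G x) (stabilizer G a)
  rw [card_st x a, ← h3, inf_comm] at h1
  exact (Nat.eq_of_mul_eq_mul_left Nat.card_pos h1).symm
variable (G) in
def ker (a : Ω) (P : Ω → Prop) : Subgroup G := stabilizer G a ⊓ ⨅ x : {x // P x}, stabilizer G x.1
theorem mem_ker {a : Ω} {P : Ω → Prop} {g : G} : g ∈ ker G a P ↔ g • a = a ∧ ∀ x, P x → g • x = x := by
  simp [ker, mem_iInf]
theorem ker_conj {a : Ω} {P Q : Ω → Prop} {g k : G} (h : ∀ x, Q x → P (g⁻¹ • x)) (hk : k ∈ ker G a P) :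
    g * k * g⁻¹ ∈ ker G (g • a) Q := by
  rw [mem_ker] at hk ⊢
  exact ⟨by simp [mul_smul, hk.1], fun x hx => by simp [mul_smul, hk.2 _ (h x hx)]⟩
theorem ker_norm [Finite G] {a : Ω} {P : Ω → Prop} (h : ∀ g : G, g • a = a → ∀ x, P x → P (g • x)) :
    stabilizer G a ≤ N[ker G a P] := fun g hg => mem_norm_of_conj fun k hk => by
  have := ker_conj (Q := P) (h g⁻¹ (inv_mem hg)) hk
  rwa [mem_stabilizer_iff.1 hg] at this
end

/-- Manning's Theorem on extremely primitive groups. Let a finite group G act faithfully and primitively on a finite set Ω with non-trivial point stabilizers, and suppose every point stabilizer G_α acts primitively on each of its orbits. Then G_α acts faithfully on each of its orbits other than {α}: an element of G_α fixing every point of one such orbit is the identity. -/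
theorem result {G : Type*} [Group G] [Finite G] {Ω : Type*} [Fintype Ω] [MulAction G Ω] [FaithfulSMul G Ω] (hprim : MulAction.IsPreprimitive G Ω) (hH : ∀ α : Ω, MulAction.stabilizer G α ≠ ⊥) (hep : ∀ (α : Ω) (ω : Ω), MulAction.IsPreprimitive (MulAction.stabilizer G α) (MulAction.orbit (MulAction.stabilizer G α) ω))
    (α ω : Ω) (hω : ω ≠ α) (h : MulAction.stabilizer G α) (hfix : ∀ x ∈ MulAction.orbit (MulAction.stabilizer G α) ω, h • x = x) : h = 1 := by
  by_contra h1
  haveI : Nontrivial G := ⟨h, 1, fun e => h1 (Subtype.ext e)⟩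
  have top : ∀ a b : Ω, a ≠ b → ∀ L : Subgroup G, stabilizer G a ≤ L → stabilizer G b ≤ L → L = ⊤ :=
    fun a b ab L h1 h2 => (CfsgH1.coatom_stabilizer hprim a).2 _ (lt_of_le_not_ge h1 fun h3 =>
      hH b (Cfsg.Agent.S3683.result hprim b a ab.symm fun g hg => h3 (h2 hg)).1)
  have c1 : ∀ (a w x : Ω) (M : Subgroup G), w ≠ a → M ≤ stabilizer G a → stabilizer G a ≤ N[M] →
      M ≤ stabilizer G w → ¬ M ≤ stabilizer G x → len G a x < len G w x := fun a w x M wa m1 m2 m3 m4 => by
    haveI := hep a x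
    haveI := (normal_subgroupOf_iff' m1).2 m2
    haveI : IsPretransitive (M.subgroupOf (stabilizer G a)) (orbit (stabilizer G a) x) :=
      IsQuasiPreprimitive.isPretransitive_of_normal fun e => m4 fun k hk => mem_stabilizer_iff.2 (congrArg Subtype.val
        (e.ge (Set.mem_univ (⟨x, mem_orbit_self x⟩ : orbit (stabilizer G a) x)) ⟨⟨k, m1 hk⟩, hk⟩))
    have sub : orbit (stabilizer G a) x ⊆ orbit (stabilizer G w) x := fun y hy => by
      obtain ⟨k, hk⟩ := exists_smul_eq (M.subgroupOf (stabilizer G a))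
        (⟨x, mem_orbit_self x⟩ : orbit (stabilizer G a) x) ⟨y, hy⟩
      exact ⟨⟨k.1.1, m3 k.2⟩, congrArg Subtype.val hk⟩
    refine Set.ncard_lt_ncard (sub.ssubset_of_ne fun e => m4 (m1.trans ?_))
    let L : Subgroup G := {
      carrier := {g | ∀ y, g • y ∈ orbit (stabilizer G a) x ↔ y ∈ orbit (stabilizer G a) x}
      mul_mem' := fun ha hb y => by rw [mul_smul, ha, hb]
      one_mem' := fun y => by rw [one_smul]
      inv_mem' := fun {g} hg y => by rw [← hg, smul_inv_smul] }
    have i : ∀ b : Ω, ∀ g ∈ stabilizer G b, ∀ y, g • y ∈ orbit (stabilizer G b) x ↔ y ∈ orbit (stabilizer G b) x :=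
      fun b g hg y => ⟨fun c => by simpa [Subgroup.smul_def] using mem_orbit_of_mem_orbit (⟨g, hg⟩⁻¹ : stabilizer G b) c,
        fun c => mem_orbit_of_mem_orbit (⟨g, hg⟩ : stabilizer G b) c⟩
    have := top a w wa.symm L (i a) (by have := i w; rwa [← e] at this)
    obtain ⟨g, hg⟩ := exists_smul_eq G x a
    obtain ⟨k, hk⟩ := mem_orbit_symm.1 (hg ▸ ((this ▸ mem_top g : g ∈ L) x).2 (mem_orbit_self x))
    rw [show x = a from hk.symm.trans k.2]
  obtain ⟨⟨a0, d0⟩, ad0, mx⟩ := Set.exists_max_image {p : Ω × Ω | p.2 ≠ p.1} (fun p => len G p.1 p.2)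
    (Set.toFinite _) ⟨(α, ω), hω⟩
  set m := len G a0 d0
  let K : Ω → Subgroup G := fun a => ker G a fun x => m ≤ len G a x
  have inv : ∀ (a : Ω) (g : G), g • a = a → ∀ x, len G a (g • x) = len G a x := fun a g hg x => by
    rw [← len_smul g a x, hg]
  have Kn : ∀ a, stabilizer G a ≤ N[K a] := fun a => ker_norm fun g hg x hx => by rwa [inv a g hg]
  have c2 : ∀ (a w : Ω) (M : Subgroup G), w ≠ a → M ≤ stabilizer G a → stabilizer G a ≤ N[M] →
      M ≤ stabilizer G w → M ≤ K a := fun a w M wa m1 m2 m3 k hk => mem_ker.2 ⟨m1 hk, fun x hx => by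
    by_contra h
    have xw : x ≠ w := fun e => h (e ▸ m3 hk)
    exact (c1 a w x M wa m1 m2 m3 fun e => h (e hk)).not_ge ((mx (w, x) xw).trans hx)⟩
  have c3 : ∀ a w : Ω, w ≠ a → ker G a (· ∈ orbit (stabilizer G a) w) ≤ K a := fun a w wa =>
    c2 a w _ wa inf_le_left (ker_norm fun g hg x hx => mem_orbit_of_mem_orbit (⟨g, hg⟩ : stabilizer G a) hx)
      fun k hk => (mem_ker.1 hk).2 w (mem_orbit_self w)
  obtain ⟨x0, hx0⟩ : ∃ x, ¬ K α ≤ stabilizer G x := by
    by_contra h2; push Not at h2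
    exact h1 (Subtype.ext (eq_of_smul_eq_smul (α := Ω) fun c => by
      rw [OneMemClass.coe_one, one_smul]; exact h2 c (c3 α ω hω (mem_ker.2 ⟨h.2, hfix⟩))))
  obtain ⟨⟨a, l⟩, al, ml⟩ := Set.exists_max_image {p : Ω × Ω | ¬ K p.1 ≤ stabilizer G p.2} (fun p => len G p.1 p.2)
    (Set.toFinite _) ⟨(α, x0), hx0⟩
  obtain ⟨g, rfl⟩ := exists_smul_eq G a0 a
  set a := g • a0
  set d := g • d0
  have da : d ≠ a := fun e => ad0 (smul_left_cancel g e)
  have e1 : len G a d = m := len_smul g a0 d0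
  have k1 : K a ≤ stabilizer G d := fun k hk => (mem_ker.1 hk).2 d e1.ge
  have k2 : K d ≤ stabilizer G a := fun k hk => (mem_ker.1 hk).2 a (e1.symm.trans (len_symm a d)).le
  have la : l ≠ a := fun e => al (e ▸ inf_le_left)
  have k3 : K d ≤ K a := le_trans (fun k hk => mem_ker.2 ⟨k2 hk, by
    rintro _ ⟨u, rfl⟩
    by_contra h2
    have h3 : ¬ K a ≤ stabilizer G (u • l) := fun e => al fun w hw => by
      have := e (conj_mem_of_norm (Kn a u.2) hw)
      simpa [mem_stabilizer_iff, mul_smul, Subgroup.smul_def] using this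
    have h4 := c1 a d _ _ da inf_le_left (Kn a) k1 h3
    have h5 := ml (d, u • l) fun e => h2 (e hk)
    rw [Subgroup.smul_def, inv a u u.2] at h4
    exact h4.not_ge h5⟩) (c3 a l la)
  obtain ⟨u, hu⟩ := exists_smul_eq G a d
  have k4 : K d = K a := eq_of_le_of_card_le k3 (by
    rw [← card_map_cj u]
    refine card_le_of_le (map_cj_le_iff'.2 fun k hk => hu ▸ ker_conj (fun x hx => ?_) hk)
    rwa [← len_smul u, smul_inv_smul])
  haveI := normalizer_eq_top_iff.1 (top a d da.symm _ (Kn a) (k4 ▸ Kn d))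
  refine al fun k hk => ?_
  obtain ⟨w, rfl⟩ := exists_smul_eq G a l
  have := (mem_ker.1 (this.conj_mem' k hk w)).1
  rwa [mul_smul, mul_smul, inv_smul_eq_iff] at this


end Cfsg.Agent.S3494
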