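import Cfsg.Statements.S3495
import Cfsg.Agent.H3.Hv1
import Cfsg.Agent.S3494
import Cfsg.Agent.H8.MinNormal

set_option autoImplicit false
open Cfsg

namespace Cfsg.Agent.S3495
open Subgroup CfsgH2 MulAction

/-- Let a finite group G act faithfully and primitively on a finite set Ω with non-trivial point stabilizers, each acting primitively on every one of its orbits (an extremely primitive group), and suppose G has an elementary abelian normal p-subgroup N acting regularly on Ω (affine type). Then every non-trivial subgroup M of a point stabilizer G_α that is normal in G_α has the same orbits on Ω as G_α, and normalizes no subgroup of N other than 1 and N. -/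
theorem result {G : Type*} [Group G] [Finite G] {Ω : Type*} [Fintype Ω] [MulAction G Ω] [FaithfulSMul G Ω] (hprim : MulAction.IsPreprimitive G Ω) (hH : ∀ α : Ω, MulAction.stabilizer G α ≠ ⊥) (hep : ∀ (α : Ω) (ω : Ω), MulAction.IsPreprimitive (MulAction.stabilizer G α) (MulAction.orbit (MulAction.stabilizer G α) ω))
    (N : Subgroup G) [N.Normal] (hNc : IsMulCommutative N) (p : ℕ) (hp : p.Prime) (hNp : ∀ n ∈ N, n ^ p = 1)
    (hNtr : MulAction.IsPretransitive N Ω) (hNreg : ∀ ω : Ω, MulAction.stabilizer N ω = ⊥) (α : Ω) (M : Subgroup G) (hM : M ≠ ⊥) (hMle : M ≤ MulAction.stabilizer G α)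
    (hMn : MulAction.stabilizer G α ≤ Subgroup.normalizer (M : Set G)) :
    (∀ ω : Ω, MulAction.orbit M ω = MulAction.orbit (MulAction.stabilizer G α) ω) ∧
    (∀ L : Subgroup G, L ≤ N → M ≤ Subgroup.normalizer (L : Set G) → L = ⊥ ∨ L = N) := by
  haveI := (normal_subgroupOf_iff' hMle).2 hMn
  have h1 : ∀ ω : Ω, orbit M ω = orbit (stabilizer G α) ω := fun x => by
    refine Set.Subset.antisymm (by rintro _ ⟨k, rfl⟩; exact ⟨⟨k, hMle k.2⟩, rfl⟩) fun y hy => ?_
    rcases eq_or_ne x α with rfl | xa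
    · obtain ⟨k, rfl⟩ := hy
      exact ⟨1, (one_smul _ _).trans k.2.symm⟩
    haveI := hep α x
    haveI : IsPretransitive (M.subgroupOf (stabilizer G α)) (orbit (stabilizer G α) x) :=
      IsQuasiPreprimitive.isPretransitive_of_normal fun e => hM (eq_bot_iff.2 fun k hk => mem_bot.2
        (congrArg Subtype.val (Cfsg.Agent.S3494.result hprim hH hep α x xa ⟨k, hMle hk⟩ fun z hz =>
          congrArg Subtype.val (e.ge (Set.mem_univ (⟨z, hz⟩ : orbit (stabilizer G α) x)) ⟨⟨k, hMle hk⟩, hk⟩))))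
    obtain ⟨k, hk⟩ := exists_smul_eq (M.subgroupOf (stabilizer G α))
      (⟨x, mem_orbit_self x⟩ : orbit (stabilizer G α) x) ⟨y, hy⟩
    exact ⟨⟨k.1.1, k.2⟩, congrArg Subtype.val hk⟩
  have rg : ∀ a ∈ N, ∀ b ∈ N, a • α = b • α → a = b := fun a ha b hb e => by
    have : (⟨b⁻¹ * a, N.mul_mem (N.inv_mem hb) ha⟩ : N) ∈ stabilizer N α := by
      show (b⁻¹ * a) • α = α
      rw [mul_smul, e, inv_smul_smul]
    rw [hNreg, mem_bot] at this
    exact (inv_mul_eq_one.1 (congrArg Subtype.val this)).symm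
  refine ⟨h1, fun L hL hn => (em _).imp_right fun L0 => ?_⟩
  have n1 : stabilizer G α ≤ N[L] := fun h hh => mem_norm_of_conj fun l hl => by
    obtain ⟨k, hk⟩ : h • l • α ∈ orbit M (l • α) := h1 _ ▸ ⟨⟨h, hh⟩, rfl⟩
    have hk : (k : G) • l • α = h • l • α := hk
    rw [rg _ (‹N.Normal›.conj_mem l (hL hl) h) _ (‹N.Normal›.conj_mem l (hL hl) k) (by
      rw [mul_smul, mul_smul, mul_smul, mul_smul, mem_stabilizer_iff.1 (inv_mem hh),
        mem_stabilizer_iff.1 (inv_mem (hMle k.2)), hk])]
    exact conj_mem_of_norm (hn k.2) hl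
  haveI : L.Normal := normalizer_eq_top_iff.1 (eq_top_iff.2 fun g _ => by
    obtain ⟨n, hn⟩ := hNtr.exists_smul_eq α (g • α)
    have : (n : G)⁻¹ * g ∈ stabilizer G α := by rw [mem_stabilizer_iff, mul_smul, inv_smul_eq_iff]; exact hn.symm
    simpa using mul_mem (cent_le_norm L (le_cent_of_comm hNc hL n.2)) (n1 this))
  refine le_antisymm hL fun n hn => ?_
  obtain ⟨l, hl⟩ := (CfsgH8.transitive_of_normal_of_primitive (Ω := Ω) L L0).exists_smul_eq α (n • α)
  exact rg _ (hL l.2) _ hn hl ▸ l.2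


end Cfsg.Agent.S3495
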