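import Cfsg.Statements.S0948
import Mathlib
import Cfsg.Agent.H4.K4

set_option autoImplicit false
open Cfsg

open Cfsg CfsgH3 CfsgH4 CfsgH1 CfsgL0 MonoidAlgebra

namespace Cfsg.Agent.S0948

/-- Let the finite group G have a Sylow 2-subgroup P that is a Klein four-group, suppose all involutions of G are conjugate, and fix a maximal ideal M of the algebraic integers containing 2. Then the principal block consists of exactly four irreducible characters, the principal character and ζ₂, ζ₃, ζ₄, and there is a sign ε such that for every involution z: ζ₂ z = 1, ζ₃ z = ε, ζ₄ z = -1; moreover ζ₂ 1 ≡ 1, ζ₃ 1 ≡ ε, ζ₄ 1 ≡ -1 (mod 4), and 1 + ζ₂ y + ε ζ₃ y - ζ₄ y = 0 for every y of odd order. -/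
theorem result {G : Type*} [Group G] [Finite G] (M : Ideal Cfsg.AlgInt) (hM : Cfsg.IsPModular 2 M) (P : Sylow 2 G) (hP : IsKleinFour (P : Subgroup G)) (hone : ∀ s t : G, orderOf s = 2 → orderOf t = 2 → IsConj s t) : ∃ ζ₂ ζ₃ ζ₄ : Cfsg.IrrCharacter G, ∃ ε : ℤ, (ε = 1 ∨ ε = -1) ∧ (ζ₂ : G → ℂ) ≠ (fun _ => 1) ∧ (ζ₃ : G → ℂ) ≠ (fun _ => 1) ∧ ζ₂ ≠ ζ₃ ∧ ζ₂ ≠ ζ₄ ∧ ζ₃ ≠ ζ₄ ∧ Cfsg.principalBlock M G = {χ : Cfsg.IrrCharacter G | (χ : G → ℂ) = (fun _ => 1) ∨ χ = ζ₂ ∨ χ = ζ₃ ∨ χ = ζ₄} ∧ (∀ z : G, orderOf z = 2 → (ζ₂ : G → ℂ) z = 1 ∧ (ζ₃ : G → ℂ) z = (ε : ℂ) ∧ (ζ₄ : G → ℂ) z = -1) ∧ (4 : ℤ) ∣ (Cfsg.charDegree (ζ₂ : G → ℂ) : ℤ) - 1 ∧ (4 : ℤ) ∣ (Cfsg.charDegree (ζ₃ : G → ℂ) : ℤ) - ε ∧ (4 : ℤ) ∣ (Cfsg.charDegree (ζ₄ : G → ℂ) : ℤ) + 1 ∧ ∀ y : G, Odd (orderOf y) → 1 + (ζ₂ : G → ℂ) y + (ε : ℂ) * (ζ₃ : G → ℂ) y - (ζ₄ : G → ℂ) y = 0 := by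
  haveI : PMod 2 M := ⟨hM⟩
  obtain ⟨η, ε, h⟩ := exists_k4d (M := M) (G := G) (by
    have := hP.card_four
    rw [P.card_eq_multiplicity] at this
    exact Nat.pow_right_injective le_rfl this) (fun g hg => by
      obtain ⟨x, hx⟩ := GQ.exists_conj_mem (CfsgH2.syl_top P) hg
      have := Monoid.pow_exponent_eq_one (⟨_, hx⟩ : (P : Subgroup G))
      rw [hP.exponent_two, pow_two] at this
      simpa using congrArg Subtype.val this) hone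
  have h0 : ∀ i, i ≠ 0 → (η i).1 ≠ fun _ => 1 := fun i hi e =>
    hi (h.inj (h.zero ▸ Subtype.ext e))
  have key : ∀ i j k : Fin 4, i ≠ 0 → j ≠ 0 → i ≠ j → i ≠ k → j ≠ k → ε i = 1 → ε k = -1 →
      (∀ l, l = 0 ∨ l = i ∨ l = j ∨ l = k) → (∀ f : Fin 4 → ℂ, ∑ l, f l = f 0 + f i + f j + f k) →
      ∃ ζ₂ ζ₃ ζ₄ : IrrCharacter G, ∃ ε : ℤ, (ε = 1 ∨ ε = -1) ∧ (ζ₂ : G → ℂ) ≠ (fun _ => 1) ∧ (ζ₃ : G → ℂ) ≠ (fun _ => 1) ∧ ζ₂ ≠ ζ₃ ∧ ζ₂ ≠ ζ₄ ∧ ζ₃ ≠ ζ₄ ∧ principalBlock M G = {χ : IrrCharacter G | (χ : G → ℂ) = (fun _ => 1) ∨ χ = ζ₂ ∨ χ = ζ₃ ∨ χ = ζ₄} ∧ (∀ z : G, orderOf z = 2 → (ζ₂ : G → ℂ) z = 1 ∧ (ζ₃ : G → ℂ) z = (ε : ℂ) ∧ (ζ₄ : G → ℂ) z = -1) ∧ (4 : ℤ) ∣ (charDegree (ζ₂ : G → ℂ) : ℤ) - 1 ∧ (4 : ℤ) ∣ (charDegree (ζ₃ : G → ℂ) : ℤ) - ε ∧ (4 : ℤ) ∣ (charDegree (ζ₄ : G → ℂ) : ℤ) + 1 ∧ ∀ y : G, Odd (orderOf y) → 1 + (ζ₂ : G → ℂ) y + (ε : ℂ) * (ζ₃ : G → ℂ) y - (ζ₄ : G → ℂ) y = 0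 := by
    intro i j k hi hj hij hik hjk e1 e2 hl hf
    refine ⟨η i, η j, η k, ε j, h.sign j, h0 i hi, h0 j hj, h.inj.ne hij, h.inj.ne hik,
      h.inj.ne hjk, ?_, fun z hz => ?_, e1 ▸ h.deg i, h.deg j, by simpa [e2] using h.deg k,
      fun y hy => ?_⟩
    · rw [← h.range]
      ext χ
      constructor
      · rintro ⟨l, rfl⟩
        rcases hl l with rfl | rfl | rfl | rfl
        · left; rw [h.zero]; rfl
        · simp
        · simp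
        · simp
      · rintro (e | rfl | rfl | rfl)
        · exact ⟨0, h.zero.trans (Subtype.ext e.symm)⟩
        all_goals exact ⟨_, rfl⟩
    · simp [h.sing _ z (hz ▸ dvd_rfl), e1, e2]
    · have := h.sum_reg (s := y) (by have := Nat.odd_iff.1 hy; omega)
      rw [hf, h.zero, h.eps_zero, e1, e2] at this
      simp only [irrOne] at this
      push_cast at this
      linear_combination this
  have hs := h.sum_deg
  have hd : ∀ i, 0 < charDegree (η i).1 := fun i => Nat.pos_of_ne_zero (charDegree_ne_zero (η i).2)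
  have d0 : charDegree (η 0).1 = 1 := by rw [h.zero]; exact charDegree_eq (by simp [irrOne])
  have d1 := hd 1
  have d2 := hd 2
  have d3 := hd 3
  rw [Fin.sum_univ_four, h.eps_zero, d0] at hs
  rcases h.sign 1 with e1 | e1 <;> rcases h.sign 2 with e2 | e2 <;> rcases h.sign 3 with e3 | e3 <;>
    rw [e1, e2, e3] at hs
  · omega
  · exact key 1 2 3 (by decide) (by decide) (by decide) (by decide) (by decide) e1 e3 (by decide)
      fun f => by rw [Fin.sum_univ_four]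
  · exact key 1 3 2 (by decide) (by decide) (by decide) (by decide) (by decide) e1 e2 (by decide)
      fun f => by rw [Fin.sum_univ_four]; ring
  · exact key 1 2 3 (by decide) (by decide) (by decide) (by decide) (by decide) e1 e3 (by decide)
      fun f => by rw [Fin.sum_univ_four]
  · exact key 2 3 1 (by decide) (by decide) (by decide) (by decide) (by decide) e2 e1 (by decide)
      fun f => by rw [Fin.sum_univ_four]; ring
  · exact key 2 3 1 (by decide) (by decide) (by decide) (by decide) (by decide) e2 e1 (by decide)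
      fun f => by rw [Fin.sum_univ_four]; ring
  · exact key 3 2 1 (by decide) (by decide) (by decide) (by decide) (by decide) e3 e1 (by decide)
      fun f => by rw [Fin.sum_univ_four]; ring
  · omega

end Cfsg.Agent.S0948
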