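import Cfsg.Statements.S4479
import Mathlib
import Cfsg.Agent.H4.K4b

set_option autoImplicit false
open Cfsg

open Cfsg CfsgH3 CfsgH4 CfsgH1 CfsgL0 MonoidAlgebra

namespace Cfsg.Agent.S4479

/-- An order formula from the principal 2-block. Let G be a finite group of order 4·g₀ with g₀ odd having no normal 2-complement (no normal subgroup of order g₀); let P be a Sylow 2-subgroup, J an involution of P, and fix a maximal ideal M of the algebraic integers containing 2. Suppose the principal 2-block consists of the principal character and three further distinct characters χ₁, χ₂, χ₃ of degrees x₁, x₂, x₃, with χ_i(J) = ε_i = ±1. Then, writing c(J) and c(P) for the orders of the centralizers of J and of P, the order of G equals 8·α·c(J)³/c(P)² with α = x₁x₂x₃ / ((x₁ + ε₁)(x₂ + ε₂)(x₃ + ε₃)). -/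
theorem result {G : Type*} [Group G] [Finite G] (M : Ideal Cfsg.AlgInt) (hM : Cfsg.IsPModular 2 M) (g₀ : ℕ) (hg₀ : Odd g₀) (hG : Nat.card G = 4 * g₀) (hnc : ¬ ∃ N : Subgroup G, N.Normal ∧ Nat.card N = g₀) (P : Sylow 2 G) (J : G) (hJ : J ∈ (P : Subgroup G)) (hJ2 : orderOf J = 2) (χ₁ χ₂ χ₃ : Cfsg.IrrCharacter G) (ε₁ ε₂ ε₃ : ℤ) (hB : Cfsg.principalBlock M G = {χ : Cfsg.IrrCharacter G | (χ : G → ℂ) = (fun _ => 1) ∨ χ = χ₁ ∨ χ = χ₂ ∨ χ = χ₃}) (hdist : (χ₁ : G → ℂ) ≠ (fun _ => 1) ∧ (χ₂ : G → ℂ) ≠ (fun _ => 1) ∧ (χ₃ : G → ℂ) ≠ (fun _ => 1) ∧ χ₁ ≠ χ₂ ∧ χ₁ ≠ χ₃ ∧ χ₂ ≠ χ₃) (hε : (ε₁ = 1 ∨ ε₁ = -1) ∧ (ε₂ = 1 ∨ ε₂ = -1) ∧ (ε₃ = 1 ∨ ε₃ = -1)) (hval : (χ₁ : G → ℂ) J = ε₁ ∧ (χ₂ : G → ℂ) J = ε₂ ∧ (χ₃ : G → ℂ) J = ε₃) : (Nat.card G : ℚ) = 8 * (((Cfsg.charDegree (χ₁ : G → ℂ) : ℚ) * Cfsg.charDegree (χ₂ : G → ℂ) * Cfsg.charDegree (χ₃ : G → ℂ)) / ((Cfsg.charDegree (χ₁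 : G → ℂ) + ε₁) * (Cfsg.charDegree (χ₂ : G → ℂ) + ε₂) * (Cfsg.charDegree (χ₃ : G → ℂ) + ε₃))) * (Nat.card (Subgroup.centralizer ({J} : Set G)) : ℚ) ^ 3 / (Nat.card (Subgroup.centralizer ((P : Subgroup G) : Set G)) : ℚ) ^ 2 := by
  haveI : PMod 2 M := ⟨hM⟩
  obtain ⟨h4, ⟨a, h⟩, h2, hsq, hone⟩ := k4_setup hg₀ hG hnc P hJ hJ2
  have hk := k4d_of h4 hsq hone hJ2 hB hdist hval
  have h1 := hk.order_formula h (CfsgH2.syl_top P) h2 h4 hone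
  have h3 := hk.sum_deg
  have d0 : charDegree (irrOne G).1 = 1 := charDegree_eq (by simp [irrOne])
  simp only [Fin.sum_univ_four, Matrix.cons_val, d0] at h1 h3
  have h5 := card_mul_relIndex (Subgroup.centralizer_le (Set.singleton_subset_iff.2 h.ma) :
    Subgroup.centralizer ((P : Subgroup G) : Set G) ≤ _)
  rw [← (Subgroup.centralizer ({J} : Set G)).card_mul_index, ← h5]
  have d1 : (charDegree χ₁.1 : ℚ) ≠ 0 := Nat.cast_ne_zero.2 (charDegree_ne_zero χ₁.2)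
  have d2 : (charDegree χ₂.1 : ℚ) ≠ 0 := Nat.cast_ne_zero.2 (charDegree_ne_zero χ₂.2)
  have d3 : (charDegree χ₃.1 : ℚ) ≠ 0 := Nat.cast_ne_zero.2 (charDegree_ne_zero χ₃.2)
  have c0 : (Nat.card (Subgroup.centralizer ((P : Subgroup G) : Set G)) : ℚ) ≠ 0 :=
    Nat.cast_ne_zero.2 Nat.card_pos.ne'
  have r0 : ((Subgroup.centralizer ((P : Subgroup G) : Set G)).relIndex
      (Subgroup.centralizer ({J} : Set G)) : ℚ) ≠ 0 := Nat.cast_ne_zero.2 fun e => by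
    rw [e, mul_zero] at h5; exact Nat.card_pos.ne h5
  have h6 : (1 : ℚ) + ε₁ * charDegree χ₁.1 + ε₂ * charDegree χ₂.1 + ε₃ * charDegree χ₃.1 = 0 := by
    exact_mod_cast h3
  have s1 : (ε₁ : ℚ) * ε₁ = 1 := by rcases hε.1 with rfl | rfl <;> simp
  have s2 : (ε₂ : ℚ) * ε₂ = 1 := by rcases hε.2.1 with rfl | rfl <;> simp
  have s3 : (ε₃ : ℚ) * ε₃ = 1 := by rcases hε.2.2 with rfl | rfl <;> simp
  push_cast at h1 ⊢
  generalize (charDegree χ₁.1 : ℚ) = x at *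
  generalize (charDegree χ₂.1 : ℚ) = y at *
  generalize (charDegree χ₃.1 : ℚ) = z at *
  have h7 : (x + ε₁) * (y + ε₂) * (z + ε₃) = x * y * z * (1 / 1 + ε₁ / x + ε₂ / y + ε₃ / z) := by
    field_simp
    linear_combination ε₁ * ε₂ * ε₃ * h6 - x * ε₂ * ε₃ * s1 - y * ε₁ * ε₃ * s2 - z * ε₁ * ε₂ * s3
  have h8 : (1 / 1 + ε₁ / x + ε₂ / y + ε₃ / z : ℚ) ≠ 0 := fun e => by
    rw [e, mul_zero] at h1
    exact (mul_ne_zero (by norm_num) (pow_ne_zero 2 r0)) h1.symm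
  rw [h7, ← eq_div_iff h8] at *
  rw [h1]
  field_simp

end Cfsg.Agent.S4479
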