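import Cfsg.Statements.S0514
import Cfsg.Agent.H3.Hv2

set_option autoImplicit false
open Cfsg

namespace Cfsg.Agent.S0514
open Subgroup CfsgH2 CfsgHv MulAction
open CfsgH4 (GQ mul_inv_mem_of_relIndex_two mem_cent_of_odd_cyclic gq_of_equiv npc_of_cyclic)
open scoped commutatorElement

/-- In a finite group whose Sylow 2-subgroups are dihedral of order at least 4, the centralizer of any involution has a
normal subgroup of odd order whose index in the centralizer is a power of 2. -/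
theorem result {X : Type*} [Group X] [Finite X]
    (S : Sylow 2 X) (n : ℕ) (hn : 2 ≤ n) (hS : Nonempty ((S : Subgroup X) ≃* DihedralGroup n)) (t : X)
    (ht : orderOf t = 2) :
    ∃ N : Subgroup (Subgroup.centralizer ({t} : Set X)), N.Normal ∧ Odd (Nat.card N) ∧ ∃ k : ℕ, N.index = 2 ^ k := by
  obtain ⟨e⟩ := hS
  obtain ⟨r, hr, ho, hi, hnr, h1⟩ := dihedral_amb (by omega) e
  have key : NPC 2 C1[t] := frobenius_npc fun Q hQ pQ _ g hg hn hc => by
    have go : Odd (orderOf g) := Nat.coprime_two_right.1 hc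
    have tQ : t ∈ C[Q] := le_cent1_iff.1 hQ
    have pR : PG[2, Q ⊔ zpowers t] := isPGroup_sup pQ (isPGroup_zpowers (k := 1) (by rw [← ht]; simp))
      (Or.inr (zpowers_le.2 (CfsgH2.cent_le_norm _ tQ)))
    have nR : g ∈ N[Q ⊔ zpowers t] := mem_norm_sup hn (CfsgH2.cent_le_norm _ (cent_zpowers t ▸ hg))
    refine cent_anti (le_sup_left : Q ≤ Q ⊔ zpowers t) ?_
    obtain ⟨c, -, hl⟩ := (syl_top S).exists_conj_le pR le_top
    have go' : Odd (orderOf (c * g * c⁻¹)) := by rwa [orderOf_conj']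
    have nR' : c * g * c⁻¹ ∈ N[(Q ⊔ zpowers t).map (cj c)] := by
      rw [normalizer_map_cj]; exact conj_mem_map_cj nR
    suffices c * g * c⁻¹ ∈ C[(Q ⊔ zpowers t).map (cj c)] by
      rw [centralizer_map_cj, mem_map_cj] at this; simpa [mul_assoc] using this
    by_cases hx : ∃ x ∈ (Q ⊔ zpowers t).map (cj c) ⊓ zpowers r, x ^ 2 ≠ 1
    · obtain ⟨x, hx, hx2⟩ := hx
      exact cent_of_cyc S.isPGroup' inferInstance hnr hi.dvd (fun y hy h => (h1 y hy h).1) hl hx hx2 go' nR'
    · push Not at hx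
      refine cent_of_four (t := c * t * c⁻¹) ?_ (conj_mem_map_cj (mem_sup_right (mem_zpowers t)))
        (by rwa [orderOf_conj']) go' nR' (by rw [centralizer_conj]; exact conj_mem_map_cj hg)
      have c1 : Cyc[(Q ⊔ zpowers t).map (cj c) ⊓ zpowers r] := isCyclic_of_le inf_le_right
      rw [← card_mul_relIndex (inf_le_left : _ ⊓ zpowers r ≤ _)]
      exact Nat.mul_dvd_mul (card_dvd_of_elem_cyclic ⟨inferInstance, hx⟩ c1) (hi ▸ relIndex_inf_dvd hnr hl)
  refine ⟨O[{2}ᶜ, C1[t]].subgroupOf _, (normal_subgroupOf_iff' piCoreOf_le).2 le_norm_piCoreOf, ?_, ?_⟩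
  · rw [card_subgroupOf piCoreOf_le]
    exact Nat.not_even_iff_odd.1 fun h => not_dvd_piCoreOf h.two_dvd
  · obtain ⟨T, hT⟩ := exists_syl 2 C1[t]
    obtain ⟨k, hk⟩ := exists_card_eq_pow hT.pg
    exact ⟨k, (key.hall.relIndex_eq (by simpa using hall_singleton.2 hT)).trans hk⟩


end Cfsg.Agent.S0514
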