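import Cfsg.Statements.S3277
import Mathlib
import Cfsg.Agent.L0.K4A
import Cfsg.Agent.H1.Cop2

set_option autoImplicit false
open Cfsg

namespace Cfsg.Agent.S3277

open Subgroup CfsgH2 CfsgL0

/-- Let G be a finite group containing an involution whose centralizer is elementary abelian of order 4. If G has no normal 2-complement and no normal elementary abelian 2-subgroup of order 2 or 4, then G is isomorphic to the alternating group of degree 5 (that is, to PSL(2, 5)). -/
theorem result {G : Type*} [Group G] [Finite G] (x : G) (hx : orderOf x = 2)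
    (hC4 : Nat.card ↥(Subgroup.centralizer ({x} : Set G)) = 4) (hCe : ∀ c ∈ Subgroup.centralizer ({x} : Set G), c ^ 2 = 1)
    (hnc : ¬ Cfsg.HasNormalPComplement 2 G)
    (hne : ∀ E : Subgroup G, E.Normal → Cfsg.IsElementaryAbelian 2 E → Nat.card ↥E ≠ 2 ∧ Nat.card ↥E ≠ 4) :
    Nonempty (G ≃* ↥(alternatingGroup (Fin 5))) := by
  have hk : K4 C1[x] := ⟨hC4, fun c hc => by rw [← pow_two, hCe c hc]⟩
  have x1 := inv_ne_one hx
  have xS := self_mem_cent1 x
  have ea : ∀ E : Subgroup G, (∀ a ∈ E, a * a = 1) → IsElementaryAbelian 2 E := fun E h =>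
    ⟨isMulComm_iff.2 fun a ha b hb => by
      rw [← inv_eq_of_mul_eq_one_right (h _ (mul_mem ha hb)), mul_inv_rev, inv_eq_of_mul_eq_one_right (h _ ha),
        inv_eq_of_mul_eq_one_right (h _ hb)], fun a ha => by rw [pow_two, h a ha]⟩
  rcases k4_syl_or hk xS x1 (.self hk.pg) le_normalizer with t | ⟨z, hz, z1, nc, h⟩
  · rw [npc_top_iff] at hnc
    have hc := le_cent_self hk.ab
    have all := (k4_bound t hk hnc xS hx hc).1
    refine k4_a5 t hk hnc xS hx hc ?_
    by_cases h2 : 2 ∣ o[N[C1[x]].normalCore]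
    · obtain ⟨y, hy, oy⟩ := exists_prime_order_mem Nat.prime_two h2
      refine absurd hC4 (hne _ ⟨fun v hv g => ?_⟩ (ea _ hk.2)).2
      by_cases v1 : v = 1
      · simp [v1]
      have ov : orderOf (g * v * g⁻¹) = 2 := by rw [orderOf_conj', orderOf_two_iff.2 ⟨hk.2 v hv, v1⟩]
      obtain ⟨c, e⟩ := isConj_iff.1 (all _ _ oy ov)
      exact (t.mono le_normalizer le_top).mem_of_norm le_rfl
        (normalCore_le _ (e ▸ (normalCore_normal _).conj_mem y hy c)) (k := 1) (by rw [pow_one, ← ov, pow_orderOf_eq_one])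
    refine le_bot_iff.1 (CfsgH1.le_of_cent1_noncyclic hk.ab hk.not_cyc
      (le_top.trans (top_le_norm_iff.2 inferInstance)) (coprime_of_pgroup hk.pg h2) fun a ha a1 => ?_)
    obtain ⟨c, rfl⟩ := isConj_iff.1 (all _ _ hx (orderOf_two_iff.2 ⟨hk.2 a ha, a1⟩))
    refine (inf_eq_bot_of_coprime' (coprime_of_pgroup ?_ h2).symm).le
    rw [CfsgH2.centralizer_conj]
    exact hk.pg.map _
  · exfalso
    have hE := ncl_ea (hk.2 z hz) h
    have nE := normalClosure_normal (s := ({z} : Set G))
    have zE : z ∈ normalClosure ({z} : Set G) := subset_normalClosure rfl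
    generalize normalClosure ({z} : Set G) = E at *
    have ab := (ea E hE).1
    obtain ⟨n2, n4⟩ := hne E nE (ea E hE)
    have n1 : o[E] ≠ 1 := fun e => z1 ((card_eq_one.1 e).le zE)
    have h4 : o[E] ∣ 4 := by
      by_cases xE : x ∈ E
      · exact hC4 ▸ card_dvd_of_le (le_cent_self ab |>.trans (cent_le_cent1 xE))
      have h2 : o[C1[x] ⊓ E] ∣ 2 := by
        have h1 := card_dvd_of_le (inf_le_left : C1[x] ⊓ E ≤ _)
        have h2 := card_lt_of_lt (lt_of_le_of_ne (inf_le_left : C1[x] ⊓ E ≤ _) fun e => xE (e.ge xS).2)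
        rw [hC4] at h1 h2
        generalize o[C1[x] ⊓ E] = k at *
        interval_cases k <;> simp_all
      have x2 := inv_mul_self hx
      let φ : E →* G := MonoidHom.mk' (fun e => x * e * x⁻¹ * e) fun a b => by
        have := comm_of_isMulComm ab a.2 (nE.conj_mem _ b.2 x)
        simp only [coe_mul]
        rw [mul_assoc (x * a * x⁻¹) (a : G), ← mul_assoc (a : G), this]
        group
      have h3 := card_map_mul_card_inf_ker φ ⊤
      rw [card_top, top_inf_eq] at h3
      rw [← h3]
      refine mul_dvd_mul (dvd_trans (card_dvd_of_le ?_) h2) (dvd_trans ?_ h2)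
      · rintro _ ⟨e, -, rfl⟩
        refine mem_inf.2 ⟨mem_centralizer_singleton_iff.2 ?_, mul_mem (nE.conj_mem _ e.2 x) e.2⟩
        have := comm_of_isMulComm ab e.2 (nE.conj_mem _ e.2 x)
        change x * e * x⁻¹ * e * x = x * (x * e * x⁻¹ * e)
        conv_lhs => rw [← this]
        rw [inv_eq_of_mul_eq_one_right x2]
        simp [← mul_assoc, x2]
        simp [mul_assoc, x2]
      · rw [← card_map_of_injective (K := φ.ker) E.subtype_injective]
        refine card_dvd_of_le ?_
        rintro _ ⟨e, he, rfl⟩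
        refine mem_inf.2 ⟨mem_centralizer_singleton_iff.2 ?_, e.2⟩
        have : x * e * x⁻¹ * e = 1 := he
        rw [← hE _ e.2, mul_left_inj, mul_inv_eq_iff_eq_mul] at this
        exact this.symm
    have := Nat.le_of_dvd (by norm_num) h4
    generalize o[E] = k at *
    interval_cases k <;> simp_all

end Cfsg.Agent.S3277
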