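import Cfsg.Statements.S3224
import Cfsg.Agent.H2.MaxCl3

set_option autoImplicit false
open Cfsg

namespace Cfsg.Agent.S3224
open CfsgH2

/-- A finite 2-group containing an involution whose centralizer has order 4 is dihedral, quasi-dihedral (semidihedral), or of order 4. -/
theorem result {S : Type*} [Group S] [Finite S] (hS : IsPGroup 2 S)
    (x : S) (hx : orderOf x = 2) (hC : Nat.card ↥(Subgroup.centralizer ({x} : Set S)) = 4) :
    (∃ n : ℕ, Nonempty (S ≃* DihedralGroup n)) ∨ Cfsg.IsQuasiDihedral S ∨ Nat.card S = 4 := by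
  open Subgroup Function in
  haveI : Fact (Nat.Prime 2) := ⟨Nat.prime_two⟩
  obtain ⟨n, hn⟩ := exists_card_eq_pow (isPGroup_top_iff.2 hS)
  have h2 : 2 ≤ n := by
    have := card_dvd_of_le (le_top : C1[x] ≤ ⊤)
    rwa [hC, hn, show 4 = 2 ^ 2 by norm_num, Nat.pow_dvd_pow_iff_le_right (by norm_num)] at this
  by_cases h3 : n = 2
  · subst h3; right; right; simpa using hn
  obtain ⟨k, rfl⟩ : ∃ k, n = k + 3 := ⟨n - 3, by omega⟩
  have h1 := lcs_ne_bot_of_cent (p := 2) (k + 1) S ⊤ C1[x] hn le_top hC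
    (inf_le_right.trans (cent_le_cent1 (self_mem_cent1 x)))
  obtain ⟨a, b, h⟩ := mc_of_lcs (isPGroup_top_iff.2 hS) hn h1
  rcases h.rel with ⟨h1, h2⟩ | ⟨h1, h2⟩ | ⟨h0, h1, h2⟩
  · exact Or.inl ⟨_, ⟨topEquiv.symm.trans (h.toCy2.dihedral h1 h2).some⟩⟩
  · exfalso
    have hx2 : x * x = 1 := by rw [← pow_two, ← hx, pow_orderOf_eq_one]
    have h4 : x ∈ zpowers a := by
      by_contra h4
      obtain ⟨s, hs⟩ := (h.mem_iff.1 (mem_top x)).resolve_left h4
      simp only at hs
      have h5 : x = a ^ s * b := by rw [hs]; simp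
      rw [h5, show a ^ s * b * (a ^ s * b) = a ^ s * (b * a ^ s * b⁻¹) * b ^ 2 by
        rw [pow_two]; group, CfsgL0.conj_zpow_of_inverts h2, h1] at hx2
      exact half_ne_one h.ord (by simpa using hx2)
    have h5 : C1[x] = ⊤ := by
      rcases eq_half_of_sq h.ord h4 hx2 with e | e
      · rw [e] at hx; simp at hx
      · rw [e, eq_top_iff, le_cent1_iff]; exact h.toCy2.half_central
    rw [h5, hn] at hC
    have : 2 ^ 3 ≤ 2 ^ (k + 3) := Nat.pow_le_pow_right (by norm_num) (by omega)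
    omega
  · exact Or.inr (Or.inl (h.toCy2.quasi h0 h1 h2))

end Cfsg.Agent.S3224
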