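import Cfsg.Statements.S3861
import Mathlib
import Cfsg.Agent.L0.M2

set_option autoImplicit false
open Cfsg

namespace Cfsg.Agent.S3861

open Cfsg Subgroup CfsgH2 CfsgL0

/-- A finite group G has no non-identity element of odd order that is conjugate to its inverse if and only if the Sylow 2-subgroups of G are normal. -/
theorem result {G : Type*} [Group G] [Finite G] (P : Sylow 2 G) : (∀ x : G, x ≠ 1 → Odd (orderOf x) → ¬ IsConj x x⁻¹) ↔ (P : Subgroup G).Normal := by
  constructor
  · intro h
    refine two_closed_of_no_real (fun x y ho hx => ?_) (syl_top P)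
    by_contra h1
    exact h x h1 ho (isConj_iff.2 ⟨y, hx⟩)
  · intro hn x h1 ho hc
    obtain ⟨y, hy⟩ := isConj_iff.1 hc
    obtain ⟨t, -, ⟨k, hk⟩, ht⟩ := CfsgH1.exists_two_inverts hy
    have htP : t ∈ (P : Subgroup G) :=
      (syl_top P).mem_of_norm (top_le_norm_iff.2 hn) (mem_top _) (k := k) (by rw [← hk, pow_orderOf_eq_one])
    have h2 : x * x ∈ (P : Subgroup G) := by
      have := mul_mem (hn.conj_mem _ htP x) (inv_mem htP)
      have e : x * t * x⁻¹ * t⁻¹ = x * x := by
        have : t * x⁻¹ * t⁻¹ = x := by
          have := congrArg (·⁻¹) ht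
          simpa [mul_assoc] using this
        calc _ = x * (t * x⁻¹ * t⁻¹) := by group
          _ = _ := by rw [this]
      rwa [e] at this
    have h3 : x * x = 1 := by
      refine eq_one_of_coprime_order P.isPGroup' h2 ?_
      rw [← pow_two]
      exact Nat.Coprime.coprime_dvd_left (orderOf_pow_dvd 2) (Nat.coprime_two_right.2 ho)
    exact h1 (eq_one_of_odd_of_mul_self ho h3)

end Cfsg.Agent.S3861
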