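import Mathlib
import Cfsg.Statements.S2202
import Cfsg.Agent.H8.Za17

set_option autoImplicit false
open Cfsg

namespace Cfsg.Agent.S2202


open CfsgH8 CfsgH8.Za CfsgH2

/-- Finite groups in which the centralizer of every involution is abelian. Let G be a finite group of even order in which the centralizer of every element of order 2 is abelian. Then the Sylow 2-subgroups of G are cyclic, or a Sylow 2-subgroup of G is normal, or G is isomorphic to the direct product of SL₂(F) for a finite field F of characteristic two and an abelian group of odd order. -/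
theorem result {G : Type*} [Group G] [Finite G] (heven : Even (Nat.card G)) (h : ∀ t : G, orderOf t = 2 → IsMulCommutative ↥(Subgroup.centralizer ({t} : Set G))) :
    (∀ P : Sylow 2 G, IsCyclic ↥P) ∨ (∀ P : Sylow 2 G, (P : Subgroup G).Normal) ∨
    (∃ (F : Type) (_ : Field F) (_ : Fintype F) (A : Type) (_ : CommGroup A) (_ : Finite A), CharP F 2 ∧ Odd (Nat.card A) ∧ Nonempty (G ≃* Matrix.SpecialLinearGroup (Fin 2) F × A)) := by
  refine (ac_cases heven h).imp id (Or.imp id ?_)
  rintro ⟨o, F, _, _, ⟨n, h1, h2⟩, ⟨e⟩⟩
  haveI : Fact (Nat.Prime 2) := ⟨Nat.prime_two⟩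
  let A := Shrink.{0} (Subgroup.center G)
  let e' : A ≃* Subgroup.center G := Shrink.mulEquiv
  letI : CommGroup A := { (inferInstance : Group A) with
    mul_comm := fun a b => e'.injective (by
      rw [map_mul, map_mul]; exact Subtype.ext (Subgroup.mem_center_iff.1 (e' b).2 _)) }
  exact ⟨F, inferInstance, inferInstance, A, inferInstance, inferInstance,
    charP_of_card_eq_prime_pow h2, by rwa [Nat.card_congr e'.toEquiv],
    ⟨e.trans (MulEquiv.prodCongr (MulEquiv.refl _) e'.symm)⟩⟩

end Cfsg.Agent.S2202
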