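import Cfsg.Statements.S0985
import Cfsg.Agent.H3.Hv1

set_option autoImplicit false
open Cfsg

namespace Cfsg.Agent.S0985
open Subgroup CfsgH2 CfsgHv MulAction

/-- If the number of Sylow p-subgroups of a finite group is not congruent to 1 modulo p^k, then there are two distinct Sylow p-subgroups P and R such that the index of P ∩ R in P is at most p^(k-1). -/
theorem result {G : Type*} [Group G] [Finite G] (p k : ℕ) [Fact p.Prime] (h : ¬ Nat.card (Sylow p G) ≡ 1 [MOD p ^ k]) : ∃ P R : Sylow p G, P ≠ R ∧ ((R : Subgroup G).subgroupOf (P : Subgroup G)).index ≤ p ^ (k - 1) := by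
  have hp : p.Prime := Fact.out
  by_contra hc
  push Not at hc
  obtain ⟨P⟩ : Nonempty (Sylow p G) := inferInstance
  refine h (card_modEq_one (G := P) P _ (fun g => Sylow.smul_eq_iff_mem_normalizer.2 (le_normalizer g.2)) fun R hR => ?_)
  have e : stabilizer P R = (R : Subgroup G).subgroupOf P := by
    ext g
    rw [mem_stabilizer_iff, mem_subgroupOf]
    refine Sylow.smul_eq_iff_mem_normalizer.trans ⟨fun hg => ?_, fun hg => le_normalizer hg⟩
    exact (syl_top R).le_of_norm' ((P.isPGroup'.to_le (zpowers_le.2 g.2))) le_top (zpowers_le.2 hg) (mem_zpowers _)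
  rw [Nat.card_coe_set_eq, ← index_stabilizer, e]
  obtain ⟨j, hj⟩ := exists_relIndex_eq_pow P.isPGroup' (R : Subgroup G)
  have := hc P R hR.symm
  rw [show ((R : Subgroup G).subgroupOf P).index = p ^ j from hj] at this ⊢
  exact pow_dvd_pow p (by have := (Nat.pow_lt_pow_iff_right hp.one_lt).1 this; omega)


end Cfsg.Agent.S0985
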