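import Cfsg.Statements.S0200
import Mathlib
import Cfsg.Agent.L0.Isolated
import Cfsg.Agent.S0199

set_option autoImplicit false
open Cfsg

namespace Cfsg.Agent.S0200

/-- An involution lying in no normal 2-subgroup of a finite group inverts a nontrivial element of odd order (a consequence of the Baer–Suzuki Theorem). -/
theorem result {G : Type*} [Group G] [Finite G] (t : G) (ht : orderOf t = 2) (hO : ∀ N : Subgroup G, N.Normal → IsPGroup 2 N → t ∉ N) : ∃ h : G, h ≠ 1 ∧ Odd (orderOf h) ∧ t * h * t⁻¹ = h⁻¹ := by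
  have h1 := CfsgL0.inv_mul_self ht
  by_contra hcon
  push Not at hcon
  obtain ⟨N, hN, hNp, hle⟩ := Cfsg.Agent.S0199.result (p := 2) (Subgroup.zpowers t)
    (CfsgL0.isPGroup_zpowers_of_orderOf ht) (fun g => by
      have h2 := CfsgL0.conj_mul_self h1 g
      set r := t * (g * t * g⁻¹) with hr
      obtain ⟨a, b, hb, hab⟩ := Nat.exists_eq_two_pow_mul_odd (orderOf_pos r).ne'
      have ho : Odd (orderOf (r ^ 2 ^ a)) := by
        apply hb.of_dvd_nat
        apply orderOf_dvd_of_pow_eq_one
        rw [← pow_mul, ← hab, pow_orderOf_eq_one]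
      have h3 : r ^ 2 ^ a = 1 := by
        by_contra hne
        exact hcon _ hne ho (CfsgL0.conj_pow_of_inverts (CfsgL0.left_inverts_mul h1 h2) _)
      refine (CfsgL0.isPGroup_closure_pair h1 h2 h3).to_le (sup_le ?_ ?_)
      · exact Subgroup.zpowers_le_of_mem (Subgroup.subset_closure (by simp))
      · show CfsgL0.cj g _ ≤ _
        rw [CfsgL0.cj_zpowers]
        exact Subgroup.zpowers_le_of_mem (Subgroup.subset_closure (by simp)))
  exact hO N hN hNp (hle (Subgroup.mem_zpowers t))

end Cfsg.Agent.S0200
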