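import Cfsg.Statements.S0223
import Mathlib
import Cfsg.Agent.L0.StrEmb

set_option autoImplicit false
open Cfsg

namespace Cfsg.Agent.S0223

/-- Let H be a proper subgroup of even order of the finite group G. Then H is strongly embedded if and only if (i) C_G(t) ≤ H for every involution t of H and (ii) H controls fusion of its involutions: involutions of H conjugate in G are conjugate in H. -/
theorem result {G : Type*} [Group G] [Finite G] (H : Subgroup G) (hH : H ≠ ⊤) (heven : Even (Nat.card H)) : Cfsg.IsStronglyEmbedded H ↔ ((∀ t ∈ H, orderOf t = 2 → Subgroup.centralizer ({t} : Set G) ≤ H) ∧ (∀ t ∈ H, ∀ s ∈ H, orderOf t = 2 → orderOf s = 2 → IsConj t s → ∃ h ∈ H, h * t * h⁻¹ = s)) := by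
  constructor
  · intro h
    refine ⟨fun t ht ho g hg => CfsgL0.se_mem_of_commute h ht ho
      (Subgroup.mem_centralizer_singleton_iff.1 hg), fun t ht s hs ho hso _ => ?_⟩
    exact CfsgL0.se_conj_in h ho hso ht hs
  · rintro ⟨h1, h2⟩
    refine CfsgL0.se_iff.2 ⟨hH, CfsgL0.even_card_iff.1 heven, fun t ht ho g hg => ?_⟩
    obtain ⟨k, hk, e⟩ := h2 t ht _ hg ho (by rw [CfsgL0.orderOf_conj, ho]) (isConj_iff.2 ⟨g, rfl⟩)
    have : k⁻¹ * g ∈ H := h1 t ht ho (Subgroup.mem_centralizer_singleton_iff.2 (by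
      calc k⁻¹ * g * t = k⁻¹ * (g * t * g⁻¹) * g := by group
        _ = _ := by rw [← e]; group))
    exact (H.mul_mem_cancel_left (H.inv_mem hk)).1 this

end Cfsg.Agent.S0223
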