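import Cfsg.Statements.S0654
import Mathlib
import Cfsg.Agent.L0.ZJ

set_option autoImplicit false
open Cfsg

namespace Cfsg.Agent.S0654

open Cfsg Subgroup CfsgH2 CfsgL0

/-- The ZJ-Theorem for the elementary-abelian Thompson subgroup: for an odd prime p, a finite group G with C_G(O_p(G)) ≤ O_p(G) acting p-stably on its normal p-subgroups, and a Sylow p-subgroup S of G, the subgroup generated by the elements of order dividing p in Z(J_e(S)) is characteristic in G. -/
theorem result {G : Type*} [Group G] [Finite G] {p : ℕ} [Fact p.Prime] (hp : p ≠ 2) (hc : Subgroup.centralizer (Cfsg.pCore p G : Set G) ≤ Cfsg.pCore p G) (hst : ∀ (P : Subgroup G) [P.Normal], IsPGroup p P → Cfsg.IsPStableOn p P) (S : Sylow p G) : ((Cfsg.omegaCenterThompson p ↥(S : Subgroup G)).map (S : Subgroup G).subtype).Characteristic := by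
  rw [map_omegaCT]
  exact char_of_syl (fun P => omegaOne p Z[J[p, P]]) (syl_top S)
    (zj_omega hp (nst_top_of hst) (con_top_iff.1 hc) (syl_top S) SCl.refl)
    fun f hf => by rw [inj_J hf, inj_inf_cent hf, inj_omegaOne hf]

end Cfsg.Agent.S0654
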