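import Cfsg.Statements.S5913


set_option autoImplicit false
open Cfsg

namespace Cfsg.Agent.S5913

theorem aux {S ι : Type*} [Group S] [IsSimpleGroup S] [DecidableEq ι] (hS : ¬ IsMulCommutative S)
    (N : Subgroup (ι → S)) [hN : N.Normal] (i : ι) (x : ι → S) (hx : x ∈ N) (hi : x i ≠ 1) (s : S) :
    Pi.mulSingle i s ∈ N := by
  have hc : Subgroup.center S = ⊥ := by
    rcases (inferInstance : (Subgroup.center S).Normal).eq_bot_or_eq_top with h | h
    · exact h
    · exfalso; apply hS
      exact ⟨⟨fun a b => (Subgroup.mem_center_iff.mp (h ▸ Subgroup.mem_top b) a)⟩⟩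
  have hn : (N.comap (MonoidHom.mulSingle (fun _ : ι => S) i)).Normal := hN.comap _
  rcases hn.eq_bot_or_eq_top with h | h
  · exfalso
    apply hi
    rw [← Subgroup.mem_bot, ← hc, Subgroup.mem_center_iff]
    intro t
    have h1 : Pi.mulSingle i t * x * (Pi.mulSingle i t)⁻¹ * x⁻¹ ∈ N := N.mul_mem (hN.conj_mem x hx _) (N.inv_mem hx)
    have h2 : Pi.mulSingle i t * x * (Pi.mulSingle i t)⁻¹ * x⁻¹ = (Pi.mulSingle i (t * x i * t⁻¹ * (x i)⁻¹) : ι → S) := by
      funext j
      by_cases hj : j = i
      · subst hj; simp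
      · simp [hj]
    rw [h2] at h1
    have : t * x i * t⁻¹ * (x i)⁻¹ ∈ N.comap (MonoidHom.mulSingle (fun _ : ι => S) i) := h1
    rw [h, Subgroup.mem_bot] at this
    calc t * x i = t * x i * t⁻¹ * (x i)⁻¹ * (x i * t) := by group
      _ = x i * t := by rw [this, one_mul]
  · have : s ∈ N.comap (MonoidHom.mulSingle (fun _ : ι => S) i) := h ▸ Subgroup.mem_top s
    exact this

/-- Let S be a non-abelian simple group and n a natural number. Every normal subgroup N of the direct power S^n (functions Fin n → S) is a subproduct: there is a set T of coordinates such that N consists exactly of the elements whose coordinates outside T are trivial. In particular the minimal normal subgroups of S^n are its n factors. -/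
theorem result {S : Type*} [Group S] [IsSimpleGroup S] (hS : ¬ IsMulCommutative S) (n : ℕ)
    (N : Subgroup (Fin n → S)) [N.Normal] :
    ∃ T : Finset (Fin n), ∀ x : Fin n → S, x ∈ N ↔ ∀ i, i ∉ T → x i = 1 := by
  classical
  refine ⟨Finset.univ.filter (fun i => ∃ x ∈ N, x i ≠ 1), fun x => ⟨fun hx i hi => ?_, fun h => ?_⟩⟩
  · by_contra hne
    exact hi (by simpa using ⟨x, hx, hne⟩)
  · apply Subgroup.pi_mem_of_mulSingle_mem
    intro i
    by_cases hi : x i = 1
    · simp [hi]
    · have : i ∈ Finset.univ.filter (fun i => ∃ x ∈ N, x i ≠ 1) := by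
        by_contra hc; exact hi (h i hc)
      obtain ⟨y, hy, hyi⟩ := (Finset.mem_filter.mp this).2
      exact aux hS N i y hy hyi _

end Cfsg.Agent.S5913
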