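import Cfsg.Statements.S5914
import Cfsg.Agent.S5913

set_option autoImplicit false
open Cfsg

namespace Cfsg.Agent.S5914

theorem struct {G : Type*} [Group G] [Finite G] [Nontrivial G] (h : ∀ H : Subgroup G, H.Characteristic → H = ⊥ ∨ H = ⊤) :
    ∃ (S : Type) (_ : Group S) (_ : IsSimpleGroup S) (n : ℕ), 1 ≤ n ∧ Nonempty (G ≃* (Fin n → S)) := by
  classical
  obtain ⟨N, ⟨hN, hN0⟩, hmin⟩ := exists_minimalFor_of_wellFoundedLT (fun N : Subgroup G => N.Normal ∧ N ≠ ⊥)
    (fun N => Nat.card N) ⟨⊤, inferInstance, top_ne_bot⟩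
  have hmin' : ∀ K : Subgroup G, K.Normal → K ≠ ⊥ → Nat.card N ≤ Nat.card K := fun K h1 h2 => by
    by_contra hc
    exact hc (hmin ⟨h1, h2⟩ (not_le.mp hc).le)
  obtain ⟨M, ⟨hM, n, ψ, hψ, hr⟩, hmax⟩ := exists_maximalFor_of_wellFoundedGT
    (fun M : Subgroup G => M.Normal ∧ ∃ (n : ℕ) (ψ : (Fin n → N) →* G), Function.Injective ψ ∧ ψ.range = M) id
    ⟨⊥, inferInstance, 0, 1, Function.injective_of_subsingleton _, by simp⟩
  have hall : ∀ φ : G ≃* G, N.map φ.toMonoidHom ≤ M := by
    intro φ
    have hW : (N.map φ.toMonoidHom).Normal := hN.map _ φ.surjective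
    have hc : Nat.card (N.map φ.toMonoidHom) = Nat.card N := Subgroup.card_map_of_injective φ.injective
    by_cases hd : N.map φ.toMonoidHom ⊓ M = ⊥
    · have hcomm : ∀ (a : N) (b : Fin n → N), Commute ((φ.toMonoidHom.comp N.subtype) a) (ψ b) := fun a b =>
        Subgroup.commute_of_normal_of_disjoint _ _ hW hM (disjoint_iff.mpr hd) _ _ ⟨a, a.2, rfl⟩ (hr ▸ ⟨b, rfl⟩)
      have hr1 : (φ.toMonoidHom.comp N.subtype).range = N.map φ.toMonoidHom := by
        rw [MonoidHom.range_comp, Subgroup.range_subtype]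
      let e : (Fin (n + 1) → N) ≃* N × (Fin n → N) := { (Fin.consEquiv (fun _ => N)).symm with map_mul' := fun _ _ => rfl }
      have := hmax (j := N.map φ.toMonoidHom ⊔ M) ⟨inferInstance, n + 1, (MonoidHom.noncommCoprod _ _ hcomm).comp e.toMonoidHom, ?_, ?_⟩ le_sup_right
      · exact le_sup_left.trans this
      · rw [MonoidHom.coe_comp]
        refine Function.Injective.comp ?_ e.injective
        rw [MonoidHom.noncommCoprod_injective]
        exact ⟨φ.injective.comp N.subtype_injective, hψ, by rw [hr1, hr]; exact disjoint_iff.mpr hd⟩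
      · rw [MonoidHom.range_comp, MonoidHom.range_eq_top.mpr e.surjective, ← MonoidHom.range_eq_map, MonoidHom.noncommCoprod_range, hr1, hr]
    · have h1 := hmin' _ inferInstance hd
      have := Subgroup.eq_of_le_of_card_ge (inf_le_left : N.map φ.toMonoidHom ⊓ M ≤ _) (hc ▸ h1)
      exact this ▸ inf_le_right
  have hMt : M = ⊤ := by
    have hch : (⨆ φ : G ≃* G, N.map φ.toMonoidHom).Characteristic := by
      rw [Subgroup.characteristic_iff_map_le]
      intro φ
      rw [Subgroup.map_iSup]
      refine iSup_le fun χ => le_iSup_of_le (χ.trans φ) ?_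
      rw [Subgroup.map_map]; rfl
    rcases h _ hch with h1 | h1
    · exfalso; apply hN0
      have := le_iSup (fun φ : G ≃* G => N.map φ.toMonoidHom) (MulEquiv.refl G)
      rw [h1] at this
      simpa using this
    · rw [eq_top_iff, ← h1]; exact iSup_le hall
  have hsurj : Function.Surjective ψ := MonoidHom.range_eq_top.mp (hr.trans hMt)
  have hn : 1 ≤ n := by
    rcases n with _ | n
    · exact absurd hsurj.subsingleton (not_subsingleton G)
    · omega
  have hNs : IsSimpleGroup N := by
    haveI := (Subgroup.nontrivial_iff_ne_bot N).mpr hN0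
    refine ⟨fun K hK => ?_⟩
    by_cases hK0 : K = ⊥
    · exact Or.inl hK0
    right
    let i : Fin n := ⟨0, hn⟩
    have hinj : Function.Injective (ψ.comp (MonoidHom.mulSingle (fun _ : Fin n => N) i)) :=
      hψ.comp (Pi.mulSingle_injective (M := fun _ : Fin n => N) i)
    have h1 : (K.map (MonoidHom.mulSingle (fun _ : Fin n => N) i)).Normal := by
      constructor
      rintro _ ⟨k, hk, rfl⟩ g
      refine ⟨g i * k * (g i)⁻¹, hK.conj_mem k hk _, ?_⟩
      funext j
      by_cases hj : j = i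
      · subst hj; simp
      · simp [hj]
    have h2 := hmin' (K.map (ψ.comp (MonoidHom.mulSingle (fun _ : Fin n => N) i))) (by rw [← Subgroup.map_map]; exact h1.map _ hsurj)
      (by rwa [Ne, Subgroup.map_eq_bot_iff_of_injective _ hinj])
    rw [Subgroup.card_map_of_injective hinj] at h2
    exact Subgroup.eq_top_of_le_card _ h2
  obtain ⟨S, _, _, ⟨e⟩⟩ := Finite.exists_type_univ_nonempty_mulEquiv.{_, 0} N
  exact ⟨S, inferInstance, e.symm.isSimpleGroup, n, hn, ⟨(MulEquiv.ofBijective ψ ⟨hψ, hsurj⟩).symm.trans (MulEquiv.piCongrRight fun _ => e)⟩⟩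

theorem pi_char {S : Type*} [Group S] [IsSimpleGroup S] (n : ℕ) (H : Subgroup (Fin n → S)) (hH : H.Characteristic) :
    H = ⊥ ∨ H = ⊤ := by
  classical
  by_cases h0 : H = ⊥
  · exact Or.inl h0
  right
  obtain ⟨⟨x, hx⟩, hx1⟩ := Subgroup.ne_bot_iff_exists_ne_one.mp h0
  obtain ⟨i, hi⟩ : ∃ i, x i ≠ 1 := by
    by_contra hc; push Not at hc; exact hx1 (Subtype.ext (funext hc))
  have hφ : ∀ (φ : (Fin n → S) ≃* (Fin n → S)) y, y ∈ H → φ y ∈ H := fun φ y hy =>
    Subgroup.characteristic_iff_map_le.mp hH φ ⟨y, hy, rfl⟩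
  have hsw : ∀ (i j : Fin n) (s : S), Pi.mulSingle i s ∈ H → Pi.mulSingle j s ∈ H := by
    intro i j s hs
    have := hφ (MulEquiv.arrowCongr (Equiv.swap i j) (MulEquiv.refl S)) _ hs
    convert this using 1
    funext k
    simp [Pi.mulSingle_apply, Equiv.swap_apply_eq_iff]
  suffices hs : ∃ j, ∀ s, Pi.mulSingle j s ∈ H by
    obtain ⟨j, hj⟩ := hs
    rw [eq_top_iff]; intro y _
    exact Subgroup.pi_mem_of_mulSingle_mem y (fun k => hsw j k _ (hj _))
  by_cases hS : IsMulCommutative S
  · have key : ∀ j : Fin n, Pi.mulSingle j (x i) ∈ H → ∀ s, Pi.mulSingle j s ∈ H := by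
      intro j hj s
      have hn : (H.comap (MonoidHom.mulSingle (fun _ : Fin n => S) j)).Normal := inferInstance
      rcases hn.eq_bot_or_eq_top with h | h
      · exact absurd (show x i ∈ (⊥ : Subgroup S) from h ▸ hj) (by simpa using hi)
      · exact (h ▸ Subgroup.mem_top s : s ∈ H.comap (MonoidHom.mulSingle (fun _ : Fin n => S) j))
    by_cases hj : ∃ j, j ≠ i
    · obtain ⟨j, hj⟩ := hj
      let φ : (Fin n → S) ≃* (Fin n → S) :=
        { toFun := fun y => y * Pi.mulSingle j (y i)
          invFun := fun y => y * Pi.mulSingle j (y i)⁻¹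
          left_inv := fun y => by simp [hj.symm, mul_assoc, ← Pi.mulSingle_mul]
          right_inv := fun y => by simp [hj.symm, mul_assoc, ← Pi.mulSingle_mul]
          map_mul' := fun y z => by
            funext k
            simp only [Pi.mul_apply, Pi.mulSingle_mul]
            rw [mul_assoc, mul_assoc, ← mul_assoc (z k), hS.1.1 (z k), mul_assoc] }
      refine ⟨j, key j ?_⟩
      have := H.mul_mem (H.inv_mem hx) (hφ φ x hx)
      simpa [φ] using this
    · push Not at hj
      refine ⟨i, key i ?_⟩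
      convert hx
      funext k; rw [hj k]; simp
  · exact ⟨i, Cfsg.Agent.S5913.aux hS H i x hx hi⟩

/-- A non-trivial finite group G is characteristically simple (its only characteristic subgroups are 1 and G) if and only if G is isomorphic to a direct power S^n (n ≥ 1) of some simple group S (possibly cyclic of prime order). -/
theorem result {G : Type*} [Group G] [Finite G] [Nontrivial G] :
    (∀ H : Subgroup G, H.Characteristic → H = ⊥ ∨ H = ⊤) ↔
    ∃ (S : Type) (_ : Group S) (_ : IsSimpleGroup S) (n : ℕ), 1 ≤ n ∧ Nonempty (G ≃* (Fin n → S)) := by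
  refine ⟨struct, ?_⟩
  rintro ⟨S, _, _, n, -, ⟨e⟩⟩ H hH
  have : (H.map e.toMonoidHom).Characteristic := by
    rw [Subgroup.characteristic_iff_map_le] at *
    rintro φ _ ⟨_, ⟨x, hx, rfl⟩, rfl⟩
    exact ⟨_, hH (e.trans (φ.trans e.symm)) ⟨x, hx, rfl⟩, by simp⟩
  rcases pi_char n _ this with h | h
  · left; exact (Subgroup.map_eq_bot_iff_of_injective _ e.injective).mp h
  · right
    apply Subgroup.map_injective (f := e.toMonoidHom) e.injective
    rw [h, Subgroup.map_top_of_surjective _ e.surjective]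

end Cfsg.Agent.S5914
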