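import Cfsg.Statements.S0848
import Mathlib
import Cfsg.Agent.L0.D8E

set_option autoImplicit false
open Cfsg

namespace Cfsg.Agent.S0848

open Subgroup CfsgH2 CfsgL0

/-- If a finite group equals its own commutator subgroup and contains an involution whose centralizer is isomorphic to the dihedral group of order 8, then the group has order 168 or 360. -/
theorem result {G : Type*} [Group G] [Finite G] (hperf : commutator G = ⊤) (t : G) (ht : orderOf t = 2) (e : Subgroup.centralizer ({t} : Set G) ≃* DihedralGroup 4) : Nat.card G = 168 ∨ Nat.card G = 360 := by
  rcases d8_main ht e with h | ⟨⟨H, hH⟩, -⟩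
  · exact h.2
  · have := normal_of_index_eq_two hH
    have h1 : IsCyclic (G ⧸ H) := isCyclic_of_prime_card (p := 2) hH
    have h2 := Normal.quotient_commutative_iff_commutator_le.1 (IsCyclic.isMulCommutative (α := G ⧸ H))
    rw [hperf, top_le_iff] at h2
    simp [h2] at hH

end Cfsg.Agent.S0848
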