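import Cfsg.Statements.S0877
import Cfsg.Agent.H3.Misc2

set_option autoImplicit false
open Cfsg

namespace Cfsg.Agent.S0877
open CfsgH3

/-- Let H be a subgroup of the finite group G whose order is coprime to its index. Suppose that elements of H conjugate in G are conjugate in H, and that every subgroup E of G that is elementary for some prime (in the sense used for Brauer's characterisation of characters) and whose order divides the order of H is conjugate to a subgroup of H. Then there is a normal subgroup K with K ⊔ H = ⊤ and K ⊓ H trivial. -/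
theorem result {G : Type*} [Group G] [Finite G] (H : Subgroup G) (hHall : Nat.Coprime (Nat.card H) H.index) (hfus : ∀ x ∈ H, ∀ y ∈ H, IsConj x y → ∃ h ∈ H, h * x * h⁻¹ = y) (helem : ∀ (E : Subgroup G) (p : ℕ), p.Prime → Cfsg.IsElementary p E → Nat.card E ∣ Nat.card H → ∃ g : G, E.map (MulAut.conj g).toMonoidHom ≤ H) : ∃ K : Subgroup G, K.Normal ∧ K ⊔ H = ⊤ ∧ K ⊓ H = ⊥ := by
  classical
  obtain ⟨k, hk⟩ := exists_pow_coprime_part hHall.symm
  have hmn : Nat.card G = H.index * Nat.card H := H.index_mul_card.symm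
  have hpow : ∀ x : G, orderOf (x ^ k) ∣ Nat.card H := by
    intro x
    obtain ⟨a, b, h1, h2, h3⟩ := exists_pow_decomp x hHall.symm (hmn ▸ pow_card_eq_one')
    have h4 := orderOf_dvd_of_pow_eq_one h2
    have h5 := orderOf_dvd_of_pow_eq_one h3
    rwa [h1, hk G _ _ (Commute.pow_pow_self x a b) h4 h5]
  have hex : ∀ x : G, ∃ h : H, IsConj (x ^ k) h := by
    intro x
    obtain ⟨p, hp1, hp⟩ := Nat.exists_infinite_primes (Nat.card G + 1)
    obtain ⟨g, hg⟩ := helem (Subgroup.zpowers (x ^ k)) p hp ⟨⟨_, Subgroup.mem_zpowers _⟩, by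
      letI := IsCyclic.commGroup (α := Subgroup.zpowers (x ^ k))
      rw [Subgroup.mem_center_iff]
      exact fun y => mul_comm y _, by
      rw [← Subgroup.orderOf_coe]
      exact (Nat.coprime_of_lt_prime (orderOf_pos _).ne' (by
        have := orderOf_le_card (x := x ^ k); show orderOf (x ^ k) < p; omega) hp).symm, 0, by
      rw [pow_zero, Subgroup.index_eq_one, eq_top_iff]
      rintro ⟨_, j, rfl⟩ -
      exact ⟨j, rfl⟩⟩ (by rw [Nat.card_zpowers]; exact hpow x)
    exact ⟨⟨_, hg ⟨_, Subgroup.mem_zpowers _, rfl⟩⟩, isConj_iff.2 ⟨g, rfl⟩⟩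
  choose r hr using hex
  have hfus' : ∀ a b : H, IsConj (a : G) b → IsConj a b := fun a b h => by
    obtain ⟨y, hy, h⟩ := hfus a a.2 b b.2 h
    exact isConj_iff.2 ⟨⟨y, hy⟩, Subtype.ext h⟩
  obtain ⟨K, h1, h2, -⟩ := exists_normal_complement_of_retraction H r (fun h => hfus' _ _ (by
    have := hr h
    have e := hk G 1 h (Commute.one_left _) (by simp) (CfsgH1.orderOf_dvd_card_of_mem h.2)
    rw [one_mul] at e
    rw [e] at this
    exact this.symm)) (fun φ hφ => by
    refine isGen_of_elementary (fun a b => hφ.isClassFunction.eq_of_isConj (hfus' _ _ ?_))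
      fun E q hq hE => ?_
    · refine (hr _).symm.trans (IsConj.trans ?_ (hr a))
      rw [conj_pow]
      exact (isConj_iff.2 ⟨b, rfl⟩).symm
    · have := hE.isNilpotent hq
      obtain ⟨A, B, hAn, hBn, hc, hcomm, hA, hB, hmem⟩ := exists_nilpotent_split (E := E) (Nat.card H)
      have hBd : Nat.card B ∣ Nat.card H := by
        have h1 : (Nat.card B).Coprime H.index := Nat.coprime_of_dvd fun r hr h1 h2 =>
          hr.one_lt.ne' (Nat.eq_one_of_dvd_coprimes hHall (hB r hr h1) h2)
        exact h1.dvd_of_dvd_mul_left (hmn ▸ (Subgroup.card_subgroup_dvd_card B).trans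
          (Subgroup.card_subgroup_dvd_card E))
      have hAd : Nat.card A ∣ H.index :=
        hA.dvd_of_dvd_mul_right (hmn ▸ (Subgroup.card_subgroup_dvd_card A).trans
          (Subgroup.card_subgroup_dvd_card E))
      obtain ⟨g, hg⟩ := helem (B.map E.subtype) q hq (hE.mono hq (Subgroup.map_subtype_le _))
        (by rwa [Subgroup.card_map_of_injective E.subtype_injective])
      have hab : ∀ a ∈ A, ∀ b ∈ B, (a * b) ^ k = b := fun a ha b hb =>
        hk E a b (hcomm a ha b hb) ((CfsgH1.orderOf_dvd_card_of_mem ha).trans hAd)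
          ((CfsgH1.orderOf_dvd_card_of_mem hb).trans hBd)
      have hdec : ∀ e : E, ∃ a ∈ A, ∃ b ∈ B, e = a * b := fun e =>
        CfsgH1.mem_sup_normal_left.1 (hc.sup_eq_top ▸ Subgroup.mem_top e)
      let f : E →* H :=
        { toFun := fun e => ⟨g * (e : G) ^ k * g⁻¹, hg ⟨(e : G) ^ k, ⟨e ^ k, by
            obtain ⟨a, ha, b, hb, rfl⟩ := hdec e
            rw [hab a ha b hb]; exact hb, rfl⟩, rfl⟩⟩
          map_one' := Subtype.ext (by simp)
          map_mul' := fun x y => Subtype.ext (by
            obtain ⟨a, ha, b, hb, rfl⟩ := hdec x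
            obtain ⟨a', ha', b', hb', rfl⟩ := hdec y
            have e : a * b * (a' * b') = (a * a') * (b * b') := by
              rw [mul_assoc, ← mul_assoc b, ← (hcomm a' ha' b hb).eq]; simp only [mul_assoc]
            change g * (((a * b * (a' * b')) ^ k : E) : G) * g⁻¹ =
              g * (((a * b) ^ k : E) : G) * g⁻¹ * (g * (((a' * b') ^ k : E) : G) * g⁻¹)
            rw [e, hab _ (A.mul_mem ha ha') _ (B.mul_mem hb hb'), hab a ha b hb, hab a' ha' b' hb',
              Subgroup.coe_mul]
            group) }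
      have : (fun e : E => φ (r e)) = fun e => φ (f e) := by
        ext e
        exact hφ.isClassFunction.eq_of_isConj (hfus' _ _ ((hr _).symm.trans (isConj_iff.2 ⟨g, rfl⟩)))
      rw [this]
      exact hφ.isGen.comp f)
  exact ⟨K, h1, h2.sup_eq_top, h2.disjoint.eq_bot⟩


end Cfsg.Agent.S0877
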