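import Cfsg.Statements.S0999
import Mathlib
import Cfsg.Agent.H4.Br4

set_option autoImplicit false
open Cfsg

open Cfsg CfsgH3 CfsgH4 CfsgH1 Function
open scoped ComplexConjugate Pointwise

namespace Cfsg.Agent.S0999

/-- Let G be a non-cyclic finite simple group and p a prime divisor of its order with p^3 > |G|. Then p > 3 and G is isomorphic to the projective special linear group of dimension 2 over the field with p elements, or p - 1 is a power of 2 and G is isomorphic to that group over the field with p - 1 elements. -/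
theorem result {G : Type*} [Group G] [Finite G] [IsSimpleGroup G] (hG : ¬ IsCyclic G) (p : ℕ) (hp : p.Prime) (hdvd : p ∣ Nat.card G) (hbig : Nat.card G < p ^ 3) : (∃ (F : Type) (_ : Field F) (_ : Fintype F), Fintype.card F = p ∧ 3 < p ∧ Nonempty (G ≃* Matrix.ProjectiveSpecialLinearGroup (Fin 2) F)) ∨ (∃ (m : ℕ) (F : Type) (_ : Field F) (_ : Fintype F), Fintype.card F = 2 ^ m ∧ p = 2 ^ m + 1 ∧ 3 < p ∧ Nonempty (G ≃* Matrix.ProjectiveSpecialLinearGroup (Fin 2) F)) := by
  have := Fact.mk hp
  obtain ⟨P⟩ : Nonempty (Sylow p G) := inferInstance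
  have hc : commutator G = ⊤ := (IsSimpleGroup.eq_bot_or_eq_top_of_normal _ inferInstance).resolve_left
    fun e => hG (by
      letI : CommGroup G := { mul_comm := fun a b => (Subgroup.commutator_eq_bot_iff_le_centralizer.1 e) (Subgroup.mem_top b) a trivial }
      infer_instance)
  have hO : pPrimeCore p G = ⊥ := (IsSimpleGroup.eq_bot_or_eq_top_of_normal _ inferInstance).resolve_right
    fun e => not_dvd_card_pPrimeCore p (by rwa [e, Subgroup.card_top])
  refine ((brauer_small hc hdvd hbig P fun hn => ?_).of_equiv
    ((QuotientGroup.quotientMulEquivOfEq hO).trans QuotientGroup.quotientBot)).psl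
  have a := (IsSimpleGroup.eq_bot_or_eq_top_of_normal _ hn).resolve_left (P.ne_bot_of_dvd_card hdvd)
  have b : IsPGroup p G := (a ▸ P.2 : IsPGroup p (⊤ : Subgroup G)).of_equiv Subgroup.topEquiv
  have := b.isNilpotent
  exact (IsSolvable.commutator_lt_top_of_nontrivial G).ne hc

end Cfsg.Agent.S0999
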