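import Cfsg.Statements.S1075
import Mathlib
import Cfsg.Agent.H6.Ree3
import Cfsg.Agent.L0.C8

set_option autoImplicit false
open Cfsg

namespace Cfsg.Agent.S1075

open Subgroup CfsgH2 CfsgH6 Cfsg

variable {R : Type*} [Group R] (X : Ree R (ZMod 3) 0)

theorem cR (X : Ree R (ZMod 3) 0) : Nat.card R = 1512 := X.card

theorem c7 (X : Ree R (ZMod 3) 0) {x : R} (h3 : ¬ 3 ∣ orderOf x) (h2 : x ^ 2 ≠ 1) : o[C1[x]] = 7 := by
  have := X.finite
  obtain ⟨N, c, h, h1, h4, -⟩ := X.tor h3 h2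
  have k := h4 ▸ Set.ncard_le_card _
  have d := orderOf_dvd_of_mem (mem_centralizer_singleton_iff.2 (rfl : x * x = x * x))
  have : N ≠ 2 := fun e => h2 (orderOf_dvd_iff_pow_eq_one.1 (e ▸ h1 ▸ d))
  omega

theorem nrm {K N : Subgroup R} [K.Normal] (hK : K.index ∣ 3) (cj : ∀ x, orderOf x = 2 → ∃ k ∈ K, k * x * k⁻¹ = X.z) (l : N ≤ K)
    (n : K ≤ N[N]) (h0 : N ≠ ⊥) : o[N] = 504 ∨ o[N] = 1512 := by
  have := X.finite
  have : Fact (Nat.Prime 2) := ⟨Nat.prime_two⟩
  have : Fact (Nat.Prime 7) := ⟨by norm_num⟩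
  have d : o[N] ∣ 1512 := cR X ▸ card_subgroup_dvd_card N
  have two {x : R} {k : ℕ} (h : orderOf x = 2 ^ k) : x ^ 2 = 1 := by_contra fun h2 => by
    have e := c7 X (fun d => absurd (Nat.prime_three.dvd_of_dvd_pow (h ▸ d)) (by norm_num)) h2
    have d := e ▸ h ▸ orderOf_dvd_of_mem (mem_centralizer_singleton_iff.2 (rfl : x * x = x * x))
    rcases k with _ | k
    · exact h2 (by rw [orderOf_eq_one_iff.1 h, one_pow])
    · exact absurd ((dvd_pow_self 2 k.succ_ne_zero).trans d) (by norm_num)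
  have al (h : 2 ∣ o[N]) (x) (ox : orderOf x = 2) : x ∈ N := by
    obtain ⟨y, hy, oy⟩ := exists_prime_order_mem Nat.prime_two h
    obtain ⟨k, hk, e⟩ := cj x ox
    obtain ⟨k', hk', e'⟩ := cj y oy
    have := conj_mem_of_norm (n (inv_mem hk)) (e ▸ e' ▸ conj_mem_of_norm (n hk') hy)
    simpa [mul_assoc] using this
  have ev (h : 2 ∣ o[N]) : 8 ∣ o[N] := by
    obtain ⟨S, hS⟩ := exists_syl 2 (⊤ : Subgroup R)
    refine (hS.pow_dvd (k := 3) (by rw [card_top, cR X]; norm_num)).trans (card_dvd_of_le fun x hx => ?_)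
    obtain ⟨k, hk⟩ := pgroup_mem_order hS.pg hx
    by_cases x1 : x = 1
    exacts [x1 ▸ one_mem _, al h x (orderOf_eq_prime (two hk) x1)]
  have in7 {x : R} (h : orderOf x = 7) : x ∈ K := by
    obtain ⟨j, hj⟩ := hK
    have : (x ^ K.index) ^ (j * 5) ∈ K := pow_mem (K.pow_index_mem x) _
    rwa [← pow_mul, ← mul_assoc, ← hj, (by norm_num : 3 * 5 = 7 * 2 + 1), pow_succ, pow_mul, ← h, pow_orderOf_eq_one, one_pow,
      one_mul] at this
  have cc {x : R} (h : orderOf x = 7) : o[C1[x]] = 7 := c7 X (by rw [h]; norm_num) fun e =>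
    absurd (h ▸ orderOf_dvd_of_pow_eq_one e) (by norm_num)
  by_cases h7 : 7 ∣ o[N]
  · obtain ⟨y, hy, oy⟩ := exists_prime_order_mem (by norm_num) h7
    obtain ⟨T, hT, lT⟩ := exists_syl_ge (isPGroup_zpowers (p := 7) (k := 1) (by rw [pow_one, ← oy, pow_orderOf_eq_one])) (zpowers_le.2 (in7 oy))
    have eT : zpowers y = T := eq_of_le_of_card_le lT (by
      obtain ⟨k, hk⟩ := IsPGroup.iff_card.1 hT.pg
      have := hk ▸ cR X ▸ card_subgroup_dvd_card T
      rw [Nat.card_zpowers, oy, hk]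
      rcases k with _ | _ | k
      exacts [by norm_num, le_rfl, absurd ((Dvd.intro_left _ (pow_add 7 k 2).symm).trans this) (by norm_num)])
    have k : MulAction.orbit (ConjAct R) y ⊆ N := by
      rintro _ ⟨g, rfl⟩
      have og : orderOf (g • y) = 7 := ((MulAut.conj (ConjAct.ofConjAct g)).orderOf_eq y).trans oy
      obtain ⟨u, hu, e⟩ := hT.exists_conj_le (isPGroup_zpowers (k := 1) (by rw [pow_one, ← og, pow_orderOf_eq_one]))
        (zpowers_le.2 (in7 og))
      have := conj_mem_of_norm (n (inv_mem hu)) (zpowers_le.2 hy (eT.ge (e ⟨_, mem_zpowers _, rfl⟩)))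
      simpa [mul_assoc] using this
    have k1 := Set.ncard_le_ncard k
    have k2 := C1[y].card_mul_index
    have k0 : C1[y].index = (MulAction.stabilizer (ConjAct R) y).index := by
      rw [centralizer_eq_comap_stabilizer]; exact index_comap_of_surjective _ ConjAct.toConjAct.surjective
    rw [← MulAction.index_stabilizer, ← k0] at k1
    rw [cc oy, cR X] at k2
    have k3 : 216 ≤ o[N] := by change _ ≤ Nat.card N at k1; omega
    generalize o[N] = m at *
    exact (by decide +kernel : ∀ m ≤ 1512, m ∣ 1512 ∧ 216 ≤ m ∧ (2 ∣ m → 8 ∣ m) → m = 504 ∨ m = 1512 ∨ ¬ 7 ∣ m) m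
      (Nat.le_of_dvd (by norm_num) d) ⟨d, k3, ev⟩ |>.imp_right (·.resolve_right (not_not.2 h7))
  obtain ⟨y, -, oy⟩ := exists_prime_order_mem (H := (⊤ : Subgroup R)) (p := 7) (by norm_num) (by rw [card_top, cR X]; norm_num)
  have m := card_modEq_inf_cent (isPGroup_zpowers (p := 7) (k := 1) (by rw [pow_one, ← oy, pow_orderOf_eq_one]))
    ((zpowers_le.2 (in7 oy)).trans n)
  have b : o[N ⊓ C[zpowers y]] = 1 := Nat.eq_one_of_dvd_coprimes ((Nat.Prime.coprime_iff_not_dvd (by norm_num)).2 h7)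
    (cc oy ▸ card_dvd_of_le fun x hx => mem_centralizer_singleton_iff.2 (hx.2 y (mem_zpowers y)).symm) (card_dvd_of_le inf_le_left)
  have e8 : o[N] = 8 := (by decide +kernel : ∀ m ≤ 1512, m ∣ 1512 → (2 ∣ m → 8 ∣ m) → m % 7 = 1 % 7 → m ≠ 1 → m = 8) _
    (Nat.le_of_dvd (by norm_num) d) d ev (b ▸ m) fun e => h0 (card_eq_one.1 e)
  have z1 := al (by rw [e8]; norm_num) _ X.order_z
  have z2 := al (by rw [e8]; norm_num) _ (((MulAut.conj (X.w 1 0 0)).orderOf_eq _).trans X.order_z)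
  have z3 : X.z * X.w 1 0 0 * X.z⁻¹ * (X.w 1 0 0)⁻¹ ∈ N ⊓ X.U := mem_inf.2 ⟨by simpa [mul_assoc] using mul_mem z1 (inv_mem z2),
    mul_mem (X.z_w 1 0 0 ▸ X.w_mem ..) (inv_mem (X.w_mem ..))⟩
  rw [inf_eq_bot_of_coprime' (by rw [e8, X.card_U]; decide), mem_bot, mul_inv_eq_one, X.z_w] at z3
  exact absurd (X.w_inj z3).1 (by decide)

theorem not_mem : X.w 0 1 0 ∉ commutator R := fun k => by
  have := X.finite
  let L (g : R) (c : ZMod 3) : Prop := ∃ t v, g = X.w t (t ^ 2 + c) v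
  have mu {g g' c c'} : L g c → L g' c' → L (g * g') (c + c') := by
    rintro ⟨t, v, rfl⟩ ⟨t', v', rfl⟩
    exact ⟨t + t', _, by rw [X.w_mul]; congr 1; revert t t' c c'; decide⟩
  have iv {g c} : L g c → L g⁻¹ (-c) := by
    rintro ⟨t, v, rfl⟩
    exact ⟨-t, _, by rw [X.w_inv]; congr 1; revert t c; decide⟩
  have ex {g} (h : g ∈ X.U) : ∃ c, L g c := by
    obtain ⟨t, u, v, rfl⟩ := h
    exact ⟨u - t ^ 2, t, v, by simp⟩
  let K : Subgroup R := ⟨⟨⟨{g | L g 0}, fun h h' => by simpa using mu h h'⟩, 0, 0, by simp [X.w_zero]⟩, fun h => by simpa using iv h⟩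
  obtain ⟨t, v, e⟩ := X.syl_U.focal_le (K := K) (fun x hx g _ h => by
    by_cases x1 : x = 1
    · simp [x1]
    obtain ⟨u, hu, a, rfl⟩ := X.mem_B.1 (X.TI hx x1 (X.U_le_B h))
    obtain ⟨c, hc⟩ := ex hx
    obtain ⟨c', hc'⟩ := ex hu
    have : L (X.h a * x * (X.h a)⁻¹) c := by
      obtain ⟨t, v, rfl⟩ := hc
      rcases (by decide : ∀ a : (ZMod 3)ˣ, a = 1 ∨ a = -1) a with rfl | rfl
      · exact ⟨t, v, by simp⟩
      · exact ⟨-t, -v, (X.z_w ..).trans (by simp)⟩
    change L _ 0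
    simpa [mul_assoc] using mu hc (iv (mu (mu hc' this) (iv hc')))) ⟨k, X.w_mem ..⟩
  obtain ⟨rfl, e, -⟩ := X.w_inj e
  exact absurd e (by decide)

theorem main (X : Ree R (ZMod 3) 0) : Nat.card (commutator R) = 504 ∧ IsSimpleGroup (commutator R) := by
  have := X.finite
  have cj (x) (h : orderOf x = 2) := isConj_iff.1 (X.inv h X.order_z)
  have h0 : commutator R ≠ ⊥ := fun e => by
    have := commutator_eq_bot_iff_le_centralizer.1 e (mem_top (X.w 1 0 0)) X.z (mem_top _)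
    rw [← mul_inv_eq_iff_eq_mul, X.z_w] at this
    exact absurd (X.w_inj this).1 (by decide)
  have c := (nrm X (K := ⊤) (by simp) (fun x h => (cj x h).imp fun k e => ⟨mem_top k, e⟩) le_top le_normalizer_of_normal h0).resolve_right
    fun e => not_mem X (eq_top_of_card_eq _ (e.trans (cR X).symm) ▸ mem_top _)
  have i : (commutator R).index = 3 := by have := (commutator R).card_mul_index; rw [c, cR X] at this; omega
  have : Nontrivial (commutator R) := (nontrivial_iff_ne_bot _).2 h0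
  refine ⟨c, ⟨fun N hN => or_iff_not_imp_left.2 fun n => eq_top_of_card_eq _ ?_⟩⟩
  have k := nrm X (N := N.map (Subgroup.subtype _)) i.dvd (fun x h => by
    obtain ⟨g, e⟩ := cj x h
    obtain ⟨j, hj⟩ := mem_zpowers_of_prime_card (G := R ⧸ commutator R) i
      (fun e => not_mem X ((QuotientGroup.eq_one_iff _).1 e)) (g' := (g : R ⧸ commutator R)⁻¹)
    refine ⟨X.w 0 1 0 ^ j * g, (QuotientGroup.eq_one_iff _).1 (by simp [hj]), ?_⟩
    have : Commute (X.w 0 1 0) X.z := (mul_inv_eq_iff_eq_mul.1 (by simpa using X.z_w 0 1 0)).symm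
    rw [mul_inv_rev, ← mul_assoc, mul_assoc _ g, mul_assoc _ (g * x), e, (this.zpow_left j).eq, mul_inv_cancel_right])
    (map_subtype_le N) ((normal_subgroupOf_iff_le_normalizer (map_subtype_le N)).1 (by rwa [subgroupOf, comap_map_eq_self_of_injective (subtype_injective _)])) (mt (map_eq_bot_iff_of_injective _ (subtype_injective _)).1 n)
  have := card_le_of_le (map_subtype_le N)
  rw [card_map_of_injective (subtype_injective _)] at k this
  omega

/-- The derived subgroup of ²G₂(3) (θ = identity over the field with three elements) has order 504 = 1512/3 and is isomorphic to PSL₂ over the field with eight elements. -/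
theorem result {L : Type*} [Field L] [Fintype L] (hL : Fintype.card L = 8) :
    Nat.card ↥(commutator ↥(Cfsg.Lie.twistedG2 (ZMod 3) 1)) = 504 ∧
      Nonempty (↥(commutator ↥(Cfsg.Lie.twistedG2 (ZMod 3) 1)) ≃* Matrix.ProjectiveSpecialLinearGroup (Fin 2) L) := by
  obtain ⟨X, -⟩ := CfsgH6.exists_ree (K := ZMod 3) (m := 0) rfl
  obtain ⟨h1, h2⟩ := main X
  have := X.finite
  exact ⟨h1, CfsgL0.psl_504 h1 hL⟩

end Cfsg.Agent.S1075
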