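import Cfsg.Statements.S1155
import Cfsg.Agent.H6.Ree5

set_option autoImplicit false
open Cfsg

namespace Cfsg.Agent.S1155

open CfsgH6 CfsgH2 Subgroup

/-- In the small Ree group ²G₂(q), q = 3^(2m+1) with m ≥ 1, realised as G¹ inside the Chevalley group G₂ over the field with q elements (θ the 3^m-th power map): distinct Sylow 3-subgroups of `G¹` meet trivially. -/
theorem result {K : Type*} [Field K] [Fintype K] {m : ℕ} (hm : 1 ≤ m) (hK : Fintype.card K = 3 ^ (2 * m + 1))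
    (P Q : Sylow 3 ↥(Cfsg.Lie.twistedG2 K (3 ^ m))) (hPQ : P ≠ Q) : (P : Subgroup ↥(Cfsg.Lie.twistedG2 K (3 ^ m))) ⊓ (Q : Subgroup ↥(Cfsg.Lie.twistedG2 K (3 ^ m))) = ⊥ := by
  obtain ⟨X, -⟩ := exists_ree hK
  haveI := X.finite
  obtain ⟨g, -, e1⟩ := X.syl_U.conj (syl_top P)
  obtain ⟨k, -, e2⟩ := X.syl_U.conj (syl_top Q)
  refine eq_bot_iff.2 fun x hx => by_contra fun e => hPQ (Sylow.ext ?_)
  have := X.TI (g := k⁻¹ * g) (mem_map_cj.1 (e1.ge hx.1)) (by simpa using CfsgH8.conj_ne_one g⁻¹ e)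
    (X.U_le_B (by simpa [mul_assoc] using mem_map_cj.1 (e2.ge hx.2)))
  rw [← e1, ← e2, ← mul_inv_cancel_left k g, ← map_cj_cj, map_cj_eq (X.B_norm this)]

end Cfsg.Agent.S1155
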