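import Cfsg.Statements.S1159
import Cfsg.Agent.H6.Ree5

set_option autoImplicit false
open Cfsg

namespace Cfsg.Agent.S1159

open CfsgH6 CfsgH2 Subgroup

/-- In the small Ree group ²G₂(q), q = 3^(2m+1) with m ≥ 1, realised as G¹ inside the Chevalley group G₂ over the field with q elements (θ the 3^m-th power map), with `r = 3^(m+1)`: a natural number is the order of an element of `G¹` iff it divides one of `6`, `9`, `q - 1`, `(q + 1)/2`, `q - r + 1`, `q + r + 1`. -/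
theorem result {K : Type*} [Field K] [Fintype K] {m : ℕ} (hm : 1 ≤ m) (hK : Fintype.card K = 3 ^ (2 * m + 1)) (d : ℕ) :
    (∃ g : ↥(Cfsg.Lie.twistedG2 K (3 ^ m)), orderOf g = d) ↔
      (d ∣ 6 ∨ d ∣ 9 ∨ d ∣ 3 ^ (2 * m + 1) - 1 ∨ d ∣ (3 ^ (2 * m + 1) + 1) / 2 ∨
        d ∣ 3 ^ (2 * m + 1) - 3 ^ (m + 1) + 1 ∨ d ∣ 3 ^ (2 * m + 1) + 3 ^ (m + 1) + 1) := by
  obtain ⟨X, -⟩ := exists_ree hK
  haveI := X.finite
  have h1 : (3 ^ (2 * m + 1) + 1) / 2 = 2 * Ree.kk m 1 := by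
    obtain ⟨k, hk⟩ := Ree.q_eq m
    simp only [Ree.kk, Matrix.cons_val, hk]; omega
  rw [h1]
  constructor
  · rintro ⟨g, rfl⟩
    by_cases h3 : 3 ∣ orderOf g
    · obtain ⟨x, hx⟩ := X.exists_conj_B h3
      rw [← Ree.orderOf_cj x] at h3 ⊢
      rcases X.three_sing hx h3 with ⟨_, _, _, e⟩ | ⟨_, _, _, _, _, e⟩ | ⟨_, _, _, _, _, e⟩ <;> simp [e]
    by_cases h2 : g ^ 2 = 1
    · exact Or.inl ((orderOf_dvd_of_pow_eq_one h2).trans (by norm_num))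
    obtain ⟨i, A, h⟩ := X.exists_tor h3 h2
    have h4 := h.card ▸ orderOf_dvd_of_mem (self_mem_cent1 g)
    fin_cases i
    · exact Or.inr (Or.inr (Or.inl h4))
    · refine Or.inr (Or.inr (Or.inr (Or.inl (orderOf_dvd_of_pow_eq_one ?_))))
      rw [mul_comm, pow_mul]
      exact X.sq_of_pow (k := 2) (by rw [← pow_mul]; exact orderOf_dvd_iff_pow_eq_one.1 (h4.trans (Ree.NN_kk m 1).2.1.dvd))
    · exact Or.inr (Or.inr (Or.inr (Or.inr (Or.inl h4))))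
    · exact Or.inr (Or.inr (Or.inr (Or.inr (Or.inr h4))))
  have key : ∀ n, (∃ g : Cfsg.Lie.twistedG2 K (3 ^ m), orderOf g = n) → d ∣ n →
      ∃ g : Cfsg.Lie.twistedG2 K (3 ^ m), orderOf g = d := fun n ⟨g, hg⟩ h =>
    ⟨_, orderOf_pow_orderOf_div (orderOf_pos g).ne' (hg ▸ h)⟩
  have k2 : ∀ i ≠ 1, ∃ g : Cfsg.Lie.twistedG2 K (3 ^ m), orderOf g = Ree.NN m i := fun i hi => by
    obtain ⟨T, A, h⟩ := X.exists_tor_type hm i
    obtain ⟨g, hg⟩ := isCyclic_iff_exists_orderOf_eq_natCard.1 (h.cycT hi)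
    exact ⟨g, by rw [orderOf_coe, hg, h.card]⟩
  rintro (h | h | h | h | h | h)
  · exact key _ ⟨_, X.order_wz (t := 0) (u := 1) (by simp) 0⟩ h
  · exact key _ ⟨_, X.order_w one_ne_zero 0 0⟩ h
  · exact key _ (k2 0 (by decide)) h
  · obtain ⟨T, A, hT⟩ := X.exists_tor_type hm 1
    obtain ⟨⟨g, hg⟩⟩ := (Nat.card_ne_zero.1 ((X.tor_even hT dvd_rfl).trans_ne (Nat.mul_ne_zero (by decide)
      (Nat.totient_pos.2 (Ree.NN_kk m 1).1.pos).ne'))).1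
    exact key _ ⟨g, by rwa [orderOf_coe]⟩ h
  · exact key _ (k2 2 (by decide)) h
  · exact key _ (k2 3 (by decide)) h

end Cfsg.Agent.S1159
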