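import Mathlib
import Cfsg.Statements.S1163
import Cfsg.Agent.H8.Sz5

set_option autoImplicit false
open Cfsg

namespace Cfsg.Agent.S1163

open CfsgH8.SzG MulAction

/-- For the Suzuki group Sz(q), q = 2^(2m+1) ≥ 8, realised as the elements g of Sp₄(F) with g* = g^θ (θ the 2^(m+1)-th power map, so that θ² is squaring): `|Sz(q)| = q² (q - 1) (q² + 1)`, and there is a Sylow 2-subgroup `S` whose normaliser `H` has order `q²(q-1)` and index `q² + 1`, the action of `Sz(q)` on the cosets of `H` is doubly transitive, and `S` acts regularly on the cosets other than `H` itself. -/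
theorem result {F : Type*} [Field F] [Fintype F] {m : ℕ} (hm : 1 ≤ m) (hF : Fintype.card F = 2 ^ (2 * m + 1)) :
    Nat.card ↥(Cfsg.Lie.Sz F (2 ^ (m + 1))) = (2 ^ (2 * m + 1)) ^ 2 * (2 ^ (2 * m + 1) - 1) * ((2 ^ (2 * m + 1)) ^ 2 + 1) ∧
    ∃ S : Sylow 2 ↥(Cfsg.Lie.Sz F (2 ^ (m + 1))),
      Nat.card (Subgroup.normalizer ((S : Subgroup ↥(Cfsg.Lie.Sz F (2 ^ (m + 1)))) : Set ↥(Cfsg.Lie.Sz F (2 ^ (m + 1))))) = (2 ^ (2 * m + 1)) ^ 2 * (2 ^ (2 * m + 1) - 1) ∧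
      (Subgroup.normalizer ((S : Subgroup ↥(Cfsg.Lie.Sz F (2 ^ (m + 1)))) : Set ↥(Cfsg.Lie.Sz F (2 ^ (m + 1))))).index = (2 ^ (2 * m + 1)) ^ 2 + 1 ∧
      MulAction.IsMultiplyPretransitive ↥(Cfsg.Lie.Sz F (2 ^ (m + 1))) (↥(Cfsg.Lie.Sz F (2 ^ (m + 1))) ⧸ Subgroup.normalizer ((S : Subgroup ↥(Cfsg.Lie.Sz F (2 ^ (m + 1)))) : Set ↥(Cfsg.Lie.Sz F (2 ^ (m + 1))))) 2 ∧
      ∀ x y : ↥(Cfsg.Lie.Sz F (2 ^ (m + 1))) ⧸ Subgroup.normalizer ((S : Subgroup ↥(Cfsg.Lie.Sz F (2 ^ (m + 1)))) : Set ↥(Cfsg.Lie.Sz F (2 ^ (m + 1)))),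
        x ≠ (QuotientGroup.mk 1) → y ≠ (QuotientGroup.mk 1) → ∃! s : ↥(S : Subgroup ↥(Cfsg.Lie.Sz F (2 ^ (m + 1)))), (s : ↥(Cfsg.Lie.Sz F (2 ^ (m + 1)))) • x = y := by
  haveI : CfsgH8.SzG.SzF F m := ⟨hm, hF⟩
  let e := lieEquiv F m
  let S : Sylow 2 ↥(Cfsg.Lie.Sz F (2 ^ (m + 1))) := (sylU F m).mapSurjective (f := e.toMonoidHom) e.surjective
  have hS : (S : Subgroup _) = (U F m).map e.toMonoidHom := rfl
  have hN : Subgroup.normalizer ((S : Subgroup ↥(Cfsg.Lie.Sz F (2 ^ (m + 1)))) : Set ↥(Cfsg.Lie.Sz F (2 ^ (m + 1)))) =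
      (B F m).map e.toMonoidHom := by
    rw [hS, ← norm_U]
    exact (Subgroup.map_equiv_normalizer_eq _ e).symm
  have hG : Nat.card ↥(Cfsg.Lie.Sz F (2 ^ (m + 1))) = Nat.card (Cfsg.Sz F m) := (Nat.card_congr e.toEquiv).symm
  have hB : Nat.card ((B F m).map e.toMonoidHom) = (2 ^ (2 * m + 1)) ^ 2 * (2 ^ (2 * m + 1) - 1) := by
    rw [Subgroup.card_map_of_injective e.injective, card_stab_inf, hF]
  refine ⟨by rw [hG, card_sz, hF]; ring, S, ?_⟩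
  rw [hN]
  have key : ∀ g a b : Cfsg.Sz F m, e g • (QuotientGroup.mk (e a) : _ ⧸ (B F m).map e.toMonoidHom) = QuotientGroup.mk (e b) ↔
      g • a • inf F m = b • inf F m := fun g a b => by
    rw [MulAction.Quotient.smul_mk, QuotientGroup.eq, Subgroup.mem_map_equiv, smul_eq_mul, ← map_mul,
      ← map_inv, ← map_mul, MulEquiv.symm_apply_apply, mem_stabilizer_iff, mul_smul, inv_smul_eq_iff,
      mul_smul, eq_comm]
  have key1 : ∀ a b : Cfsg.Sz F m, (QuotientGroup.mk (e a) : _ ⧸ (B F m).map e.toMonoidHom) = QuotientGroup.mk (e b) ↔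
      a • inf F m = b • inf F m := fun a b => by
    have := key 1 a b
    rwa [map_one, one_smul, one_smul] at this
  have hsurj : ∀ x : _ ⧸ (B F m).map e.toMonoidHom, ∃ a, x = QuotientGroup.mk (e a) := fun x => by
    obtain ⟨y, rfl⟩ := QuotientGroup.mk_surjective x
    obtain ⟨a, rfl⟩ := e.surjective y
    exact ⟨a, rfl⟩
  refine ⟨hB, ?_, ?_, ?_⟩
  · have := ((B F m).map e.toMonoidHom).card_mul_index
    rw [hB, hG, card_sz, hF, mul_right_comm _ (_ + 1)] at this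
    refine Nat.eq_of_mul_eq_mul_left ?_ this
    rw [← hB]; exact Nat.card_pos
  · rw [is_two_pretransitive_iff]
    intro x y z t hxy hzt
    obtain ⟨a, rfl⟩ := hsurj x
    obtain ⟨b, rfl⟩ := hsurj y
    obtain ⟨c, rfl⟩ := hsurj z
    obtain ⟨d, rfl⟩ := hsurj t
    obtain ⟨g, h1, h2⟩ := two_trans (mt (key1 _ _).2 hxy) (mt (key1 _ _).2 hzt)
    exact ⟨e g, (key _ _ _).2 h1, (key _ _ _).2 h2⟩
  · intro x y hx hy
    obtain ⟨a, rfl⟩ := hsurj x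
    obtain ⟨b, rfl⟩ := hsurj y
    rw [← map_one e, Ne, key1, one_smul] at hx hy
    obtain ⟨a1, a2, ha⟩ := exists_u_zer hx
    obtain ⟨b1, b2, hb⟩ := exists_u_zer hy
    refine ⟨⟨e (u m b1 b2 * (u m a1 a2)⁻¹), ⟨_, (U F m).mul_mem (u_mem _ _) ((U F m).inv_mem (u_mem _ _)), rfl⟩⟩, ?_, ?_⟩
    · refine (key _ _ _).2 ?_
      rw [← ha, ← hb, mul_smul, inv_smul_smul]
    · rintro ⟨_, s, hs, rfl⟩ h1
      have h2 := (key s _ _).1 h1
      apply Subtype.ext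
      refine congrArg e ?_
      by_contra hne
      have h3 : ((u m b1 b2 * (u m a1 a2)⁻¹)⁻¹ * s) • (a • inf F m) = a • inf F m := by
        rw [mul_smul, h2, inv_smul_eq_iff, ← ha, ← hb, mul_smul, inv_smul_smul]
      exact hx (U_fix ((U F m).mul_mem ((U F m).inv_mem ((U F m).mul_mem (u_mem _ _)
        ((U F m).inv_mem (u_mem _ _)))) hs) (fun h4 => hne (inv_mul_eq_one.1 h4).symm) h3)

end Cfsg.Agent.S1163
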