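import Cfsg.Statements.S2933
import Cfsg.Agent.H5.Tq
import Cfsg.Agent.H5.U64
import Cfsg.Agent.H5.C320

set_option autoImplicit false
open Cfsg

namespace Cfsg.Agent.S2933

open CfsgH5 CfsgH5.Tq CfsgH2 CfsgH8 Subgroup Function Cfsg.Agent.S3157
open scoped commutatorElement

section
variable {T : Type*} [Group T] [Finite T] {ρ τ : MulAut T}

theorem c64 (hT : Nat.card T = 64) (hna : ¬ IsMulCommutative T) (r3 : ∀ y, ρ (ρ (ρ y)) = y)
    (hfp : ∀ y : T, ρ y = y → y = 1) : ((∃ a ∉ center T, a * a = 1) → Nonempty (T ≃* He4.H)) ∧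
      ((∀ a, a * a = 1 → a ∈ center T) → Nonempty (T ≃* U64.U)) := by
  obtain ⟨N, c0, cZ, c1⟩ := str hT hna r3 hfp
  have rr : ∀ y, ρ (ρ y) = (y * ρ y)⁻¹ := fun y => eq_inv_of_mul_eq_one_right (N y)
  obtain ⟨ls, e2⟩ := four r3 hfp (fun _ => invZ ρ) cZ
  have zi : ∀ w ∈ center T, w⁻¹ = w := fun w hw => inv_eq_of_mul_eq_one_right (e2 w hw)
  have sy : ∀ u v : T, ⁅u, v⁆ = ⁅v, u⁆ := fun u v => by rw [← zi _ (c1 u v), commutatorElement_inv]
  have bl : ∀ u v w : T, ⁅u * v, w⁆ = ⁅u, w⁆ * ⁅v, w⁆ := fun u v w => by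
    calc ⁅u * v, w⁆ = u * ⁅v, w⁆ * u⁻¹ * ⁅u, w⁆ := by group
      _ = _ := by rw [mem_center_iff.1 (c1 v w) u, mul_inv_cancel_right, mem_center_iff.1 (c1 u w)]
  have br : ∀ u v w : T, ⁅u, v * w⁆ = ⁅u, v⁆ * ⁅u, w⁆ := fun u v w => by rw [sy, bl, sy v, sy w]
  have bi : ∀ u w : T, ⁅u⁻¹, w⁆ = ⁅u, w⁆ := fun u w => by
    rw [← zi _ (c1 u w)]; exact eq_inv_of_mul_eq_one_left (by rw [← bl]; simp)
  have b0 : ∀ y, ⁅y, ρ y⁆ = 1 := fun y => commutatorElement_eq_one_iff_mul_comm.2 (c0 y)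
  have bz : ∀ u, ∀ z ∈ center T, ⁅u, z⁆ = 1 := fun u z hz => commutatorElement_eq_one_iff_mul_comm.2 (mem_center_iff.1 hz u)
  have pol : ∀ u v, ⁅u, ρ v⁆ = ⁅ρ u, v⁆ := fun u v => by
    have := b0 (u * v)
    rw [map_mul, bl, br, br, b0, b0, one_mul, mul_one, sy v] at this
    rw [eq_inv_of_mul_eq_one_left this, zi _ (c1 _ _)]
  have rho : ∀ u v, ρ ⁅u, v⁆ = ⁅u, v⁆ * ⁅ρ u, v⁆ := fun u v => by rw [map_commutatorElement, pol, rr, bi, bl]
  have sq : ∀ u, u * u ∈ center T := fun u => mem_center_iff.2 fun g =>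
    (commutatorElement_eq_one_iff_mul_comm.1 (by rw [bl, e2 _ (c1 _ _)])).symm
  have sw : ∀ u v : T, v * u = u * ⁅u, v⁆ * v := fun u v => by
    rw [mem_center_iff.1 (c1 u v) u, sy]; group
  have s2 : ∀ u v : T, u * v * (u * v) = u * u * (v * v) * ⁅u, v⁆ := fun u v => by
    calc _ = u * (v * u) * v := by simp only [mul_assoc]
      _ = u * u * (⁅u, v⁆ * (v * v)) := by rw [sw u v]; simp only [mul_assoc]
      _ = _ := by rw [← mem_center_iff.1 (c1 u v), mul_assoc (u * u)]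
  have r2 : ∀ w ∈ center T, ρ (ρ w) = w * ρ w := fun w hw => by rw [rr, zi _ (mul_mem hw (invZ ρ hw))]
  have p1 : ∀ a b, ⁅ρ a, b⁆ = ρ (ρ ⁅a, b⁆) := fun a b => by
    rw [r2 _ (c1 a b), rho, ← mul_assoc, e2 _ (c1 a b), one_mul]
  have p2 : ∀ a b, ⁅ρ (ρ a), b⁆ = ρ ⁅a, b⁆ := fun a b => by rw [p1, p1, r3]
  have ex : ∀ a ∉ center T, ∃ b : T, ⁅a, b⁆ ≠ 1 := fun a ha => by
    by_contra e
    push Not at e
    exact ha (mem_center_iff.2 fun g => (commutatorElement_eq_one_iff_mul_comm.1 (e g)).symm)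
  have n1 : ∀ z, z ≠ 1 → ρ z ≠ 1 := fun z n e => n ((map_eq_one_iff ρ ρ.injective).1 e)
  refine ⟨fun ⟨a, a1, sa⟩ => ?_, fun h => ?_⟩
  · obtain ⟨b, n, sb⟩ : ∃ b : T, ⁅a, b⁆ ≠ 1 ∧ b * b = 1 := by
      obtain ⟨b, n⟩ := ex a a1
      rcases ls _ (c1 a b) n _ (sq b) with e | e | e | e
      · exact ⟨b, n, e⟩
      · exact ⟨a * b, by simpa [br] using n, by rw [s2, sa, e, one_mul, e2 _ (c1 a b)]⟩
      · exact ⟨ρ (ρ a) * b, by rwa [br, pol, commutatorElement_self, one_mul],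
          by rw [s2, ← map_mul, ← map_mul, sa, e, p2, map_one, map_one, one_mul, e2 _ (invZ ρ (c1 a b))]⟩
      · exact ⟨ρ a * b, by rwa [br, b0, one_mul],
          by rw [s2, ← map_mul, sa, e, p1, map_one, one_mul, e2 _ (invZ ρ (invZ ρ (c1 a b)))]⟩
    obtain ⟨f, hf, -⟩ := He4.hom (a1 := a) (a2 := ρ a) (b1 := b) (b2 := ρ b) (z1 := ⁅a, b⁆) (z2 := ⁅ρ a, b⁆) sa
      (by rw [← map_mul, sa, map_one]) sb (by rw [← map_mul, sb, map_one]) (e2 _ (c1 _ _)) (e2 _ (c1 _ _)) (c0 a) (c0 b).symm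
      (fun u _ => mem_center_iff.1 (c1 _ _) u) (fun u _ => mem_center_iff.1 (c1 _ _) u) (sw _ _) (sw _ _)
      (by rw [← pol]; exact sw _ _) (by rw [← rho, map_commutatorElement]; exact sw _ _) n
      (by rw [p1]; exact n1 _ (n1 _ n)) (by rw [← rho]; exact n1 _ n)
    exact ⟨(MulEquiv.ofBijective f ((Nat.bijective_iff_injective_and_card f).2 ⟨hf, by rw [He4.cardH, hT]⟩)).symm⟩
  · obtain ⟨a, -, a1⟩ := SetLike.exists_of_lt (lt_top_iff_ne_top.2 (show center T ≠ ⊤ from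
      fun e => hna ⟨⟨fun a b => mem_center_iff.1 (e.ge (mem_top b)) a⟩⟩))
    have n : a * a ≠ 1 := fun e => a1 (h a e)
    obtain ⟨b, hb⟩ : ∃ b : T, ⁅a, b⁆ = a * a := by
      obtain ⟨b, hb⟩ := ex a a1
      rcases ls _ (sq a) n _ (c1 a b) with e | e | e | e
      · exact absurd e hb
      · exact ⟨b, e⟩
      · exact ⟨ρ b, by rw [pol, p1, e, r3]⟩
      · exact ⟨ρ (ρ b), by rw [pol, pol, p2, e, r3]⟩
    obtain ⟨b, hb, sb⟩ : ∃ b : T, ⁅a, b⁆ = a * a ∧ b * b = ρ (a * a) := by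
      rcases ls _ (sq a) n _ (sq b) with e | e | e | e
      · exact absurd (hb.symm.trans (bz _ _ (h b e))) n
      · have := bz a _ (h (a * ρ b) (by rw [s2, ← map_mul, e, pol, p1, hb, N]))
        rw [br, commutatorElement_self, one_mul, pol, p1, hb] at this
        exact absurd this (n1 _ (n1 _ n))
      · exact ⟨b, hb, e⟩
      · exact ⟨ρ a * b, by rw [br, b0, one_mul, hb],
          by rw [s2, ← map_mul, e, p1, hb, mul_assoc, e2 _ (invZ ρ (invZ ρ (sq a))), mul_one]⟩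
    obtain ⟨f, hf⟩ := U64.hom (a1 := a) (a2 := ρ a) (b1 := b) (b2 := ρ b) (sq a) (invZ ρ (sq a)) rfl (map_mul ρ a a).symm sb
      (by rw [← map_mul, sb, r2 _ (sq a)]) (e2 _ (sq a)) (e2 _ (invZ ρ (sq a))) (c0 a).symm (c0 b).symm
      (by rw [← hb]; exact sw _ _) (by rw [← r2 _ (sq a), ← hb, ← p1]; exact sw _ _)
      (by rw [← r2 _ (sq a), ← hb, ← p1, ← pol]; exact sw _ _) (by rw [← hb, map_commutatorElement]; exact sw _ _) n (n1 _ n)
      (by rw [← r2 _ (sq a)]; exact n1 _ (n1 _ n))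
    exact ⟨(MulEquiv.ofBijective f ((Nat.bijective_iff_injective_and_card f).2 ⟨hf, by rw [U64.cardU, hT]⟩)).symm⟩

theorem homo (pT : IsPGroup 2 T) (r3 : ∀ y, ρ (ρ (ρ y)) = y) (hfp : ∀ y : T, ρ y = y → y = 1) (n0 : Nat.card T ≠ 1) {y : T}
    (h : ∀ K : Subgroup T, y ∈ K → ρ y ∈ K → K = ⊤) :
    ∃ n : ℕ, 1 ≤ n ∧ Nonempty (T ≃* Multiplicative (ZMod (2 ^ n)) × Multiplicative (ZMod (2 ^ n))) := by
  have c0 : Commute y (ρ y) := cc (NN r3 hfp) (map_inv ρ) y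
  obtain ⟨n, hn⟩ := IsPGroup.iff_orderOf.1 pT y
  rcases n with _ | n
  · obtain rfl : y = 1 := orderOf_eq_one_iff.1 hn
    exact absurd (by rw [← card_top, ← h ⊥ (one_mem _) (by simp), card_bot]) n0
  have ho : orderOf (ρ y) = 2 ^ (n + 1) := by rw [← hn]; exact orderOf_injective ρ.toMonoidHom ρ.injective y
  have E : ∀ a : T, orderOf a = 2 ^ (n + 1) → ∃ ψ : Multiplicative (ZMod (2 ^ (n + 1))) →* T,
      ∀ k : ℤ, ψ (Multiplicative.ofAdd (k : ZMod (2 ^ (n + 1)))) = a ^ k := fun a ha =>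
    ⟨(ZMod.lift _ ⟨(zmultiplesHom (Additive T) (Additive.ofMul a)), by
      simp [← ha, ← ofMul_pow]⟩).toMultiplicativeLeft, fun k => by simp⟩
  obtain ⟨f, hf⟩ := E y hn
  obtain ⟨g, hg⟩ := E _ ho
  have s : ∀ i : Multiplicative (ZMod (2 ^ (n + 1))), ∃ k : ℤ, Multiplicative.ofAdd (k : ZMod (2 ^ (n + 1))) = i := fun i =>
    (ZMod.intCast_surjective i.toAdd).imp fun k e => by rw [e]; rfl
  let φ := f.noncommCoprod g fun i j => by
    obtain ⟨i, rfl⟩ := s i; obtain ⟨j, rfl⟩ := s j; rw [hf, hg]; exact c0.zpow_zpow i j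
  refine ⟨n + 1, by omega, ⟨(MulEquiv.ofBijective φ ⟨(injective_iff_map_eq_one _).2 fun ⟨i, j⟩ e => ?_,
    MonoidHom.range_eq_top.1 (h _ ⟨(Multiplicative.ofAdd ((1 : ℤ) : ZMod _), 1), by simp only [φ, MonoidHom.noncommCoprod_apply, hf]; simp⟩
      ⟨(1, Multiplicative.ofAdd ((1 : ℤ) : ZMod _)), by simp only [φ, MonoidHom.noncommCoprod_apply, hg]; simp⟩)⟩).symm⟩⟩
  obtain ⟨i, rfl⟩ := s i
  obtain ⟨j, rfl⟩ := s j
  change f _ * g _ = 1 at e
  rw [hf, hg] at e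
  have k : y ^ i = 1 := by
    by_contra k
    obtain ⟨⟨v, hv⟩, hc⟩ := exists_prime_orderOf_dvd_card' (G := zpowers (y ^ i)) 2
      (((pT.to_subgroup _).card_eq_or_dvd).resolve_left fun e => k (zpowers_eq_bot.1 (eq_bot_of_card_eq _ e)))
    rw [← orderOf_coe] at hc
    change orderOf v = 2 at hc
    have v2 : v * v = 1 := by rw [← sq, ← hc, pow_orderOf_eq_one]
    have v1 : v ≠ 1 := fun e => by simp [e] at hc
    have a := (eq_half_of_sq hn (zpowers_le.2 (zpow_mem_zpowers y i) hv) v2).resolve_left v1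
    have b := (eq_half_of_sq ho (zpowers_le.2 (by
      rw [eq_inv_of_mul_eq_one_left e]; exact inv_mem (zpow_mem_zpowers _ j)) hv) v2).resolve_left v1
    exact v1 (hfp v (by rw [← map_pow, ← a] at b; exact b.symm))
  rw [k, one_mul] at e
  rw [← orderOf_dvd_iff_zpow_eq_one, hn] at k
  rw [← orderOf_dvd_iff_zpow_eq_one, ho] at e
  rw [(ZMod.intCast_zmod_eq_zero_iff_dvd i _).2 k, (ZMod.intCast_zmod_eq_zero_iff_dvd j _).2 e]; rfl

end

theorem u34 {F : Type} [Field F] [Fintype F] (hF : Fintype.card F = 16) (P : Sylow 2 (PSU 3 F 4)) :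
    Nonempty (P ≃* U64.U) := by
  haveI : CharP F 2 := charP_of_card_eq_prime_pow (p := 2) (f := 4) hF
  obtain ⟨σ, H⟩ := exists_UF (F := F) (q := 2 ^ 2) hF
  haveI hs : Fact (∀ a, σ (σ a) = a) := ⟨H.invol⟩
  obtain ⟨α, hα⟩ := exists_alpha H.ne_id hs.out
  obtain ⟨e⟩ := sylow_PSU3_iso H P
  haveI : Fact (Nat.Prime 3) := ⟨by norm_num⟩
  obtain ⟨u, hu⟩ := exists_prime_orderOf_dvd_card' (G := Fˣ) 3 (by
    rw [Nat.card_units, Nat.card_eq_fintype_card, hF]; norm_num)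
  have hζ : IsPrimitiveRoot (u : F) 3 := IsPrimitiveRoot.coe_units_iff.2 (hu ▸ IsPrimitiveRoot.orderOf u)
  generalize (u : F) = w at hζ
  have w3 := hζ.pow_eq_one
  have w1 := hζ.ne_one (by norm_num)
  have sw : σ w = w := by rw [H.pow]; linear_combination w * w3
  let f : Hs σ → Hs σ := fun k => ⟨w * k.y, w * w * k.z, by
    simp only [map_mul, sw]; linear_combination w * w * k.h⟩
  have f3 : ∀ k, f (f (f k)) = k := fun k => Hs.ext (by simp only [f]; linear_combination k.y * w3)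
    (by simp only [f]; linear_combination k.z * (w ^ 3 + 1) * w3)
  let ρ : MulAut (Hs σ) := MulEquiv.mk' ⟨f, fun k => f (f k), f3, f3⟩ fun a b =>
    Hs.ext (by simp [f, mul_add]) (by simp [f, sw]; ring)
  haveI : Finite (Hs σ) := Nat.finite_of_card_ne_zero (by rw [Hs.card_UF H]; norm_num)
  obtain ⟨k⟩ := (c64 (ρ := ρ) (by rw [Hs.card_UF H]; norm_num) (fun h => by
      have := (Hs.mem_center hα).1 (mem_center_iff.2 fun g => h.is_comm.comm g (Hs.lift hα 1))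
      simp [Hs.lift] at this) f3 (fun k e => by
      have e1 : w * k.y = k.y := congrArg Hs.y e
      have e2 : w * w * k.z = k.z := congrArg Hs.z e
      exact Hs.ext (by simp; clear * - e1 w1; grind) (by simp; clear * - e2 w1 w3; grind))).2
    fun a h => (Hs.mem_center hα).2 (Hs.sq_eq_one.1 h)
  exact ⟨e.trans k⟩

/-- Let T be a 2-subgroup of a finite group G, V ≤ Z(T) a four-group, and t, ρ ∈ N_G(V) ∩ N_G(T) elements of order 2 and 3 with t commuting with ρ and with V. If [V, ρ] = V and C_T(t) = V, then T is elementary abelian of order 16, or homocyclic of rank 2 (ℤ/2ⁿ × ℤ/2ⁿ for some n ≥ 1), or isomorphic to a Sylow 2-subgroup of PSL₃(4) or of PSU₃(4). -/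
theorem result {G : Type*} [Group G] [Finite G] (T V : Subgroup G) (hT : IsPGroup 2 ↥T) (hVT : V ≤ T ⊓ Subgroup.centralizer (T : Set G)) (hV : Nat.card ↥V = 4 ∧ ∀ v ∈ V, v ^ 2 = 1) (t ρ : G) (ht : orderOf t = 2) (hρ : orderOf ρ = 3) (htn : t ∈ Subgroup.normalizer (V : Set G) ⊓ Subgroup.normalizer (T : Set G)) (hρn : ρ ∈ Subgroup.normalizer (V : Set G) ⊓ Subgroup.normalizer (T : Set G)) (htρ : t * ρ = ρ * t) (htV : t ∈ Subgroup.centralizer (V : Set G)) (hVρ : ⁅V, Subgroup.zpowers ρ⁆ = V) (hCt : T ⊓ Subgroup.centralizer ({t} : Set G) = V) : (Nat.card ↥T = 16 ∧ ∀ x ∈ T, x ^ 2 = 1) ∨ (∃ n : ℕ, 1 ≤ n ∧ Nonempty (↥T ≃* Multiplicative (ZMod (2 ^ n)) × Multiplicative (ZMod (2 ^ n)))) ∨ (∃ (F : Type) (_ : Field F) (_ : Fintype F), Fintype.card F = 4 ∧ ∀ P : Sylow 2 (Matrix.ProjectiveSpecialLinearGroup (Fin 3) F), Nonempty (↥T ≃* ↥(P : Subgroup (Matrix.ProjectiveSpecialLinearGroup (Fin 3) F)))) ∨ (∃ (F : Type)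 (_ : Field F) (_ : Fintype F), Fintype.card F = 16 ∧ ∀ P : Sylow 2 (Cfsg.PSU 3 F 4), Nonempty (↥T ≃* ↥(P : Subgroup (Cfsg.PSU 3 F 4)))) := by
  let τ := T.normalizerMonoidHom ⟨t, htn.2⟩
  let r := T.normalizerMonoidHom ⟨ρ, hρn.2⟩
  have eτ : ∀ y : T, (τ y : G) = t * y * t⁻¹ := fun _ => rfl
  have er : ∀ y : T, (r y : G) = ρ * y * ρ⁻¹ := fun _ => rfl
  have t2 : t * t = 1 := by rw [← sq, ← ht, pow_orderOf_eq_one]
  have ρ3 : ρ ^ 3 = 1 := hρ ▸ pow_orderOf_eq_one ρ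
  have a1 : ∀ y, τ (τ y) = y := fun y => Subtype.ext (by
    rw [eτ, eτ]
    calc _ = (t * t) * y * (t * t)⁻¹ := by group
      _ = _ := by simp [t2])
  have a2 : ∀ y, r (r (r y)) = y := fun y => Subtype.ext (by
    rw [er, er, er]
    calc _ = ρ ^ 3 * y * (ρ ^ 3)⁻¹ := by simp only [pow_succ, pow_zero, one_mul, mul_inv_rev, mul_assoc]
      _ = _ := by simp [ρ3])
  have a3 : ∀ y, τ (r y) = r (τ y) := fun y => Subtype.ext (by
    rw [eτ, er, er, eτ]
    calc _ = (t * ρ) * y * (t * ρ)⁻¹ := by group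
      _ = _ := by rw [htρ]; group)
  have a5 : ∀ y : T, y ∈ V.subgroupOf T ↔ τ y = y := fun y => by
    rw [mem_subgroupOf, ← hCt, Subtype.ext_iff, eτ, mul_inv_eq_iff_eq_mul, mem_inf, mem_centralizer_singleton_iff, eq_comm]
    exact and_iff_right y.2
  have a4 : ∀ y, r y = y → y = 1 := fun y e => by
    classical
    by_contra y1
    let K := r.toMonoidHom.eqLocus (MonoidHom.id T)
    haveI := Fintype.ofFinite K
    let f : Function.End K := fun y => ⟨τ y, show r (τ y) = τ y by rw [← a3, show r y = y from y.2]⟩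
    obtain ⟨b, hb, b1⟩ := Equiv.Perm.exists_fixed_point_of_prime' (p := 2) (n := 1)
      (σ := Involutive.toPerm f fun y => Subtype.ext (a1 y)) (by
        rw [← Nat.card_eq_fintype_card]
        exact ((hT.to_subgroup K).card_eq_or_dvd).resolve_left fun k => y1 (mem_bot.1 ((eq_bot_of_card_eq _ k).le e)))
      (Equiv.ext fun y => Subtype.ext (a1 y)) (a := 1) (Subtype.ext (map_one τ))
    haveI : Fact (Nat.Prime 3) := ⟨by norm_num⟩
    have m := C320.modEq ρ3 hρn.1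
    have l := card_le_of_le (inf_le_left : V ⊓ centralizer {ρ} ≤ V)
    have b2 : ρ * b.1.1 * ρ⁻¹ = b.1.1 := congrArg Subtype.val b.2
    have o := (one_lt_card_iff_ne_bot (V ⊓ centralizer {ρ})).2 fun k => b1 (Subtype.ext (Subtype.ext (mem_bot.1 (k.le
      ⟨(a5 _).2 (congrArg Subtype.val hb), mem_centralizer_singleton_iff.2 (mul_inv_eq_iff_eq_mul.1 b2).symm⟩))))
    unfold Nat.ModEq at m
    have q : V ≤ centralizer {ρ} := (eq_of_le_of_card_ge (inf_le_left : V ⊓ centralizer {ρ} ≤ V) (by omega)).ge.trans inf_le_right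
    have : V = ⊥ := hVρ.symm.trans (commutator_eq_bot_iff_le_centralizer.2 (by
      rwa [zpowers_eq_closure, centralizer_closure]))
    rw [this, card_bot] at hV
    omega
  have cV : Nat.card (V.subgroupOf T) = 4 := by
    rw [Nat.card_congr (subgroupOfEquivOfLe (hVT.trans inf_le_left)).toEquiv, hV.1]
  rcases Tq.main _ T τ r (V.subgroupOf T) rfl hT a1 a2 a3 a4 a5
    (fun v hv => mem_center_iff.2 fun g => Subtype.ext ((hVT hv).2 g g.2)) cV with ⟨h1, h2⟩ | ⟨y, h⟩ | ⟨h1, h2⟩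
  · exact .inl ⟨h1, fun x hx => by rw [sq]; exact congrArg Subtype.val (h2 ⟨x, hx⟩)⟩
  · exact .inr (.inl (homo hT a2 a4 (by have := card_le_card_group (V.subgroupOf T); omega) h))
  obtain ⟨k1, k2⟩ := c64 h1 h2 a2 a4
  by_cases e : ∃ a ∉ center T, a * a = 1
  · obtain ⟨e⟩ := k1 e
    letI : Fintype (GaloisField 2 2) := Fintype.ofFinite _
    have hF : Fintype.card (GaloisField 2 2) = 4 := by
      rw [← Nat.card_eq_fintype_card, GaloisField.card 2 2 (by norm_num)]; norm_num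
    exact .inr (.inr (.inl ⟨_, inferInstance, inferInstance, hF, fun P => (He4.syl hF P).map fun k => e.trans k.symm⟩))
  · obtain ⟨e⟩ := k2 fun a h => by_contra fun k => e ⟨a, k, h⟩
    letI : Fintype (GaloisField 2 4) := Fintype.ofFinite _
    have hF : Fintype.card (GaloisField 2 4) = 16 := by
      rw [← Nat.card_eq_fintype_card, GaloisField.card 2 4 (by norm_num)]; norm_num
    exact .inr (.inr (.inr ⟨_, inferInstance, inferInstance, hF, fun P => (u34 hF P).map fun k => e.trans k.symm⟩))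

end Cfsg.Agent.S2933
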