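import Cfsg.Statements.S1237
import Cfsg.Agent.H5.Tq2
import Cfsg.Agent.S2933

set_option autoImplicit false
open Cfsg

namespace Cfsg.Agent.S1237

open CfsgH5 CfsgH5.Tq CfsgH2 CfsgH8 Subgroup Function Cfsg.Agent.S3157 Cfsg.Agent.S2933

theorem u34' {F : Type*} [Field F] [Fintype F] (hF : Fintype.card F = 16) (P : Sylow 2 (PSU 3 F 4)) :
    Nonempty (P ≃* U64.U) := by
  haveI : CharP F 2 := charP_of_card_eq_prime_pow (p := 2) (f := 4) hF
  obtain ⟨σ, H⟩ := exists_UF (F := F) (q := 2 ^ 2) hF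
  haveI hs : Fact (∀ a, σ (σ a) = a) := ⟨H.invol⟩
  obtain ⟨α, hα⟩ := exists_alpha H.ne_id hs.out
  obtain ⟨e⟩ := sylow_PSU3_iso H P
  haveI : Fact (Nat.Prime 3) := ⟨by norm_num⟩
  obtain ⟨u, hu⟩ := exists_prime_orderOf_dvd_card' (G := Fˣ) 3 (by
    rw [Nat.card_units, Nat.card_eq_fintype_card, hF]; norm_num)
  have hζ : IsPrimitiveRoot (u : F) 3 := IsPrimitiveRoot.coe_units_iff.2 (hu ▸ IsPrimitiveRoot.orderOf u)
  generalize (u : F) = w at hζ
  have w3 := hζ.pow_eq_one
  have w1 := hζ.ne_one (by norm_num)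
  have sw : σ w = w := by rw [H.pow]; linear_combination w * w3
  let f : Hs σ → Hs σ := fun k => ⟨w * k.y, w * w * k.z, by
    simp only [map_mul, sw]; linear_combination w * w * k.h⟩
  have f3 : ∀ k, f (f (f k)) = k := fun k => Hs.ext (by simp only [f]; linear_combination k.y * w3)
    (by simp only [f]; linear_combination k.z * (w ^ 3 + 1) * w3)
  let ρ : MulAut (Hs σ) := MulEquiv.mk' ⟨f, fun k => f (f k), f3, f3⟩ fun a b =>
    Hs.ext (by simp [f, mul_add]) (by simp [f, sw]; ring)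
  haveI : Finite (Hs σ) := Nat.finite_of_card_ne_zero (by rw [Hs.card_UF H]; norm_num)
  obtain ⟨k⟩ := (c64 (ρ := ρ) (by rw [Hs.card_UF H]; norm_num) (fun h => by
      have := (Hs.mem_center hα).1 (mem_center_iff.2 fun g => h.is_comm.comm g (Hs.lift hα 1))
      simp [Hs.lift] at this) f3 (fun k e => by
      have e1 : w * k.y = k.y := congrArg Hs.y e
      have e2 : w * w * k.z = k.z := congrArg Hs.z e
      exact Hs.ext (by simp; clear * - e1 w1; grind) (by simp; clear * - e2 w1 w3; grind))).2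
    fun a h => (Hs.mem_center hα).2 (Hs.sq_eq_one.1 h)
  exact ⟨e.trans k⟩

/-- Let T be a finite 2-group of 2-rank exactly 2 (it has a Klein four-subgroup but no elementary abelian subgroup of order 8) admitting an automorphism φ such that any two involutions of T are carried to one another by a power of φ. Then T ≅ Z_{2^n} × Z_{2^n} for some n ≥ 1, or T is isomorphic to a Sylow 2-subgroup of PSU(3) over the field with 16 elements. -/
theorem result {T : Type*} [Group T] [Finite T] (hT : IsPGroup 2 T) (h2 : Cfsg.PRankLE 2 2 T) (h1 : ¬ Cfsg.PRankLE 2 1 T) (φ : MulAut T) (htrans : ∀ s t : T, orderOf s = 2 → orderOf t = 2 → ∃ k : ℕ, (φ ^ k) s = t) {F : Type*} [Field F] [Fintype F] (hF : Fintype.card F = 16) (P : Sylow 2 (Cfsg.PSU 3 F 4)) : (∃ n : ℕ, 1 ≤ n ∧ Nonempty (T ≃* Multiplicative (ZMod (2 ^ n) × ZMod (2 ^ n)))) ∨ Nonempty (T ≃* (P : Subgroup (Cfsg.PSU 3 F 4))) := by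
  simp only [PRankLE, not_forall, not_le] at h1
  obtain ⟨A, -, a2, a3⟩ := h1
  have := card_le_card_group A
  haveI : Nontrivial T := Finite.one_lt_card_iff_nontrivial.1 (by omega)
  obtain ⟨⟨z, hz⟩, z0⟩ := exists_prime_orderOf_dvd_card' (G := center T) 2
    ((hT.to_subgroup _).card_eq_or_dvd.resolve_left (Finite.one_lt_card_iff_nontrivial.2 hT.center_nontrivial).ne')
  rw [← orderOf_coe] at z0
  have o2 : ∀ g : T, g * g = 1 → g ≠ 1 → orderOf g = 2 := fun g a b => orderOf_eq_prime (by rwa [sq]) b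
  have zq : ∀ g : T, g * g = 1 → g ∈ center T := fun g hg => by
    by_cases e : g = 1
    · rw [e]; exact one_mem _
    · obtain ⟨k, rfl⟩ := htrans z g z0 (o2 g hg e)
      exact invZ _ hz
  let V : Subgroup T :=
    { carrier := {g | g * g = 1}
      mul_mem' := fun {a b} ha hb => by
        change a * b * (a * b) = 1
        rw [mul_assoc, ← mul_assoc b, mem_center_iff.1 (zq a ha) b, mul_assoc, ← mul_assoc, ha, hb, one_mul]
      one_mem' := one_mul 1
      inv_mem' := fun {a} ha => by change a⁻¹ * a⁻¹ = 1; rw [← mul_inv_rev, ha, inv_one] }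
  have hV : ∀ y, y ∈ V ↔ y * y = 1 := fun _ => Iff.rfl
  have iV : ∀ (ψ : MulAut T), ∀ y ∈ V, ψ y ∈ V := fun ψ y hy => (hV _).2 (by rw [← map_mul, (hV y).1 hy, map_one])
  have cV : Nat.card V = 4 := by
    have x1 := h2 V ⟨⟨fun a b => Subtype.ext (mem_center_iff.1 (zq _ b.2) a)⟩⟩ fun a ha => by rwa [sq]
    have x2 := card_le_of_le (show A ≤ V from fun a ha => (hV a).2 (by rw [← sq]; exact a2 a ha))
    obtain ⟨k, hk⟩ := IsPGroup.iff_card.1 (hT.to_subgroup V)
    rw [hk] at x1 x2 ⊢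
    have : k < 3 := (Nat.pow_lt_pow_iff_right (a := 2) (by norm_num)).1 (by omega)
    interval_cases k <;> omega
  have fp : ∀ v ∈ V, φ v = v → v = 1 := fun v hv e => by
    by_contra v1
    have k : ∀ k : ℕ, (φ ^ k) v = v := fun k => by
      induction k with
      | zero => rfl
      | succ k ih => rw [pow_succ', MulAut.mul_apply, ih, e]
    have l : (V : Set T) ⊆ {1, v} := fun w hw => by
      by_cases w1 : w = 1
      · exact .inl w1
      · obtain ⟨j, rfl⟩ := htrans v w (o2 v hv v1) (o2 w hw w1)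
        exact .inr (k j)
    have := (Set.ncard_le_ncard l).trans (Set.ncard_insert_le _ _)
    rw [← Nat.card_coe_set_eq, Set.ncard_singleton] at this
    exact absurd (cV.ge.trans this) (by norm_num)
  have p3 : ∀ v ∈ V, φ (φ (φ v)) = v := fun v hv => by
    by_cases v1 : v = 1
    · simp [v1]
    have hw := iV φ v hv
    have w1 : φ v ≠ 1 := fun e => v1 ((map_eq_one_iff φ φ.injective).1 e)
    have w2 : φ v ≠ v := fun e => v1 (fp v hv e)
    have n1 : v * φ v ≠ 1 := fun e => w2 (mul_left_cancel (e.trans ((hV v).1 hv).symm))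
    have n2 : v * φ v ≠ v := fun e => w1 (mul_eq_left.1 e)
    have n3 : v * φ v ≠ φ v := fun e => v1 (mul_eq_right.1 e)
    have e : φ (φ v) = v * φ v := by
      by_contra h
      have b1 : φ (φ v) ≠ 1 := fun e => w1 ((map_eq_one_iff φ φ.injective).1 e)
      have b2 : φ (φ v) ≠ φ v := fun e => w2 (φ.injective e)
      have b3 : φ (φ v) ≠ v := fun e => by
        have k : ∀ k : ℕ, (φ ^ k) v = v ∨ (φ ^ k) v = φ v := fun k => by
          induction k with
          | zero => exact .inl rfl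
          | succ k ih => rw [pow_succ', MulAut.mul_apply]; rcases ih with i | i <;> simp [i, e]
        obtain ⟨j, hj⟩ := htrans v _ (o2 v hv v1) (o2 _ (mul_mem hv hw) n1)
        rcases k j with i | i
        exacts [n2 (hj.symm.trans i), n3 (hj.symm.trans i)]
      have := Set.ncard_le_ncard (show ({φ (φ v), v * φ v, 1, v, φ v} : Set T) ⊆ V by
        rintro _ (rfl | rfl | rfl | rfl | rfl)
        exacts [iV φ _ hw, mul_mem hv hw, one_mem _, hv, hw])
      rw [Set.ncard_insert_of_notMem (by simp only [Set.mem_insert_iff, Set.mem_singleton_iff]; tauto),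
        Set.ncard_insert_of_notMem (by simp only [Set.mem_insert_iff, Set.mem_singleton_iff]; tauto),
        Set.ncard_insert_of_notMem (by simp only [Set.mem_insert_iff, Set.mem_singleton_iff, eq_comm (a := (1 : T))]; tauto),
        Set.ncard_pair w2.symm, ← Nat.card_coe_set_eq] at this
      exact absurd (this.trans cV.le) (by norm_num)
    rw [e, map_mul, e, mem_center_iff.1 (zq _ (mul_mem hv hw)), mul_assoc, (hV _).1 hw, mul_one]
  obtain ⟨a, m, hm, ho⟩ := Nat.exists_eq_pow_mul_and_not_dvd (orderOf_pos φ).ne' 3 (by norm_num)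
  have q3 : ∀ j : ℕ, ∀ v ∈ V, (φ ^ (3 * j)) v = v := fun j v hv => by
    induction j with
    | zero => rfl
    | succ j ih => rw [mul_add, pow_add, MulAut.mul_apply, show (φ ^ (3 * 1)) v = v from p3 v hv, ih]
  have fq : ∀ v ∈ V, (φ ^ m) v = v → v = 1 := fun v hv e => by
    rw [← Nat.mod_add_div m 3, pow_add, MulAut.mul_apply, q3 _ v hv] at e
    rcases (by omega : m % 3 = 1 ∨ m % 3 = 2) with h | h <;> rw [h] at e
    · exact fp v hv e
    · exact fp v hv ((congrArg φ e).symm.trans (p3 v hv))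
  have r3 := Tq2.ord3 (ψ := φ ^ m) hT hV zq cV (a := a) (by rw [← pow_mul, mul_comm, ← ho, pow_orderOf_eq_one])
    (fun y hy => by
      rw [← MulAut.mul_apply, ← MulAut.mul_apply, ← pow_add, ← pow_add, show m + m + m = 3 * m by ring]; exact q3 m y hy) fq
  have hfp : ∀ y, (φ ^ m) y = y → y = 1 := fun y e => by
    by_contra y1
    obtain ⟨⟨_, k, rfl⟩, hc⟩ := exists_prime_orderOf_dvd_card' (G := zpowers y) 2
      (((hT.to_subgroup _).card_eq_or_dvd).resolve_left fun e => y1 (zpowers_eq_bot.1 (eq_bot_of_card_eq _ e)))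
    rw [← orderOf_coe] at hc
    change orderOf (y ^ k) = 2 at hc
    rw [fq (y ^ k) ((hV _).2 (by rw [← sq, ← hc, pow_orderOf_eq_one])) (by rw [map_zpow, e])] at hc
    simp at hc
  rcases Tq2.main _ T _ V rfl hT r3 hfp hV zq cV with ⟨y, h⟩ | ⟨h1, h2⟩
  · obtain ⟨n, hn, ⟨e⟩⟩ := homo hT r3 hfp (by omega) h
    exact .inl ⟨n, hn, ⟨e.trans (MulEquiv.prodMultiplicative _ _).symm⟩⟩
  · obtain ⟨e⟩ := (c64 h1 h2 r3 hfp).2 zq
    exact .inr ((u34' hF P).map fun k => e.trans k.symm)

end Cfsg.Agent.S1237
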