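import Cfsg.Statements.S2968
import Mathlib
import Cfsg.Agent.L0.IsoP

set_option autoImplicit false
open Cfsg

namespace Cfsg.Agent.S2968

open Cfsg Subgroup CfsgH2 CfsgL0

/-- Let G be a finite group, p a prime, P a Sylow p-subgroup of G and x ∈ P an element of p-power order which is isolated in G (the only conjugate of x commuting with x is x itself). Then x lies in the centre of P, and the subgroup generated by x is both strongly closed and weakly closed in P with respect to G. -/
theorem result {G : Type*} [Group G] [Finite G] {p : ℕ} [Fact p.Prime] (P : Sylow p G) (x : G) (hxP : x ∈ (P : Subgroup G)) (hx : ∃ k : ℕ, orderOf x = p ^ k) (hiso : Cfsg.IsIsolated x) : x ∈ (P : Subgroup G) ⊓ Subgroup.centralizer ((P : Subgroup G) : Set G) ∧ Cfsg.IsStronglyClosed (Subgroup.zpowers x) (P : Subgroup G) ∧ Cfsg.IsWeaklyClosed (Subgroup.zpowers x) (P : Subgroup G) := by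
  obtain ⟨k, hk⟩ := hx
  have hP := syl_top P
  refine ⟨⟨hxP, le_cent1_iff.1 (iso_le_cent hiso hP.pg hxP)⟩, ⟨zpowers_le.2 hxP, fun y hy g hg => ?_⟩,
    zpowers_le.2 hxP, fun g hg => ?_⟩
  · -- `y` and its conjugate are conjugate in the centralizer of `y^g`
    have hz : (P : Subgroup G) ≤ C1[x] := iso_le_cent hiso hP.pg hxP
    have h1 : x ∈ C1[g * y * g⁻¹] := mem_centralizer_singleton_iff.2 (mem_centralizer_singleton_iff.1 (hz hg)).symm
    have h2 : g * x * g⁻¹ ∈ C1[g * y * g⁻¹] := by
      rw [centralizer_conj]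
      exact conj_mem_map_cj (mem_centralizer_singleton_iff.2 (commute_of_mem_zpowers (mem_zpowers x) hy))
    obtain ⟨c, hc, h3⟩ := iso_conj_in hiso (pg_zpowers_of_order hk) h1 h2
    have e1 := mem_cent1.1 hc
    have h4 : c * g ∈ C[zpowers x] := by rw [cent_zpowers]; exact h3
    have e2 := mem_cent_iff.1 h4 y hy
    have : g * y * g⁻¹ = y := by
      calc g * y * g⁻¹ = c * (g * y * g⁻¹) * c⁻¹ := e1.symm
        _ = (c * g * y) * (c * g)⁻¹ := by group
        _ = y := by rw [← e2]; group
    rw [this]; exact hy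
  · have := iso_eq hiso hP.pg hxP (hg (conj_mem_map_cj (g := g) (mem_zpowers x)))
    exact map_cj_eq (cent_le_norm _ (by rw [cent_zpowers]; exact mem_cent1.2 this))

end Cfsg.Agent.S2968
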