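import Cfsg.Statements.S1250
import Cfsg.Agent.H1.Misc1

set_option autoImplicit false
open Cfsg

namespace Cfsg.Agent.S1250

/-- Let S be a Sylow p-subgroup of the finite group G, A ≤ S strongly closed in S, and N a normal subgroup. Then the image of A in G ⧸ N is strongly closed in the image of S (which is a Sylow p-subgroup of G ⧸ N). -/
theorem result {G : Type*} [Group G] [Finite G] {p : ℕ} [Fact p.Prime] (S : Sylow p G) (A : Subgroup G) (hA : Cfsg.IsStronglyClosed A (S : Subgroup G)) (N : Subgroup G) [N.Normal] : Cfsg.IsStronglyClosed (A.map (QuotientGroup.mk' N)) ((S : Subgroup G).map (QuotientGroup.mk' N)) := by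
  open Subgroup CfsgH2 in
  open CfsgH1 hiding card_inf_mul_relIndex card_lt_of_lt card_lt_of_ne_top card_map_mul_card_inf_ker card_mul_relIndex card_subgroupOf card_sup_dvd card_sup_mul_card_inf exists_card_prime_le isNilpotent_map isNilpotent_of_le isPGroup_pCore isSolvable_map isSolvable_of_le le_pCore le_pPrimeCore relIndex_map_dvd in
  open scoped CfsgH1 in
  open scoped commutatorElement in
  · refine ⟨map_mono hA.1, ?_⟩
    rintro _ ⟨a, ha, rfl⟩ g h
    obtain ⟨g, rfl⟩ := QuotientGroup.mk'_surjective N g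
    have h1 : g * a * g⁻¹ ∈ S.1 ⊔ N := by rw [← comap_map_mk']; exact h
    obtain ⟨k, hk⟩ := pgroup_pow_eq_one S.2 (hA.1 ha)
    obtain ⟨c, hc, h2⟩ := ((syl_top S).mono le_sup_left le_top).exists_conj_le (isPGroup_zpowers (k := k) (by rw [conj_pow, hk]; simp))
      (zpowers_le.2 h1)
    obtain ⟨s, hs, n, hn, rfl⟩ := mem_sup_normal_right.1 hc
    have h3 := map_cj_le_iff'.1 h2 _ (mem_zpowers _)
    have h4 := hA.2 a ha (s * n * g) (by simpa [mul_assoc] using h3)
    refine ⟨_, hA.2 _ h4 s⁻¹ (mul_mem (mul_mem (inv_mem hs) (hA.1 h4)) (inv_mem (inv_mem hs))), ?_⟩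
    simp [mul_assoc, (QuotientGroup.eq_one_iff n).2 hn]

end Cfsg.Agent.S1250
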