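import Cfsg.Statements.S1251
import Cfsg.Agent.H2.BG0
import Cfsg.Agent.H9.Gl

set_option autoImplicit false
open Cfsg

namespace Cfsg.Agent.S1251
open CfsgH2

/-- Let S be a Sylow 2-subgroup of the finite group G and A ≤ S strongly closed in S. If H is a subgroup normalized by A with no nontrivial normal subgroup of odd order and A ∩ H = 1, then A ≤ C_G(H). -/
theorem result {G : Type*} [Group G] [Finite G] (S : Sylow 2 G) (A : Subgroup G) (hA : Cfsg.IsStronglyClosed A (S : Subgroup G)) (H : Subgroup G) (hAH : A ≤ Subgroup.normalizer (H : Set G)) (hO : Cfsg.oddCore ↥H = ⊥) (hdisj : A ⊓ H = ⊥) : A ≤ Subgroup.centralizer (H : Set G) := by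
  open Subgroup Function in open scoped commutatorElement in
  · have pA : IsPGroup 2 A := S.2.to_le hA.1
    obtain ⟨T, hT, AT⟩ := exists_syl_ge pA (le_sup_left (b := H))
    obtain ⟨c, -, hc⟩ := (syl_top S).exists_conj_le hT.2 le_top
    have nc : c ∈ N[A] := mem_norm_of_conj fun x hx => hA.2 x hx c (map_cj_le_iff'.1 hc x (AT hx))
    have nH : A ⊔ H ≤ N[H] := sup_le hAH le_normalizer
    have s := hT.inf_norm le_sup_right (hT.1.trans nH)
    intro a ha
    have aN := hAH ha
    have z := CfsgH9.zstar_amb (CfsgH9.syl_zpowers_sup ⟨s.1, s.2, s.3⟩ aN (mem_norm_inf (le_normalizer (AT ha)) aN)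
      (pA.to_le (zpowers_le.2 ha))) (mem_sup_left (mem_zpowers a)) fun g hg h => by
        rw [sup_comm, mem_sup_zpowers aN] at hg
        obtain ⟨h0, hh, k, rfl⟩ := hg
        have e : h0 * a ^ k * a * (h0 * a ^ k)⁻¹ = h0 * a * h0⁻¹ := by group
        rw [e] at h ⊢
        have h1 : h0 * a * h0⁻¹ ∈ A := by
          have := hA.2 a ha (c * h0) (by
            simpa [mul_assoc] using map_cj_le_iff'.1 hc _ (sup_le (zpowers_le.2 (AT ha)) inf_le_left h))
          simpa [mul_assoc] using conj_mem_of_norm' nc this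
        have := mem_bot.1 (hdisj.le ⟨mul_mem h1 (A.inv_mem ha), by
          simpa [mul_assoc] using mul_mem hh (conj_mem_of_norm aN (inv_mem hh))⟩)
        exact mul_inv_eq_one.1 this
    refine zpowers_le.1 (le_centralizer_iff.1 (comm_eq_bot_iff.1 (eq_bot_iff.2 ?_)))
    have o : piCoreOf {2}ᶜ H = ⊥ := by rw [← map_pPrimeCore_subtype, show pPrimeCore 2 H = ⊥ from hO, Subgroup.map_bot]
    rw [← o]
    exact (le_inf (((commutator_mono le_sup_right le_rfl).trans z).trans map_pPrimeCore_subtype.le)
      (comm_le_left (zpowers_le.2 aN))).trans (inf_piCoreOf_le le_sup_right)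

end Cfsg.Agent.S1251
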