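import Cfsg.Statements.S1292
import Mathlib
import Cfsg.Agent.H9.Comp2

set_option autoImplicit false
open Cfsg

namespace Cfsg.Agent.S1292

/-- Let G be a finite group such that F*(C_G(t)) = O_2(C_G(t)) for every involution t. Then F*(N_G(T)) = O_2(N_G(T)) for every nontrivial 2-subgroup T of G. -/
theorem result {G : Type*} [Group G] [Finite G] (h : ∀ t : G, orderOf t = 2 → Cfsg.generalizedFittingSubgroup ↥(Subgroup.centralizer ({t} : Set G)) = Cfsg.pCore 2 ↥(Subgroup.centralizer ({t} : Set G))) (T : Subgroup G) (hT : IsPGroup 2 ↥T) (hT1 : T ≠ ⊥) : Cfsg.generalizedFittingSubgroup ↥(Subgroup.normalizer (T : Set G)) = Cfsg.pCore 2 ↥(Subgroup.normalizer (T : Set G)) := by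
  open Subgroup CfsgH9 in
  rw [← chP_iff_eq]
  haveI : Fact (Nat.Prime 2) := ⟨Nat.prime_two⟩
  set N := normalizer (T : Set G) with hN
  have hTN : T ≤ Op 2 N := le_Op (.of_normal le_normalizer le_rfl) hT
  -- choose an involution in the centre of a Sylow 2-subgroup of N lying in T
  have hZ : Op 2 N ⊓ centralizer (Op 2 N : Set G) ≠ ⊥ := by
    rw [← map_subtype_center]
    have : Nontrivial (Op 2 N) := (nontrivial_iff_ne_bot _).2 fun e => hT1 (eq_bot_iff.2 (e ▸ hTN))
    have h2 := (Op_isPGroup 2 N).center_nontrivial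
    rw [nontrivial_iff_ne_bot] at h2
    exact fun e => h2 ((map_eq_bot_iff_of_injective _ (Op 2 N).subtype_injective).1 e)
  obtain ⟨t, ht, ht2⟩ := exists_orderOf_prime_of_ne_bot ((Op_isPGroup 2 N).to_le inf_le_left) hZ
  have h1 : ChP 2 (centralizer ({t} : Set G)) := chP_iff_eq.2 (h t ht2)
  have hQ : Op 2 N ≤ centralizer ({t} : Set G) := by
    rw [← centralizer_zpowers, ← le_centralizer_iff]; exact zpowers_le.2 ht.2
  have h2 := h1.inf_centralizer (Op_isPGroup 2 N) hQ
  have e : centralizer ({t} : Set G) ⊓ centralizer (Op 2 N : Set G) = centralizer (Op 2 N : Set G) :=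
    inf_eq_right.2 (centralizer_le (Set.singleton_subset_iff.2 ht.1))
  rw [e] at h2
  have hle : centralizer (Op 2 N : Set G) ≤ N := (centralizer_anti hTN).trans (centralizer_le_normalizer _)
  have h3 : Sn (centralizer (Op 2 N : Set G)) N :=
    .of_normal hle (le_normalizer_centralizer (le_normalizer_Op le_normalizer))
  have h4 := h2.le_Op_of_comm le_rfl (comm_bot_iff.2 (centralizer_anti (Op_mono h3)))
  exact inf_le_right.trans (h4.trans (Op_mono h3))

end Cfsg.Agent.S1292
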