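import Cfsg.Statements.S1294
import Mathlib
import Cfsg.Agent.H9.SigK

set_option autoImplicit false
open Cfsg

namespace Cfsg.Agent.S1294

/-- Let G be finite with O_{p'}(G) = 1 and p-rank at least 3, whose reduced rank-2 commuting graph for p is connected. Let θ assign to every element a of order p with m_p(C_G(a)) ≥ 3 a solvable subgroup θ a ≤ C_G(a) of order prime to p, so that θ (g a g⁻¹) = g (θ a) g⁻¹ for all g and θ a ∩ C_G(b) ≤ θ b for commuting such a, b. Then θ a = 1 for every such a. -/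
theorem result {G : Type*} [Group G] [Finite G] (p : ℕ) [Fact p.Prime] (hO : Cfsg.pPrimeCore p G = ⊥) (hrk : ¬ Cfsg.PRankLE p 2 G) (hconn : Cfsg.IsRankGraphConnected p 2 G) (θ : G → Subgroup G) (hC : ∀ a : G, (orderOf a = p ∧ ¬ Cfsg.PRankLE p 2 ↥(Subgroup.centralizer ({a} : Set G))) → θ a ≤ Subgroup.centralizer ({a} : Set G) ∧ ¬ p ∣ Nat.card ↥(θ a) ∧ Group.IsSolvable ↥(θ a)) (heq : ∀ a g : G, (orderOf a = p ∧ ¬ Cfsg.PRankLE p 2 ↥(Subgroup.centralizer ({a} : Set G))) → θ (g * a * g⁻¹) = (θ a).map (MulAut.conj g).toMonoidHom) (hbal : ∀ a b : G, (orderOf a = p ∧ ¬ Cfsg.PRankLE p 2 ↥(Subgroup.centralizer ({a} : Set G))) → (orderOf b = p ∧ ¬ Cfsg.PRankLE p 2 ↥(Subgroup.centralizer ({b} : Set G))) → a * b = b * a → θ a ⊓ Subgroup.centralizer {b} ≤ θ b) (a : G) (ha : (orderOf a = p ∧ ¬ Cfsg.PRankLE p 2 ↥(Subgroup.centralizer ({a} : Set G)))) : θ a = ⊥ := by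
  open Subgroup CfsgH9 in
  refine equivariant_trivial (by rw [Opp_top, hO]) hconn (fun A e c => ?_)
    (fun a g h1 h2 => heq a g ⟨h1, h2⟩) ha.1 ha.2
  have k : ∀ a ∈ A, a ≠ 1 → orderOf a = p ∧ ¬ PRankLE p 2 (centralizer ({a} : Set G)) :=
    fun a h1 h2 => ⟨ea_orderOf e h1 h2, not_rank_of_ea e c (ea_le_centralizer_singleton e h1)⟩
  exact ⟨e, fun a h1 h2 => (hC a (k a h1 h2)).1,
    fun a h1 h2 => coprime_iff_not_dvd.2 (hC a (k a h1 h2)).2.1,
    fun a h1 h2 g hg => cj_eq_iff.1 (by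
      have := heq a g (k a h1 h2)
      rw [ea_mul_comm e hg h1, mul_inv_cancel_right] at this
      exact this.symm),
    fun a h1 h2 b h3 h4 => hbal a b (k a h1 h2) (k b h3 h4) (ea_mul_comm e h1 h3),
    fun a h1 h2 => (hC a (k a h1 h2)).2.2⟩

end Cfsg.Agent.S1294
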