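import Cfsg.Statements.S1295
import Mathlib
import Cfsg.Agent.H9.SigK

set_option autoImplicit false
open Cfsg

namespace Cfsg.Agent.S1295

/-- Let G be finite with O_{p'}(G) = 1 and p-rank at least 3, whose reduced rank-2 commuting graph for p is connected. Suppose that for every element a of order p with m_p(C_G(a)) ≥ 3 the p-layer of C_G(a) is trivial and O_{p'}(C_G(a)) is solvable. Then F*(C_G(a)) = O_p(C_G(a)) for every such a. -/
theorem result {G : Type*} [Group G] [Finite G] (p : ℕ) [Fact p.Prime] (hO : Cfsg.pPrimeCore p G = ⊥) (hrk : ¬ Cfsg.PRankLE p 2 G) (hconn : Cfsg.IsRankGraphConnected p 2 G) (hL : ∀ a : G, (orderOf a = p ∧ ¬ Cfsg.PRankLE p 2 ↥(Subgroup.centralizer ({a} : Set G))) → Cfsg.pLayer p ↥(Subgroup.centralizer ({a} : Set G)) = ⊥ ∧ Group.IsSolvable ↥(Cfsg.centralizerPPrimeCore p a)) (a : G) (ha : (orderOf a = p ∧ ¬ Cfsg.PRankLE p 2 ↥(Subgroup.centralizer ({a} : Set G)))) : Cfsg.generalizedFittingSubgroup ↥(Subgroup.centralizer ({a}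 : Set G)) = Cfsg.pCore p ↥(Subgroup.centralizer ({a} : Set G)) := by
  open Subgroup CfsgH9 in
  have k : ∀ a : G, orderOf a = p → ¬ PRankLE p 2 (centralizer ({a} : Set G)) →
      PLay p (centralizer ({a} : Set G)) = ⊥ ∧
        Group.IsSolvable (Opp p (centralizer ({a} : Set G))) := fun a h1 h2 =>
    ⟨isPConstrained_iff_PLay.1 (isPConstrained_iff.2 (hL a ⟨h1, h2⟩).1), (hL a ⟨h1, h2⟩).2⟩
  have := equivariant_trivial (θ := fun a => Opp p (centralizer ({a} : Set G)))
    (by rw [Opp_top, hO]) hconn (fun A e c => sf_core e fun a h1 h2 => k a (ea_orderOf e h1 h2)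
      (not_rank_of_ea e c (ea_le_centralizer_singleton e h1))) (fun a g _ _ => cj_core g a) ha.1 ha.2
  exact chP_iff_eq.1 (chP_iff.2 ⟨(PLay_eq_Lay this).symm.trans (k a ha.1 ha.2).1, this⟩)

end Cfsg.Agent.S1295
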