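import Cfsg.Statements.S1322
import Mathlib
import Cfsg.Agent.H9.Pump

set_option autoImplicit false
open Cfsg

namespace Cfsg.Agent.S1322

/-- Let G be finite with L_{2'}(G) = E(G), t an involution and L ≤ C_G(t) a component of C_G(t). Then there is a component D of G with: L = D; or L < D and D = ⁅D, ⟨t⟩⁆; or tDt⁻¹ ≠ D and L is the layer of C_{D ⊔ tDt⁻¹}(t). -/
theorem result {G : Type*} [Group G] [Finite G] (hL2 : Cfsg.pLayer 2 G = Cfsg.layer G) (t : G) (ht : orderOf t = 2) (L : Subgroup G) (hLt : L ≤ Subgroup.centralizer ({t} : Set G)) (hL : Cfsg.IsComponent (L.subgroupOf (Subgroup.centralizer ({t} : Set G)))) : ∃ D : Subgroup G, Cfsg.IsComponent D ∧ (L = D ∨ (L < D ∧ D = ⁅D, Subgroup.zpowers t⁆) ∨ (D.map (MulAut.conj t).toMonoidHom ≠ D ∧ L = (Cfsg.layer ↥((D ⊔ D.map (MulAut.conj t).toMonoidHom) ⊓ Subgroup.centralizer ({t} : Set G))).map ((D ⊔ D.map (MulAut.conj t).toMonoidHom) ⊓ Subgroup.centralizer ({t} : Set G)).subtype)) := by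
  open Subgroup CfsgH9 in
  have h1 : Comp L (⊤ ⊓ centralizer (zpowers t : Set G)) := by
    rw [top_inf_eq, centralizer_zpowers]; exact (comp_iff_subgroupOf hLt).2 hL
  have h2 := isPGroup_zpowers_of_prime (p := 2) ht
  have h3 := (lb_two ⊤).le_PLay h2 le_top h1.pcomp_two
  rw [PLay_top, hL2, ← Lay_top] at h3
  have n : zpowers t ≤ normalizer ((⊤ : Subgroup G) : Set G) := le_top.trans le_normalizer
  obtain ⟨D, a, b, c⟩ := h1.pcomp_two.exists_ncl n h3
  refine ⟨D, comp_top_iff.1 a, ?_⟩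
  by_cases hn : t ∈ normalizer (D : Set G)
  · have d : L ≤ D := c.trans (ncl_le le_rfl (zpowers_le.2 hn))
    rcases a.qs.commutator_eq_or (zpowers_le.2 hn) with e | e
    · rcases d.eq_or_lt with d | d
      · exact Or.inl d
      · exact Or.inr (Or.inl ⟨d, e.symm⟩)
    · exact Or.inl (h1.eq_of_le (a.mono (le_inf le_top (comm_bot_iff.1 e)) le_top) d)
  · refine Or.inr (Or.inr ⟨fun e => hn (cj_eq_iff.1 e), ?_⟩)
    have t2 : t ^ 2 = 1 := ht ▸ pow_orderOf_eq_one t
    obtain ⟨π, -, -, -, d1, d2, -, -⟩ := a.exists_diag (p := 2) (k := 1) (by simpa using ht)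
      (n (mem_zpowers t)) (t2 ▸ one_mem _) hn
    have e : ncl (zpowers t) D = D ⊔ cj t D := by
      refine le_antisymm (ncl_le le_sup_left (zpowers_le.2 (mem_normalizer_of_cj_le ?_)))
        (sup_le (le_ncl _ _) (cj_le_ncl (mem_zpowers t)))
      rw [cj_sup, cj_cj, ← sq, t2, cj_one, sup_comm]
    rw [e] at d1 d2 c
    change L = Lay _
    rw [d2]
    have d3 : Comp L ((D ⊔ cj t D) ⊓ centralizer ({t} : Set G)) :=
      h1.mono (le_inf c hLt) (by rw [centralizer_zpowers]; exact inf_le_inf_right _ le_top)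
    exact d3.eq_of_le d1 (d2 ▸ d3.le_Lay)

end Cfsg.Agent.S1322
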