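import Cfsg.Statements.S1323
import Cfsg.Agent.H1.Sn5

set_option autoImplicit false
open Cfsg

namespace Cfsg.Agent.S1323

section
open CfsgH1 CfsgH1.Sn Equiv Equiv.Perm MulAction Pointwise
open CfsgH9 hiding card_inf_mul_relIndex card_lt_of_lt card_lt_of_ne_top card_map_mul_card_inf_ker card_mul_relIndex card_quotient_lt card_subgroupOf card_subgroupOf_of_le card_sup_dvd card_sup_mul_card_inf commutator_sup_le commutator_sup_le' isNilpotent_map isNilpotent_of_le isSolvable_map isSolvable_of_le le_normalizer_commutator le_normalizer_inf le_normalizer_map_subtype le_normalizer_sup le_pCore le_pPrimeCore mem_sup_of_le_normalizer mem_sup_of_le_normalizer' normalizer_le_normalizer_centralizer pCore_quotient_pCore pPrimeCore_quotient_pPrimeCore relIndex_map_subtype relIndex_sup_of_le_normalizer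
open scoped CfsgH9
open scoped commutatorElement

variable {α : Type*} [Fintype α] [DecidableEq α]

/-- The even permutations supported on a set. -/
abbrev B (S : Finset α) : Subgroup (alternatingGroup α) := (alternatingGroup.ofSubtype S).range

theorem cent {S : Finset α} (h : 4 ≤ S.card) : Subgroup.centralizer (B S) = B Sᶜ := by
  refine le_antisymm (fun g hg => (alternatingGroup.mem_range_ofSubtype_iff _ _).2 fun x hx => Finset.mem_compl.2 fun e => ?_)
    fun g hg k hk => Subtype.ext (comm_of_disj ((alternatingGroup.mem_range_ofSubtype_iff _ _).1 hk)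
      ((alternatingGroup.mem_range_ofSubtype_iff _ _).1 hg))
  obtain ⟨T, h1, h2, h3⟩ := Finset.exists_subsuperset_card_eq (n := 3) (s := {x}) (t := S.erase (g.1 x))
    (by simpa [e] using (mem_support.1 hx).symm) (by simp) (by have := Finset.pred_card_le_card_erase (s := S) (a := g.1 x); omega)
  obtain ⟨c, c1, c2⟩ := exists_supp (S := T) {3} h3.ge (by simp)
  have c3 : c.support = T := Finset.eq_of_subset_of_card_le c2 (by rw [IsThreeCycle.card_support c1, h3])
  have := Equiv.ext_iff.1 (congrArg Subtype.val (hg ⟨c, IsThreeCycle.mem_alternatingGroup c1⟩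
    ((alternatingGroup.mem_range_ofSubtype_iff _ _).2 (c2.trans (h2.trans (Finset.erase_subset _ _)))))) x
  simp only [Subgroup.coe_mul, Perm.mul_apply, notMem_support.1 fun a => Finset.notMem_erase _ _ (h2 (c2 a))] at this
  exact mem_support.1 (c3 ▸ h1 (Finset.mem_singleton_self x)) (g.1.injective this).symm

theorem card_B (S : Finset α) : Nat.card (B S) = Nat.card (alternatingGroup S) :=
  (Nat.card_congr (MonoidHom.ofInjective alternatingGroup.ofSubtype_injective).toEquiv).symm

end

/-- For n ≥ 9, the subgroup of the alternating group on Fin n fixing each of the points 0, 1, 2, 3 is a standard subgroup. -/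
theorem result (n : ℕ) (h4 : 4 ≤ n) (hn : 9 ≤ n) : Cfsg.IsStandardSubgroup (⨅ i : Fin 4, MulAction.stabilizer ↥(alternatingGroup (Fin n)) (Fin.castLE h4 i : Fin n)) := by
  open CfsgH1 CfsgH1.Sn Equiv Equiv.Perm MulAction Pointwise in
  open CfsgH9 hiding card_inf_mul_relIndex card_lt_of_lt card_lt_of_ne_top card_map_mul_card_inf_ker card_mul_relIndex card_quotient_lt card_subgroupOf card_subgroupOf_of_le card_sup_dvd card_sup_mul_card_inf commutator_sup_le commutator_sup_le' isNilpotent_map isNilpotent_of_le isSolvable_map isSolvable_of_le le_normalizer_commutator le_normalizer_inf le_normalizer_map_subtype le_normalizer_sup le_pCore le_pPrimeCore mem_sup_of_le_normalizer mem_sup_of_le_normalizer' normalizer_le_normalizer_centralizer pCore_quotient_pCore pPrimeCore_quotient_pPrimeCore relIndex_map_subtype relIndex_sup_of_le_normalizer in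
  open scoped CfsgH9 in
  open scoped commutatorElement in
  · let T : Finset (Fin n) := Finset.univ.map ⟨_, Fin.castLE_injective h4⟩
    have h1 : T.card = 4 := by simp [T]
    have h2 : 5 ≤ Tᶜ.card := by rw [Finset.card_compl, h1]; simp; omega
    have m := @alternatingGroup.mem_range_ofSubtype_iff (Fin n) _ _
    rw [show ⨅ i : Fin 4, stabilizer (alternatingGroup (Fin n)) (Fin.castLE h4 i) = B Tᶜ from Subgroup.ext fun g => by
      rw [m, Finset.subset_compl_iff_disjoint_right, Finset.disjoint_right, Subgroup.mem_iInf]
      simp [T, Subgroup.smul_def]]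
    have h3 : QS (B Tᶜ) := (QS.map_iff (Subgroup.subtype_injective _)).1 (by
      rw [← MonoidHom.range_comp, alternatingGroup.ofSubtype_comp_subtype, MonoidHom.range_comp, Subgroup.range_subtype]
      exact AS_qs h2)
    have h5 : Subgroup.centralizer (B Tᶜ) = B T := by rw [cent (by omega), compl_compl]
    have h6 : ∀ (S : Finset (Fin n)) g, (B S).map (MulAut.conj g).toMonoidHom = B (g • S) := alternatingGroup.conj_smul_range_ofSubtype
    refine ⟨qs_iff.1 h3, ⟨?_, fun g hg => ?_⟩, fun g _ e => ?_, le_antisymm (normalizer_le_normalizer_centralizer _) ?_⟩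
    · rw [h5, card_B, alternatingGroup.card_of_card_eq_four (by simpa)]
      decide
    · rw [h5] at hg ⊢
      have a1 : (T ∩ g • T).card ≤ 3 := Nat.le_of_lt_succ (LT.lt.trans_eq (Finset.card_lt_card ⟨Finset.inter_subset_left, fun e => hg
        (mem_normalizer_of_cj_le (by
          rw [cj, h6, ← Finset.eq_of_subset_of_card_le (e.trans Finset.inter_subset_right) (Finset.card_smul_finset g T).le]))⟩) h1)
      have a2 : Nat.card (B T ⊓ B (g • T) : Subgroup _) ∣ Nat.card (alternatingGroup (T ∩ g • T : Finset _)) :=
        card_B (T ∩ g • T) ▸ Subgroup.card_dvd_of_le fun x hx => (m _ _).2 (Finset.subset_inter ((m _ _).1 hx.1) ((m _ _).1 hx.2))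
      rw [h6]
      refine Odd.of_dvd_nat ?_ a2
      rw [Nat.card_congr (T ∩ g • T).equivFin.altCongrHom.toEquiv]
      generalize (T ∩ g • T).card = k at a1
      rw [Nat.card_eq_fintype_card]
      interval_cases k <;> decide
    · have := Subgroup.card_le_of_le (comm_bot_iff'.1 e)
      rw [h5, card_cj, card_B, card_B, alternatingGroup.card_of_card_eq_four (α := T) (by simpa),
        Nat.card_congr Tᶜ.equivFin.altCongrHom.toEquiv] at this
      have a := two_mul_card_alt (n := Tᶜ.card) (by omega)
      have := Nat.factorial_le h2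
      simp [Nat.factorial] at this
      omega
    · nth_rw 2 [← cent h1.ge]
      exact h5 ▸ normalizer_le_normalizer_centralizer _

end Cfsg.Agent.S1323
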