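import Cfsg.Statements.S1339
import Cfsg.Agent.H9.Comp2

set_option autoImplicit false
open Cfsg

namespace Cfsg.Agent.S1339

section
open Matrix Matrix.SpecialLinearGroup CfsgH9
open scoped commutatorElement

variable {F ι : Type*} [Field F] [Fintype ι] [DecidableEq ι]

/-- The stabilizer of the chain `ker E > im E`. -/
def N (E : Matrix ι ι F) : Subgroup (SpecialLinearGroup ι F) where
  carrier := {g | E * g.1 = E ∧ g.1 * E = E ∧ ∀ X Y, E * X = 0 → Y * E = 0 → Y * g.1 * X = Y * X}
  one_mem' := by simp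
  mul_mem' := fun {g h} a b => ⟨by rw [coe_mul, ← mul_assoc, a.1, b.1], by rw [coe_mul, mul_assoc, b.2.1, a.2.1], fun X Y x y => by
    rw [coe_mul, ← mul_assoc, b.2.2 X _ x (by rw [mul_assoc, a.2.1, y]), a.2.2 X Y x y]⟩
  inv_mem' := fun {g} a => by
    have a1 : E * g⁻¹.1 = E := by rw [← congrArg (· * g⁻¹.1) a.1, mul_assoc, ← coe_mul]; simp
    refine ⟨a1, by rw [← congrArg (g⁻¹.1 * ·) a.2.1, ← mul_assoc, ← coe_mul]; simp, fun X Y x y => ?_⟩
    rw [mul_assoc, ← a.2.2 _ Y (by rw [← mul_assoc, a1, x]) y, mul_assoc, ← mul_assoc g.1, ← coe_mul]; simp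

theorem conj_N {E : Matrix ι ι F} {g h : SpecialLinearGroup ι F} (e : h.1 * E = E * h.1) (a : g ∈ N E) : h * g * h⁻¹ ∈ N E := by
  have i1 : h.1 * h⁻¹.1 = 1 := by rw [← coe_mul]; simp
  have i2 : h⁻¹.1 * h.1 = 1 := by rw [← coe_mul]; simp
  have e' : E * h⁻¹.1 = h⁻¹.1 * E := by rw [← one_mul (E * _), ← i2, mul_assoc, ← mul_assoc h.1, e, mul_assoc, i1, mul_one]
  refine ⟨?_, ?_, fun X Y x y => ?_⟩ <;> rw [coe_mul, coe_mul]
  · rw [← mul_assoc, ← mul_assoc, ← e, mul_assoc h.1, a.1, e, mul_assoc, i1, mul_one]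
  · rw [mul_assoc, ← e', mul_assoc, ← mul_assoc g.1, a.2.1, ← mul_assoc, e, mul_assoc, i1, mul_one]
  · rw [← mul_assoc, ← mul_assoc, mul_assoc _ _ X, a.2.2 _ _ (by rw [← mul_assoc, e', mul_assoc, x, mul_zero])
      (by rw [mul_assoc, e, ← mul_assoc, y, zero_mul]), mul_assoc, ← mul_assoc h.1, i1, one_mul]

theorem pN (h2 : (2 : F) = 0) (E : Matrix ι ι F) : IsPGroup 2 (N E) := fun g => ⟨2, Subtype.ext (Subtype.ext (by
  obtain ⟨u, e⟩ : ∃ u, g.1.1 = 1 + u := ⟨_, (add_sub_cancel _ _).symm⟩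
  have h := g.2
  obtain ⟨a, b, c⟩ := h
  rw [e] at a b c
  have h3 : u * u * u = 0 := by simpa [mul_add, add_mul] using c u u (by simpa [mul_add] using a) (by simpa [add_mul] using b)
  have : (1 + u) ^ 4 = 1 + (2 : F) • ((2 : F) • u + (3 : F) • (u * u)) + (4 : F) • (u * u * u) + u * u * u * u := by
    simp only [pow_succ, pow_zero, mul_add, add_mul, one_mul, mul_one]
    module
  change g.1.1 ^ 4 = 1
  simp [e, this, h2, h3]))⟩

theorem mem_N {E u : Matrix ι ι F} {g : SpecialLinearGroup ι F} (e : g.1 = 1 + u) (a : E * u = 0) (b : u * E = 0)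
    (c : ∃ Z, u = E * Z ∨ u = Z * E) : g ∈ N E := by
  refine ⟨by simp [e, mul_add, a], by simp [e, add_mul, b], fun X Y x y => ?_⟩
  obtain ⟨Z, rfl | rfl⟩ := c
  · simp [e, mul_add, ← mul_assoc, y]
  · simp [e, mul_add, add_mul, mul_assoc, x]

end

/-- Let F be a field with 2 elements, n ≥ 3, and t ∈ SL(n, F) a transvection (t = 1 + E_{ij}, i ≠ j). Then the generalized Fitting subgroup of C(t) is O_2(C(t)). -/
theorem result {F : Type*} [Field F] [Fintype F] [DecidableEq F] (hF : Fintype.card F = 2) (n : ℕ) (hn : 3 ≤ n) (i j : Fin n) (hij : i ≠ j) (t : Matrix.SpecialLinearGroup (Fin n) F) (ht : (t : Matrix (Fin n) (Fin n) F) = Matrix.transvection i j 1) : Cfsg.generalizedFittingSubgroup ↥(Subgroup.centralizer ({t} : Set (Matrix.SpecialLinearGroup (Fin n) F))) = Cfsg.pCore 2 ↥(Subgroup.centralizer ({t} : Set (Matrix.SpecialLinearGroup (Fin n) F))) := by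
  open Matrix Matrix.SpecialLinearGroup CfsgH9 in
  open scoped commutatorElement in
  · have : Fact (Nat.Prime 2) := Nat.fact_prime_two
    have h1 : ∀ x : F, x ≠ 0 → x = 1 := fun x hx => by simpa [hF] using FiniteField.pow_card_sub_one_eq_one x hx
    have h2 : (2 : F) = 0 := by simpa [hF] using FiniteField.cast_card_eq_zero F
    have hc : ∀ g, g ∈ Subgroup.centralizer {t} ↔ g.1 * single i j 1 = single i j 1 * g.1 := fun g => by
      rw [Subgroup.mem_centralizer_singleton_iff, show g * t = t * g ↔ g.1 * t.1 = t.1 * g.1 from Subtype.ext_iff, ht]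
      simp [Matrix.transvection, mul_add, add_mul]
    have hN : N (single i j (1 : F)) ≤ Op 2 (Subgroup.centralizer {t}) := le_Op (.of_normal (fun g a => (hc g).2 (a.2.1.trans a.1.symm))
      fun g a => Subgroup.mem_normalizer_fintype fun _ => conj_N ((hc g).1 a)) (pN h2 _)
    refine chP_iff_eq.1 (chP_of_le hN (le_trans (fun g a => ?_) hN))
    have r1 := fun k (e : i ≠ k) => congrArg Subtype.val (a.2 _ (mem_N (E := single i j 1) (transvection_coe e 1) (by simp [hij.symm])
      (by simp [e.symm]) ⟨single j k 1, .inl (by simp)⟩))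
    have r2 := fun k (e : k ≠ j) => congrArg Subtype.val (a.2 _ (mem_N (E := single i j 1) (transvection_coe e 1) (by simp [e.symm])
      (by simp [hij.symm]) ⟨single k i 1, .inr (by simp)⟩))
    simp only [coe_mul, transvection_coe, mul_add, add_mul, one_mul, mul_one, add_right_inj] at r1 r2
    have s1 : ∀ a b, i ≠ a → b ≠ a → g.1 a b = 0 := fun a b x y => by simpa [y] using congrFun (congrFun (r1 a x) i) b
    have s2 : ∀ b, i ≠ b → b ≠ j → g.1 i b = 0 := fun b x y => by simpa [x] using (congrFun (congrFun (r2 b y) i) j).symm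
    have s3 : g.1 i i = 1 := h1 _ fun e => one_ne_zero (g.2.symm.trans (det_eq_zero_of_column_eq_zero i fun a =>
      (eq_or_ne i a).elim (· ▸ e) fun x => s1 a i x x))
    have s4 : ∀ a, i ≠ a → g.1 a a = 1 := fun a x => by simpa [s3] using congrFun (congrFun (r1 a x) i) a
    refine mem_N (u := single i j (g.1 i j)) (Matrix.ext fun a b => ?_) (by simp [hij.symm]) (by simp [hij.symm])
      ⟨single j j (g.1 i j), .inl (by simp)⟩
    rcases eq_or_ne i a with rfl | x
    · rcases eq_or_ne i b with rfl | y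
      · simp [s3, hij.symm]
      rcases eq_or_ne b j with rfl | z
      · simp [hij]
      · simp [s2 b y z, y, z.symm]
    rcases eq_or_ne b a with rfl | y
    · simp [s4 b x, x]
    · simp [s1 a b x y, x, y.symm]

end Cfsg.Agent.S1339
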