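import Cfsg.Statements.S1340
import Cfsg.Agent.H5.Ct1
import Cfsg.Agent.H9.Cores

set_option autoImplicit false
open Cfsg

namespace Cfsg.Agent.S1340

open Matrix CfsgH5.Ct CfsgH9

/-- Let F be a finite field of odd order and n ≥ 3 with (n, |F|) ≠ (3, 3). Then GL(n, F) has a non-central involution t such that C(t) / O(C(t)) has a component. -/
theorem result {F : Type*} [Field F] [Fintype F] [DecidableEq F] (hF : Odd (Fintype.card F)) (n : ℕ) (hn : 3 ≤ n) (h33 : ¬ (n = 3 ∧ Fintype.card F = 3)) : ∃ t : Matrix.GeneralLinearGroup (Fin n) F, orderOf t = 2 ∧ t ∉ Subgroup.center (Matrix.GeneralLinearGroup (Fin n) F) ∧ Cfsg.HasComponent (↥(Subgroup.centralizer ({t} : Set (Matrix.GeneralLinearGroup (Fin n) F))) ⧸ Cfsg.oddCore ↥(Subgroup.centralizer ({t} : Set (Matrix.GeneralLinearGroup (Fin n) F)))) := by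
  obtain ⟨m, rfl⟩ : ∃ m, n = m + 1 := ⟨n - 1, by omega⟩
  have h2 := two_ne hF
  have hq : 3 ≤ m ∨ 4 ≤ Fintype.card F := by
    have := Fintype.one_lt_card (α := F)
    obtain ⟨k, hk⟩ := hF
    omega
  let t : GL (Fin (m + 1)) F := ⟨blk (-1) 1, blk (-1) 1, by simp [blk_mul, blk_one], by simp [blk_mul, blk_one]⟩
  let i0 : Fin m := ⟨0, by omega⟩
  let i1 : Fin m := ⟨1, by omega⟩
  have h01 : i0 ≠ i1 := by simp [i0, i1]
  have hne : (-1 : F) ≠ 1 := fun e => h2 (by linear_combination -e)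
  haveI : Fact (Nat.Prime 2) := ⟨Nat.prime_two⟩
  refine ⟨t, orderOf_eq_prime (Units.ext (by simp [t, sq, blk_mul, blk_one])) fun e => ?_, fun e => ?_, ?_⟩
  · have := congrArg (fun u : GL (Fin (m + 1)) F => u.1 i0.castSucc i0.castSucc) e
    simp [t, hne] at this
  · obtain ⟨a, ha⟩ := GeneralLinearGroup.mem_center_iff_val_mem_range_scalar.1 e
    have a1 := congrFun (congrFun ha i0.castSucc) i0.castSucc
    have a2 := congrFun (congrFun ha (Fin.last m)) (Fin.last m)
    simp [t] at a1 a2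
    exact hne (a1.symm.trans a2)
  set C := Subgroup.centralizer ({t} : Set (GL (Fin (m + 1)) F)) with hC
  have mC : ∀ g : GL (Fin (m + 1)) F, g ∈ C ↔ blk (-1) 1 * g.1 = g.1 * blk (-1) 1 := fun g => by
    rw [hC, Subgroup.mem_centralizer_singleton_iff, eq_comm, Units.ext_iff]; rfl
  let ψ : SpecialLinearGroup (Fin m) F →* C :=
    (SpecialLinearGroup.toGL.comp (φ F m)).codRestrict C fun g => (mC _).2 (comm_t _ _)
  have inj : Function.Injective ψ := fun a b h =>
    φ_inj (SpecialLinearGroup.toGL_injective (congrArg Subtype.val h))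
  have nor : ψ.range.Normal := ⟨by
    rintro _ ⟨a, rfl⟩ g
    obtain ⟨A, c, hA⟩ := of_comm h2 ((mC _).1 g.2)
    obtain ⟨B, d, hB⟩ := of_comm h2 ((mC _).1 g⁻¹.2)
    have e : blk A c * blk B d = blk 1 1 := by rw [← hA, ← hB, blk_one]; simp
    rw [blk_mul] at e
    obtain ⟨e1, e2⟩ := blk_inj e
    refine ⟨⟨A * a.1 * B, by rw [det_mul, det_mul, a.2, mul_one, ← det_mul, e1, det_one]⟩, Subtype.ext (Units.ext ?_)⟩
    change blk (A * a.1 * B) 1 = g.1.1 * blk a.1 1 * g⁻¹.1.1
    rw [hA, hB, blk_mul, blk_mul, mul_one, e2]⟩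
  have qs : QS ψ.range := by
    rw [MonoidHom.range_eq_map]; exact (QS.map_iff inj).2 (qs_SL (by omega) hq)
  have := (Comp.mk (Sn.of_normal_top ψ.range) qs).map (QuotientGroup.mk' (Cfsg.oddCore C)) (fun e => by
    rw [Subgroup.map_eq_bot_iff, QuotientGroup.ker_mk'] at e
    let x : SpecialLinearGroup (Fin m) F := SpecialLinearGroup.diag2n h01 (-1) (by simp)
    have x2 : orderOf x = 2 := orderOf_eq_prime (Subtype.ext (by
      rw [sq]
      change diagonal _ * diagonal _ = (1 : Matrix (Fin m) (Fin m) F)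
      rw [diagonal_mul_diagonal, ← diagonal_one]; congr 1; ext k; split_ifs <;> simp)) fun e => by
        have := congrFun (congrFun (congrArg Subtype.val e) i0) i0
        simp [x, SpecialLinearGroup.diag2n_coe, hne] at this
    have := (pPrimeCore_coprime (G := C) 2).coprime_dvd_left (Subgroup.orderOf_dvd_natCard _ (e ⟨x, rfl⟩))
    rw [orderOf_injective ψ inj, x2] at this
    simp at this)
  rw [Subgroup.map_top_of_surjective _ (QuotientGroup.mk'_surjective _)] at this
  exact ⟨_, comp_top_iff.1 this⟩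

end Cfsg.Agent.S1340
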