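import Cfsg.Statements.S4408
import Mathlib
import Cfsg.Agent.H2.BG0

set_option autoImplicit false
open Cfsg

namespace Cfsg.Agent.S4408

section
open Subgroup Cfsg CfsgH2 Function
open scoped commutatorElement

theorem step {G : Type*} [Group G] [Finite G] {F I B : Subgroup G} (nF : Nil[F]) (od : Odd o[F])
    (hI : IsElementaryAbelian 2 I) (n1 : I ≤ N[F]) (l : B ≤ F) (n2 : I ≤ N[B]) {t : G} (t1 : t ∈ I) (t2 : t ∈ C[B])
    (t3 : t ∉ C[F]) : ∃ x ∈ F ⊓ C[B], (orderOf x).Prime ∧ x ∉ B ∧ t ∉ C1[x] ∧ I ≤ N[zpowers x] ∧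
      ∀ a ∈ I, a * t ∈ C1[x] ∨ a ∈ C1[x] := by
  have cp : ∀ K ≤ F, o[I].Coprime o[K] := fun K h => coprime_of_pgroup (isPGroup_of_exp hI.2) fun d =>
    od.not_two_dvd_nat (d.trans (card_dvd_of_le h))
  have cm := isMulComm_iff.1 hI.1
  have sq : ∀ a ∈ I, a * a = 1 := fun a h => by rw [← pow_two]; exact hI.2 a h
  have nW : I ≤ N[F ⊓ C[B]] := le_norm_inf n1 (le_norm_cent n2)
  obtain ⟨J, J1, ⟨a, a1, a2⟩, J3⟩ : ∃ J ≤ I, (∃ a ∈ I, J ⊔ zpowers a = I) ∧ ¬ F ⊓ C[B] ⊓ C[J] ≤ C[zpowers t] := by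
    by_contra h; push Not at h
    exact t3 (coprime_nil_cent nF (zpowers_le.2 (n1 t1)) ((cp F le_rfl).coprime_dvd_left (card_dvd_of_le (zpowers_le.2 t1)))
      ((inf_le_inf_left F (cent_anti (le_inf l (le_centralizer_iff.1 (zpowers_le.2 t2))))).trans
        (le_of_cocyclic hI.1 nW (cp _ inf_le_left) h)) (mem_zpowers t))
  obtain ⟨y, y1, y2⟩ := SetLike.not_le_iff_exists.1 J3
  rw [cent_zpowers, mem_centralizer_singleton_iff] at y2
  have ca : ∀ b ∈ I, b ∈ J ∨ b * a ∈ J := fun b h => by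
    obtain ⟨j, j1, _, ⟨k, rfl⟩, rfl⟩ := (mem_sup_of_norm' (zpowers_le.2 (le_norm_of_le_cent
      (le_cent_of_comm hI.1 J1) a1))).1 (a2.ge h)
    have e : ∀ m : ℤ, a ^ (2 * m) = 1 := fun m => by rw [zpow_mul, zpow_two, sq a a1, one_zpow]
    rcases Int.even_or_odd' k with ⟨m, rfl | rfl⟩
    · left; simpa [e] using j1
    · right; simpa [zpow_add, e, mul_assoc, sq a a1] using j1
  have ta := (ca t t1).resolve_left fun h => y2 (y1.2 t h).symm
  have ct : ∀ b ∈ I, b * t ∈ J ∨ b ∈ J := fun b h => (ca b h).symm.imp_left fun c => by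
    have := mul_mem c ta
    rwa [mul_assoc, cm a a1 _ (mul_mem t1 a1), mul_assoc, sq a a1, mul_one] at this
  have nJ : t ∈ N[F ⊓ C[B] ⊓ C[J]] := mem_norm_inf (nW t1) (le_norm_cent (le_norm_of_le_cent (le_cent_of_comm hI.1 J1)) t1)
  set z := y⁻¹ * (t * y * t⁻¹) with hz
  have z1 : z ∈ F ⊓ C[B] ⊓ C[J] := mul_mem (inv_mem y1) (conj_mem_of_norm nJ y1)
  have z0 : orderOf z ≠ 1 := fun e => y2 (by
    rw [orderOf_eq_one_iff, hz, inv_mul_eq_one] at e
    exact eq_mul_inv_iff_mul_eq.1 e)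
  have zt : t * z * t⁻¹ = z⁻¹ := by
    have : t⁻¹ = t := inv_eq_of_mul_eq_one_right (sq t t1)
    calc _ = t * y⁻¹ * t * y * (t * t)⁻¹ := by rw [hz]; group
      _ = t * y⁻¹ * t⁻¹ * y := by rw [sq t t1, this]; simp
      _ = _ := by rw [hz]; group
  have o := orderOf_pow_orderOf_div (orderOf_pos z).ne' (Nat.minFac_dvd (orderOf z))
  set x := z ^ (orderOf z / (orderOf z).minFac)
  have x1 : x ∈ F ⊓ C[B] ⊓ C[J] := pow_mem z1 _
  have xt : t * x * t⁻¹ = x⁻¹ := by rw [← conj_pow, zt, inv_pow]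
  have px : (orderOf x).Prime := o ▸ Nat.minFac_prime z0
  have tx : t ∉ C1[x] := fun c => by
    rw [mem_centralizer_singleton_iff.1 c, mul_inv_cancel_right] at xt
    have d : orderOf x ∣ 2 := orderOf_dvd_of_pow_eq_one (by rw [pow_two]; exact mul_eq_one_iff_eq_inv.2 xt)
    exact od.not_two_dvd_nat ((Nat.prime_dvd_prime_iff_eq px Nat.prime_two).1 d ▸ orderOf_dvd_of_mem x1.1.1)
  have jx : ∀ j ∈ J, j ∈ C1[x] := fun j h => mem_centralizer_singleton_iff.2 (x1.2 j h)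
  have nt : t ∈ N[zpowers x] := mem_norm_of_conj (by
    rintro _ ⟨k, rfl⟩
    exact ⟨-k, by simp only [← conj_zpow, xt]; simp⟩)
  have nc : ∀ j ∈ J, j ∈ N[zpowers x] := fun j h => cent_le_norm _ (cent_zpowers x ▸ jx j h)
  exact ⟨x, x1.1, px, fun c => tx (mem_centralizer_singleton_iff.2 (t2 x c).symm), tx, fun b h =>
    (ct b h).elim (fun c => (mul_mem_cancel_right nt).1 (nc _ c)) (nc b), fun b h => (ct b h).imp (jx _) (jx _)⟩

theorem main {G : Type*} [Group G] [Finite G] {F I : Subgroup G} (nF : Nil[F]) (od : Odd o[F])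
    (hI : IsElementaryAbelian 2 I) (n1 : I ≤ N[F]) (h0 : I ⊓ C[F] = ⊥) {n : ℕ} (hn : o[I] = 2 ^ n) (k : ℕ) (hk : k ≤ n) :
    ∃ f : Fin k → Subgroup G, (∀ i, o[f i].Prime) ∧ (∀ i, f i ≤ F) ∧ (∀ i, I ≤ N[f i]) ∧
      (∀ i j, i ≠ j → ∀ a ∈ f i, ∀ b ∈ f j, a * b = b * a) ∧ o[⨆ i, f i] = ∏ i, o[f i] ∧
      o[I ⊓ C[⨆ i, f i]] * 2 ^ k = 2 ^ n := by
  induction k with
  | zero => exact ⟨Fin.elim0, by simp, by simp, by simp, by simp, by simp, by rw [iSup_of_empty, cent_bot, inf_top_eq, hn]; simp⟩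
  | succ k ih =>
    obtain ⟨f, h1, h2, h3, h4, h5, h6⟩ := ih (by omega)
    obtain ⟨t, t1, t0⟩ := (bot_or_exists_ne_one (I ⊓ C[⨆ i, f i])).resolve_left fun e => by
      rw [e, card_bot, one_mul] at h6
      have := Nat.pow_right_injective le_rfl h6
      omega
    obtain ⟨x, x1, x2, x3, x4, x5, x6⟩ := step nF od hI n1 (iSup_le h2) (fun a b => mem_norm_of_map_le (by
      rw [Subgroup.map_iSup]; exact iSup_mono fun i => (map_cj_eq (h3 i b)).le)) t1.1 t1.2
      fun c => t0 (mem_bot.1 (h0.le ⟨t1.1, c⟩))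
    have e : (⨆ i, (Fin.cons (zpowers x) f : Fin (k + 1) → Subgroup G) i) = zpowers x ⊔ ⨆ i, f i :=
      le_antisymm (iSup_le fun i => Fin.cases le_sup_left (fun j => le_sup_of_le_right (le_iSup f j)) i)
        (sup_le (le_iSup_of_le 0 le_rfl) (iSup_le fun i => le_iSup_of_le i.succ le_rfl))
    have c : ∀ i, ∀ a ∈ f i, ∀ b ∈ zpowers x, a * b = b * a := fun i a h b h' =>
      zpowers_le.2 x1.2 h' a (le_iSup f i h)
    refine ⟨Fin.cons (zpowers x) f, Fin.cases (by simpa [Nat.card_zpowers] using x2) h1,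
      Fin.cases (zpowers_le.2 x1.1) h2, Fin.cases x5 h3, Fin.cases (Fin.cases (fun h => absurd rfl h)
        fun j _ a h b h' => (c j b h' a h).symm) fun i => Fin.cases (fun _ => c i)
        fun j h => h4 i j fun e => h (e ▸ rfl), ?_, ?_⟩
    · rw [e, Fin.prod_univ_succ, card_sup_of_disj (Or.inl (le_norm_of_le_cent (zpowers_le.2 x1.2))), h5]
      · rfl
      haveI := Fact.mk (Nat.card_zpowers x ▸ x2)
      rcases ((⨆ i, f i).subgroupOf (zpowers x)).eq_bot_or_eq_top_of_prime_card with a | a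
      · rw [inf_comm]; exact subgroupOf_eq_bot.1 a |>.eq_bot
      · exact absurd (subgroupOf_eq_top.1 a (mem_zpowers x)) x3
    · rw [e, cent_sup, cent_zpowers, ← h6, ← card_inf_mul_relIndex C1[x] (I ⊓ C[⨆ i, f i]),
        relIndex_eq_two_iff_exists_notMem_and.2 ⟨t, t1, x4, fun b h => x6 b h.1⟩, inf_left_comm, pow_succ]
      ring

end

/-- Let S be a finite solvable group whose Fitting subgroup F(S) has odd order, and let I be an elementary abelian 2-subgroup of S of order 2ⁿ with n ≥ 1. Then F(S) contains subgroups A₁, …, Aₙ of prime order, each normalized by I, pairwise commuting and generating a subgroup A of order |A₁|⋯|Aₙ| (their internal direct product), such that no non-identity element of I centralizes A. -/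
theorem result {S : Type*} [Group S] [Finite S]
    [Group.IsSolvable S] (hF : Odd (Nat.card ↥(Cfsg.fittingSubgroup S)))
    (I : Subgroup S) (hI : Cfsg.IsElementaryAbelian 2 I) (n : ℕ) (hn : 1 ≤ n) (hIn : Nat.card ↥I = 2 ^ n) :
    ∃ f : Fin n → Subgroup S, (∀ i, (Nat.card ↥(f i)).Prime) ∧ (∀ i, f i ≤ Cfsg.fittingSubgroup S) ∧
      (∀ i, I ≤ Subgroup.normalizer ((f i) : Set S)) ∧ (∀ i j, i ≠ j → ∀ a ∈ f i, ∀ b ∈ f j, a * b = b * a) ∧
      Nat.card ↥(⨆ i, f i) = ∏ i, Nat.card ↥(f i) ∧ I ⊓ Subgroup.centralizer ((⨆ i, f i : Subgroup S) : Set S) = ⊥ := by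
  open Subgroup Cfsg CfsgH2 Function in
  open scoped commutatorElement in
  have c := cent_fit_le (H := (⊤ : Subgroup S)) (isSolvable_top_iff.2 inferInstance)
  rw [fit_top, top_inf_eq] at c
  haveI : (fittingSubgroup S).Normal := fit_top (G := S) ▸ normal_of_top_le_norm le_norm_fit
  obtain ⟨f, h1, h2, h3, h4, h5, h6⟩ := main (fit_top (G := S) ▸ fit_nil) hF hI le_normalizer_of_normal
    (eq_bot_iff.2 ((inf_le_inf_left I c).trans (inf_eq_bot_of_coprime' (coprime_of_pgroup (isPGroup_of_exp hI.2)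
      hF.not_two_dvd_nat)).le)) hIn n le_rfl
  exact ⟨f, h1, h2, h3, h4, h5, card_eq_one.1 ((Nat.mul_eq_right (by positivity)).1 h6)⟩

end Cfsg.Agent.S4408
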