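import Cfsg.Statements.S1349
import Mathlib
import Cfsg.Agent.H9.Pump2
import Cfsg.Agent.H9.FsAct
import Cfsg.Agent.L0.Invol
import Cfsg.Agent.S4408

set_option autoImplicit false
open Cfsg

namespace Cfsg.Agent.S1349

/-- Let G be finite, L ≤ G solvable of odd order, and A an elementary abelian 2-subgroup of order 2^d (d ≥ 1) normalizing L with C_A(L) = 1. Then there are subgroups A_1, …, A_d of A of order 2 generating A and subgroups L_1, …, L_d of L such that each A_i ⊔ L_i is dihedral of order 2 n_i with n_i odd and at least 3, and A_i ⊔ L_i commutes elementwise with A_j ⊔ L_j for i ≠ j. -/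
theorem result {G : Type*} [Group G] [Finite G] (L A : Subgroup G) (hLs : Group.IsSolvable ↥L) (hLodd : Odd (Nat.card ↥L)) (hA : Cfsg.IsElementaryAbelian 2 A) (d : ℕ) (hd : 1 ≤ d) (hAd : Nat.card ↥A = 2 ^ d) (hAL : A ≤ Subgroup.normalizer (L : Set G)) (hfaith : A ⊓ Subgroup.centralizer (L : Set G) = ⊥) : ∃ (Ai : Fin d → Subgroup G) (Li : Fin d → Subgroup G) (n : Fin d → ℕ), (∀ i, Ai i ≤ A ∧ Nat.card ↥(Ai i) = 2 ∧ Li i ≤ L ∧ Odd (n i) ∧ 3 ≤ n i ∧ Nonempty (↥(Ai i ⊔ Li i) ≃* DihedralGroup (n i))) ∧ (⨆ i, Ai i) = A ∧ ∀ i j, i ≠ j → ∀ x ∈ Ai i ⊔ Li i, ∀ y ∈ Ai j ⊔ Li j, x * y = y * x := by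
  open Subgroup CfsgH9 in
  haveI : Fact (Nat.Prime 2) := ⟨Nat.prime_two⟩
  have hc := Nat.coprime_two_right.2 hLodd
  have hF := le_normalizer_Fit hAL
  have h0 : A ⊓ centralizer (Fit L : Set G) = ⊥ := by
    have n : A ⊓ centralizer (Fit L : Set G) ≤ normalizer (L : Set G) := inf_le_left.trans hAL
    have h1 : ⁅L, A ⊓ centralizer (Fit L : Set G)⁆ ≤ Fit L :=
      (le_inf (commutator_le_left_of n) ((commutator_mono le_rfl inf_le_right).trans
        (commutator_le_right_of (le_normalizer_centralizer (le_normalizer_Fit le_normalizer))))).trans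
        (centralizer_Fit_le_of_solvable hLs)
    have h2 := comm_comm_of_splits n
      (coprime_sup_centralizer ((ea_isPGroup hA).to_le inf_le_left) hc n).ge
    rw [comm_bot_mono (comm_bot_iff'.2 inf_le_right) h1 le_rfl] at h2
    exact eq_bot_iff.2 ((le_inf inf_le_left (comm_bot_iff'.1 h2.symm)).trans hfaith.le)
  obtain ⟨f, f1, f2, f3, f4, -, f6⟩ := Cfsg.Agent.S4408.main (Fit_nilpotent L)
    (Nat.coprime_two_right.1 (coprime_of_le (Fit_le L) hc)) hA hF h0 hAd d le_rfl
  have f7 : ∀ a ∈ A, (∀ i, a ∈ centralizer (f i : Set G)) → a = 1 := by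
    intro a a1 a2
    have e : A ⊓ centralizer ((⨆ i, f i : Subgroup G) : Set G) = ⊥ :=
      eq_bot_of_card_eq _ (Nat.eq_of_mul_eq_mul_right (by positivity) (f6.trans (one_mul _).symm))
    exact mem_bot.1 (e.le (mem_inf.2 ⟨a1, mem_centralizer_iff_le.2
      (iSup_le fun i => mem_centralizer_iff_le.1 (a2 i))⟩))
  have sq : ∀ a ∈ A, a * a = 1 := fun a ha => by rw [← pow_two]; exact (ea_iff.1 hA).2 a ha
  have inv : ∀ i, ∀ a ∈ A, a ∉ centralizer (f i : Set G) → ∀ x ∈ f i, a * x * a⁻¹ = x⁻¹ := by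
    intro i a a1 a2 x hx
    refine inverts_of_fpf (sq a a1) (f3 i a1) ?_ hx
    haveI := Fact.mk (f1 i)
    rcases ((centralizer ({a} : Set G)).subgroupOf (f i)).eq_bot_or_eq_top_of_prime_card with e | e
    · rw [inf_comm]; exact (subgroupOf_eq_bot.1 e).eq_bot
    · exact (a2 (mem_centralizer_iff_le.2 (subgroupOf_eq_top.1 e))).elim
  have two : ∀ i, ∀ a ∈ A, ∀ b ∈ A, a ∉ centralizer (f i : Set G) → b ∉ centralizer (f i : Set G) →
      a * b ∈ centralizer (f i : Set G) := fun i a a1 b b1 a2 b2 => mem_centralizer_iff.2 fun x hx => by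
    have : a * b * x * (a * b)⁻¹ = x := by
      calc _ = a * (b * x * b⁻¹) * a⁻¹ := by group
        _ = x := by rw [inv i b b1 b2 x hx, inv i a a1 a2 _ (inv_mem hx), inv_inv]
    exact (mul_inv_eq_iff_eq_mul.1 this).symm
  have idx : ∀ i, (centralizer (f i : Set G)).relIndex A ≤ 2 := fun i => by
    by_cases h : A ≤ centralizer (f i : Set G)
    · rw [relIndex_eq_one.2 h]; norm_num
    · obtain ⟨t, t1, t2⟩ := SetLike.not_le_iff_exists.1 h
      exact (relIndex_eq_two_iff_exists_notMem_and.2 ⟨t, t1, t2, fun b hb =>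
        (em (b ∈ centralizer (f i : Set G))).symm.imp_left fun e => two i b hb t t1 e t2⟩).le
  have ex : ∀ i, ∃ a ∈ A, a ≠ 1 ∧ ∀ j, j ≠ i → a ∈ centralizer (f j : Set G) := by
    intro i
    have h1 := relIndex_iInf_le (L := A) fun j : {j : Fin d // j ≠ i} => centralizer (f j : Set G)
    have h2 : ∏ j : {j : Fin d // j ≠ i}, (centralizer (f j : Set G)).relIndex A ≤ 2 ^ (d - 1) := by
      refine (Finset.prod_le_pow_card _ _ 2 fun j _ => idx j.1).trans (le_of_eq ?_)
      simp
    have h3 := card_inf_mul_relIndex (⨅ j : {j : Fin d // j ≠ i}, centralizer (f j : Set G)) A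
    obtain ⟨a, a1, a2⟩ := exists_ne_one_of_ne_bot
      (A := (⨅ j : {j : Fin d // j ≠ i}, centralizer (f j : Set G)) ⊓ A) fun e => by
        rw [e, card_bot, one_mul, hAd] at h3
        have := Nat.pow_lt_pow_right (a := 2) (by norm_num) (show d - 1 < d by omega)
        omega
    exact ⟨a, a1.2, a2, fun j hj => mem_iInf.1 a1.1 ⟨j, hj⟩⟩
  choose a a1 a2 a3 using ex
  have a4 : ∀ i, a i ∉ centralizer (f i : Set G) := fun i h => a2 i (f7 _ (a1 i) fun j => by
    by_cases e : j = i
    · rwa [e]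
    · exact a3 i j e)
  have odd : ∀ i, Odd (Nat.card (f i)) := fun i =>
    Nat.coprime_two_right.1 (coprime_of_le ((f2 i).trans (Fit_le L)) hc)
  refine ⟨fun i => zpowers (a i), f, fun i => Nat.card (f i), fun i => ⟨zpowers_le.2 (a1 i), by
    rw [Nat.card_zpowers, ea_orderOf hA (a1 i) (a2 i)], (f2 i).trans (Fit_le L), odd i, ?_, ?_⟩,
    le_antisymm (iSup_le fun i => zpowers_le.2 (a1 i)) ?_, fun i j hij => ?_⟩
  · have := (f1 i).two_le
    have := odd i
    rw [Nat.odd_iff] at this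
    change 3 ≤ Nat.card (f i)
    omega
  · haveI := Fact.mk (f1 i)
    obtain ⟨x, x1, x2⟩ := exists_zpowers_of_isCyclic (X := f i) (isCyclic_of_prime_card rfl)
    have := CfsgL0.dihedral_iso (a i) x (sq _ (a1 i)) (inv i _ (a1 i) (a4 i) x x1) fun h =>
      a4 i (comm_bot_iff.1 (x2 ▸ zpowers_comm x) (x2 ▸ h))
    rwa [← Nat.card_zpowers, x2, Set.insert_eq, Subgroup.closure_union, ← zpowers_eq_closure,
      ← zpowers_eq_closure, x2] at this
  · classical
    have key : ∀ s : Finset (Fin d), ∀ b ∈ A, (∀ i, i ∉ s → b ∈ centralizer (f i : Set G)) →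
        b ∈ ⨆ i, zpowers (a i) := by
      intro s
      induction s using Finset.induction_on with
      | empty => intro b b1 b2; rw [f7 b b1 fun i => b2 i (by simp)]; exact one_mem _
      | insert i s hi ih =>
        intro b b1 b2
        by_cases e : b ∈ centralizer (f i : Set G)
        · exact ih b b1 fun j hj => if h : j = i then h ▸ e else b2 j (by simp [h, hj])
        · refine (mul_mem_cancel_right (mem_iSup_of_mem i (mem_zpowers (a i)))).1
            (ih _ (mul_mem b1 (a1 i)) fun j hj => ?_)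
          by_cases h : j = i
          · exact h ▸ two i b b1 _ (a1 i) e (a4 i)
          · exact mul_mem (b2 j (by simp [h, hj])) (a3 i j h)
    exact fun b hb => key Finset.univ b hb fun i hi => (hi (Finset.mem_univ i)).elim
  · exact comm_bot_iff_forall.1 (comm_bot_sup_left (comm_bot_sup_right
      (zpowers_comm_zpowers_iff.2 (ea_mul_comm hA (a1 i) (a1 j))) (zpowers_comm_iff.2 (a3 i j hij.symm)))
      (comm_bot_sup_right (comm_bot_symm (zpowers_comm_iff.2 (a3 j i hij)))
        (comm_bot_iff_forall.2 (f4 i j hij))))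

end Cfsg.Agent.S1349
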