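import Cfsg.Statements.S1639
import Mathlib
import Cfsg.Agent.H7.Gol.Tr2

set_option autoImplicit false
open scoped Pointwise
open Cfsg

namespace Cfsg.Agent.S1639

open CfsgH7 CfsgH7.Gol MulAction
open scoped Pointwise

/-- The point stabiliser acts on the 1288 dodecads through the point with rank 4 and subdegrees 1, 165, 330, 792, distinguished by intersection 4, 8, 6 with the fixed dodecad. -/
theorem result (x : Cfsg.GolayPt) (d : Finset Cfsg.GolayPt) (hd : d ∈ Cfsg.dodecads) (hx : x ∈ d) : {d' : Finset Cfsg.GolayPt | d' ∈ Cfsg.dodecads ∧ x ∈ d' ∧ (d ∩ d').card = 4}.ncard = 165 ∧ {d' : Finset Cfsg.GolayPt | d' ∈ Cfsg.dodecads ∧ x ∈ d' ∧ (d ∩ d').card = 8}.ncard = 330 ∧ {d' : Finset Cfsg.GolayPt | d' ∈ Cfsg.dodecads ∧ x ∈ d' ∧ (d ∩ d').card = 6}.ncard = 792 ∧ ∀ d' d'' : Finset Cfsg.GolayPt, d' ∈ Cfsg.dodecads → d'' ∈ Cfsg.dodecads → x ∈ d' → x ∈ d'' → (d ∩ d').card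 = (d ∩ d'').card → ∃ g : Equiv.Perm Cfsg.GolayPt, g ∈ Cfsg.M24 ∧ g x = x ∧ g • d = d ∧ g • d' = d'' := by
  obtain ⟨c, rfl, rfl⟩ := dpts1 hd hx
  have r := fun k => (rbW 12).and ((rbP (j := 0) (by norm_num)).and (rbI 0x5335f k))
  refine ⟨FC.ncard_tr (r 4) c (fun y => ?_) 12 (by decide +kernel), FC.ncard_tr (r 8) c (fun y => ?_) 12 (by decide +kernel),
    FC.ncard_tr (r 6) c (fun y => ?_) 12 (by decide +kernel), fun y z hy hz h1 h2 h => ?_⟩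
  · simp only [Set.mem_setOf_eq, mdod, mem_smul, card_inter_smul, mem_dod (s := y), and_assoc]
  · simp only [Set.mem_setOf_eq, mdod, mem_smul, card_inter_smul, mem_dod (s := y), and_assoc]
  · simp only [Set.mem_setOf_eq, mdod, mem_smul, card_inter_smul, mem_dod (s := y), and_assoc]
  obtain ⟨y, rfl⟩ := ex_smul c y
  obtain ⟨z, rfl⟩ := ex_smul c z
  simp only [mdod, mem_smul, card_inter_smul] at *
  obtain ⟨k, hk, e⟩ := FC.trK RC mem11 r 13 [0,0,0,0,105,0,13,0,31,0,0,0,863] [[],[],[],[],[0,0,0,0,1,0,0,0,0,1,0,0,0,0,1,0,0],[],[0,0,0,0,1,0,0,0,0,1,0,0,0,0,1,0,0,0,0,1,0,0,0,0,1,0],[],[0,0,0,0,1,0,0,0,0,1,0,0,0,0,1,0,0,0,0,1,0],[],[],[],[]] (by decide +kernel) _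
    (Nat.lt_succ_of_le ((Finset.card_le_card Finset.inter_subset_right).trans hy.2.le)) y hy.1 z hz.1
    ⟨hy.2, h1, rfl⟩ ⟨hz.2, h2, h.symm⟩
  exact ⟨_, (c * k * c⁻¹).2, cj_smul c hk.2, cj_smul c hk.1, cj_smul c e⟩

end Cfsg.Agent.S1639
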