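import Cfsg.Statements.S1896
import Cfsg.Agent.H2.Pq4
import Cfsg.Agent.H2.MaxCl
import Cfsg.Agent.H2.Misc
import Cfsg.Agent.L0.Mcy

set_option autoImplicit false
open Cfsg

open Function Subgroup CfsgH2
open scoped CfsgH2 commutatorElement

namespace Cfsg.Agent.S1896
theorem prod_iso {G : Type*} [Group G] [Finite G] {X : Subgroup G} {a b : G} {m : ℕ} (ha : orderOf a = m)
    (hb : orderOf b = m) (hc : Commute a b) (hd : zpowers a ⊓ zpowers b = ⊥) (hs : zpowers a ⊔ zpowers b = X) :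
    Nonempty (X ≃* Multiplicative (ZMod m) × Multiplicative (ZMod m)) := by
  have hm : m ≠ 0 := ha ▸ (orderOf_pos a).ne'
  haveI : NeZero m := ⟨hm⟩
  have e : ∀ x : G, orderOf x = m → ∃ f : Multiplicative (ZMod m) →* G, Injective f ∧ f.range = zpowers x := by
    intro x hx
    let e : Multiplicative (ZMod m) ≃* zpowers x := mulEquivOfCyclicCardEq (by
      rw [Nat.card_congr Multiplicative.toAdd, Nat.card_zmod, Nat.card_zpowers, hx])
    refine ⟨(zpowers x).subtype.comp e.toMonoidHom, Subtype.val_injective.comp e.injective, ?_⟩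
    rw [MonoidHom.range_comp, MonoidHom.range_eq_top.2 e.surjective, ← MonoidHom.range_eq_map, range_subtype]
  obtain ⟨f, hf, rf⟩ := e a ha
  obtain ⟨g, hg, rg⟩ := e b hb
  have comm : ∀ u v, Commute (f u) (g v) := by
    intro u v
    obtain ⟨i, hi⟩ : f u ∈ zpowers a := rf ▸ ⟨u, rfl⟩
    obtain ⟨j, hj⟩ : g v ∈ zpowers b := rg ▸ ⟨v, rfl⟩
    rw [← hi, ← hj]
    exact hc.zpow_zpow i j
  have hinj : Injective (MonoidHom.noncommCoprod f g comm) :=
    (MonoidHom.noncommCoprod_injective f g comm).2 ⟨hf, hg, by rw [rf, rg, disjoint_iff, hd]⟩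
  have hr : (MonoidHom.noncommCoprod f g comm).range = X := by rw [MonoidHom.noncommCoprod_range, rf, rg, hs]
  exact ⟨((MonoidHom.ofInjective hinj).trans (MulEquiv.subgroupCongr hr)).symm⟩

theorem amb {G : Type*} [Group G] [Finite G] {X A : Subgroup G} (hX : IsPGroup 2 X) (nA : A ≤ N[X])
    (hA : ¬ 2 ∣ Nat.card A) (hnc : ¬ A ≤ C[X]) {a b : G} (hs : zpowers a ⊔ zpowers b = X)
    (hb : b ∈ N[zpowers a]) : Nonempty (X ≃* QuaternionGroup 2) ∨
      ∃ n : ℕ, Nonempty (X ≃* Multiplicative (ZMod (2 ^ n)) × Multiplicative (ZMod (2 ^ n))) := by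
  haveI : Fact (Nat.Prime 2) := ⟨Nat.prime_two⟩
  have cop := coprime_of_not_dvd hA hX
  have haX : a ∈ X := hs ▸ mem_sup_left (mem_zpowers a)
  have hbX : b ∈ X := hs ▸ mem_sup_right (mem_zpowers b)
  have hDΦ : ⁅X, X⁆ ≤ Φ[X] := comm_le_phi hX.isNilpotent
  have step : ∀ x ∈ X, ∀ K, Φ[X] ≤ K → K ≤ X → K.relIndex (K ⊔ zpowers x) ∣ 2 := fun x hx K h1 h2 =>
    relIndex_sup_zpowers_dvd (le_norm_of_commutator_le (hDΦ.trans h1) h2 hx) (h1 (pow_mem_phi hX hx))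
  have nΦ : A ≤ N[Φ[X]] := nA.trans norm_le_norm_phi
  have hn2 : ¬ Φ[X].relIndex X ∣ 2 := fun h =>
    hnc (coprime_le_cent_of_phi nA cop (comm_le_of_relIndex_two nA nΦ h))
  have h4 : Φ[X].relIndex X ∣ 2 * 2 := by
    have e : Φ[X] ⊔ zpowers a ⊔ zpowers b = X := by rw [sup_assoc, hs, sup_eq_right.2 phi_le]
    have h1 := step a haX Φ[X] le_rfl phi_le
    have h2 := step b hbX (Φ[X] ⊔ zpowers a) le_sup_left (sup_le phi_le (zpowers_le.2 haX))
    rw [e] at h2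
    rw [← relIndex_mul_relIndex Φ[X] (Φ[X] ⊔ zpowers a) X le_sup_left (sup_le phi_le (zpowers_le.2 haX))]
    exact Nat.mul_dvd_mul h1 h2
  have F1 : ∀ Y, Y ≤ X → A ≤ N[Y] → Y ≠ X → Y ≤ Φ[X] := by
    intro Y h1 h2 h3
    by_contra h5
    have hM : Φ[X] ⊔ Y ≤ X := sup_le phi_le h1
    have e := relIndex_mul_relIndex Φ[X] (Φ[X] ⊔ Y) X le_sup_left hM
    obtain ⟨i, hi⟩ := dvd_relIndex_of_not_le (K := Φ[X]) (hX.to_le hM) (fun h => h5 (le_sup_right.trans h))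
    obtain ⟨j, hj⟩ := dvd_relIndex_of_not_le (K := Φ[X] ⊔ Y) hX (fun h => h3 (eq_of_le_phi_sup h1 h))
    rw [← e, hi, hj, show 2 * i * (2 * j) = 2 * 2 * (i * j) by ring] at h4
    have hij : i * j = 1 := Nat.dvd_one.1 (Nat.dvd_of_mul_dvd_mul_left (by norm_num : 0 < 2 * 2)
      (by rwa [mul_one]))
    have nM : A ≤ N[Φ[X] ⊔ Y] := le_norm_sup nΦ h2
    have c1 := comm_le_of_relIndex_two nA nM (by rw [hj, Nat.eq_one_of_mul_eq_one_left hij])
    have c2 := comm_le_of_relIndex_two nM nΦ (by rw [hi, Nat.eq_one_of_mul_eq_one_right hij])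
    refine hnc (coprime_le_cent_of_phi nA cop ?_)
    rw [← coprime_comm_comm nA cop (Or.inr (by haveI := hX.isNilpotent; infer_instance))]
    exact (commutator_mono c1 le_rfl).trans c2
  have notΦ : ∀ x y, zpowers x ⊔ zpowers y = X → x ∉ Φ[X] := by
    intro x y h hx
    have hy : y ∈ X := h ▸ mem_sup_right (mem_zpowers y)
    have := step y hy Φ[X] le_rfl phi_le
    rw [le_antisymm (sup_le phi_le (zpowers_le.2 hy)) (h.ge.trans (sup_le_sup_right (zpowers_le.2 hx) _))] at this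
    exact hn2 this
  have haΦ := notΦ a b hs
  have hbΦ := notΦ b a (by rw [sup_comm, hs])
  have habΦ : ∀ y ∈ zpowers b, a * y ∉ Φ[X] := fun y hy => notΦ (a * y) b (by
    rw [← hs]
    refine le_antisymm (sup_le (zpowers_le.2 (mul_mem_sup (mem_zpowers a) hy)) le_sup_right)
      (sup_le (zpowers_le.2 ?_) le_sup_right)
    have := mul_mem_sup (mem_zpowers (a * y)) (Subgroup.inv_mem _ hy)
    rwa [mul_inv_cancel_right] at this)
  have nXa : X ≤ N[zpowers a] := hs ▸ sup_le le_normalizer (zpowers_le.2 hb)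
  have hDa : ⁅X, X⁆ ≤ zpowers a := by
    rw [commutator_le]
    intro x hx y hy
    rw [← hs] at hx hy
    obtain ⟨x1, h1, _, ⟨i, rfl⟩, rfl⟩ := (mem_sup_of_norm' (zpowers_le.2 hb)).1 hx
    obtain ⟨y1, h2, _, ⟨j, rfl⟩, rfl⟩ := (mem_sup_of_norm' (zpowers_le.2 hb)).1 hy
    have e : ⁅x1 * b ^ i, y1 * b ^ j⁆ = x1 * (b ^ i * y1 * (b ^ i)⁻¹) * (b ^ j * x1⁻¹ * (b ^ j)⁻¹) * y1⁻¹ := by
      rw [commutatorElement_def]; group
    show ⁅x1 * b ^ i, y1 * b ^ j⁆ ∈ _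
    rw [e]
    exact Subgroup.mul_mem _ (Subgroup.mul_mem _ (Subgroup.mul_mem _ h1
      (conj_mem_of_norm (Subgroup.zpow_mem _ hb i) h2))
      (conj_mem_of_norm (Subgroup.zpow_mem _ hb j) (Subgroup.inv_mem _ h1))) (Subgroup.inv_mem _ h2)
  have nD : A ≤ N[⁅X, X⁆] := le_norm_commutator nA nA
  have hZ : ⁅X, X⁆ ≤ C[X] := by
    rw [le_centralizer_iff]
    by_contra h
    refine haΦ (F1 (X ⊓ C[⁅X, X⁆]) inf_le_left (le_norm_inf nA (le_norm_cent nD))
      (fun h' => h (h'.ge.trans inf_le_right)) ⟨haX, cent_anti hDa ?_⟩)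
    rw [cent_zpowers]
    exact self_mem_cent1 a
  have mp : ∀ x ∈ X, ∀ y ∈ X, ∀ m : ℕ, ∃ d ∈ ⁅X, X⁆, (x * y) ^ m = x ^ m * y ^ m * d ^ m.choose 2 := by
    intro x hx y hy m
    have hd := commutator_mem_commutator (X.inv_mem hy) (X.inv_mem hx)
    exact ⟨_, hd, mul_pow_class2 (mul_eq_mul_comm x y) (commute_of_mem_cent (hZ hd) hx)
      (commute_of_mem_cent (hZ hd) hy) m⟩
  have pw : ∀ (m : ℕ) (W : Subgroup G), A ≤ N[W] → (∀ d ∈ ⁅X, X⁆, d ^ m.choose 2 ∈ W) →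
      ∀ x ∈ X, x ∉ Φ[X] → x ^ m ∈ W → ∀ y ∈ X, y ^ m ∈ W := by
    intro m W nW hc x hx hxΦ hxm
    let Y : Subgroup G :=
      { carrier := {y | y ∈ X ∧ y ^ m ∈ W}
        one_mem' := ⟨X.one_mem, by rw [one_pow]; exact W.one_mem⟩
        mul_mem' := fun {u v} hu hv => ⟨X.mul_mem hu.1 hv.1, by
          obtain ⟨d, hd, e⟩ := mp u hu.1 v hv.1 m
          rw [e]
          exact W.mul_mem (W.mul_mem hu.2 hv.2) (hc d hd)⟩
        inv_mem' := fun {u} hu => ⟨X.inv_mem hu.1, by rw [inv_pow]; exact W.inv_mem hu.2⟩ }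
    have hY : Y = X := by
      by_contra h
      refine hxΦ (F1 Y (fun y hy => hy.1) (fun g hg => mem_norm_of_conj fun y hy =>
        ⟨conj_mem_of_norm (nA hg) hy.1, ?_⟩) h ⟨hx, hxm⟩)
      rw [conj_pow]
      exact conj_mem_of_norm (nW hg) hy.2
    intro y hy
    rw [← hY] at hy
    exact hy.2
  obtain ⟨n, hn⟩ := exists_relIndex_eq_pow (hX.to_le (zpowers_le.2 haX)) ⁅X, X⁆
  have hpm : ∀ j, a ^ j ∈ ⁅X, X⁆ ↔ 2 ^ n ∣ j := fun j => by rw [CfsgL0.pow_mem_iff_dvd, hn]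
  have hDc : ∀ d ∈ ⁅X, X⁆, ∃ k : ℕ, d = (a ^ 2 ^ n) ^ k := by
    intro d hd
    obtain ⟨j, rfl⟩ := (mem_powers_iff_mem_zpowers.2 (hDa hd))
    obtain ⟨k, rfl⟩ := (hpm j).1 hd
    exact ⟨k, pow_mul _ _ _⟩
  obtain ⟨n, rfl⟩ : ∃ k, n = k + 1 := by
    rcases n with _ | n
    · exact absurd (hDΦ (by simpa using (hpm 1).2 (by simp))) haΦ
    · exact ⟨n, rfl⟩
  have hall := pw (2 ^ (n + 1)) ⁅X, X⁆ nD (fun d hd => Subgroup.pow_mem _ hd _) a haX haΦ ((hpm _).2 dvd_rfl)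
  by_cases hD : ⁅X, X⁆ = ⊥
  · right
    have low : ∀ x ∈ X, x ∉ Φ[X] → x ^ 2 ^ n ≠ 1 := by
      intro x hx h1 h2
      have := pw (2 ^ n) ⁅X, X⁆ nD (fun d hd => Subgroup.pow_mem _ hd _) x hx h1 (h2 ▸ Subgroup.one_mem _) a haX
      rw [hpm] at this
      exact absurd (Nat.le_of_dvd (by positivity) this) (Nat.not_le.2 (Nat.pow_lt_pow_right one_lt_two (by omega)))
    have up : ∀ x ∈ X, x ^ 2 ^ (n + 1) = 1 := fun x hx => by simpa [hD] using hall x hx
    have hc : Commute a b := by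
      have := commutator_mem_commutator haX hbX
      rw [hD, Subgroup.mem_bot] at this
      exact commutatorElement_eq_one_iff_commute.1 this
    have inv : ∀ x ∈ X, x ∉ Φ[X] → orderOf (x ^ 2 ^ n) = 2 := fun x hx h =>
      orderOf_eq_prime (by rw [← pow_mul, ← pow_succ, up x hx]) (low x hx h)
    refine ⟨n + 1, prod_iso (orderOf_eq_prime_pow (low a haX haΦ) (up a haX))
      (orderOf_eq_prime_pow (low b hbX hbΦ) (up b hbX)) hc ?_ hs⟩
    by_contra h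
    obtain ⟨z, ⟨hz1, hz2⟩, hz⟩ := exists_prime_order_mem Nat.prime_two
      (dvd_card_of_pgroup (hX.to_le (inf_le_left.trans (zpowers_le.2 haX))) h)
    have e1 := eq_of_orderOf_two inferInstance hz1 (Subgroup.pow_mem _ (mem_zpowers a) _) hz (inv a haX haΦ)
    have e2 := eq_of_orderOf_two inferInstance hz2 (Subgroup.pow_mem _ (mem_zpowers b) _) hz (inv b hbX hbΦ)
    refine low (a * b⁻¹) (X.mul_mem haX (X.inv_mem hbX)) (habΦ _ (Subgroup.inv_mem _ (mem_zpowers b))) ?_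
    rw [hc.inv_right.mul_pow, inv_pow, ← e1, ← e2, mul_inv_cancel]
  left
  have hc1 : a ^ 2 ^ (n + 1) ≠ 1 := by
    intro h
    refine hD (eq_bot_iff.2 fun d hd => ?_)
    obtain ⟨k, rfl⟩ := hDc d hd
    rw [h, one_pow]
    exact Subgroup.one_mem _
  have hcD : a ^ 2 ^ (n + 1) ∈ ⁅X, X⁆ := (hpm _).2 dvd_rfl
  rcases n with _ | n
  swap
  · exfalso
    set c := a ^ 2 ^ (n + 1 + 1) with hcdef
    have hcW : c ∉ zpowers (c ^ 2) := by
      intro h
      refine hc1 (eq_one_of_coprime_order hX (X.pow_mem haX _) ?_)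
      exact Nat.Coprime.symm (mem_zpowers_pow_iff.1 h)
    have hev : ∀ d ∈ ⁅X, X⁆, d ^ (2 ^ (n + 1 + 1)).choose 2 ∈ zpowers (c ^ 2) := by
      intro d hd
      obtain ⟨k, rfl⟩ := hDc d hd
      have : (2 ^ (n + 1 + 1)).choose 2 = 2 * (2 ^ n * (2 ^ (n + 1 + 1) - 1)) := by
        rw [Nat.choose_two_right]
        refine Nat.div_eq_of_eq_mul_left two_pos ?_
        generalize 2 ^ (n + 1 + 1) - 1 = t
        ring
      rw [this, ← pow_mul c, mul_left_comm, pow_mul c]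
      exact Subgroup.pow_mem _ (mem_zpowers _) _
    have nW : A ≤ N[zpowers (c ^ 2)] := nD.trans (norm_le_norm_of_cyclic
      (Subgroup.isCyclic_of_le hDa) (zpowers_le.2 (Subgroup.pow_mem _ hcD 2)))
    have nt : ∀ x ∈ X, x ∉ Φ[X] → x ^ 2 ^ (n + 1 + 1) ∉ zpowers (c ^ 2) := fun x hx h1 h2 =>
      hcW (pw _ _ nW hev x hx h1 h2 a haX)
    obtain ⟨j, hj⟩ := hDc _ (hall b hbX)
    obtain ⟨d, hd, e⟩ := mp a haX b hbX (2 ^ (n + 1 + 1))
    rcases Nat.even_or_odd' j with ⟨i, rfl | rfl⟩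
    · refine nt b hbX hbΦ ?_
      rw [hj, pow_mul]
      exact Subgroup.pow_mem _ (mem_zpowers _) _
    · refine nt (a * b) (X.mul_mem haX hbX) (habΦ b (mem_zpowers b)) ?_
      rw [e, hj, ← hcdef, ← pow_succ', show 2 * i + 1 + 1 = 2 * (i + 1) by ring, pow_mul]
      exact Subgroup.mul_mem _ (Subgroup.pow_mem _ (mem_zpowers _) _) (hev d hd)
  rw [zero_add, pow_one] at hall hc1 hcD hDc
  have hexp := exp_commutator_self hZ (fun x hx => hZ (hall x hx))
  have h4' : (a ^ 2) ^ 2 = 1 := hexp _ hcD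
  have hD2 : ∀ d ∈ ⁅X, X⁆, d ≠ 1 → d = a ^ 2 := by
    intro d hd h1
    obtain ⟨k, rfl⟩ := hDc d hd
    rcases Nat.even_or_odd' k with ⟨i, rfl | rfl⟩
    · exact absurd (by rw [pow_mul, h4', one_pow]) h1
    · rw [pow_succ, pow_mul, h4', one_pow, one_mul]
  have hi : (zpowers a).relIndex X ∣ 2 := by
    rw [← hs]
    exact relIndex_sup_zpowers_dvd hb (hDa (hall b hbX))
  obtain ⟨g, hg, hga⟩ : ∃ g ∈ A, g * a * g⁻¹ ∉ zpowers a := by
    by_contra h
    push Not at h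
    refine haΦ (F1 (zpowers a) (zpowers_le.2 haX) (fun g hg => mem_norm_of_conj ?_) ?_ (mem_zpowers a))
    · rintro _ ⟨k, rfl⟩
      show g * a ^ k * g⁻¹ ∈ _
      rw [← conj_zpow]
      exact Subgroup.zpow_mem _ (h g hg) k
    · intro h'
      apply hD
      rw [comm_self_eq_bot_iff, ← h']
      infer_instance
  have ha'X : g * a * g⁻¹ ∈ X := conj_mem_of_norm (nA hg) haX
  have hs' : zpowers a ⊔ zpowers (g * a * g⁻¹) = X := by
    have hle : zpowers a ⊔ zpowers (g * a * g⁻¹) ≤ X := sup_le (zpowers_le.2 haX) (zpowers_le.2 ha'X)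
    refine le_antisymm hle (relIndex_eq_one.1 ?_)
    obtain ⟨i, hi'⟩ := dvd_relIndex_of_not_le (K := zpowers a) (hX.to_le hle)
      (fun h => hga (h (mem_sup_right (mem_zpowers _))))
    rw [← relIndex_mul_relIndex _ _ X le_sup_left hle, hi', mul_assoc] at hi
    exact Nat.eq_one_of_mul_eq_one_left (Nat.dvd_one.1 (Nat.dvd_of_mul_dvd_mul_left two_pos (by rwa [mul_one])))
  have cy : Cy2 X a (g * a * g⁻¹) 1 :=
    ⟨orderOf_eq_prime_pow (by rwa [pow_one]) (by rw [pow_succ, pow_one, pow_mul, h4']), hga, hs',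
      hDa (hall _ ha'X), nXa ha'X⟩
  refine cy.quaternion ?_ ?_
  · rw [pow_one]
    refine hD2 _ (hall _ ha'X) fun h => hc1 ?_
    rw [conj_pow] at h
    simpa using h
  · have := hD2 _ (commutator_mem_commutator ha'X haX) (by
      intro h
      apply hD
      rw [comm_self_eq_bot_iff, ← hs']
      refine isMulComm_sup inferInstance inferInstance ?_
      rw [cent_zpowers, zpowers_le, mem_centralizer_singleton_iff]
      exact (commutatorElement_eq_one_iff_mul_comm.1 h).symm)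
    rw [commutatorElement_def, mul_inv_eq_iff_eq_mul] at this
    rw [this, eq_inv_iff_mul_eq_one, ← h4']
    simp only [pow_two, mul_assoc]


/-- A finite metacyclic 2-group whose automorphism group is not a 2-group is isomorphic to the quaternion group of order 8 or to a homocyclic abelian group Z_{2^n} × Z_{2^n}. -/
theorem result {X : Type*} [Group X] [Finite X] (hX : IsPGroup 2 X)
    (hm : Cfsg.IsMetacyclic X) (hA : ¬ IsPGroup 2 (MulAut X)) :
    Nonempty (X ≃* QuaternionGroup 2) ∨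
      ∃ n : ℕ, Nonempty (X ≃* Multiplicative (ZMod (2 ^ n)) × Multiplicative (ZMod (2 ^ n))) := by
  haveI : Fact (Nat.Prime 2) := ⟨Nat.prime_two⟩
  obtain ⟨H, _, _, i, j, hi, hj, hij, -⟩ := exists_hol X
  obtain ⟨φ, hφ1, hφ⟩ : ∃ φ : MulAut X, φ ≠ 1 ∧ ¬ 2 ∣ orderOf φ := by
    simp only [IsPGroup, not_forall, not_exists] at hA
    obtain ⟨ψ, hψ⟩ := hA
    obtain ⟨k, m, hm, hkm⟩ := Nat.exists_eq_pow_mul_and_not_dvd (orderOf_pos ψ).ne' 2 (by norm_num)
    refine ⟨ψ ^ 2 ^ k, hψ k, ?_⟩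
    rwa [orderOf_pow' _ (by positivity), hkm, Nat.gcd_mul_right_left, Nat.mul_div_cancel_left _ (by positivity)]
  obtain ⟨M, hM, hc1, hc2⟩ := hm
  obtain ⟨a, ha⟩ := (Subgroup.isCyclic_iff_exists_zpowers_eq_top M).1 hc1
  obtain ⟨b, hb⟩ := isCyclic_iff_exists_zpowers_eq_top.1 hc2
  obtain ⟨b, rfl⟩ := QuotientGroup.mk_surjective b
  have hs : zpowers a ⊔ zpowers b = ⊤ := by
    rw [eq_top_iff]
    intro x _
    obtain ⟨k, hk⟩ : (x : X ⧸ M) ∈ zpowers (b : X ⧸ M) := hb ▸ mem_top _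
    have h1 : (b ^ k)⁻¹ * x ∈ M := QuotientGroup.eq.1 (by rw [QuotientGroup.mk_zpow]; exact hk)
    have := Subgroup.mul_mem _ (mem_sup_right (zpow_mem_zpowers b k) : _ ∈ zpowers a ⊔ zpowers b)
      (mem_sup_left (ha ▸ h1))
    rwa [mul_inv_cancel_left] at this
  have e : X ≃* ((⊤ : Subgroup X).map i) := topEquiv.symm.trans (equivMapOfInjective ⊤ i hi)
  have := amb (X := (⊤ : Subgroup X).map i) (A := (zpowers φ).map j) ((hX.to_subgroup ⊤).map i) (hol_norm hij _)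
    (by rwa [card_map_of_injective hj, Nat.card_zpowers])
    (fun h => hφ1 (MulEquiv.ext fun x => (hol_cent hi hij).1 (h ⟨φ, mem_zpowers φ, rfl⟩) x (mem_top x)))
    (a := i a) (b := i b) (by rw [← MonoidHom.map_zpowers, ← MonoidHom.map_zpowers, ← Subgroup.map_sup, hs])
    (by
      rw [← MonoidHom.map_zpowers]
      refine le_normalizer_map i ⟨b, ?_, rfl⟩
      rw [ha]
      exact top_le_norm_iff.2 hM (mem_top b))
  rcases this with ⟨⟨f⟩⟩ | ⟨n, ⟨f⟩⟩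
  · exact Or.inl ⟨e.trans f⟩
  · exact Or.inr ⟨n, ⟨e.trans f⟩⟩


end Cfsg.Agent.S1896
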