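import Cfsg.Statements.S1910
import Cfsg.Agent.H2.Syl

set_option autoImplicit false
open Cfsg

open Function Subgroup CfsgH2
open scoped CfsgH2

namespace Cfsg.Agent.S1910
theorem proj {G : Type*} [Group G] (T R : Subgroup G) (hc : ∀ t ∈ T, ∀ r ∈ R, t * r = r * t)
    (hd : T ⊓ R = ⊥) (x : G) (hx : ∀ a ∈ T, x * a * x⁻¹ ∈ T ⊔ R) (hi : ∀ a ∈ T, x * a * x⁻¹ ∈ T → a = 1) :
    ∃ f : T →* R, Injective f := by
  have hn : T ≤ N[R] := le_norm_of_le_cent fun t ht => mem_cent_iff.2 fun r hr => (hc t ht r hr).symm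
  choose t ht r hr e using fun a : T => (mem_sup_of_norm hn).1 (hx a a.2)
  have uniq : ∀ t ∈ T, ∀ t' ∈ T, ∀ r ∈ R, ∀ r' ∈ R, t * r = t' * r' → r = r' := by
    intro t ht t' ht' r hr r' hr' h
    have h1 : t'⁻¹ * t = r' * r⁻¹ := by
      calc t'⁻¹ * t = t'⁻¹ * (t * r) * r⁻¹ := by group
        _ = _ := by rw [h]; group
    have h2 : r' * r⁻¹ ∈ T ⊓ R := ⟨h1 ▸ T.mul_mem (T.inv_mem ht') ht, R.mul_mem hr' (R.inv_mem hr)⟩
    rw [hd, Subgroup.mem_bot] at h2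
    exact (mul_inv_eq_one.1 h2).symm
  refine ⟨MonoidHom.mk' (fun a => ⟨r a, hr a⟩) fun a b => Subtype.ext ?_, ?_⟩
  · refine uniq _ (ht (a * b)) _ (T.mul_mem (ht a) (ht b)) _ (hr _) _ (R.mul_mem (hr a) (hr b)) ?_
    rw [e]
    calc _ = (x * a * x⁻¹) * (x * b * x⁻¹) := by simp [mul_assoc]
      _ = t a * (r a * t b) * r b := by rw [← e, ← e]; group
      _ = t a * t b * (r a * r b) := by rw [← hc _ (ht b) _ (hr a)]; group
  · rw [injective_iff_map_eq_one]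
    intro a ha
    have h1 : r a = 1 := congrArg Subtype.val ha
    refine Subtype.ext (hi a a.2 ?_)
    rw [← e, h1, mul_one]
    exact ht a

def TI {G : Type*} [Group G] (Q : Subgroup G) : Prop :=
  ∀ x : G, ∀ A : Subgroup G, IsPGroup 2 A → A ≤ Q → A ≤ Q.map (cj x) → A ≠ ⊥ → x ∈ N[Q]

theorem TI.conj {G : Type*} [Group G] {Q : Subgroup G} (h : TI Q) (g : G) : TI (Q.map (cj g)) := by
  intro x A hA h1 h2 h3
  rw [normalizer_map_cj, mem_map_cj]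
  refine h _ (A.map (cj g⁻¹)) (hA.map _) (le_map_cj_iff.1 h1) ?_ (by rwa [Ne, map_cj_eq_bot])
  rw [map_cj_cj] at h2
  rw [map_cj_le_iff, map_cj_cj]
  simpa [mul_assoc] using h2

theorem emb {G : Type*} [Group G] [Finite G] {Q : Subgroup G} (hQ : TI Q) (g : G) (hg : g ∉ N[Q])
    (T : Subgroup G) (hT1 : T ≠ ⊥) (hT : T ≤ Q.map (cj g) ⊓ N[Q]) (hTp : IsPGroup 2 T)
    (S : Subgroup G) (hTS : T ≤ S) (hS : Syl 2 S (Q ⊔ T)) :
    T ⊓ Q = ⊥ ∧ T ⊓ (S ⊓ N[T] ⊓ Q) = ⊥ ∧ ⁅T, S ⊓ N[T] ⊓ Q⁆ = ⊥ ∧ T ⊔ (S ⊓ N[T] ⊓ Q) = S ⊓ N[T] ∧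
      S ⊓ N[T] ⊓ Q ≤ N[Q.map (cj g)] ∧ ∃ f : T →* (S ⊓ N[T] ⊓ Q : Subgroup G), Injective f := by
  haveI : Fact (Nat.Prime 2) := ⟨Nat.prime_two⟩
  have hQ' := hQ.conj g
  have hTQ' : T ≤ Q.map (cj g) := hT.trans inf_le_left
  have hTN : T ≤ N[Q] := hT.trans inf_le_right
  have triv : ∀ A : Subgroup G, IsPGroup 2 A → A ≤ Q → A ≤ Q.map (cj g) → A = ⊥ := by
    intro A h1 h2 h3
    by_contra h
    exact hg (hQ g A h1 h2 h3 h)
  have h1 : T ⊓ Q = ⊥ := triv _ (hTp.to_le inf_le_left) inf_le_right (inf_le_left.trans hTQ')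
  have hNT : N[T] ≤ N[Q.map (cj g)] := by
    intro x hx
    refine hQ' x T hTp hTQ' ?_ hT1
    rw [← map_cj_eq hx]
    exact Subgroup.map_mono hTQ'
  have h2 : T ⊓ (S ⊓ N[T] ⊓ Q) = ⊥ := eq_bot_iff.2 (h1 ▸ inf_le_inf_left _ inf_le_right)
  have comm : ∀ U : Subgroup G, U ≤ S → U ≤ Q → U ≤ N[Q.map (cj g)] → ⁅T, U⁆ = ⊥ := by
    intro U a b c
    refine triv _ (hS.pg.to_le ?_) ?_ ?_
    · exact (Subgroup.commutator_mono hTS a).trans (Subgroup.commutator_le_self S)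
    · exact (Subgroup.commutator_mono le_rfl b).trans (comm_le_right hTN)
    · exact (Subgroup.commutator_mono hTQ' le_rfl).trans (comm_le_left c)
  have h5 : S ⊓ N[T] ⊓ Q ≤ N[Q.map (cj g)] := (inf_le_left.trans inf_le_right).trans hNT
  have h3 : ⁅T, S ⊓ N[T] ⊓ Q⁆ = ⊥ := comm _ (inf_le_left.trans inf_le_left) inf_le_right h5
  have ded : ∀ L : Subgroup G, T ≤ L → L ≤ S → T ⊔ (L ⊓ Q) = L := by
    intro L a b
    have := sup_inf_of_norm (H := T) (K := Q) (L := L) (Or.inl hTN) a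
    rw [inf_comm L Q, ← this, inf_eq_right]
    exact b.trans (hS.le.trans (sup_comm Q T).le)
  have h4 : T ⊔ (S ⊓ N[T] ⊓ Q) = S ⊓ N[T] := ded _ (le_inf hTS le_normalizer) inf_le_left
  refine ⟨h1, h2, h3, h4, h5, ?_⟩
  by_cases hM : S ⊓ N[T] = S
  · obtain ⟨y, hy, hle⟩ := hS.exists_conj_le (Q := T.map (cj g⁻¹)) (hTp.map _)
      ((le_map_cj_iff.1 hTQ').trans le_sup_left)
    have hyN : y ∈ N[Q] := (sup_le le_normalizer hTN) hy
    have hle' : (T.map (cj g⁻¹)).map (cj y) ≤ S ⊓ N[T] ⊓ Q := by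
      rw [hM]
      exact le_inf hle (map_cj_le_of_norm (le_map_cj_iff.1 hTQ') hyN)
    rw [map_cj_cj] at hle'
    refine ⟨((cj (y * g⁻¹)).comp T.subtype).codRestrict _ fun a => hle' ⟨a, a.2, rfl⟩, ?_⟩
    intro a b h
    exact Subtype.ext (cj_injective _ (congrArg Subtype.val h))
  · have hlt : S ⊓ N[T] < S := lt_of_le_of_ne inf_le_left hM
    obtain ⟨x, ⟨hxS, hxN⟩, hxM⟩ := SetLike.exists_of_lt (lt_inf_norm hS.pg.isNilpotent hlt)
    refine proj T _ ?_ h2 x ?_ ?_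
    · intro t ht r hr
      have := Subgroup.commutator_mem_commutator ht hr
      rw [h3, Subgroup.mem_bot] at this
      exact (commutatorElement_eq_one_iff_mul_comm.1 this)
    · intro a ha
      rw [h4]
      exact conj_mem_of_norm hxN ⟨hTS ha, le_normalizer ha⟩
    · intro a ha hb
      by_contra hne
      apply hxM
      have hxQ' : x ∈ N[Q.map (cj g)] := by
        refine hQ' x (zpowers (x * a * x⁻¹)) (hTp.to_le ((zpowers_le).2 hb)) ((zpowers_le.2 hb).trans hTQ')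
          (zpowers_le.2 (conj_mem_map_cj (hTQ' ha))) ?_
        rw [Ne, zpowers_eq_bot]
        intro h
        apply hne
        simpa using h
      have hL := ded (S ⊓ N[Q.map (cj g)]) (le_inf hTS (hTQ'.trans le_normalizer)) inf_le_left
      have hc := comm (S ⊓ N[Q.map (cj g)] ⊓ Q) (inf_le_left.trans inf_le_left) inf_le_right
        (inf_le_left.trans inf_le_right)
      have : S ⊓ N[Q.map (cj g)] ≤ N[T] := by
        rw [← hL]
        refine sup_le le_normalizer (le_norm_of_le_cent ?_)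
        rw [Subgroup.commutator_comm, Subgroup.commutator_eq_bot_iff_le_centralizer] at hc
        exact hc
      exact ⟨hxS, this ⟨hxS, hxQ'⟩⟩


/-- Let Q be a tightly embedded subgroup of a finite group G, g an element outside N_G(Q), T a nontrivial Sylow 2-subgroup of Q^g ∩ N_G(Q), and S a Sylow 2-subgroup of QT containing T. Then T ∩ Q = 1, and N_S(T) is the direct product of T and N_S(T) ∩ Q, with N_S(T) ∩ Q isomorphic to T. -/
theorem result {G : Type*} [Group G] [Finite G] (Q : Subgroup G) (hQ : Cfsg.IsTightlyEmbedded Q)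
    (g : G) (hg : g ∉ Subgroup.normalizer (Q : Set G))
    (T : Subgroup G) (hT1 : T ≠ ⊥) (hT : T ≤ Q.map (MulAut.conj g).toMonoidHom ⊓ Subgroup.normalizer (Q : Set G))
    (hTsyl : IsPGroup 2 T ∧ ¬ 2 ∣ T.relIndex (Q.map (MulAut.conj g).toMonoidHom ⊓ Subgroup.normalizer (Q : Set G)))
    (S : Subgroup G) (hTS : T ≤ S) (hS : S ≤ Q ⊔ T) (hSsyl : IsPGroup 2 S ∧ ¬ 2 ∣ S.relIndex (Q ⊔ T)) :
    T ⊓ Q = ⊥ ∧
      T ⊓ (S ⊓ Subgroup.normalizer (T : Set G) ⊓ Q) = ⊥ ∧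
      ⁅T, S ⊓ Subgroup.normalizer (T : Set G) ⊓ Q⁆ = ⊥ ∧
      T ⊔ (S ⊓ Subgroup.normalizer (T : Set G) ⊓ Q) = S ⊓ Subgroup.normalizer (T : Set G) ∧
      Nonempty (↥(S ⊓ Subgroup.normalizer (T : Set G) ⊓ Q) ≃* T) := by
  haveI : Fact (Nat.Prime 2) := ⟨Nat.prime_two⟩
  rw [cj_def] at hT hTsyl
  have hTI : TI Q := by
    intro x A hA h1 h2 h3
    by_contra hx
    have := hQ.2 x hx
    rw [cj_def] at this
    have hd := (dvd_card_of_pgroup hA h3).trans (Subgroup.card_dvd_of_le (le_inf h1 h2))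
    exact (Nat.not_even_iff_odd.2 this) (even_iff_two_dvd.2 hd)
  have hSs : Syl 2 S (Q ⊔ T) := ⟨hS, hSsyl.1, hSsyl.2⟩
  have hTs : Syl 2 T (Q.map (cj g) ⊓ N[Q]) := ⟨hT, hTsyl.1, hTsyl.2⟩
  obtain ⟨h1, h2, h3, h4, h5, hf⟩ := emb hTI g hg T hT1 hT hTsyl.1 S hTS hSs
  refine ⟨h1, h2, h3, h4, ?_⟩
  set R := S ⊓ N[T] ⊓ Q with hR
  obtain ⟨f, hf⟩ := hf
  have hle : Nat.card T ≤ Nat.card R := Nat.card_le_card_of_injective f hf
  have hR1 : R ≠ ⊥ := by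
    intro h
    rw [h, Subgroup.card_bot] at hle
    exact hT1 (Subgroup.card_le_one_iff_eq_bot T |>.1 hle)
  have hRp : IsPGroup 2 R := hSsyl.1.to_le (inf_le_left.trans inf_le_left)
  obtain ⟨S', hS', hRS'⟩ := exists_syl_ge (p := 2) hRp (le_sup_right : R ≤ Q.map (cj g) ⊔ R)
  have hg' : g⁻¹ ∉ N[Q.map (cj g)] := by
    rw [normalizer_map_cj, mem_map_cj]
    intro h
    apply hg
    simpa using h
  obtain ⟨-, -, -, -, h5', f', hf'⟩ := emb (hTI.conj g) g⁻¹ hg' R hR1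
    (by rw [map_cj_inv_cj]; exact le_inf inf_le_right h5) hRp S' hRS' hS'
  rw [map_cj_inv_cj] at h5'
  have hge : Nat.card R ≤ Nat.card T :=
    (Nat.card_le_card_of_injective f' hf').trans
      (hTs.card_le (hS'.pg.to_le (inf_le_left.trans inf_le_left)) (le_inf inf_le_right h5'))
  exact ⟨(MulEquiv.ofBijective f ((Nat.bijective_iff_injective_and_card f).2 ⟨hf, le_antisymm hle hge⟩)).symm⟩


end Cfsg.Agent.S1910
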