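import Cfsg.Statements.S1921
import Mathlib
import Cfsg.Agent.H9.Comp2
import Cfsg.Agent.H9.EA

set_option autoImplicit false
open Cfsg

namespace Cfsg.Agent.S1921

/-- Let a be an involution of a finite group H and L a component of H with a L a⁻¹ ≠ L; put M = ⟨L, aLa⁻¹⟩ and let J be the subgroup generated by the elements x · a x a⁻¹ with x ∈ L (the diagonal). Then every element of M outside J·Z(M) generates M together with J. -/
theorem result {H : Type*} [Group H] [Finite H] (a : H) (ha : orderOf a = 2) (L : Subgroup H) (hL : Cfsg.IsComponent L)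
    (hLa : L.map (MulAut.conj a).toMonoidHom ≠ L) (x : H) (hxM : x ∈ L ⊔ L.map (MulAut.conj a).toMonoidHom)
    (hxJ : x ∉ Subgroup.closure {y : H | ∃ l ∈ L, y = l * (a * l * a⁻¹)} ⊔
      ((L ⊔ L.map (MulAut.conj a).toMonoidHom) ⊓ Subgroup.centralizer ((L ⊔ L.map (MulAut.conj a).toMonoidHom : Subgroup H) : Set H))) :
    Subgroup.closure {y : H | ∃ l ∈ L, y = l * (a * l * a⁻¹)} ⊔ Subgroup.zpowers x = L ⊔ L.map (MulAut.conj a).toMonoidHom := by
  open Subgroup CfsgH9 in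
  have hL' := comp_top_iff.2 hL
  change _ ∈ L ⊔ cj a L at hxM
  change _ ∉ _ ⊔ (L ⊔ cj a L) ⊓ centralizer ((L ⊔ cj a L : Subgroup H) : Set H) at hxJ
  change _ = L ⊔ cj a L
  have c : ⁅cj a L, L⁆ = ⊥ := (hL'.cj_eq_or_comm (le_normalizer (mem_top a))).resolve_left hLa
  have c' := comm_bot_iff_forall.1 c
  obtain ⟨J, hJ⟩ : ∃ J, J = closure {y : H | ∃ l ∈ L, y = l * (a * l * a⁻¹)} := ⟨_, rfl⟩
  rw [← hJ] at hxJ ⊢
  have j : ∀ l ∈ L, l * (a * l * a⁻¹) ∈ J := fun l h => hJ ▸ subset_closure ⟨l, h, rfl⟩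
  obtain ⟨l, hl, _, ⟨m, hm, rfl⟩, rfl⟩ := (mem_sup_of_le_normalizer
    (le_normalizer_of_commutator_eq_bot (comm_bot_symm c))).1 hxM
  change l * (a * m * a⁻¹) ∉ _ at hxJ
  change J ⊔ zpowers (l * (a * m * a⁻¹)) = _
  have e : l * (a * m * a⁻¹) = (l * m⁻¹) * (m * (a * m * a⁻¹)) := by group
  have y : l * m⁻¹ ∈ L := mul_mem hl (inv_mem hm)
  rcases hL'.qs.norm (L ⊓ (J ⊔ zpowers (l * (a * m * a⁻¹)))) inf_le_left
    (le_normalizer_iff_forall.2 fun b hb u hu => mem_inf.2 ⟨mul_mem (mul_mem hb hu.1) (inv_mem hb), by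
      have := mul_mem (mul_mem (mem_sup_left (j b hb)) (mem_inf.1 hu).2) (inv_mem (mem_sup_left (j b hb)))
      rw [mul_assoc b, c' _ (conj_mem_cj a hb) u hu.1] at this
      convert this using 1; group⟩) with h | h
  · have h1 := inf_eq_left.1 h
    refine le_antisymm (sup_le (hJ ▸ (closure_le _).2 ?_) (zpowers_le.2 hxM)) (sup_le h1 ?_)
    · rintro _ ⟨b, hb, rfl⟩
      exact mul_mem (mem_sup_left hb) (mem_sup_right (conj_mem_cj a hb))
    · rintro _ ⟨b, hb, rfl⟩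
      exact (mul_mem_cancel_left (h1 hb)).1 (mem_sup_left (j b hb))
  · refine absurd ?_ hxJ
    rw [e]
    refine mul_mem (mem_sup_right (mem_inf.2 ⟨mem_sup_left y, ?_⟩)) (mem_sup_left (j m hm))
    rw [centralizer_sup]
    refine mem_inf.2 ⟨comm_bot_iff.1 h (mem_inf.2 ⟨y, ?_⟩), comm_bot_iff'.1 c y⟩
    exact (mul_mem_cancel_right (mem_sup_left (j m hm))).1 (e ▸ mem_sup_right (mem_zpowers _))

end Cfsg.Agent.S1921
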