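import Cfsg.Statements.S1922
import Cfsg.Agent.L0.Count
import Cfsg.Agent.L0.Invol

set_option autoImplicit false
open Cfsg

open Function

namespace Cfsg.Agent.S1922
theorem refl_conj {G : Type*} [Group G] {s s' : G} (hs : s * s = 1) (hs' : s' * s' = 1) (k : ℤ) :
    IsConj s (s * (s * s') ^ k) ∨ IsConj s' (s * (s * s') ^ k) := by
  have hi := CfsgL0.left_inverts_mul hs hs'
  have hm := CfsgL0.zpow_mul_of_inverts hi
  rcases Int.even_or_odd' k with ⟨j, rfl | rfl⟩
  · left
    refine isConj_iff.2 ⟨(s * s') ^ (-j), ?_⟩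
    rw [hm, neg_neg, zpow_neg, inv_inv, mul_assoc, ← zpow_add, two_mul]
  · right
    refine isConj_iff.2 ⟨(s * s') ^ (-j), ?_⟩
    have e : s' = s * (s * s') := by rw [← mul_assoc, hs, one_mul]
    calc (s * s') ^ (-j) * s' * ((s * s') ^ (-j))⁻¹
        = ((s * s') ^ (-j) * s) * (s * s') * ((s * s') ^ (-j))⁻¹ := by
          conv_lhs => rw [e]
          simp only [mul_assoc, ← e]
      _ = _ := by
          rw [hm, neg_neg, zpow_neg, inv_inv]
          generalize s * s' = r
          group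

theorem odd_of_invol {A : Type*} [Finite A] (f : A → A) (hf : ∀ a, f (f a) = a) (a₀ : A)
    (h : ∀ a, f a = a ↔ a = a₀) : Odd (Nat.card A) := by
  classical
  haveI := Fintype.ofFinite A
  haveI : Fact (Nat.Prime 2) := ⟨Nat.prime_two⟩
  let σ : Function.End A := f
  have := Equiv.Perm.card_fixedPoints_modEq (f := σ) (p := 2) (n := 1) (by
    funext a; rw [pow_one, pow_two]; exact hf a)
  have h1 : Fintype.card (Function.fixedPoints σ) = 1 := by
    rw [Fintype.card_eq_one_iff]
    exact ⟨⟨a₀, (h a₀).2 rfl⟩, fun b => Subtype.ext ((h b.1).1 b.2)⟩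
  rw [Nat.card_eq_fintype_card, Nat.odd_iff]
  rw [h1] at this
  exact this

theorem fix_iff {G : Type*} [Group G] (H : Subgroup G) (a g : G) :
    a • (g : G ⧸ H) = (g : G ⧸ H) ↔ a ∈ H.map (MulAut.conj g).toMonoidHom := by
  rw [MulAction.Quotient.smul_coe, smul_eq_mul, eq_comm, QuotientGroup.eq]
  constructor
  · intro h
    exact ⟨_, h, by simp [mul_assoc]⟩
  · rintro ⟨b, hb, rfl⟩
    simpa [mul_assoc] using hb


/-- Let z be an involution of a finite group G and H a proper subgroup such that z lies in gHg⁻¹ exactly when g ∈ H. Then the following are equivalent: (1) for every conjugate t ≠ z of z commuting with z, the product zt lies in gHg⁻¹ exactly when g ∈ H; (2) z lies in the centre of some Sylow 2-subgroup of G, and for every conjugate t ≠ z of z commuting with z, the centralizer of zt is contained in H. -/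
theorem result {G : Type*} [Group G] [Finite G] (z : G) (hz : orderOf z = 2) (H : Subgroup G) (hH : H ≠ ⊤)
    (h0 : ∀ g : G, z ∈ H.map (MulAut.conj g).toMonoidHom ↔ g ∈ H) :
    (∀ t : G, IsConj z t → t ≠ z → t * z = z * t → ∀ g : G, z * t ∈ H.map (MulAut.conj g).toMonoidHom ↔ g ∈ H) ↔
      ((∃ P : Sylow 2 G, z ∈ (Subgroup.center ↥(P : Subgroup G)).map (P : Subgroup G).subtype) ∧
        ∀ t : G, IsConj z t → t ≠ z → t * z = z * t → Subgroup.centralizer ({z * t} : Set G) ≤ H) := by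
  classical
  have hzz : z * z = 1 := CfsgL0.inv_mul_self hz
  have hmem : ∀ a g : G, a ∈ H.map (MulAut.conj g).toMonoidHom ↔ g⁻¹ * a * g ∈ H := by
    intro a g
    constructor
    · rintro ⟨b, hb, rfl⟩
      simpa [mul_assoc] using hb
    · intro h
      exact ⟨_, h, by simp [mul_assoc]⟩
  have hCz : Subgroup.centralizer ({z} : Set G) ≤ H := by
    intro c hc
    have hc' : z * c = c * z := (Subgroup.mem_centralizer_iff.1 hc) z rfl
    refine (h0 c).1 ((hmem _ _).2 ?_)
    rw [mul_assoc, hc', inv_mul_cancel_left]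
    simpa using (hmem z 1).1 ((h0 1).2 H.one_mem)
  constructor
  · intro h1
    refine ⟨?_, fun t ht htz hc c hcc => ?_⟩
    swap
    · have hc' : z * t * c = c * (z * t) := (Subgroup.mem_centralizer_iff.1 hcc) _ rfl
      refine (h1 t ht htz hc c).1 ((hmem _ _).2 ?_)
      rw [mul_assoc, hc', inv_mul_cancel_left]
      simpa using (hmem (z * t) 1).1 ((h1 t ht htz hc 1).2 H.one_mem)
    let α : G ⧸ H := ((1 : G) : G ⧸ H)
    have hα : ∀ g : G, (g : G ⧸ H) = α ↔ g ∈ H := by
      intro g; rw [eq_comm, QuotientGroup.eq]; simp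
    have hzfix : ∀ ω : G ⧸ H, z • ω = ω ↔ ω = α := by
      intro ω
      induction ω using QuotientGroup.induction_on with
      | H g => rw [fix_iff, h0, hα]
    have hcfix : ∀ (a c : G) (ω : G ⧸ H), (c * a * c⁻¹) • ω = ω ↔ a • (c⁻¹ • ω) = c⁻¹ • ω := by
      intro a c ω
      rw [mul_smul, mul_smul, smul_eq_iff_eq_inv_smul]
    have hfp : ∀ s : G, IsConj z s → ∃ β : G ⧸ H, ∀ ω, s • ω = ω ↔ ω = β := by
      intro s hs
      obtain ⟨c, rfl⟩ := isConj_iff.1 hs
      exact ⟨c • α, fun ω => by rw [hcfix, hzfix, inv_smul_eq_iff]⟩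
    have huniq : ∀ s t : G, IsConj z s → IsConj z t → t ≠ s → t * s = s * t →
        ∀ ω ω' : G ⧸ H, (s * t) • ω = ω → (s * t) • ω' = ω' → ω = ω' := by
      intro s t hs ht hts hc
      obtain ⟨c, rfl⟩ := isConj_iff.1 hs
      have ht' : IsConj z (c⁻¹ * t * c) := ht.trans (isConj_iff.2 ⟨c⁻¹, by simp⟩)
      have h2 : ∀ ω : G ⧸ H, (z * (c⁻¹ * t * c)) • ω = ω ↔ ω = α := by
        intro ω
        induction ω using QuotientGroup.induction_on with
        | H g =>
          rw [fix_iff, h1 _ ht' ?_ ?_, hα]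
          · intro h; apply hts; rw [← h]; group
          · calc c⁻¹ * t * c * z = c⁻¹ * (t * (c * z * c⁻¹)) * c := by group
              _ = _ := by rw [hc]; group
      have e : c * z * c⁻¹ * t = c * (z * (c⁻¹ * t * c)) * c⁻¹ := by group
      intro ω ω' a b
      rw [e, hcfix, h2, inv_smul_eq_iff] at a b
      rw [a, b]
    have hsq : ∀ s : G, IsConj z s → s * s = 1 := fun s hs =>
      CfsgL0.inv_mul_self ((CfsgL0.orderOf_isConj hs).trans hz)
    choose φ hφ using fun s : {s : G // IsConj z s} => hfp s.1 s.2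
    have hφc : ∀ (s s' : {s : G // IsConj z s}) (c : G), c * s.1 * c⁻¹ = s'.1 → φ s' = c • φ s := by
      intro s s' c h
      symm
      rw [← hφ s', ← h, hcfix, inv_smul_smul, hφ]
    have hconj : ∀ s s' : {s : G // IsConj z s}, φ s ≠ φ s' →
        ∃ x : {s : G // IsConj z s}, x.1 * s.1 * x.1⁻¹ = s'.1 := by
      intro s s' hne
      have hr : ∀ k : ℤ, IsConj z (s.1 * (s.1 * s'.1) ^ k) := fun k =>
        (refl_conj (hsq _ s.2) (hsq _ s'.2) k).elim (fun h => s.2.trans h) (fun h => s'.2.trans h)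
      rcases CfsgL0.conj_or_common (hsq _ s.2) (hsq _ s'.2) with ⟨k, hk⟩ | ⟨m, -, hw, hc, hc'⟩
      · refine ⟨⟨_, hr (-k)⟩, ?_⟩
        have := CfsgL0.zpow_mul_of_inverts (CfsgL0.left_inverts_mul (hsq _ s.2) (hsq _ s'.2)) (k : ℤ)
        show s.1 * (s.1 * s'.1) ^ (-(k : ℤ)) * s.1 * (s.1 * (s.1 * s'.1) ^ (-(k : ℤ)))⁻¹ = s'.1
        rw [← this, zpow_natCast]
        refine Eq.trans ?_ hk
        group
      · exfalso
        set w := (s.1 * s'.1) ^ m with hwdef
        have hw' : IsConj z (s.1 * w) := by simpa [hwdef] using hr m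
        have e : s.1 * (s.1 * w) = w := by rw [← mul_assoc, hsq _ s.2, one_mul]
        have f1 : w • φ s = φ s := (hφc s s w (by rw [hc.eq, mul_inv_cancel_right])).symm
        have f2 : w • φ s' = φ s' := (hφc s' s' w (by rw [hc'.eq, mul_inv_cancel_right])).symm
        refine hne (huniq s.1 (s.1 * w) s.2 hw' ?_ ?_ _ _ (by rwa [e]) (by rwa [e]))
        · intro h
          exact CfsgL0.inv_ne_one hw (mul_left_cancel (h.trans (mul_one _).symm))
        · rw [mul_assoc, hc.eq]
    let z' : {s : G // IsConj z s} := ⟨z, IsConj.refl z⟩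
    have hφz : φ z' = α := ((hzfix _).1 ((hφ z' _).2 rfl))
    set k := Nat.card {s : {s : G // IsConj z s} // φ s = α} with hk
    have hfib : ∀ β : G ⧸ H, Nat.card {s : {s : G // IsConj z s} // φ s = β} = k := by
      intro β
      induction β using QuotientGroup.induction_on with
      | H g =>
        have hg : (g : G ⧸ H) = g • α := by simp [α]
        refine Nat.card_congr ⟨fun s => ⟨⟨g⁻¹ * s.1.1 * g⁻¹⁻¹, s.1.2.trans (isConj_iff.2 ⟨_, rfl⟩)⟩, ?_⟩,
          fun s => ⟨⟨g * s.1.1 * g⁻¹, s.1.2.trans (isConj_iff.2 ⟨_, rfl⟩)⟩, ?_⟩, ?_, ?_⟩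
        · rw [hφc s.1 _ g⁻¹ rfl, s.2, hg, inv_smul_smul]
        · rw [hφc s.1 _ g rfl, s.2, hg]
        · intro s; ext; simp [mul_assoc]
        · intro s; ext; simp [mul_assoc]
    haveI := Fintype.ofFinite (G ⧸ H)
    have hX : ∀ β : G ⧸ H, k ≤ Nat.card {s : {s : G // IsConj z s} // s.1 • α = β} := by
      intro β
      by_cases hβ : β = α
      · rw [hβ, hk]
        exact CfsgL0.card_subtype_le fun s hs => (hφ s α).2 hs.symm
      · rw [← hfib β]
        refine Nat.card_le_card_of_surjective (fun x => ⟨⟨x.1.1 * z * x.1.1⁻¹, isConj_iff.2 ⟨_, rfl⟩⟩, ?_⟩) ?_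
        · rw [hφc z' _ x.1.1 rfl, hφz, x.2]
        · rintro ⟨s, hs⟩
          obtain ⟨x, hx⟩ := hconj z' s (by rw [hφz, hs]; exact Ne.symm hβ)
          refine ⟨⟨x, ?_⟩, Subtype.ext (Subtype.ext hx)⟩
          rw [← hs, hφc z' s x.1 hx, hφz]
    have hsum : ∑ β : G ⧸ H, k = ∑ β : G ⧸ H, Nat.card {s : {s : G // IsConj z s} // s.1 • α = β} := by
      rw [← CfsgL0.card_eq_sum_fibers (fun s : {s : G // IsConj z s} => s.1 • α),
        CfsgL0.card_eq_sum_fibers φ]
      exact Finset.sum_congr rfl fun β _ => (hfib β).symm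
    have hall := (Finset.sum_eq_sum_iff_of_le (fun β _ => hX β)).1 hsum
    obtain ⟨g, hg⟩ : ∃ g, g ∉ H := by
      by_contra hcon
      push Not at hcon
      exact hH (eq_top_iff.2 fun g _ => hcon g)
    have hβ : (g : G ⧸ H) ≠ α := fun h => hg ((hα g).1 h)
    have hkodd : Odd k := by
      rw [hall (g : G ⧸ H) (Finset.mem_univ _)]
      have hkpos : 0 < k := by
        haveI : Nonempty {s : {s : G // IsConj z s} // φ s = α} := ⟨⟨z', hφz⟩⟩
        exact Nat.card_pos
      obtain ⟨s₀⟩ : Nonempty {s : {s : G // IsConj z s} // s.1 • α = (g : G ⧸ H)} :=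
        (Nat.card_pos_iff.1 (lt_of_lt_of_le hkpos (hX _))).1
      have back : ∀ s : {s : {s : G // IsConj z s} // s.1 • α = (g : G ⧸ H)}, s.1.1 • (g : G ⧸ H) = α := by
        intro s
        have := congrArg (fun ω => s.1.1 • ω) s.2
        simp only [← mul_smul, hsq _ s.1.2, one_smul] at this
        exact this.symm
      have hinv : s₀.1.1⁻¹ = s₀.1.1 := inv_eq_of_mul_eq_one_right (hsq _ s₀.1.2)
      refine odd_of_invol (fun s => ⟨⟨s₀.1.1 * s.1.1 * s₀.1.1⁻¹, s.1.2.trans (isConj_iff.2 ⟨_, rfl⟩)⟩, ?_⟩) ?_ s₀ ?_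
      · show (s₀.1.1 * s.1.1 * s₀.1.1⁻¹) • α = _
        rw [hinv, mul_smul, mul_smul, s₀.2, back s, s₀.2]
      · intro s
        refine Subtype.ext (Subtype.ext ?_)
        show s₀.1.1 * (s₀.1.1 * s.1.1 * s₀.1.1⁻¹) * s₀.1.1⁻¹ = s.1.1
        rw [hinv]
        calc _ = (s₀.1.1 * s₀.1.1) * s.1.1 * (s₀.1.1 * s₀.1.1) := by group
          _ = _ := by rw [hsq _ s₀.1.2, one_mul, mul_one]
      · intro s
        constructor
        · intro h
          have h' : s₀.1.1 * s.1.1 * s₀.1.1⁻¹ = s.1.1 := congrArg (fun x => x.1.1) h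
          by_contra hne
          have hne' : s.1.1 ≠ s₀.1.1 := fun h => hne (Subtype.ext (Subtype.ext h))
          refine hβ (huniq s₀.1.1 s.1.1 s₀.1.2 s.1.2 hne' (mul_inv_eq_iff_eq_mul.1 h').symm _ _ ?_ ?_)
          · rw [mul_smul, back s, s₀.2]
          · rw [mul_smul, s.2, back s₀]
        · rintro rfl
          exact Subtype.ext (Subtype.ext (by simp))
    have hnodd : Odd (Nat.card (G ⧸ H)) :=
      odd_of_invol (fun ω => z • ω) (fun ω => by rw [← mul_smul, hzz, one_smul]) α hzfix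
    have hZ : Odd (Nat.card {s : G // IsConj z s}) := by
      rw [CfsgL0.card_eq_of_fibers φ k hfib]
      exact hnodd.mul hkodd
    have hidx : (Subgroup.centralizer ({z} : Set G)).index = Nat.card {s : G // IsConj z s} := by
      have a := CfsgL0.card_isConj_mul z
      have b := (Subgroup.centralizer ({z} : Set G)).index_mul_card
      exact Nat.eq_of_mul_eq_mul_right (Nat.card_pos) (b.trans a.symm)
    haveI : Fact (Nat.Prime 2) := ⟨Nat.prime_two⟩
    have hzp : IsPGroup 2 (Subgroup.zpowers (⟨z, Subgroup.mem_centralizer_singleton_iff.2 rfl⟩ :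
        Subgroup.centralizer ({z} : Set G))) := by
      refine IsPGroup.of_card (n := 1) ?_
      rw [Nat.card_zpowers, Subgroup.orderOf_mk, hz, pow_one]
    obtain ⟨Q, hQ⟩ := hzp.exists_le_sylow
    have hQ' : IsPGroup 2 ((Q : Subgroup _).map (Subgroup.centralizer ({z} : Set G)).subtype) := Q.2.map _
    have hnd : ¬ 2 ∣ ((Q : Subgroup _).map (Subgroup.centralizer ({z} : Set G)).subtype).index := by
      rw [Subgroup.index_map_subtype, hidx]
      intro h
      rcases (Nat.prime_two.dvd_mul).1 h with h | h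
      · exact Q.not_dvd_index h
      · exact (Nat.not_even_iff_odd.2 hZ) (even_iff_two_dvd.2 h)
    refine ⟨hQ'.toSylow hnd, ⟨z, ⟨_, hQ (Subgroup.mem_zpowers _), rfl⟩⟩, ?_, rfl⟩
    rw [SetLike.mem_coe, Subgroup.mem_center_iff]
    rintro ⟨y, ⟨y', -, rfl⟩⟩
    exact Subtype.ext (Subgroup.mem_centralizer_singleton_iff.1 y'.2)
  · rintro ⟨⟨P, ⟨z₀, hz₀, hz₀e⟩⟩, h2⟩ t ht htz hc g
    have hu : z * t ∈ H := h2 t ht htz hc (Subgroup.mem_centralizer_singleton_iff.2 rfl)
    rw [hmem]
    refine ⟨fun hg => ?_, fun hg => H.mul_mem (H.mul_mem (H.inv_mem hg) hu) hg⟩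
    have hPz : ∀ y ∈ (P : Subgroup G), y * z = z * y := by
      intro y hy
      have := congrArg Subtype.val (Subgroup.mem_center_iff.1 hz₀ ⟨y, hy⟩)
      rw [← hz₀e]
      exact this
    have hPH : (P : Subgroup G) ≤ H := fun y hy =>
      hCz (Subgroup.mem_centralizer_singleton_iff.2 (hPz y hy))
    haveI : Fact (Nat.Prime 2) := ⟨Nat.prime_two⟩
    have htt : t * t = 1 := CfsgL0.inv_mul_self ((CfsgL0.orderOf_isConj ht).trans hz)
    have hup : IsPGroup 2 (Subgroup.zpowers (⟨_, hg⟩ : H)) := by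
      refine IsPGroup.of_card_dvd_pow (n := 1) ?_
      rw [Nat.card_zpowers]
      refine orderOf_dvd_of_pow_eq_one (Subtype.ext ?_)
      show (g⁻¹ * (z * t) * g) ^ 2 ^ 1 = 1
      calc _ = g⁻¹ * (z * (t * z) * t) * g := by simp only [pow_one, pow_two]; group
        _ = g⁻¹ * ((z * z) * (t * t)) * g := by rw [hc]; group
        _ = 1 := by rw [hzz, htt]; group
    obtain ⟨Q, hQ⟩ := hup.exists_le_sylow
    obtain ⟨h, rfl⟩ := MulAction.exists_smul_eq H (P.subtype hPH) Q
    obtain ⟨y, hy, hye⟩ := hQ (Subgroup.mem_zpowers _)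
    have hye' : (h : G) * y * (h : G)⁻¹ = g⁻¹ * (z * t) * g := congrArg Subtype.val hye
    have hyz : (y : G) * z = z * y := hPz y hy
    have hm : g * h * z * (g * h)⁻¹ ∈ H := by
      refine h2 t ht htz hc (Subgroup.mem_centralizer_singleton_iff.2 ?_)
      have e : z * t = g * h * y * (g * h)⁻¹ := by
        calc z * t = g * (g⁻¹ * (z * t) * g) * g⁻¹ := by group
          _ = _ := by rw [← hye']; group
      rw [e]
      calc _ = g * h * (z * y) * (g * h)⁻¹ := by group
        _ = _ := by rw [← hyz]; group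
    have := (h0 (g * h)⁻¹).1 ((hmem _ _).2 (by rwa [inv_inv]))
    have := H.mul_mem h.2 this
    simpa [mul_assoc] using this


end Cfsg.Agent.S1922
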