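import Cfsg.Statements.S1944
import Mathlib
import Cfsg.Agent.L0.Chn2

set_option autoImplicit false
open Cfsg

namespace Cfsg.Agent.S1944

open Cfsg Subgroup CfsgH2 CfsgL0

/-- Let S be a Sylow p-subgroup of the finite group G and suppose that the centre Z(S) lies in O_{p',p}(G). The elements of S each of which is its only G-conjugate in S form a subgroup W of Z(S); W is then a direct factor of Z(S): there is a subgroup K of Z(S) with W ∩ K = 1 and WK = Z(S). -/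
theorem result {G : Type*} [Group G] [Finite G] {p : ℕ} [Fact p.Prime] (S : Sylow p G)
    (hZ : ((S : Subgroup G) ⊓ Subgroup.centralizer ((S : Subgroup G) : Set G)) ≤ Cfsg.pPrimePCore p G) :
    ∃ W K : Subgroup G, (∀ x : G, x ∈ W ↔ (x ∈ (S : Subgroup G) ∧ ∀ g : G, g * x * g⁻¹ ∈ (S : Subgroup G) → g * x * g⁻¹ = x)) ∧
      K ≤ ((S : Subgroup G) ⊓ Subgroup.centralizer ((S : Subgroup G) : Set G)) ∧ W ⊓ K = ⊥ ∧ W ⊔ K = ((S : Subgroup G) ⊓ Subgroup.centralizer ((S : Subgroup G) : Set G)) := by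
  have hS := syl_top S
  rw [← Opp_top] at hZ
  have h1 := hS.syl_Opp
  set Q := (S : Subgroup G) ⊓ Opp p ⊤
  have nQ : (S : Subgroup G) ≤ N[Q] := le_norm_inf le_normalizer (le_top.trans le_norm_Opp)
  have hN := hS.mono nQ le_top
  have hF := sub_sat (hTH := hN.le) hN
  obtain ⟨n, n1, t, t1, t2, t3⟩ := exists_tr hS.pg hF (sub_normal hN h1.pg le_normalizer le_rfl)
  have e : Q ⊓ C[(S : Subgroup G)] = (S : Subgroup G) ⊓ C[(S : Subgroup G)] :=
    le_antisymm (inf_le_inf_right _ inf_le_left) (le_inf (le_inf inf_le_left hZ) inf_le_right)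
  rw [e] at t1 t2
  set W := (fusionSystemOfSubgroup N[Q] S hN.le).center
  have w1 : ∀ x ∈ W, ∀ g ∈ N[Q], g * x * g⁻¹ ∈ (S : Subgroup G) → g * x * g⁻¹ = x := fun x hx g hg h =>
    central_fix central_center (M_sub_conj (zpowers_le.2 (center_le hx)) hg (by
      rw [MonoidHom.map_zpowers, zpowers_le]; exact h)) (mem_zpowers x) hx
  have w2 : W ≤ (S : Subgroup G) ⊓ C[(S : Subgroup G)] := fun x hx => ⟨center_le hx, mem_cent_iff.2 fun s hs =>
    mul_inv_eq_iff_eq_mul.1 (w1 x hx s (nQ hs) (mul_mem (mul_mem hs (center_le hx)) (inv_mem hs)))⟩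
  have w3 : W ≤ Q := w2.trans (le_inf inf_le_left hZ)
  have ab := isMulComm_cent_inf (S : Subgroup G)
  refine ⟨W, t1.hom.ker.map (Subgroup.subtype _), fun x => ⟨fun hx => ⟨center_le hx, fun g hg => ?_⟩, fun h => ?_⟩, map_subtype_le _,
    (eq_bot_iff_forall _).2 ?_, le_antisymm (sup_le w2 (map_subtype_le _)) fun x hx => ?_⟩
  · have h2 := h1.frattini_sup le_top le_norm_Opp
    rw [← h1.Opp_eq, top_inf_eq, sup_assoc, sup_eq_right.2 le_normalizer] at h2
    obtain ⟨k, k1, a, a1, rfl⟩ := (mem_sup_of_norm' (le_top.trans le_norm_piCoreOf)).1 (h2.ge (mem_top g))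
    have h3 := w1 x hx a a1 (inf_le_left (a := (S : Subgroup G)) (conj_mem_of_norm a1 (w3 hx)))
    have h4 : k * a * x * (k * a)⁻¹ = k * x * k⁻¹ := by
      conv_rhs => rw [← h3]
      group
    rw [h4] at hg ⊢
    have : k * x * k⁻¹ * x⁻¹ ∈ (S : Subgroup G) ⊓ O[{p}ᶜ, ⊤] := mem_inf.2 ⟨mul_mem hg (inv_mem (center_le hx)), by
      simpa only [mul_assoc] using mul_mem k1 (conj_mem_of_norm (le_norm_piCoreOf (mem_top x)) (inv_mem k1))⟩
    rwa [inf_eq_bot_of_piN (isPGroup_iff_piN.1 hS.pg) piN_piCoreOf, mem_bot, mul_inv_eq_one] at this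
  · have hx : x ∈ (S : Subgroup G) ⊓ C[(S : Subgroup G)] := ⟨h.1, mem_cent_iff.2 fun s hs =>
      mul_inv_eq_iff_eq_mul.1 (h.2 s (mul_mem (mul_mem hs h.1) (inv_mem hs)))⟩
    refine zpowers_le.1 (le_center (central_of_fix hS.pg hF (zpowers_le.2 h.1) fun P f hf y hy ⟨k, hk⟩ => ?_))
    obtain ⟨-, -, g, g1, c⟩ := M_sub.1 hf
    rw [c y hy, ← hk, ← conj_zpow, h.2 g (inf_le_left (a := (S : Subgroup G)) (conj_mem_of_norm g1 ⟨h.1, hZ hx⟩))]
  · rintro _ ⟨hx, x, h, rfl⟩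
    have := (t3 _ hx (w3 hx)).symm.trans h
    exact eq_one_of_coprime_order hS.pg x.2.1 ((((Fact.out : p.Prime).coprime_iff_not_dvd.2 n1).symm).coprime_dvd_left
      (orderOf_dvd_of_pow_eq_one this))
  · obtain ⟨y, y1, y2⟩ := exists_pow_root hS.pg (center_le (t2 x hx).1) n1
    have y3 : y ∈ W := zpowers_le.2 (t2 x hx).1 y1
    have m := mul_mem (inv_mem (w2 y3)) hx
    have : y⁻¹ * x ∈ t1.hom.ker.map (Subgroup.subtype _) := ⟨⟨_, m⟩, by
      show t _ = 1
      rw [t1.mul (inv_mem (w2 y3)) hx, t1.inv (w2 y3), t3 y y3 (w3 y3), y2, inv_mul_cancel], rfl⟩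
    simpa using mul_mem (mem_sup_left y3) (mem_sup_right this : _ ∈ W ⊔ _)

end Cfsg.Agent.S1944
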