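import Cfsg.Statements.S5294
import Mathlib
import Cfsg.Agent.L0.Bis3

set_option autoImplicit false
universe u
open Cfsg

namespace Cfsg.Agent.S5294

open CfsgL0 CfsgH2 Subgroup

/-- Let F be a saturated fusion system over a finite p-group S whose centre Z(S) lies in the largest subgroup O_p(F) normal in F. Then the centre Z(F) of F is a direct factor of Z(S): there is a subgroup K of Z(S) with Z(F) ∩ K = 1 and Z(F)K = Z(S). -/
theorem result {Ω : Type u} [Group Ω] {S : Subgroup Ω} [Finite S] (p : ℕ) [Fact p.Prime] (hS : IsPGroup p S)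
    (F : Cfsg.FusionSystem S) (hF : F.IsSaturated p) (hZ : (S ⊓ Subgroup.centralizer (S : Set Ω)) ≤ F.core) :
    ∃ K : Subgroup Ω, K ≤ (S ⊓ Subgroup.centralizer (S : Set Ω)) ∧ F.center ⊓ K = ⊥ ∧ F.center ⊔ K = (S ⊓ Subgroup.centralizer (S : Set Ω)) := by
  obtain ⟨n, hn, t, ht, a, b⟩ := exists_tr hS hF (normal_core (F := F))
  have e : F.core ⊓ C[S] = S ⊓ C[S] := le_antisymm (inf_le_inf_right _ core_le) (le_inf hZ inf_le_right)
  rw [e] at ht a
  have h1 : F.center ≤ S ⊓ C[S] := le_inf center_le (le_centralizer_iff.1 (central_le_cent central_center))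
  have h2 : ∀ z ∈ F.center, t z = z ^ n := fun z hz => b z hz (hZ (h1 hz))
  have h3 : ∀ z, z ∈ ht.hom.ker.map (Subgroup.subtype _) ↔ z ∈ S ⊓ C[S] ∧ t z = 1 := fun z =>
    ⟨by rintro ⟨z, c, rfl⟩; exact ⟨z.2, c⟩, fun c => ⟨⟨z, c.1⟩, c.2, rfl⟩⟩
  refine ⟨_, fun z hz => ((h3 z).1 hz).1, eq_bot_iff.2 fun z hz => mem_of_pow_mem' hS (center_le hz.1) hn
    ((h2 z hz.1).symm.trans ((h3 z).1 hz.2).2), le_antisymm (sup_le h1 fun z hz => ((h3 z).1 hz).1)
    fun x hx => ?_⟩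
  obtain ⟨y, c, d⟩ := exists_pow_root hS (center_le (a x hx).1) hn
  have hy := zpowers_le.2 (a x hx).1 c
  have := mul_mem (mem_sup_left hy) (mem_sup_right ((h3 (y⁻¹ * x)).2 ⟨mul_mem (inv_mem (h1 hy)) hx, by
    rw [ht.mul (inv_mem (h1 hy)) hx, ht.inv (h1 hy), h2 y hy, d, inv_mul_cancel]⟩))
  rwa [mul_inv_cancel_left] at this

end Cfsg.Agent.S5294
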