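import Cfsg.Statements.S1945
import Mathlib
import Cfsg.Agent.S5294
import Cfsg.Agent.S5295

set_option autoImplicit false
open Cfsg

namespace Cfsg.Agent.S1945

open Cfsg Subgroup CfsgH2 CfsgL0 Function
open Cfsg.FusionSystem hiding inv_mem center

theorem con_of_sol {G : Type*} [Group G] [Finite G] {p : ℕ} [Fact p.Prime] (S : Sylow p G)
    (hs : Group.IsSolvable G) : (groupFusionSystem (S : Subgroup G)).IsConstrained p := by
  set π := QuotientGroup.mk' (pPrimeCore p G)
  have hπ : Surjective π := QuotientGroup.mk'_surjective _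
  have h := group_real (S : Subgroup G)
  have hU : Syl p (S : Subgroup G).subtype.range ⊤ := by rw [range_subtype]; exact syl_top S
  have hb : ∀ x ∈ (S : Subgroup G), π x = 1 → x = 1 := fun x hx e => by
    have : x ∈ (S : Subgroup G) ⊓ pPrimeCore p G := ⟨hx, (QuotientGroup.eq_one_iff _).1 e⟩
    rwa [inf_eq_bot_of_coprime' (coprime_of_pgroup S.2 not_dvd_pPrimeCore)] at this
  have hi : Injective (π.comp (S : Subgroup G).subtype) := (injective_iff_map_eq_one _).2 fun x hx =>
    Subtype.ext (hb _ x.2 hx)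
  have hc : IsPConstrained p G := fun P => by
    have h1 := syl_sub P
    generalize (P : Subgroup (pPrimePCore p G)).map (pPrimePCore p G).subtype = T at h1 ⊢
    rw [← Opp_top] at h1 ⊢
    have h2 : Sol[(⊤ : Subgroup G)] := inferInstance
    exact (le_inf le_top le_rfl).trans (h1.cent_le_Opp h2)
  exact model_constrained (G := G ⧸ pPrimeCore p G) (ι := π.comp (S : Subgroup G).subtype)
    ⟨inferInstance, real_of_smor (real_smor_quot h hU π hπ) hi, (syl_comp hU π hπ).exists_top,
      con_top_iff.2 (pcon_iff.1 hc)⟩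

/-- Let S be a Sylow p-subgroup of the finite group G, and assume that p is odd or that G is solvable. The elements of S each of which is its only G-conjugate in S form a subgroup W of Z(S); W is then a direct factor of Z(S): there is a subgroup K of Z(S) with W ∩ K = 1 and WK = Z(S). (For p = 2 and G not solvable this can fail.) -/
theorem result {G : Type*} [Group G] [Finite G] {p : ℕ} [Fact p.Prime] (S : Sylow p G) (h : p ≠ 2 ∨ Group.IsSolvable G) :
    ∃ W K : Subgroup G, (∀ x : G, x ∈ W ↔ (x ∈ (S : Subgroup G) ∧ ∀ g : G, g * x * g⁻¹ ∈ (S : Subgroup G) → g * x * g⁻¹ = x)) ∧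
      K ≤ ((S : Subgroup G) ⊓ Subgroup.centralizer ((S : Subgroup G) : Set G)) ∧ W ⊓ K = ⊥ ∧ W ⊔ K = ((S : Subgroup G) ⊓ Subgroup.centralizer ((S : Subgroup G) : Set G)) := by
  have hF := group_sat S
  have key : ∃ K : Subgroup G, K ≤ ((S : Subgroup G) ⊓ Subgroup.centralizer ((S : Subgroup G) : Set G)) ∧
      (groupFusionSystem (S : Subgroup G)).center ⊓ K = ⊥ ∧
      (groupFusionSystem (S : Subgroup G)).center ⊔ K = ((S : Subgroup G) ⊓ Subgroup.centralizer ((S : Subgroup G) : Set G)) := by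
    rcases h with h | h
    · exact Cfsg.Agent.S5295.result p h S.2 _ hF
    · refine Cfsg.Agent.S5294.result p S.2 _ hF fun x hx => ?_
      exact centric_cI (constrained_core (con_of_sol S h)) (mem_cI.2 ⟨hx.1, cent_anti core_le hx.2⟩)
  obtain ⟨K, a, b, c⟩ := key
  refine ⟨_, K, fun x => ⟨fun hx => ⟨center_le hx, fun g hg => ?_⟩, fun ⟨hx, hg⟩ => ?_⟩, a, b, c⟩
  · refine central_fix (P := zpowers x) (f := fun y => g * y * g⁻¹) central_center
      (M_group.2 ⟨zpowers_le.2 (center_le hx), ?_, g, fun _ _ => rfl⟩) (mem_zpowers x) hx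
    rintro _ ⟨n, rfl⟩
    have := zpow_mem hg n
    rwa [conj_zpow] at this
  · refine le_center (Q := zpowers x) (central_of_fix S.2 hF (zpowers_le.2 hx) fun P f hf y hy hx' => ?_)
      (mem_zpowers x)
    obtain ⟨h1, h2, g, e⟩ := M_group.1 hf
    have hS := h2 y hy
    rw [e y hy] at hS ⊢
    have hxz : ∀ s ∈ (S : Subgroup G), s * x = x * s := fun s hs =>
      mul_inv_eq_iff_eq_mul.1 (hg s (mul_mem (mul_mem hs hx) (inv_mem hs)))
    obtain ⟨n, rfl⟩ := hx'
    have c1 : (S : Subgroup G) ≤ centralizer {x ^ n} := fun s hs => mem_centralizer_singleton_iff.2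
      ((show Commute s x from hxz s hs).zpow_right n)
    have hT : Syl p (S : Subgroup G) (centralizer {x ^ n}) := (syl_top S).mono c1 le_top
    have hx2 : g⁻¹ * x * g ∈ centralizer {x ^ n} := mem_centralizer_singleton_iff.2 (by
      have := hxz _ hS
      calc g⁻¹ * x * g * x ^ n = g⁻¹ * (x * (g * x ^ n * g⁻¹)) * g := by group
        _ = _ := by rw [← this]; group)
    obtain ⟨k, hk⟩ := pgroup_pow_eq_one S.2 hx
    obtain ⟨c, hc, l⟩ := hT.exists_conj_le (Q := zpowers (g⁻¹ * x * g))
      (CfsgH2.isPGroup_zpowers (p := p) (k := k) (by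
        have := conj_pow (a := g⁻¹) (b := x) (i := p ^ k)
        rw [inv_inv] at this; rw [this, hk]; group)) (zpowers_le.2 hx2)
    have h3 : (c * g⁻¹) * x * (c * g⁻¹)⁻¹ = x := hg _ (by
      have := l ⟨_, mem_zpowers _, rfl⟩
      convert this using 1; simp [CfsgH2.cj]; group)
    have h4 : (c * g⁻¹) * x ^ n * (c * g⁻¹)⁻¹ = x ^ n := by rw [← conj_zpow, h3]
    have h5 := mem_centralizer_singleton_iff.1 hc
    calc g * x ^ n * g⁻¹ = g * (c⁻¹ * (c * x ^ n)) * g⁻¹ := by group
      _ = g * (c⁻¹ * (x ^ n * c)) * g⁻¹ := by rw [h5]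
      _ = (c * g⁻¹)⁻¹ * (x ^ n) * (c * g⁻¹) := by group
      _ = x ^ n := by nth_rw 1 [← h4]; group

end Cfsg.Agent.S1945
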