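import Cfsg.Statements.S1946
import Mathlib
import Cfsg.Agent.L0.Chn
import Cfsg.Agent.L0.Fus13

set_option autoImplicit false
open Cfsg

namespace Cfsg.Agent.S1946

open Cfsg Subgroup CfsgH2 CfsgL0

/-- Let P be a Sylow p-subgroup of the finite group G. Then G has a normal p-complement if and only if P controls the fusion of its elements of order dividing p (dividing 4 when p = 2): whenever such an element a of P has a G-conjugate g a g⁻¹ in P, that conjugate is already x a x⁻¹ for some x in P. -/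
theorem result {G : Type*} [Group G] [Finite G] {p : ℕ} [Fact p.Prime] (P : Sylow p G) :
    Cfsg.HasNormalPComplement p G ↔
      ∀ a ∈ (P : Subgroup G), (a ^ p = 1 ∨ (p = 2 ∧ a ^ 4 = 1)) → ∀ g : G, g * a * g⁻¹ ∈ (P : Subgroup G) →
        ∃ x ∈ (P : Subgroup G), g * a * g⁻¹ = x * a * x⁻¹ := by
  have hP := syl_top P
  rw [npc_top_iff, npc_iff_inner hP]
  refine ⟨fun h a ha _ g hg => ?_, fun h => inner_of_small hP.pg (sub_sat (hTH := hP.le) hP) fun Q f hf x hx _ hs => ?_⟩
  · have := M_sub_conj (hTH := hP.le) (zpowers_le.2 ha) (mem_top g) (by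
      rw [MonoidHom.map_zpowers, zpowers_le]; exact hg)
    rw [h] at this
    obtain ⟨-, s, hs, e⟩ := M_inner.1 this
    exact ⟨s, hs, e a (mem_zpowers a)⟩
  · obtain ⟨a, b, g, -, e⟩ := M_sub.1 hf
    rw [e x hx]
    exact h x (a hx) hs.pow g (e x hx ▸ b x hx)

end Cfsg.Agent.S1946
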