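import Cfsg.Statements.S1947
import Mathlib
import Cfsg.Agent.L0.Chn
import Cfsg.Agent.L0.Fus13

set_option autoImplicit false
open Cfsg

namespace Cfsg.Agent.S1947

open Cfsg Subgroup CfsgH2 CfsgL0

universe u in
theorem aux (n : ℕ) : ∀ (G : Type u) [Group G] (x g : G) (a b : ℕ), x ∈ Subgroup.upperCentralSeries G n → x ^ a = 1 →
    g ^ b = 1 → a.Coprime b → g * x * g⁻¹ = x := by
  induction n with
  | zero => intro G _ x g a b h _ _ _; simp [show x = 1 from h]
  | succ n ih =>
    intro G _ x g a b h h1 h2 h3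
    rw [← Subgroup.comap_upperCentralSeries_quotient_center] at h
    have := ih _ (QuotientGroup.mk' _ x) (QuotientGroup.mk' _ g) a b h (by rw [← map_pow, h1, map_one])
      (by rw [← map_pow, h2, map_one]) h3
    rw [← map_inv, ← map_mul, ← map_mul, QuotientGroup.mk'_eq_mk'] at this
    obtain ⟨z, hz, e⟩ := this
    have c : ∀ y, Commute y z := fun y => mem_center_iff.1 hz y
    have e1 : z ^ a = 1 := by
      have := congrArg (· ^ a) e
      simpa [(c _).mul_pow, h1] using this
    have e2 : z ^ b = 1 := by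
      have : x⁻¹ * g * x⁻¹⁻¹ * z = g := by
        rw [mul_assoc _ _ z, (c g⁻¹).eq, ← mul_assoc, mul_inv_eq_iff_eq_mul] at e
        rw [inv_inv, mul_assoc, mul_assoc, ← mul_assoc g, e, inv_mul_cancel_left]
      have := congrArg (· ^ b) this
      simp only [(c _).mul_pow, conj_pow, h2] at this
      simpa using this
    have e3 := pow_gcd_eq_one.2 ⟨e1, e2⟩
    rw [h3, pow_one] at e3
    rwa [e3, mul_one] at e

/-- Let G be a finite group and p a prime. If every element of G of order dividing p (dividing 4 when p = 2) lies in some fixed term Z_n(G) of the upper central series, then G has a normal p-complement. -/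
theorem result {G : Type*} [Group G] [Finite G] {p : ℕ} [Fact p.Prime] (n : ℕ)
    (h : ∀ a : G, (a ^ p = 1 ∨ (p = 2 ∧ a ^ 4 = 1)) → a ∈ Subgroup.upperCentralSeries G n) : Cfsg.HasNormalPComplement p G := by
  obtain ⟨P⟩ : Nonempty (Sylow p G) := inferInstance
  have hP := syl_top P
  rw [npc_top_iff, npc_iff_inner hP]
  refine inner_of_small hP.pg (sub_sat (hTH := hP.le) hP) fun Q f hf x hx _ hs => ?_
  obtain ⟨a, b, g, hg, e⟩ := M_sub.1 hf
  rw [← hP.piRes_sup, sup_comm] at hg
  obtain ⟨s, hs', c, hc, rfl⟩ := (mem_sup_of_norm (hP.le.trans le_norm_piRes)).1 hg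
  obtain ⟨k, hk⟩ := pgroup_pow_eq_one hP.pg (a hx)
  have : piRes {p} ⊤ ≤ C1[x] := piRes_le_iff.2 fun y _ co => mem_centralizer_singleton_iff.2 (mul_inv_eq_iff_eq_mul.1
    (aux n G x y _ _ (h x hs.pow) hk (pow_orderOf_eq_one y) (co.symm.pow_left k)))
  refine ⟨s, hs', ?_⟩
  rw [e x hx, mul_assoc s c, mem_centralizer_singleton_iff.1 (this hc)]
  group

end Cfsg.Agent.S1947
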