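import Cfsg.Statements.S1948
import Mathlib
import Cfsg.Agent.L0.Chn

set_option autoImplicit false
open Cfsg

namespace Cfsg.Agent.S1948

open Cfsg Subgroup CfsgH2 CfsgL0

/-- Let S be a Sylow p-subgroup of the finite group G. Then G = N_G(S)·O_{p'}(G) if and only if G is p-constrained and N_G(S) controls fusion in S, in the sense that whenever a subgroup Q of S has a conjugate g Q g⁻¹ inside S, the element g is a product n c with n normalizing S and c centralizing Q. -/
theorem result {G : Type*} [Group G] [Finite G] {p : ℕ} [Fact p.Prime] (S : Sylow p G) :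
    Subgroup.normalizer ((S : Subgroup G) : Set G) ⊔ Cfsg.pPrimeCore p G = ⊤ ↔
      (Cfsg.IsPConstrained p G ∧
        ∀ Q : Subgroup G, Q ≤ (S : Subgroup G) → ∀ g : G, Q.map (MulAut.conj g).toMonoidHom ≤ (S : Subgroup G) →
          ∃ n ∈ Subgroup.normalizer ((S : Subgroup G) : Set G), ∃ c ∈ Subgroup.centralizer (Q : Set G), g = n * c) := by
  have hS := syl_top S
  rw [pPrimeCore_eq']
  refine ⟨fun h => ⟨fun T => ?_, fun Q hQ g hg => ?_⟩, fun ⟨h1, h2⟩ => ?_⟩
  · have h1 : (S : Subgroup G) ≤ Opp p ⊤ := le_sup_right.trans (le_Opp (N := O[{p}ᶜ, ⊤] ⊔ (S : Subgroup G)) le_top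
      (h.ge.trans (sup_le (le_norm_sup (le_top.trans le_norm_piCoreOf) le_rfl) (le_sup_left.trans le_normalizer)))
      (.of_sup (le_top.trans le_norm_piCoreOf) not_dvd_piCoreOf hS.pg rfl))
    have h2 : C[(S : Subgroup G)] ≤ Opp p ⊤ := le_sup_right.trans (le_Opp (N := O[{p}ᶜ, ⊤] ⊔ C[(S : Subgroup G)]) le_top
      (h.ge.trans (sup_le (le_norm_sup (le_top.trans le_norm_piCoreOf) (norm_le_norm_cent _)) (le_sup_left.trans le_normalizer)))
      (by
        rw [← cent_eq_of_syl ((group_centric_iff hS le_rfl).1 centric_top), ← sup_assoc]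
        exact .of_sup (sup_le le_normalizer (inf_le_right.trans (le_norm_sup (le_top.trans le_norm_piCoreOf) le_norm_piCoreOf)))
          ((piN_compl_singleton Fact.out).1 (piN_sup piN_piCoreOf piN_piCoreOf (.inr (le_top.trans le_norm_piCoreOf))))
          (hS.pg.to_le inf_le_left) rfl))
    have h3 := syl_sub T
    rw [Opp_top] at h1 h2
    obtain ⟨g, g1, g2⟩ := (hS.mono h1 le_top).conj h3
    erw [← g2, centralizer_map_cj]
    exact map_cj_le_of_mem h2 g1
  · obtain ⟨n, n1, c, c1, rfl⟩ := (mem_sup_of_norm le_normalizer_of_normal).1 (h.ge (mem_top g))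
    refine ⟨n, n1, c, mem_cent_iff.2 fun x hx => ?_, rfl⟩
    rw [cj_def, ← map_cj_cj, map_cj_le_iff, map_cj_eq (inv_mem n1)] at hg
    have : c * x * c⁻¹ * x⁻¹ ∈ (S : Subgroup G) ⊓ O[{p}ᶜ, ⊤] := mem_inf.2 ⟨mul_mem (hg (conj_mem_map_cj hx))
        (inv_mem (hQ hx)), by
      simpa only [mul_assoc] using mul_mem c1 (conj_mem_of_norm (le_norm_piCoreOf (mem_top x)) (inv_mem c1))⟩
    rw [inf_eq_bot_of_piN (isPGroup_iff_piN.1 hS.pg) piN_piCoreOf, mem_bot, mul_inv_eq_one, mul_inv_eq_iff_eq_mul] at this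
    exact this.symm
  · have h3 := hS.syl_Opp
    have h4 := h3.Opp_eq
    have h5 : Opp p ⊤ ≤ N[(S : Subgroup G)] ⊔ O[{p}ᶜ, ⊤] := h4.ge.trans (sup_le le_sup_right
      ((inf_le_left.trans le_normalizer).trans le_sup_left))
    refine top_le_iff.1 ((h3.frattini_sup le_top le_norm_Opp).ge.trans (sup_le h5 fun g hg => ?_))
    obtain ⟨n, n1, c, c1, rfl⟩ := h2 _ inf_le_left g ((map_cj_eq hg.2).le.trans inf_le_left)
    refine mul_mem (mem_sup_left n1) (h5 ?_)
    rw [Opp_top] at h3 c1 ⊢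
    obtain ⟨T, hT⟩ := h3.exists_sub
    exact h1 T (hT ▸ c1)

end Cfsg.Agent.S1948
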