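import Cfsg.Statements.S1952
import Mathlib
import Cfsg.Agent.L0.Yos

set_option autoImplicit false
open Cfsg

namespace Cfsg.Agent.S1952

open Cfsg Subgroup CfsgH2 CfsgL0

/-- Let P be a finite p-group with a normal elementary abelian subgroup A of index p, and let x ∈ A and y ∈ P with y outside A. If the product of the p conjugates y^(-i) x y^i (i = 0, …, p−1) is not the identity, then the wreath product Z_p ≀ Z_p, realised as a Sylow p-subgroup of the symmetric group of degree p², is a homomorphic image of P. -/
theorem result {P : Type*} [Group P] [Finite P] {p : ℕ} [Fact p.Prime] (hP : IsPGroup p P) (A : Subgroup P) [A.Normal]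
    (hA : Cfsg.IsElementaryAbelian p A) (hidx : A.index = p) (x y : P) (hx : x ∈ A) (hy : y ∉ A)
    (hprod : ((List.range p).map (fun i => (y ^ i)⁻¹ * x * y ^ i)).prod ≠ 1) :
    ∃ (Q : Sylow p (Equiv.Perm (Fin (p ^ 2)))) (f : P →* ↥(Q : Subgroup (Equiv.Perm (Fin (p ^ 2))))), Function.Surjective f := by
  refine wreath_of_ic hP hidx hx (z := y) fun e => hprod ?_
  haveI := hA.1
  letI : CommGroup A := { (inferInstance : Group A) with mul_comm := fun a b => mul_comm' a b }
  have h := hom_ic (homOn_ex (MonoidHom.id A)) (le_normalizer_of_normal (mem_top y))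
    (fun a => Subtype.ext (hA.2 a a.2)) hx
  rw [phi_eq_bot hA, mem_bot] at e
  rw [e, (homOn_ex _).one, ← Finset.prod_map_val, Finset.range_val, Multiset.range, Multiset.map_coe, Multiset.prod_coe] at h
  have h2 := congrArg A.subtype h
  rw [map_one, map_list_prod, List.map_map] at h2
  rw [h2]
  congr 1
  refine List.map_congr_left fun i _ => ?_
  have : (y ^ i)⁻¹ * x * y ^ i ∈ A := by simpa using ‹A.Normal›.conj_mem x hx (y ^ i)⁻¹
  simp [ex_apply _ this]

end Cfsg.Agent.S1952
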