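import Cfsg.Statements.S1954
import Mathlib
import Cfsg.Agent.L0.Chn2

set_option autoImplicit false
open Cfsg

namespace Cfsg.Agent.S1954

open Cfsg Subgroup CfsgH2 CfsgL0

/-- Let N be a normal subgroup of the finite group G, P a Sylow p-subgroup of G, and V a subgroup of P ∩ N normal in P ∩ N such that N_N(V) controls strong fusion in P ∩ N with respect to N (whenever a subgroup A of P ∩ N has n A n⁻¹ ≤ P ∩ N for some n in N, then n = h c with h in N_N(V) and c in C_N(A)). Let W be the subgroup generated by the conjugates of V under N_G(P ∩ N). Then N_G(W) controls strong fusion in P with respect to G. -/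
theorem result {G : Type*} [Group G] [Finite G] {p : ℕ} [Fact p.Prime] (N : Subgroup G) [N.Normal] (P : Sylow p G) (V : Subgroup G)
    (hV : V ≤ (P : Subgroup G) ⊓ N) (hVn : ∀ x ∈ (P : Subgroup G) ⊓ N, V.map (MulAut.conj x).toMonoidHom = V)
    (hctrl : ∀ A : Subgroup G, A ≤ (P : Subgroup G) ⊓ N → ∀ n ∈ N, A.map (MulAut.conj n).toMonoidHom ≤ (P : Subgroup G) ⊓ N →
      ∃ h ∈ N ⊓ Subgroup.normalizer (V : Set G), ∃ c ∈ N ⊓ Subgroup.centralizer (A : Set G), n = h * c)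
    (W : Subgroup G) (hW : W = Subgroup.closure (⋃ x ∈ Subgroup.normalizer (((P : Subgroup G) ⊓ N : Subgroup G) : Set G),
      ((V.map (MulAut.conj x).toMonoidHom : Subgroup G) : Set G))) :
    ∀ A : Subgroup G, A ≤ (P : Subgroup G) → ∀ g : G, A.map (MulAut.conj g).toMonoidHom ≤ (P : Subgroup G) →
        ∃ h ∈ Subgroup.normalizer (W : Set G), ∃ c ∈ Subgroup.centralizer (A : Set G), g = h * c := by
  have hP := syl_top P
  set T := (P : Subgroup G) ⊓ N
  have h1 : ∀ x ∈ N[T], (fusionSystemOfSubgroup N T inf_le_right).IsNormal (V.map (CfsgH2.cj x)) := fun x hx =>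
    sub_normal_iff.2 ⟨map_cj_le_of_norm hV hx, fun A hA n hn h => by
      obtain ⟨k, k1, c, c1, e⟩ := hctrl (A.map (CfsgH2.cj x⁻¹)) (map_cj_le_of_norm hA (inv_mem hx)) (x⁻¹ * n * x⁻¹⁻¹)
        (‹N.Normal›.conj_mem n hn _) (by
          rw [cj_def, map_cj_cj, inv_inv, mul_inv_cancel_right, ← map_cj_cj]; exact map_cj_le_of_norm h (inv_mem hx))
      refine ⟨x * k * x⁻¹, ⟨‹N.Normal›.conj_mem _ k1.1 _, normalizer_map_cj x V ▸ conj_mem_map_cj k1.2⟩, x * c * x⁻¹,
        ⟨‹N.Normal›.conj_mem _ c1.1 _, ?_⟩, ?_⟩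
      · rw [← map_cj_cj_inv x A, centralizer_map_cj]; exact conj_mem_map_cj c1.2
      · calc n = x * (x⁻¹ * n * x⁻¹⁻¹) * x⁻¹ := by group
          _ = _ := by rw [e]; group⟩
  have h2 : ∀ x ∈ N[T], V.map (CfsgH2.cj x) ≤ W := fun x hx y hy => hW ▸ subset_closure (Set.mem_biUnion hx hy)
  have h3 := sSup_mem_of_sup (S := T) (X := {R | (fusionSystemOfSubgroup N T inf_le_right).IsNormal R ∧ R ≤ W})
    (fun _ h => h.1.1) ⟨normal_bot, bot_le⟩ fun _ a _ b => ⟨normal_sup a.1 b.1, sup_le a.2 b.2⟩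
  have h4 := h3.1
  rw [h3.2.antisymm (hW.le.trans ((closure_le _).2 (Set.iUnion₂_subset fun x hx =>
    SetLike.coe_subset_coe.2 (le_sSup ⟨h1 x hx, h2 x hx⟩))))] at h4
  have h5 := normal_of_inv_normal hP.pg (group_sat P) (group_normal hP (H := N) rfl).1.2.2 h4 fun α hα => by
    rw [group_eq_sub, sub_aut inf_le_left] at hα
    obtain ⟨g, -, g1, g2⟩ := mem_autInd.1 hα
    rw [im_congr fun x hx => g2 x (h4.1 hx), im_conj]
    refine map_cj_eq (mem_norm_of_map_le ?_)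
    conv_lhs => rw [hW, MonoidHom.map_closure]
    rw [closure_le]
    rintro _ ⟨y, hy, rfl⟩
    obtain ⟨x, hx, hy⟩ := Set.mem_iUnion₂.1 hy
    exact h2 _ (mul_mem g1 hx) (map_cj_cj g x V ▸ mem_map_of_mem _ hy)
  rw [group_eq_sub, sub_normal_iff] at h5
  intro A hA g hg
  obtain ⟨h, a, c, b, e⟩ := h5.2 A hA g trivial hg
  exact ⟨h, a.2, c, b.2, e⟩

end Cfsg.Agent.S1954
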