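import Cfsg.Statements.S1956
import Mathlib
import Cfsg.Agent.L0.Chn

set_option autoImplicit false
open Cfsg

namespace Cfsg.Agent.S1956

open Cfsg Subgroup CfsgH2 CfsgL0

/-- Let P be a Sylow p-subgroup of the finite group G such that every element of P of order dividing p (dividing 4 when p = 2) is central in P. Then the fusion of these elements is controlled by N_G(P): if such an element a of P has g a g⁻¹ in P, then g = n c with n normalizing P and c commuting with a. -/
theorem result {G : Type*} [Group G] [Finite G] {p : ℕ} [Fact p.Prime] (P : Sylow p G)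
    (hcen : ∀ a ∈ (P : Subgroup G), (a ^ p = 1 ∨ (p = 2 ∧ a ^ 4 = 1)) → ∀ y ∈ (P : Subgroup G), a * y = y * a) :
    ∀ a ∈ (P : Subgroup G), (a ^ p = 1 ∨ (p = 2 ∧ a ^ 4 = 1)) → ∀ g : G, g * a * g⁻¹ ∈ (P : Subgroup G) →
      ∃ n ∈ Subgroup.normalizer ((P : Subgroup G) : Set G), ∃ c : G, c * a = a * c ∧ g = n * c := by
  intro a ha h g hg
  have hP := syl_top P
  have h1 : (P : Subgroup G) ≤ C1[a] := fun y hy => mem_centralizer_singleton_iff.2 (hcen a ha h y hy).symm
  have h2 : (P : Subgroup G).map (CfsgH2.cj g⁻¹) ≤ C1[a] := by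
    rw [map_cj_le_iff, inv_inv, ← centralizer_conj]
    exact fun y hy => mem_centralizer_singleton_iff.2 (hcen _ hg (by simpa using h) y hy).symm
  obtain ⟨c, c1, c2⟩ := (hP.mono h1 le_top).conj ((hP.map_cj_mem (mem_top g⁻¹)).mono h2 le_top)
  refine ⟨g * c, map_cj_eq_iff.1 (by rw [← map_cj_cj, c2, map_cj_cj_inv]), c⁻¹,
    mem_centralizer_singleton_iff.1 (inv_mem c1), by group⟩

end Cfsg.Agent.S1956
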