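import Cfsg.Statements.S2061
import Mathlib
import Cfsg.Agent.H7.Ou.Math

set_option autoImplicit false
open Cfsg

namespace Cfsg.Agent.S2061

/-- The outer automorphism group of the Mathieu group M₁₂ (the stabiliser of a dodecad in the automorphism group of the length-24 binary code) has order 2. -/
theorem result : Nat.card (Cfsg.Out ↥Cfsg.Spor.M12) = 2 := by
  exact CfsgH7.M12.Ou.out CfsgH7.Gol.mdl12

end Cfsg.Agent.S2061
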