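import Mathlib
import Cfsg.Statements.S2247
import Cfsg.Agent.H8.Sz5

set_option autoImplicit false
open Cfsg

namespace Cfsg.Agent.S2247

open CfsgH8.SzG

/-- In the Suzuki group with q = 2^(2m+1), m ≥ 1 (realised as the stabiliser in SL₄ of the Suzuki–Tits ovoid), the normalizer of a Sylow 2-subgroup P is a maximal subgroup and is the only maximal subgroup containing P. -/
theorem result {F : Type*} [Field F] [Fintype F] {m : ℕ} (hm : 1 ≤ m) (hF : Fintype.card F = 2 ^ (2 * m + 1)) (P : Sylow 2 ↥(Cfsg.Sz F m)) :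
    IsCoatom (Subgroup.normalizer ((P : Subgroup ↥(Cfsg.Sz F m)) : Set ↥(Cfsg.Sz F m))) ∧
    ∀ M : Subgroup ↥(Cfsg.Sz F m), IsCoatom M → (P : Subgroup ↥(Cfsg.Sz F m)) ≤ M → M = Subgroup.normalizer ((P : Subgroup ↥(Cfsg.Sz F m)) : Set ↥(Cfsg.Sz F m)) := by
  haveI : CfsgH8.SzG.SzF F m := ⟨hm, hF⟩
  obtain ⟨k, hk⟩ := sylow_conj P
  rw [hk, CfsgH2.normalizer_map_cj, norm_U]
  have key : ∀ M : Subgroup (Cfsg.Sz F m), M ≠ ⊤ → (U F m).map (CfsgH2.cj k) ≤ M →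
      M ≤ (B F m).map (CfsgH2.cj k) := fun M hM hU => by
    rw [CfsgH2.le_map_cj_iff]
    by_contra hc
    exact hM (CfsgH2.map_cj_eq_top.1 (eq_top_of_U_le (CfsgH2.map_cj_le_iff.1 hU) hc))
  have hne : (B F m).map (CfsgH2.cj k) ≠ ⊤ := fun h0 => B_ne_top (CfsgH2.map_cj_eq_top.1 h0)
  refine ⟨⟨hne, fun M hM => ?_⟩, fun M hM hU => ?_⟩
  · by_contra hc
    exact hM.not_ge (key M hc ((Subgroup.map_mono U_le_B).trans hM.le))
  · by_contra hc
    exact hne (hM.2 _ (lt_of_le_of_ne (key M hM.1 hU) hc))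

end Cfsg.Agent.S2247
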