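import Cfsg.Statements.S2249
import Cfsg.Agent.H5.Wr6

set_option autoImplicit false
open Cfsg

namespace Cfsg.Agent.S2249

open CfsgH5 CfsgH5.Wr CfsgH5.Rk Module

/-- The normal 2-rank of the general linear group over a finite field of odd order q: for n ≥ 1 and S a Sylow 2-subgroup of GL_n(F), the largest rank of an elementary abelian subgroup of S that is normal in S equals n when q ≡ 1 (mod 4) and ⌊(n + 1)/2⌋ when q ≡ 3 (mod 4). -/
theorem result {F : Type*} [Field F] [Fintype F] {q : ℕ} (hF : Fintype.card F = q) (hodd : Odd q) (n : ℕ) (hn : 1 ≤ n) (S : Sylow 2 (Matrix.GeneralLinearGroup (Fin n) F)) :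
    (q % 4 = 1 → ((∃ E : Subgroup ↥(S : Subgroup (Matrix.GeneralLinearGroup (Fin n) F)), E.Normal ∧ Cfsg.IsElementaryAbelian 2 E ∧ 2 ^ (n) ≤ Nat.card ↥E) ∧
      ∀ E : Subgroup ↥(S : Subgroup (Matrix.GeneralLinearGroup (Fin n) F)), E.Normal → Cfsg.IsElementaryAbelian 2 E → Nat.card ↥E ≤ 2 ^ (n))) ∧
    (q % 4 = 3 → ((∃ E : Subgroup ↥(S : Subgroup (Matrix.GeneralLinearGroup (Fin n) F)), E.Normal ∧ Cfsg.IsElementaryAbelian 2 E ∧ 2 ^ ((n + 1) / 2) ≤ Nat.card ↥E) ∧
      ∀ E : Subgroup ↥(S : Subgroup (Matrix.GeneralLinearGroup (Fin n) F)), E.Normal → Cfsg.IsElementaryAbelian 2 E → Nat.card ↥E ≤ 2 ^ ((n + 1) / 2))) := by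
  subst hF
  have h1 : 1 < Fintype.card F := Fintype.one_lt_card
  have h2 := two_ne_of_odd hodd
  refine ⟨fun h => ?_, fun h => ?_⟩
  · obtain ⟨D⟩ : Nonempty (Sylow 2 Fˣ) := inferInstance
    obtain ⟨T⟩ : Nonempty (Sylow 2 (Equiv.Perm (Fin n))) := inferInstance
    let j := glE (F := F) (V := Fin n → F) (n := n) (by simp)
    have cF : Nat.card Fˣ = Fintype.card F - 1 := by rw [Nat.card_units, Nat.card_eq_fintype_card]
    obtain ⟨ψ⟩ := syl_equiv (φ := j.toMonoidHom.comp (lin.comp (map ((DistribMulAction.toModuleAut F F).comp D.1.subtype))))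
      (j.injective.comp (lin_inj.comp (map_inj (uH_inj.comp D.1.subtype_injective)))) (pg_K D.2 T.2) (by
        rw [← Nat.card_congr j.toEquiv, card_gl, v_K, v_syl, cF, Nat.card_eq_fintype_card, finrank_fin_fun,
          v_go (e := 1) (a := padicValNat 2 (Fintype.card F - 1)) (b := 0) h1 hodd.not_two_dvd_nat (fun i hi => ?_)
            (fun i hi => (hi (one_dvd i)).elim) one_pos]
        · simp
        rw [one_mul]
        by_cases e : 2 ∣ i
        · obtain ⟨i, rfl⟩ := e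
          rw [v_even h1 hodd (by omega), v_one (n := _ + 1) (by omega), padicValNat.mul two_ne_zero (by omega),
            padicValNat.self one_lt_two]; omega
        · rw [v_odd h1 hodd e, padicValNat.eq_zero_of_not_dvd e, add_zero]) S
    have : Nontrivial D.1 := Finite.one_lt_card_iff_nontrivial.1
      (Nat.le_of_dvd Nat.card_pos (D.dvd_card_of_dvd_card (by rw [cF]; omega)))
    refine ⟨(nge_K T.1 D.2).equiv ψ, NLe.of_rank ?_ _⟩
    simpa using le_gl (ρ := j.symm.toMonoidHom) h2 j.symm.injective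
  obtain ⟨D⟩ : Nonempty (Sylow 2 ((Fin 2 → F) ≃ₗ[F] (Fin 2 → F))) := inferInstance
  obtain ⟨T⟩ : Nonempty (Sylow 2 (Equiv.Perm (Fin (n / 2)))) := inferInstance
  let j := glE (F := F) (V := (Fin (n / 2) → Fin 2 → F) × (Fin (n % 2) → F)) (n := n) (by simp [rank2]; omega)
  have i2 : Function.Injective (lin.comp ((map (ι := Fin (n / 2)) D.1.subtype).comp (K D.1 T.1).subtype)) :=
    lin_inj.comp ((map_inj D.1.subtype_injective).comp Subtype.val_injective)
  have cL : Nat.card (⊤ : Subgroup (K D.1 T.1 × (Fin (n % 2) → ℤˣ))) = Nat.card (K D.1 T.1) * 2 ^ (n % 2) := by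
    rw [Subgroup.card_top, Nat.card_prod]; simp
  obtain ⟨ψ⟩ := syl_equiv (φ := j.toMonoidHom.comp (pH.comp ((lin.comp ((map D.1.subtype).comp (K D.1 T.1).subtype)).prodMap
    (dg (Pi.basisFun F (Fin (n % 2))))))) (L := ⊤) (j.injective.comp (pH_inj.comp (i2.prodMap (dg_inj h2 _)))) (by
      obtain ⟨a, ha⟩ := IsPGroup.iff_card.1 (pg_K D.2 T.2)
      exact .of_card (n := a + n % 2) (by rw [cL, ha, pow_add])) (by
      rw [cL, padicValNat.mul Nat.card_pos.ne' (by positivity), v_K, v_D hodd, padicValNat.prime_pow, Matrix.card_GL_field, ← Finset.prod_range fun i => Fintype.card F ^ n - Fintype.card F ^ i,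
        ← go, v_go2 h1 hodd, v_one (n := Fintype.card F - 1) (by omega), show n - n / 2 = n / 2 + n % 2 by omega]
      linarith) S
  obtain ⟨d, hd⟩ := exp_D h D
  have : Nontrivial D.1 := ⟨⟨_, _, hd⟩⟩
  rw [show (n + 1) / 2 = n / 2 + n % 2 by omega]
  exact ⟨((nge_K T.1 D.2).prod _).equiv (Subgroup.topEquiv.symm.trans ψ),
    ((nle_K T.1 (nle_D h D) hd).prod _).equiv (Subgroup.topEquiv.symm.trans ψ)⟩

end Cfsg.Agent.S2249
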