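import Cfsg.Statements.S2250
import Cfsg.Agent.H5.Wr5

set_option autoImplicit false
open Cfsg

namespace Cfsg.Agent.S2250

open CfsgH5 CfsgH5.Wr CfsgH5.Rk CfsgH5.CForm

/-- The normal 2-rank of the symplectic group over a finite field of odd order: for n ≥ 1 and S a Sylow 2-subgroup of Sp_{2n}(F), the largest rank of an elementary abelian subgroup of S that is normal in S equals n. -/
theorem result {F : Type*} [Field F] [Fintype F] (hF : Odd (Fintype.card F)) (n : ℕ) (hn : 1 ≤ n) (S : Sylow 2 ↥(Matrix.symplecticGroup (Fin n) F)) :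
    ((∃ E : Subgroup ↥(S : Subgroup ↥(Matrix.symplecticGroup (Fin n) F)), E.Normal ∧ Cfsg.IsElementaryAbelian 2 E ∧ 2 ^ (n) ≤ Nat.card ↥E) ∧
      ∀ E : Subgroup ↥(S : Subgroup ↥(Matrix.symplecticGroup (Fin n) F)), E.Normal → Cfsg.IsElementaryAbelian 2 E → Nat.card ↥E ≤ 2 ^ (n)) := by
  obtain ⟨D⟩ : Nonempty (Sylow 2 (Matrix.SpecialLinearGroup (Fin 2) F)) := inferInstance
  obtain ⟨T⟩ : Nonempty (Sylow 2 (Equiv.Perm (Fin n))) := inferInstance
  obtain ⟨e⟩ := sp_syl hF n S D T
  have : Nontrivial D.1 := not_subsingleton_iff_nontrivial.1 fun h => (sl2_q hF D).2.2 (Subsingleton.elim _ _)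
  refine ⟨(nge_K T.1 D.2).equiv e, NLe.of_rank ?_ _⟩
  have := finite_linearEquiv (F := F) (V := Fin n ⊕ Fin n → F)
  have := Finite.of_equiv _ (spEquiv (F := F) n).symm.toEquiv
  have := le_sp (ρ := (spForm F n).Isom.subtype.comp (spEquiv n).toMonoidHom) (spForm_nondeg n) (two_ne_of_odd hF)
    (Subtype.val_injective.comp (spEquiv n).injective) fun g => (spEquiv n g).2
  rwa [finrank_sum_fun, Nat.mul_div_cancel_left _ two_pos] at this

end Cfsg.Agent.S2250
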