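import Cfsg.Statements.S2271
import Cfsg.Agent.H1.Sn1

set_option autoImplicit false
open Cfsg

namespace Cfsg.Agent.S2271

section
open CfsgH1 CfsgH1.Sn Equiv Equiv.Perm MulAction
open scoped commutatorElement

variable {α : Type*} [Fintype α] [DecidableEq α]

theorem out (h : 5 ≤ Fintype.card α) (a b c d : α) : ∃ z, z ≠ a ∧ z ≠ b ∧ z ≠ c ∧ z ≠ d := by
  obtain ⟨z, -, h2⟩ := Finset.exists_mem_notMem_of_card_lt_card (t := Finset.univ)
    ((Finset.card_le_four (a := a) (b := b) (c := c) (d := d)).trans_lt h)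
  exact ⟨z, by simpa using h2⟩

theorem cyc {x y z : α} (h1 : x ≠ y) (h2 : x ≠ z) (h3 : y ≠ z) : ∃ c ∈ alternatingGroup α,
    c x = y ∧ c y = z ∧ c z = x ∧ ∀ s, s = x ∨ s = y ∨ s = z ∨ c s = s :=
  ⟨swap x z * swap x y, by simp [mem_alternatingGroup, h1, h2], by grind [Perm.mul_apply], by grind [Perm.mul_apply],
    by grind [Perm.mul_apply], by grind [Perm.mul_apply]⟩

theorem key (h : 5 ≤ Fintype.card α) (u v : Perm α) (x : α) (h1 : u x = v x) (h2 : u x ≠ x)
    (h3 : u (u x) = x ∨ v (v x) = x ∨ u (u x) = v (v x)) : ∃ c ∈ alternatingGroup α,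
    (Finset.univ.filter fun s => u (c s) = c (v s)).card < (Finset.univ.filter fun s => u s = v s).card := by
  have hu := u.injective
  have hv := v.injective
  have e1 : ∀ {c : Perm α}, (∀ s, u (c s) = c (v s) → u s = v s ∧ s ≠ x) →
      (Finset.univ.filter fun s => u (c s) = c (v s)).card < (Finset.univ.filter fun s => u s = v s).card := fun h =>
    Finset.card_lt_card ⟨fun s hs => by simp at hs ⊢; exact (h s hs).1, fun e => (h x (by simpa using e (by simpa))).2 rfl⟩
  by_cases h4 : u (u x) = x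
  · obtain ⟨p, hp⟩ := out h x (u x) (u.symm (v (u x))) (v.symm x)
    simp only [Ne, Equiv.eq_symm_apply] at hp
    obtain ⟨c, hc, h5⟩ := cyc (x := x) (y := u x) (z := p) (by grind) (by grind) (by grind)
    exact ⟨c, hc, e1 fun s hs => by have := h5.2.2.2 s; have := h5.2.2.2 (v s); grind⟩
  by_cases h5 : v (v x) = x
  · obtain ⟨p, hp⟩ := out h x (u x) (u.symm x) (v.symm (u (u x)))
    simp only [Ne, Equiv.eq_symm_apply] at hp
    obtain ⟨c, hc, h5⟩ := cyc (x := x) (y := p) (z := u x) (by grind) (by grind) (by grind)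
    exact ⟨c, hc, e1 fun s hs => by have := h5.2.2.2 s; have := h5.2.2.2 (v s); grind⟩
  obtain ⟨q, hq⟩ := out h x (u x) (u (u x)) (u (u (u x)))
  obtain ⟨c, hc, h6⟩ := cyc (x := u x) (y := u (u x)) (z := q) (by grind) (by grind) (by grind)
  refine ⟨c, hc, lt_of_le_of_lt (Finset.card_le_card (t := insert (u (u x))
    (((Finset.univ.filter fun s => u s = v s).erase x).erase (u x))) fun s hs => by
      simp at hs ⊢; have := h6.2.2.2 s; have := h6.2.2.2 (v s); grind) ?_⟩
  have h7 : u x ∈ (Finset.univ.filter fun s => u s = v s).erase x := by simp; grind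
  have h8 : x ∈ Finset.univ.filter fun s => u s = v s := by simpa
  have := Finset.card_erase_lt_of_mem h7
  have := Finset.card_erase_lt_of_mem h8
  exact (Finset.card_insert_le _ _).trans_lt (by omega)

theorem align (h : 5 ≤ Fintype.card α) (u b : Perm α) (x y : α) (hx : u x ≠ x) (hy : b y ≠ y) :
    ∃ g ∈ alternatingGroup α, g y = x ∧ g (b y) = u x ∧ (u (u x) = x ∨ b (b y) = y ∨ g (b (b y)) = u (u x)) := by
  have hu := u.injective
  have hb := b.injective
  by_cases h1 : u (u x) = x ∨ b (b y) = y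
  · obtain ⟨σ, hσ⟩ := Perm.exists_extending_pair (f := ![y, b y]) (g := ![x, u x])
      (fun i j => by fin_cases i <;> fin_cases j <;> simp <;> grind) (fun i j => by fin_cases i <;> fin_cases j <;> simp <;> grind)
    obtain ⟨g, hg, h2⟩ := alt_ext (T := {y, b y}) (by have := Finset.card_le_two (a := y) (b := b y); omega) σ
    exact ⟨g, hg, (h2 _ (by simp)).trans (hσ 0), (h2 _ (by simp)).trans (hσ 1), by tauto⟩
  · obtain ⟨σ, hσ⟩ := Perm.exists_extending_pair (f := ![y, b y, b (b y)]) (g := ![x, u x, u (u x)])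
      (fun i j => by fin_cases i <;> fin_cases j <;> simp <;> grind) (fun i j => by fin_cases i <;> fin_cases j <;> simp <;> grind)
    obtain ⟨g, hg, h2⟩ := alt_ext (T := {y, b y, b (b y)})
      (by have := Finset.card_le_three (a := y) (b := b y) (c := b (b y)); omega) σ
    exact ⟨g, hg, (h2 _ (by simp)).trans (hσ 0), (h2 _ (by simp)).trans (hσ 1), Or.inr (Or.inr ((h2 _ (by simp)).trans (hσ 2)))⟩

theorem cnt (a v c : Perm α) : Nat.card (Function.fixedPoints ⇑(1 * a * 1⁻¹ * (c * v * c⁻¹))) =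
    (Finset.univ.filter fun s => a⁻¹ (c s) = c (v s)).card := by
  rw [← Fintype.card_subtype, ← Nat.card_eq_fintype_card]
  exact (Nat.card_congr (c.subtypeEquiv fun s => by
    simp [Function.mem_fixedPoints, Function.IsFixedPt, Equiv.symm_apply_eq, @eq_comm _ (c s)])).symm

end

/-- Let n ≥ 5 and let a, b be non-identity permutations in the symmetric group S_n. Then the number of fixed points is not constant on the set of products a′b′ with a′ conjugate to a and b′ conjugate to b under the alternating group: there are even permutations g₁, h₁, g₂, h₂ such that (g₁ a g₁⁻¹)(h₁ b h₁⁻¹) and (g₂ a g₂⁻¹)(h₂ b h₂⁻¹) have different numbers of fixed points. -/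
theorem result (n : ℕ) (hn : 5 ≤ n) (a b : Equiv.Perm (Fin n)) (ha : a ≠ 1) (hb : b ≠ 1) :
    ∃ g₁ h₁ g₂ h₂ : Equiv.Perm (Fin n), g₁ ∈ alternatingGroup (Fin n) ∧ h₁ ∈ alternatingGroup (Fin n) ∧ g₂ ∈ alternatingGroup (Fin n) ∧ h₂ ∈ alternatingGroup (Fin n) ∧
      Nat.card (Function.fixedPoints ⇑(g₁ * a * g₁⁻¹ * (h₁ * b * h₁⁻¹))) ≠
        Nat.card (Function.fixedPoints ⇑(g₂ * a * g₂⁻¹ * (h₂ * b * h₂⁻¹))) := by
  open CfsgH1 CfsgH1.Sn Equiv Equiv.Perm MulAction in
  open scoped commutatorElement in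
  · obtain ⟨x, hx⟩ : ∃ x, a⁻¹ x ≠ x := by
      by_contra! e
      exact ha (inv_eq_one.1 (Equiv.ext e))
    obtain ⟨y, hy⟩ : ∃ y, b y ≠ y := by
      by_contra! e
      exact hb (Equiv.ext e)
    obtain ⟨g, hg, rfl, h1, h2⟩ := align (by simpa using hn) a⁻¹ b x y hx hy
    obtain ⟨c, hc, h3⟩ := key (by simpa using hn) a⁻¹ (g * b * g⁻¹) (g y) (by rw [← h1]; simp) hx (by simpa [eq_comm] using h2)
    refine ⟨1, c * g, 1, 1 * g, one_mem _, mul_mem hc hg, one_mem _, mul_mem (one_mem _) hg, ?_⟩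
    have e : ∀ c : Perm (Fin n), c * g * b * (c * g)⁻¹ = c * (g * b * g⁻¹) * c⁻¹ := fun c => by group
    rw [e, e, cnt, cnt]
    exact h3.ne

end Cfsg.Agent.S2271
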