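import Cfsg.Statements.S2272
import Cfsg.Agent.H1.Sn5

set_option autoImplicit false
open Cfsg

namespace Cfsg.Agent.S2272

section
open Matrix Matrix.SpecialLinearGroup MulAction
open scoped commutatorElement

variable {F ι : Type*} [Field F] [Fintype ι] [DecidableEq ι]

theorem move {A : SpecialLinearGroup ι F} (h : (A : ProjectiveSpecialLinearGroup ι F) ≠ 1) {i j : ι} (hij : i ≠ j) :
    ∃ g : SpecialLinearGroup ι F, ∃ a ≠ 0, ∀ k, (g * A * g⁻¹).1 k i = if k = j then a else 0 := by
  obtain ⟨p, hp⟩ : ∃ p : Projectivization F (ι → F), p ≠ A • p := not_forall.1 fun e =>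
    h (FaithfulSMul.eq_of_smul_eq_smul fun p : Projectivization F (ι → F) => (e p).symm.trans (one_smul _ p).symm)
  obtain ⟨g, h1, h2⟩ := (is_two_pretransitive_iff (G := SpecialLinearGroup ι F)).1 inferInstance hp
    (c := .mk F (Pi.single i 1) (by simp)) (d := .mk F (Pi.single j 1) (by simp)) fun e => by
      obtain ⟨a, e⟩ := (Projectivization.mk_eq_mk_iff' F _ _ _ _).1 e
      simpa [hij] using congrFun e i
  rw [← inv_smul_smul g p, h1, smul_smul, smul_smul, Projectivization.smul_mk, Projectivization.mk_eq_mk_iff] at h2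
  obtain ⟨a, e⟩ := h2
  refine ⟨g, a, a.ne_zero, fun k => ?_⟩
  generalize g * A * g⁻¹ = X at e
  simpa [Matrix.SpecialLinearGroup.smul_def, Pi.single_apply, Units.smul_def] using (congrFun e k).symm

theorem tr0 {X Y : SpecialLinearGroup ι F} (h : IsConj (X : ProjectiveSpecialLinearGroup ι F) Y) (e : X.1.trace = 0) : Y.1.trace = 0 := by
  obtain ⟨c, hc⟩ := isConj_iff.1 h
  obtain ⟨c, rfl⟩ := QuotientGroup.mk_surjective c
  obtain ⟨r, -, hr⟩ := mem_center_iff.1 (QuotientGroup.eq.1 (show ((c * X * c⁻¹ : SpecialLinearGroup ι F) :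
    ProjectiveSpecialLinearGroup ι F) = Y from hc))
  rw [← mul_inv_cancel_left (c * X * c⁻¹) Y, coe_mul, ← hr, scalar_apply, ← smul_eq_mul_diagonal, trace_smul, coe_mul, coe_mul,
    trace_mul_cycle, ← coe_mul, inv_mul_cancel, coe_one, one_mul, e, smul_zero]

/-- Conjugation by a transvection. -/
def cj {i j : ι} (h : i ≠ j) (c : F) (X : SpecialLinearGroup ι F) : SpecialLinearGroup ι F :=
  transvection h c * X * (transvection h c)⁻¹

theorem cj_conj {i j : ι} (h : i ≠ j) (c : F) (X : SpecialLinearGroup ι F) : IsConj X (cj h c X) := isConj_iff.2 ⟨_, rfl⟩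

theorem coe_cj {i j : ι} (h : i ≠ j) (c : F) (X : SpecialLinearGroup ι F) : (cj h c X).1 =
    X.1 + single i j c * X.1 - X.1 * single i j c - single i j (c * X.1 j i * c) := by
  rw [cj, transvection_inv, coe_mul, coe_mul, transvection_coe, transvection_coe, ← single_mul_mul_single, ← single_neg]
  noncomm_ring

theorem slope {A B : SpecialLinearGroup ι F} (h : ∀ X Y, IsConj B X → IsConj B Y → (A * X).1.trace = 0 → (A * Y).1.trace = 0)
    {i k : ι} (e : i ≠ k) (h1 : A.1 k i = 0) {X : SpecialLinearGroup ι F} (hX : IsConj B X) : (X.1 * A.1) k i = (A.1 * X.1) k i := by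
  by_contra e1
  have : ∀ t, (A * cj e t X).1.trace = (A.1 * X.1).trace + t * ((X.1 * A.1) k i - (A.1 * X.1) k i) := fun t => by
    rw [coe_mul, coe_cj, mul_sub, mul_sub, mul_add, trace_sub, trace_sub, trace_add, trace_mul_comm _ (single _ _ _ * _), mul_assoc,
      trace_single_mul, ← mul_assoc, trace_mul_single, trace_mul_single, h1]
    simp only [smul_eq_mul, MulOpposite.smul_eq_mul_unop, MulOpposite.unop_op]
    ring
  have h2 := h _ _ (hX.trans (cj_conj e _ X)) (hX.trans (cj_conj e ((1 - (A.1 * X.1).trace) / ((X.1 * A.1) k i - (A.1 * X.1) k i)) X))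
    ((this (-(A.1 * X.1).trace / _)).trans (by rw [div_mul_cancel₀ _ (sub_ne_zero.2 e1), add_neg_cancel]))
  rw [this, div_mul_cancel₀ _ (sub_ne_zero.2 e1), add_sub_cancel] at h2
  exact one_ne_zero h2

theorem cj_cj {i j k : ι} (e1 : i ≠ j) (e2 : k ≠ i) (e3 : k ≠ j) {X : SpecialLinearGroup ι F} (h : X.1 j k = 0) :
    (cj e2 1 (cj e3 1 X)).1 = (cj e2 1 X).1 + (cj e3 1 X).1 - X.1 - single k j (X.1 i k) := by
  have a : single k i (1 : F) * (X.1 * single k j 1) = single k j (X.1 i k) := by rw [← mul_assoc, single_mul_mul_single]; simp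
  have b : single k j (1 : F) * X.1 * single k i 1 = 0 := by rw [single_mul_mul_single]; simp [h]
  simp [coe_cj, h, mul_add, mul_sub, add_mul, sub_mul, a, b, ← mul_assoc (single k i (1 : F)) (single k j 1), mul_assoc X.1,
    e2.symm, e3.symm, e3]
  abel

end

/-- Let F be a finite field and d ≥ 3, and let a, b be non-identity elements of PSL_d(F). Then the product of the conjugacy classes of a and b is not a single conjugacy class: there are conjugates a′ of a and b′ of b such that a′b′ is not conjugate to ab. -/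
theorem result {F : Type*} [Field F] [Fintype F] (d : ℕ) (hd : 3 ≤ d)
    (a b : Matrix.ProjectiveSpecialLinearGroup (Fin d) F) (ha : a ≠ 1) (hb : b ≠ 1) :
    ∃ g h : Matrix.ProjectiveSpecialLinearGroup (Fin d) F, ¬ IsConj (a * b) (g * a * g⁻¹ * (h * b * h⁻¹)) := by
  open Matrix Matrix.SpecialLinearGroup MulAction in
  open scoped commutatorElement in
  · by_contra! h
    obtain ⟨A, rfl⟩ := QuotientGroup.mk_surjective a
    obtain ⟨B, rfl⟩ := QuotientGroup.mk_surjective b
    let i : Fin d := ⟨0, by omega⟩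
    let j : Fin d := ⟨1, by omega⟩
    let k : Fin d := ⟨2, by omega⟩
    have e1 : i ≠ j := by simp [i, j]
    have e2 : k ≠ i := by simp [i, k]
    have e3 : k ≠ j := by simp [j, k]
    obtain ⟨g, a, a0, h1⟩ := move ha e1
    obtain ⟨u, b, b0, h2⟩ := move hb e2
    have h3 := fun X => slope (A := g * A * g⁻¹) (B := B) (fun X Y x y => by
      obtain ⟨x', rfl⟩ := isConj_iff.1 x
      obtain ⟨y', rfl⟩ := isConj_iff.1 y
      exact tr0 ((h g x').symm.trans (h g y'))) e2.symm (by simp [h1, e3]) (X := X)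
    have h4 : IsConj B (u * B * u⁻¹) := isConj_iff.2 ⟨_, rfl⟩
    generalize g * A * g⁻¹ = A at h1 h3
    generalize u * B * u⁻¹ = X at h2 h4
    have h5 := h3 _ ((h4.trans (cj_conj e3 1 X)).trans (cj_conj e2 1 _))
    rw [cj_cj e1 e2 e3 (by simp [h2, e1.symm])] at h5
    simp [mul_add, mul_sub, add_mul, sub_mul, h3 _ h4, h3 _ (h4.trans (cj_conj e3 1 X)), h3 _ (h4.trans (cj_conj e2 1 X)), h1, h2,
      e1, a0, b0] at h5

end Cfsg.Agent.S2272
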