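import Cfsg.Statements.S2277
import Cfsg.Agent.H1.Misc1
import Cfsg.Agent.H1.Prod
import Cfsg.Agent.H2.BG0

set_option autoImplicit false
open Cfsg

namespace Cfsg.Agent.S2277

section
open Subgroup CfsgH2
open CfsgH1 hiding card_inf_mul_relIndex card_lt_of_lt card_lt_of_ne_top card_map_mul_card_inf_ker card_mul_relIndex card_subgroupOf card_sup_dvd card_sup_mul_card_inf coprime_le_sup_cent exists_card_prime_le isNilpotent_map isNilpotent_of_le isPGroup_pCore isSolvable_map isSolvable_of_le le_pCore le_pPrimeCore relIndex_map_dvd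
open scoped CfsgH1
open scoped commutatorElement

theorem core {W : Type*} [Group W] [Finite W] {p : ℕ} [hp : Fact p.Prime] (hp3 : 3 ≤ p) (hW : (Nat.card W).Coprime p) {Q : Subgroup (MulAut W)} (hQ : IsPGroup p Q)
    (hm : ∀ V : Subgroup W, (∀ q ∈ Q, ∀ v ∈ V, q v ∈ V) → V ≠ ⊤ → ∀ q ∈ Q, ∀ v ∈ V, q v = v) {C D : Set (MulAut W)} (hC : closure C = Q) (hD : closure D = Q)
    (h : ∀ c ∈ C, ∀ d ∈ D, ∀ w, ∃ v u, d v = v ∧ c u = u ∧ w = v * u) : Q = ⊥ := by
  by_contra q0
  obtain ⟨X, mX⟩ : ∃ X : MulAut W → Subgroup W, ∀ q w, w ∈ X q ↔ q w = w := ⟨fun q => q.toMonoidHom.eqLocus (MonoidHom.id W), fun _ _ => Iff.rfl⟩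
  obtain ⟨F, mF⟩ : ∃ F : Subgroup W, ∀ w, w ∈ F ↔ ∀ q ∈ Q, q w = w := ⟨⨅ q ∈ Q, X q, fun w => by simp only [mem_iInf, mX]⟩
  have zF : ∀ z ∈ Q ⊓ C[Q], z ≠ 1 → X z ≤ F := fun z hz z1 w hw => (mF w).2 fun q hq => hm (X z) (fun q hq v hv => by
    rw [mX] at hv ⊢; rw [← MulAut.mul_apply, ← mem_cent_iff.1 hz.2 q hq, MulAut.mul_apply, hv]) (fun e => z1 (MulEquiv.ext fun w => (mX z w).1 (e.ge (mem_top w)))) q hq w hw
  have cj : ∀ a c : MulAut W, Nat.card (X c) ≤ Nat.card (X (a * c * a⁻¹)) := fun a c =>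
    Nat.card_le_card_of_injective (fun u => ⟨a u, (mX _ _).2 (by simp [(mX _ _).1 u.2])⟩) fun u v e => Subtype.ext (a.injective (congrArg Subtype.val e))
  haveI := hQ.isNilpotent
  obtain ⟨n, n1, n2⟩ := Nat.exists_not_and_succ_of_not_zero_of_exists (p := fun n => Q.lowerCentralSeries n = ⊥) q0 ((isNilpotent_iff_lowerCentralSeries Q).1 this)
  have lc : Q.lowerCentralSeries n ≤ Q ⊓ C[Q] := le_inf (Subgroup.lowerCentralSeries_antitone Q (Nat.zero_le n)) (commutator_eq_bot_iff_le_centralizer.1 n2)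
  have key : ∀ S : Set (MulAut W), closure S = Q → ∃ c ∈ S, Nat.card W * Nat.card F ≤ Nat.card (X c) * Nat.card (X c) → Nat.card (X c) ≤ Nat.card F := fun S hS => by
    rcases n with _ | n
    · obtain ⟨c, hc, c1⟩ : ∃ c ∈ S, c ≠ 1 := by
        by_contra k
        push Not at k
        exact q0 (hS ▸ closure_eq_bot_iff.2 k)
      exact ⟨c, hc, fun _ => card_le_of_le (zF c (lc (hS.le (subset_closure hc))) c1)⟩
    obtain ⟨a, ha, c, hc, z1⟩ : ∃ a ∈ Q.lowerCentralSeries n, ∃ c ∈ S, ⁅a, c⁆ ≠ 1 := by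
      by_contra k
      push Not at k
      exact n1 (commutator_eq_bot_iff_le_centralizer.2 fun a ha => mem_cent_iff.2 fun g hg => mem_centralizer_singleton_iff.1
        (((closure_le C1[a]).2 fun c hc => mem_centralizer_singleton_iff.2 (commutatorElement_eq_one_iff_mul_comm.1 (k a ha c hc)).symm) (hS.ge hg)))
    have cQ : c ∈ Q := hS.le (subset_closure hc)
    have aQ : a ∈ Q := Subgroup.lowerCentralSeries_antitone Q (Nat.zero_le n) ha
    have hz := lc (commutator_mem_commutator ha cQ)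
    have e1 : a * c * a⁻¹ = ⁅a, c⁆ * c := by rw [commutatorElement_def, inv_mul_cancel_right]
    generalize ⁅a, c⁆ = z at *
    have e2 : a * (z * c) * a⁻¹ = z * z * c := by rw [← mul_assoc, mem_cent_iff.1 hz.2 a aQ, mul_assoc z, mul_assoc z, e1, mul_assoc]
    have c1 := e1 ▸ cj a c
    have c2 := e2 ▸ cj a (z * c)
    have zc : ∀ w, c (z w) = z (c w) := fun w => by rw [← MulAut.mul_apply, mem_cent_iff.1 hz.2 c cQ, MulAut.mul_apply]
    have i : X c ⊓ X (z * c) ≤ X z := fun w hw => (mX _ _).2 (by have := (mX _ _).1 hw.2; rwa [MulAut.mul_apply, (mX _ _).1 hw.1] at this)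
    obtain ⟨e, he⟩ := hQ ⟨z, hz.1⟩
    replace he : z ^ p ^ e = 1 := congrArg Subtype.val he
    refine ⟨c, hc, fun k => c1.trans (c2.trans (card_le_of_le fun w hw => ?_))⟩
    obtain ⟨u, hu, v, hv, rfl⟩ := (fac_of_card_le (A := X c) (B := X (z * c)) le_top le_top
      ((Nat.mul_le_mul (card_top.le) (card_le_of_le (i.trans (zF z hz z1)))).trans (k.trans (Nat.mul_le_mul_left _ c1)))).2.2 w (mem_top w)
    rw [mX] at hu hv hw
    simp only [MulAut.mul_apply, map_mul, hu] at hv hw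
    rw [hv] at hw
    have f1 : u⁻¹ * z (z u) = v * (z v)⁻¹ := by rw [inv_mul_eq_iff_eq_mul, ← mul_assoc, ← hw, mul_inv_cancel_right]
    have f2 : z (u⁻¹ * z (z u)) = u⁻¹ * z (z u) := (mX _ _).1 (i ⟨(mX _ _).2 (by simp only [map_mul, map_inv, zc, hu]), (mX _ _).2 (by
      simp only [f1, MulAut.mul_apply, map_mul, map_inv, zc, hv])⟩)
    have f3 : ∀ k : ℕ, ((z * z) ^ k) u = u * (u⁻¹ * z (z u)) ^ k := fun k => by
      induction k with
      | zero => simp
      | succ k ih => rw [pow_succ', MulAut.mul_apply, ih, map_mul, map_pow, MulAut.mul_apply _ z z (_ * _), f2, f2, pow_succ', ← mul_assoc, mul_inv_cancel_left, MulAut.mul_apply]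
    have f4 : u⁻¹ * z (z u) = 1 := by
      have := f3 (p ^ e)
      rw [← pow_two, ← pow_mul, pow_mul', he, one_pow, MulAut.one_apply, left_eq_mul] at this
      exact orderOf_eq_one_iff.1 (Nat.eq_one_of_dvd_coprimes (hW.pow_right e) (orderOf_dvd_natCard _) (orderOf_dvd_of_pow_eq_one this))
    refine mul_mem (zF (z * z) (mul_mem hz hz) (fun k => z1 ?_) ((mX _ _).2 (inv_mul_eq_one.1 f4).symm)) (zF z hz z1 ((mX _ _).2 (mul_inv_eq_one.1 (f1 ▸ f4)).symm))
    exact orderOf_eq_one_iff.1 (Nat.eq_one_of_dvd_coprimes (((Nat.coprime_primes Nat.prime_two hp.out).2 (by omega)).pow_right e) (orderOf_dvd_of_pow_eq_one (pow_two z ▸ k)) (orderOf_dvd_of_pow_eq_one he))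
  obtain ⟨c, hc, kc⟩ := key C hC
  obtain ⟨d, hd, kd⟩ := key D hD
  have f := Fac.card_mul (fac_top_iff.2 fun w => by
    obtain ⟨v, u, h1, h2, h3⟩ := h c hc d hd w
    exact ⟨v, (mX d v).2 h1, u, (mX c u).2 h2, h3⟩)
  have l : Nat.card W * Nat.card F ≤ Nat.card (X d) * Nat.card (X c) := f ▸ Nat.mul_le_mul card_top.ge (card_le_of_le fun w hw =>
    ⟨(mX _ _).2 ((mF w).1 hw d (hD.le (subset_closure hd))), (mX _ _).2 ((mF w).1 hw c (hC.le (subset_closure hc)))⟩)
  have : Nat.card W * Nat.card F ≤ Nat.card F * Nat.card F := by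
    rcases le_total (Nat.card (X d)) (Nat.card (X c)) with k | k
    · have := kc (l.trans (Nat.mul_le_mul_right _ k))
      exact l.trans (Nat.mul_le_mul (k.trans this) this)
    · have := kd (l.trans (Nat.mul_le_mul_left _ k))
      exact l.trans (Nat.mul_le_mul this (k.trans this))
  have t : F = ⊤ := eq_top_of_le_card _ (Nat.le_of_mul_le_mul_right this Nat.card_pos)
  exact q0 (eq_bot_iff.2 fun q hq => MulEquiv.ext fun w => (mF w).1 (t.ge (mem_top w)) q hq)

end

/-- Let p ≥ 3 be prime and G a finite group with a Sylow p-subgroup P and a normal p-complement N (N normal, of order prime to p, with NP = G). Suppose P is generated by a subset C and also by a subset D, and that ⟨x c x⁻¹, d⟩ is a p-group for all x ∈ N, c ∈ C, d ∈ D. Then P centralizes N, so that G = N × P. -/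
theorem result {G : Type*} [Group G] [Finite G] (p : ℕ) [Fact p.Prime] (hp3 : 3 ≤ p) (P : Sylow p G)
    (N : Subgroup G) [N.Normal] (hN : (Nat.card N).Coprime p) (hNP : N ⊔ (P : Subgroup G) = ⊤)
    (C D : Set G) (hC : Subgroup.closure C = (P : Subgroup G)) (hD : Subgroup.closure D = (P : Subgroup G))
    (h : ∀ x ∈ N, ∀ c ∈ C, ∀ d ∈ D, IsPGroup p ↥(Subgroup.closure ({x * c * x⁻¹, d} : Set G))) :
    ⁅(P : Subgroup G), N⁆ = ⊥ := by
  open Subgroup CfsgH2 in
  open CfsgH1 hiding card_inf_mul_relIndex card_lt_of_lt card_lt_of_ne_top card_map_mul_card_inf_ker card_mul_relIndex card_subgroupOf card_sup_dvd card_sup_mul_card_inf coprime_le_sup_cent exists_card_prime_le isNilpotent_map isNilpotent_of_le isPGroup_pCore isSolvable_map isSolvable_of_le le_pCore le_pPrimeCore relIndex_map_dvd in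
  open scoped CfsgH1 in
  open scoped commutatorElement in
  · by_contra h0
    have pP := P.isPGroup'
    generalize (P : Subgroup G) = P at *
    obtain ⟨W, ⟨wN, wn, w0⟩, wm⟩ := exists_minimal_of_wellFoundedLT (fun W : Subgroup G => W ≤ N ∧ P ≤ N[W] ∧ ¬ P ≤ C[W])
      ⟨N, le_rfl, le_normalizer_of_normal, fun k => h0 (commutator_eq_bot_iff_le_centralizer.2 k)⟩
    have cW : (Nat.card W).Coprime p := hN.coprime_dvd_left (card_dvd_of_le wN)
    let ψ : P →* MulAut W := W.normalizerMonoidHom.comp (inclusion wn)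
    have mψ : ∀ (g : P) (w : W), (ψ g w : G) = g * w * (g : G)⁻¹ := fun _ _ => rfl
    have cl : ∀ {S : Set G}, closure S = P → closure (ψ '' (Subtype.val ⁻¹' S)) = ψ.range := fun {S} hS => by
      subst hS
      rw [← MonoidHom.map_closure, closure_closure_coe_preimage, MonoidHom.range_eq_map]
    have cp : ∀ {T : Subgroup G}, IsPGroup p T → (Nat.card T).Coprime (Nat.card W) := fun hT => by
      obtain ⟨k, hk⟩ := hT.exists_card_eq
      exact hk ▸ cW.symm.pow_left k
    have fx : ∀ k ∈ W, ∀ c ∈ P, k * c * k⁻¹ ∈ P → c * k * c⁻¹ = k := fun k hk c hc e => by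
      have : k * c * k⁻¹ * c⁻¹ = 1 := mem_bot.1 ((CfsgH1.inf_eq_bot_of_coprime (cp pP)).le (mem_inf.2 ⟨mul_mem e (inv_mem hc), by
        simpa only [mul_assoc] using mul_mem hk (conj_mem_of_norm (wn hc) (inv_mem hk))⟩))
      rw [← mul_inv_eq_one, ← inv_eq_one, ← this]; group
    have := core hp3 cW (Q := ψ.range) (pP.of_surjective _ ψ.rangeRestrict_surjective) ?_ (cl hC) (cl hD) ?_
    · exact w0 fun g hg => mem_cent_iff.2 fun w hw => by
        have e := mψ ⟨g, hg⟩ ⟨w, hw⟩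
        rw [mem_bot.1 (this.le ⟨⟨g, hg⟩, rfl⟩)] at e
        exact eq_mul_inv_iff_mul_eq.1 e
    · rintro V hV vt _ ⟨g, rfl⟩ v hv
      have : P ≤ C[V.map W.subtype] := by
        by_contra k
        refine vt (eq_top_iff.2 fun w _ => ?_)
        obtain ⟨x, hx, e⟩ := wm ⟨(map_subtype_le V).trans wN, fun a ha => mem_norm_of_map_le (by
          rintro _ ⟨_, ⟨y, hy, rfl⟩, rfl⟩
          exact ⟨_, hV _ ⟨⟨a, ha⟩, rfl⟩ y hy, rfl⟩), k⟩ (map_subtype_le V) w.2
        exact Subtype.ext e ▸ hx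
      exact Subtype.ext (by rw [mψ, ← mem_cent_iff.1 (this g.2) v (mem_map_of_mem _ hv), mul_inv_cancel_right])
    · rintro _ ⟨c, hc, rfl⟩ _ ⟨d, hd, rfl⟩ x
      have pT := h x (wN x.2) c hc d hd
      obtain ⟨k, hk, l⟩ := exists_conj_le_compl wn (cp pP) (cp pT) (Or.inl (by haveI := pT.isNilpotent; infer_instance)) ((closure_le _).2 (Set.pair_subset
        (mul_mem (mul_mem (mem_sup_left x.2) (mem_sup_right c.2)) (mem_sup_left (inv_mem x.2))) (mem_sup_right d.2)))
      refine ⟨(⟨k, hk⟩ : W)⁻¹, (⟨k, hk⟩ : W) * x, ?_, Subtype.ext (fx _ (mul_mem hk x.2) c c.2 ?_), (inv_mul_cancel_left _ _).symm⟩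
      · rw [map_inv, inv_inj]; exact Subtype.ext (fx k hk d d.2 (l (mem_map_of_mem _ (subset_closure (by simp)))))
      · simpa [mul_assoc] using l (mem_map_of_mem _ (subset_closure (Set.mem_insert _ _)))

end Cfsg.Agent.S2277
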