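import Cfsg.Statements.S2468
import Mathlib
import Cfsg.Agent.L0.GLn3

set_option autoImplicit false
open Cfsg

namespace Cfsg.Agent.S2468

open CfsgL0.GLn Module Polynomial

/-- Adjacency of two odd primes in the prime graph of PSL(n,q): let F be a finite field of characteristic p with q elements, n ≥ 2 with PSL(n,F) simple, and let r ≠ s be odd primes different from p dividing the order of PSL(n,F). Let k and l be the multiplicative orders of q modulo r and modulo s, and suppose 2 ≤ k ≤ l. Then PSL(n,F) has NO element of order r·s if and only if k + l > n and k does not divide l. -/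
theorem result {F : Type*} [Field F] [Fintype F] (p : ℕ) [Fact p.Prime] [CharP F p] (n : ℕ) (hn : 2 ≤ n) (hsmall : n = 2 → 4 ≤ Fintype.card F)
    (r s : ℕ) (hr : r.Prime) (hs : s.Prime) (hr2 : r ≠ 2) (hs2 : s ≠ 2) (hrp : r ≠ p) (hsp : s ≠ p) (hrs : r ≠ s)
    (hrG : r ∣ Nat.card (Matrix.ProjectiveSpecialLinearGroup (Fin n) F)) (hsG : s ∣ Nat.card (Matrix.ProjectiveSpecialLinearGroup (Fin n) F))
    (k l : ℕ) (hk : k = orderOf ((Fintype.card F : ℕ) : ZMod r)) (hl : l = orderOf ((Fintype.card F : ℕ) : ZMod s))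
    (h2k : 2 ≤ k) (hkl : k ≤ l) :
    (r * s ∉ Set.range (orderOf : Matrix.ProjectiveSpecialLinearGroup (Fin n) F → ℕ)) ↔ (n < k + l ∧ ¬ k ∣ l) := by
  rw [← Nat.card_eq_fintype_card] at hk hl
  have hq : 1 ≤ Nat.card F := Nat.card_pos
  have hc : r.Coprime s := (Nat.coprime_primes hr hs).2 hrs
  have hco : (r * s).Coprime (Nat.card F - 1) := Nat.Coprime.mul_left
    (hr.coprime_iff_not_dvd.2 (not_dvd_of_ord hq (hk ▸ h2k))) (hs.coprime_iff_not_dvd.2 (not_dvd_of_ord hq (by omega)))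
  have hln : l ≤ n := hl ▸ (ord_le_of_dvd_card (by omega) hs (cast_ne_zero p hs hsp) hsG).1
  have h0 : r * s ≠ 0 := mul_ne_zero hr.ne_zero hs.ne_zero
  have dr : r ∣ Nat.card F ^ k - 1 := (dvd_pow_sub_one_iff hq).2 (hk ▸ dvd_rfl)
  have ds : s ∣ Nat.card F ^ l - 1 := (dvd_pow_sub_one_iff hq).2 (hl ▸ dvd_rfl)
  constructor
  · intro h
    by_contra hne
    apply h
    by_cases h1 : k ∣ l
    · obtain ⟨K, _, _, _, a, k1, k2, -⟩ := exists_elt (F := F) (d := l) (by omega)
        (hc.mul_dvd_of_dvd_of_dvd ((dvd_pow_sub_one_iff hq).2 (hk ▸ h1)) ds)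
      have e : orderOf ((a, 1) : K × (Fin (n - l) → F)) = r * s := by rw [Prod.orderOf_mk, k2]; simp
      obtain ⟨x, hx⟩ := exists_PSL_coprime (F := F) (K × (Fin (n - l) → F)) (n := n) (by simp [k1]; omega) (by omega)
        (a, 1) (e ▸ h0) (e ▸ hco)
      exact ⟨x, hx.trans e⟩
    · have h2 : k + l ≤ n := by by_contra h3; exact hne ⟨by omega, h1⟩
      obtain ⟨K, _, _, _, a, k1, k2, -⟩ := exists_elt (F := F) (d := k) (by omega) dr
      obtain ⟨L, _, _, _, b, l1, l2, -⟩ := exists_elt (F := F) (d := l) (by omega) ds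
      have e : orderOf ((a, b, 1) : K × L × (Fin (n - k - l) → F)) = r * s := by
        rw [Prod.orderOf_mk, Prod.orderOf_mk, k2, l2]; simpa using hc.lcm_eq_mul
      obtain ⟨x, hx⟩ := exists_PSL_coprime (F := F) (K × L × (Fin (n - k - l) → F)) (n := n)
        (by simp [k1, l1]; omega) (by omega) (a, b, 1) (e ▸ h0) (e ▸ hco)
      exact ⟨x, hx.trans e⟩
  · rintro ⟨h1, h2⟩ ⟨x, hx⟩
    obtain ⟨g, hg⟩ := lift_coprime (by omega) x (hx ▸ hco)
    rw [hx] at hg
    have hF : ((r * s : ℕ) : F) ≠ 0 := by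
      rw [Nat.cast_mul]; exact mul_ne_zero (cast_ne_zero p hr hrp) (cast_ne_zero p hs hsp)
    have key : ∀ r s : ℕ, r.Prime → orderOf g = r * s → ((r * s : ℕ) : F) ≠ 0 → ∃ f : F[X], Irreducible f ∧ f.Monic ∧
        f ∣ minpoly F g ∧ orderOf (Nat.card F : ZMod r) ∣ f.natDegree := fun r s hr hg hF => by
      have hs0 : s ≠ 0 := by rintro rfl; simp at hF
      obtain ⟨f, f1, f2, f3, f4, f5⟩ := exists_root (M := g) (m := s) hF (hg ▸ pow_orderOf_eq_one g)
        (ne_one_of_orderOf fun h => by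
          rw [hg] at h
          exact hr.one_lt.ne' (Nat.dvd_one.1 (Nat.dvd_of_mul_dvd_mul_right (Nat.pos_of_ne_zero hs0) (by simpa using h))))
      refine ⟨f, f1, f2, f3, (dvd_pow_sub_one_iff hq).1 (Dvd.dvd.trans ?_
        (ordP_dvd f1 (ne_zero_of_dvd_ne_zero (mul_ne_zero hr.ne_zero hs0) f4)))⟩
      by_contra h
      exact f5 ((hr.coprime_iff_not_dvd.2 h).symm.dvd_of_dvd_mul_left f4)
    obtain ⟨f, f1, f2, f3, f4⟩ := key r s hr hg hF
    obtain ⟨f', g1, g2, g3, g4⟩ := key s r hs (by rw [hg, mul_comm]) (by rwa [mul_comm])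
    rw [← hk] at f4
    rw [← hl] at g4
    by_cases e : f = f'
    · subst e
      have := natDegree_le_of_dvd_minpoly f3
      obtain ⟨c, hc⟩ := g4
      have hpos := f1.natDegree_pos
      have : c = 1 := by
        rcases c with _ | _ | c
        · omega
        · rfl
        · nlinarith
      exact h2 (by rwa [hc, this, mul_one] at f4)
    · have := deg_two f1 g1 f2 g2 e (a := 1) (b := 1) (by rwa [pow_one]) (by rwa [pow_one])
      have := Nat.le_of_dvd f1.natDegree_pos f4
      have := Nat.le_of_dvd g1.natDegree_pos g4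
      omega

end Cfsg.Agent.S2468
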