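import Cfsg.Statements.S2469
import Cfsg.Agent.H6.Sx9

set_option autoImplicit false
open Cfsg

namespace Cfsg.Agent.S2469

open CfsgH6.Sx in

/-- Adjacency of two odd primes in the prime graph of PSp(2n,q): let F be a finite field of characteristic p with q elements, n ≥ 2 with PSp(2n,F) simple, and let r ≠ s be odd primes different from p dividing the order of PSp(2n,F). Let k, l be the multiplicative orders of q modulo r and s, put η(m) = m for odd m and η(m) = m/2 for even m, and suppose η(k) ≤ η(l). Then PSp(2n,F) has NO element of order r·s if and only if η(k) + η(l) > n and l/k is not an odd integer. -/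
theorem result {F : Type*} [Field F] [Fintype F] (p : ℕ) [Fact p.Prime] [CharP F p] (n : ℕ) (hn : 2 ≤ n) (hsmall : n = 2 → 3 ≤ Fintype.card F)
    (r s : ℕ) (hr : r.Prime) (hs : s.Prime) (hr2 : r ≠ 2) (hs2 : s ≠ 2) (hrp : r ≠ p) (hsp : s ≠ p) (hrs : r ≠ s)
    (hrG : r ∣ Nat.card (Cfsg.PSp n F)) (hsG : s ∣ Nat.card (Cfsg.PSp n F))
    (k l ηk ηl : ℕ) (hk : k = orderOf ((Fintype.card F : ℕ) : ZMod r)) (hl : l = orderOf ((Fintype.card F : ℕ) : ZMod s))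
    (hηk : (Odd k ∧ ηk = k) ∨ (Even k ∧ 2 * ηk = k)) (hηl : (Odd l ∧ ηl = l) ∨ (Even l ∧ 2 * ηl = l)) (hkl : ηk ≤ ηl) :
    (r * s ∉ Set.range (orderOf : Cfsg.PSp n F → ℕ)) ↔ (n < ηk + ηl ∧ ¬ ∃ t : ℕ, Odd t ∧ l = k * t) := by
  rw [← Nat.card_eq_fintype_card] at hk hl
  have hq : 1 ≤ Nat.card F := Nat.card_pos
  rw [sp_rs p (by omega) hr hs hrs hr2 hs2 hrp hsp]
  obtain ⟨a, ha, ha'⟩ := T_of_dvd_card p hr hrp hrG
  obtain ⟨b, hb, hb'⟩ := T_of_dvd_card p hs hsp hsG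
  have k0 := hk ▸ ord_pos_of_T hr hr2 hq ha'
  have l0 := hl ▸ ord_pos_of_T hs hs2 hq hb'
  have t1 := T_eta hr hq hk k0 hηk
  have t2 := T_eta hs hq hl l0 hηl
  have c := (Nat.coprime_primes hr hs).2 hrs
  constructor
  · intro h
    refine ⟨by_contra fun h' => h (Or.inl ⟨ηk, ηl, by omega, t1, t2⟩), ?_⟩
    rintro ⟨t, ht, e⟩
    refine h (Or.inr ⟨ηl, (Nat.le_of_dvd hb'.1 (hb'.eta_dvd hs hs2 hq hl hηl)).trans hb, t2.1, ?_⟩)
    rcases hηl with ⟨h1, rfl⟩ | ⟨h1, h2⟩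
    · exact Or.inr (c.mul_dvd_of_dvd_of_dvd ((CfsgL0.GLn.dvd_pow_sub_one_iff hq).2 (hk ▸ ⟨t, e⟩))
        ((CfsgL0.GLn.dvd_pow_sub_one_iff hq).2 (hl ▸ dvd_rfl)))
    · rcases hηk with ⟨h3, -⟩ | ⟨-, h3⟩
      · exact absurd h1 (Nat.not_even_iff_odd.2 (e ▸ h3.mul ht))
      · refine Or.inl (c.mul_dvd_of_dvd_of_dvd ((eta_plus hr hq (hk ▸ h3) t1.1).trans ?_)
          (eta_plus hs hq (hl ▸ h2) t2.1))
        have : ηl = ηk * t := by nlinarith
        rw [this, pow_mul]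
        simpa using ht.nat_add_dvd_pow_add_pow (Nat.card F ^ ηk) 1
  · rintro ⟨h1, h2⟩ (⟨a, b, h3, h4, h5⟩ | ⟨m, h3, h4⟩)
    · have := Nat.le_of_dvd h4.1 (h4.eta_dvd hr hr2 hq hk hηk)
      have := Nat.le_of_dvd h5.1 (h5.eta_dvd hs hs2 hq hl hηl)
      omega
    · have h5 := (h4.mono (dvd_mul_left _ _)).eta_dvd hs hs2 hq hl hηl
      have h6 : ηl = m := by
        obtain ⟨c, rfl⟩ := h5
        have := h4.1
        rcases c with _ | _ | c
        · omega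
        · omega
        · nlinarith
      subst h6
      apply h2
      rcases h4.2 with h | h
      · obtain ⟨t, ht, e⟩ := ord_plus hr hr2 hq ((dvd_mul_right _ _).trans h)
        obtain ⟨t', ht', e'⟩ := ord_plus hs hs2 hq ((dvd_mul_left _ _).trans h)
        rcases hηl with ⟨h1, h7⟩ | ⟨-, h7⟩
        · rw [← hl, ← h7] at e'
          obtain ⟨u, rfl⟩ := ht'
          have : 2 = 2 * u + 1 := Nat.eq_of_mul_eq_mul_left h4.1 (by rw [← e', mul_comm])
          omega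
        · exact ⟨t, ht, by rw [← h7, e, hk]⟩
      · obtain ⟨t, e⟩ := hk ▸ (CfsgL0.GLn.dvd_pow_sub_one_iff hq).1 ((dvd_mul_right _ _).trans h)
        have e' := Nat.le_of_dvd h4.1
          (hl ▸ (CfsgL0.GLn.dvd_pow_sub_one_iff hq).1 ((dvd_mul_left _ _).trans h))
        rcases hηl with ⟨h1, h7⟩ | ⟨-, h7⟩
        · exact ⟨t, Odd.of_dvd_nat h1 (h7 ▸ e ▸ dvd_mul_left _ _), h7 ▸ e⟩
        · omega

end Cfsg.Agent.S2469
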