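import Cfsg.Statements.S2470
import Mathlib
import Cfsg.Agent.L0.GLn3

set_option autoImplicit false
open Cfsg

namespace Cfsg.Agent.S2470

open CfsgL0.GLn Module Polynomial

/-- Adjacency of an odd prime and the characteristic in the prime graph of PSL(n,q): let F be a finite field of characteristic p with q elements, n ≥ 2 with PSL(n,F) simple, and let r ≠ p be an odd prime dividing the order of PSL(n,F), with k the multiplicative order of q modulo r. Then PSL(n,F) has NO element of order r·p if and only if either k > n − 2, or n = 3, r = 3 and 3 divides q − 1 exactly once. -/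
theorem result {F : Type*} [Field F] [Fintype F] (p : ℕ) [Fact p.Prime] [CharP F p] (n : ℕ) (hn : 2 ≤ n) (hsmall : n = 2 → 4 ≤ Fintype.card F)
    (r : ℕ) (hr : r.Prime) (hr2 : r ≠ 2) (hrp : r ≠ p) (hrG : r ∣ Nat.card (Matrix.ProjectiveSpecialLinearGroup (Fin n) F))
    (k : ℕ) (hk : k = orderOf ((Fintype.card F : ℕ) : ZMod r)) :
    (r * p ∉ Set.range (orderOf : Matrix.ProjectiveSpecialLinearGroup (Fin n) F → ℕ)) ↔
      (n - 2 < k ∨ (n = 3 ∧ r = 3 ∧ 3 ∣ Fintype.card F - 1 ∧ ¬ 9 ∣ Fintype.card F - 1)) := by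
  rw [← Nat.card_eq_fintype_card] at hk ⊢
  have hq : 1 ≤ Nat.card F := Nat.card_pos
  have hp : p.Prime := Fact.out
  have hc : r.Coprime p := (Nat.coprime_primes hr hp).2 hrp
  obtain ⟨hkn, hk0⟩ := ord_le_of_dvd_card (by omega) hr (cast_ne_zero p hr hrp) hrG
  rw [← hk] at hkn hk0
  constructor
  · intro h
    by_contra hne
    push Not at hne
    apply h
    by_cases h4 : 4 ≤ n
    · exact exists_rp p hr hrp (hk ▸ hk0) (by omega) h4
    obtain rfl : n = 3 := by omega
    have h1 : r ∣ Nat.card F - 1 := by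
      have := (dvd_pow_sub_one_iff (r := r) (q := Nat.card F) (d := 1) hq).2 (by
        rw [← hk, show k = 1 by omega])
      rwa [pow_one] at this
    obtain ⟨B, _, _, _, b, b1, b2, b3, b5, -⟩ := dual_facts (F := F) p
    obtain ⟨a, ha0, ha⟩ : ∃ a : F, a ≠ 0 ∧ orderOf (a ^ 3) = r := by
      by_cases h3 : r = 3
      · subst h3
        obtain ⟨a, ha0, ha⟩ := exists_orderOf_of_dvd F (hne.2 rfl rfl h1)
        exact ⟨a, ha0, by rw [orderOf_pow' _ (by norm_num), ha]; rfl⟩
      · obtain ⟨a, ha0, ha⟩ := exists_orderOf_of_dvd F h1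
        exact ⟨a, ha0, by rw [Nat.Coprime.orderOf_pow, ha]; rw [ha]; exact (Nat.coprime_primes hr Nat.prime_three).2 h3⟩
    obtain ⟨g, -, hg⟩ := exists_SL (F := F) (F × B) (n := 3) (by simp [b1]) ((a⁻¹) ^ 2, algebraMap F B a * b) (by
      rw [norm_pair, map_mul, b2, Algebra.norm_algebraMap, b1]; simp [ha0, ← mul_pow])
    refine ⟨QuotientGroup.mk g, ?_⟩
    rw [← hc.lcm_eq_mul, ← ha, ← b3, ← Prod.orderOf_mk, orderOf_eq_orderOf_iff]
    intro m
    rw [hg]
    simp only [Prod.pow_mk, Prod.ext_iff, Prod.fst_one, Prod.snd_one, Prod.algebraMap_apply, Algebra.algebraMap_self,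
      RingHom.id_apply]
    have ham : a ^ m ≠ 0 := pow_ne_zero _ ha0
    constructor
    · rintro ⟨c, c1, c2⟩
      have c3 : b ^ m = algebraMap F B (c * (a ^ m)⁻¹) := by
        rw [map_mul, ← c2, mul_pow, ← map_pow, mul_right_comm, ← map_mul, mul_inv_cancel₀ ham, map_one, one_mul]
      have c4 := b5 _ _ c3
      refine ⟨?_, by rw [c3, c4, map_one]⟩
      rw [← c1] at c4
      have : (a ^ 3) ^ m = ((a⁻¹ ^ 2) ^ m * (a ^ m)⁻¹)⁻¹ := by
        simp only [inv_pow, mul_inv, inv_inv]; ring
      rw [this, c4, inv_one]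
    · rintro ⟨c1, c2⟩
      refine ⟨a ^ m, ?_, by rw [mul_pow, c2, mul_one, map_pow]⟩
      have : (a⁻¹ ^ 2) ^ m = a ^ m * ((a ^ 3) ^ m)⁻¹ := by
        simp only [inv_pow]; field_simp; ring
      rw [this, c1, inv_one, mul_one]
  · rintro h ⟨x, hx⟩
    by_cases h2 : 2 ≤ k
    · have := nec_rp p (by omega) hr hrp (hk ▸ h2) x hx
      rcases h with h | ⟨rfl, rfl, h, -⟩
      · omega
      · exact not_dvd_of_ord hq (hk ▸ h2) h
    obtain ⟨g, rfl⟩ := QuotientGroup.mk_surjective x
    obtain ⟨f, f1, f2, f3⟩ := exists_sq_psl p hr.pos g hx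
    have fin : ∀ (c : F), (g : Matrix (Fin n) (Fin n) F).charpoly = (X - C c) ^ n → n ≤ 4 → False := fun c hc' h4 => by
      have := (psl_pow_eq_one g _).2 ⟨_, pow_scalar_of_charpoly p hc' (e := 2) (by nlinarith [hp.two_le])⟩
      have := (dvd_mul_right r p).trans (hx ▸ orderOf_dvd_of_pow_eq_one this)
      exact hr.one_lt.ne' ((hc.pow_right 2).eq_one_of_dvd this)
    rcases h with h | ⟨rfl, rfl, h, h9⟩
    · obtain rfl : n = 2 := by omega
      obtain ⟨c, hc⟩ := charpoly_two f1 f2 f3
      exact fin c hc (by omega)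
    · obtain ⟨c, e, hce⟩ := charpoly_three f1 f2 f3
      obtain ⟨l, hl⟩ := (psl_pow_eq_one g _).1 (pow_orderOf_eq_one _)
      rw [hx] at hl
      have e1 := root_pow (c := c) (hce ▸ (dvd_pow_self _ two_ne_zero).mul_right _) hl
      have e2 := root_pow (c := e) (hce ▸ dvd_mul_left _ _) hl
      have e3 : c ^ 2 * e = 1 := by
        have := det_of_charpoly (g : Matrix (Fin 3) (Fin 3) F)
        rw [g.det_coe, hce] at this
        simp at this
        linear_combination -this
      have e4 : c ^ (9 * p) = 1 := by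
        have : (c ^ 2 * e) ^ (3 * p) = 1 := by rw [e3, one_pow]
        rw [mul_pow, e2, ← e1] at this
        rw [← this]; ring
      have hc0 : c ≠ 0 := by rintro rfl; simp at e3
      have d1 := orderOf_dvd_of_pow_eq_one (pow_card_sub_one hc0)
      have d2 : orderOf c ∣ 3 ^ 2 := by
        refine Nat.Coprime.dvd_of_dvd_mul_right (Nat.Coprime.symm (hp.coprime_iff_not_dvd.2 fun h => ?_))
          (orderOf_dvd_of_pow_eq_one e4)
        exact not_dvd_card_pow (F := F) p one_pos (by simpa using h.trans d1)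
      obtain ⟨i, hi, hi'⟩ := (Nat.dvd_prime_pow Nat.prime_three).1 d2
      have d3 : c ^ 3 = 1 := by
        rw [← orderOf_dvd_iff_pow_eq_one, hi']
        interval_cases i
        · simp
        · simp
        · exact absurd (by rw [hi'] at d1; exact d1) h9
      have : e = c := by linear_combination (-e) * d3 + c * e3
      subst this
      exact fin e (by rw [hce]; ring) (by omega)

end Cfsg.Agent.S2470
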