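import Cfsg.Statements.S2477
import Cfsg.Agent.H1.Sn1

set_option autoImplicit false
open Cfsg

namespace Cfsg.Agent.S2477

section
open CfsgH1 CfsgH1.Sn Equiv Equiv.Perm MulAction
open scoped commutatorElement

def ok (s L : ℕ) : Bool := s % 2 == 1 || [1, 2, 3, 4, 5, 6, 7, 8, 9, 10, 12, 15, 21].elem L

def chk : ℕ → ℕ → ℕ → ℕ → Bool
  | 0, _, s, L => ok s L
  | f + 1, r, s, L => ok s L && (List.range (r + 1)).all fun a => a < 2 || chk f (r - a) (s + a + 1) (lcm a L)

theorem chk_spec (m : Multiset ℕ) : ∀ f r s L, r ≤ f → chk f r s L = true → (∀ a ∈ m, 2 ≤ a) → m.sum ≤ r →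
    ok (s + (m.sum + m.card)) (lcm m.lcm L) = true := by
  induction m using Multiset.induction_on with
  | empty =>
    intro f r s L _ h _ _
    rw [Multiset.lcm_zero, lcm_one_left, normalize_eq]
    cases f
    · exact h
    · exact (Bool.and_eq_true_iff.1 h).1
  | cons a m ih =>
    intro f r s L hf h h1 h2
    have := h1 a (by simp)
    rw [Multiset.sum_cons] at h2
    obtain ⟨f, rfl⟩ : ∃ g, f = g + 1 := ⟨f - 1, by omega⟩
    have h3 := List.all_eq_true.1 (Bool.and_eq_true_iff.1 h).2 a (List.mem_range.2 (by omega))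
    have := ih f (r - a) _ _ (by omega) ((Bool.or_eq_true_iff.1 h3).resolve_left (by simp; omega))
      (fun b hb => h1 b (by simp [hb])) (by omega)
    rw [Multiset.sum_cons, Multiset.card_cons, Multiset.lcm_cons, lcm_comm a, lcm_assoc]
    convert this using 2
    omega

end

/-- The set of element orders of the alternating group of degree 10 is {1, 2, 3, 4, 5, 6, 7, 8, 9, 10, 12, 15, 21}. -/
theorem result : Set.range (orderOf : alternatingGroup (Fin 10) → ℕ) = {1, 2, 3, 4, 5, 6, 7, 8, 9, 10, 12, 15, 21} := by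
  open CfsgH1 CfsgH1.Sn Equiv Equiv.Perm MulAction in
  open scoped commutatorElement in
  · refine Set.Subset.antisymm ?_ fun k hk => ?_
    · rintro _ ⟨g, rfl⟩
      have := chk_spec g.1.cycleType 10 10 0 1 le_rfl (by decide +kernel) (fun _ => two_le_of_mem_cycleType)
        (by simpa using g.1.sum_cycleType_le)
      simpa [ok, Nat.even_iff.1 (even_of_alt g), lcm_cycleType] using this
    · have key : ∀ m : Multiset ℕ, m.sum ≤ 10 ∧ (∀ a ∈ m, 2 ≤ a) ∧ Even (m.sum + m.card) →
          m.lcm ∈ Set.range (orderOf : alternatingGroup (Fin 10) → ℕ) := fun m h => by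
        obtain ⟨g, hg⟩ := exists_alt (α := Fin 10) m (by simpa using h.1) h.2.1 h.2.2
        exact ⟨g, by rw [← Subgroup.orderOf_coe, ← lcm_cycleType, hg]⟩
      simp only [Set.mem_insert_iff, Set.mem_singleton_iff] at hk
      rcases hk with rfl | rfl | rfl | rfl | rfl | rfl | rfl | rfl | rfl | rfl | rfl | rfl | rfl
      exacts [key 0 (by decide), key {2, 2} (by decide), key {3} (by decide), key {4, 2} (by decide), key {5} (by decide),
        key {6, 2} (by decide), key {7} (by decide), key {8, 2} (by decide), key {9} (by decide), key {5, 2, 2} (by decide),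
        key {4, 3, 2} (by decide), key {5, 3} (by decide), key {7, 3} (by decide)]

end Cfsg.Agent.S2477
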