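import Cfsg.Statements.S2488
import Cfsg.Agent.H1.Sn4
import Cfsg.Agent.H1.Fitting

set_option autoImplicit false
open scoped Pointwise
open Cfsg

namespace Cfsg.Agent.S2488

section
open CfsgH1 CfsgH1.Sn Equiv Equiv.Perm MulAction
open scoped commutatorElement

def z0 : Perm (Fin 6) := swap 0 1 * swap 2 3

def cn (b : Bool) : Finset (Perm (Fin 6)) :=
  Finset.univ.filter fun y => sign y = 1 ∧ y ^ 2 = 1 ∧ y ≠ 1 ∧ decide ((z0 * y) ^ 5 = 1) = b

theorem mem_cn {b : Bool} {y : Perm (Fin 6)} : y ∈ cn b ↔ sign y = 1 ∧ y ^ 2 = 1 ∧ y ≠ 1 ∧ ((z0 * y) ^ 5 = 1 ↔ b) := by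
  rw [cn, Finset.mem_filter, Bool.eq_iff_iff, decide_eq_true_eq]
  exact and_iff_right (Finset.mem_univ _)

theorem card_cn : (cn true).card = 17 ∧ (cn false).card = 28 := by decide +kernel

theorem conj0 {z : alternatingGroup (Fin 6)} (h : orderOf z = 2) : IsConj z ⟨z0, mem_alternatingGroup.2 (by decide)⟩ := by
  have ho : orderOf z.1 = 2 := by rwa [Subgroup.orderOf_coe]
  obtain ⟨k, hk⟩ := cycleType_prime_order (σ := z.1) (by rw [ho]; exact Nat.prime_two)
  have h1 := sum_cycleType_le z.1
  have h2 := even_of_alt z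
  rw [ho] at hk
  rw [hk, Multiset.sum_replicate, smul_eq_mul] at h1 h2
  rw [Fintype.card_fin] at h1
  rw [Multiset.card_replicate, Nat.even_iff] at h2
  obtain rfl : k = 1 := by omega
  exact alternatingGroup.isConj_of (isConj_iff_cycleType_eq.2 (hk.trans (show _ = z0.cycleType by decide +kernel)))
    (by rw [← sum_cycleType, hk]; rfl)

theorem cnt {N : Type*} [Group N] (e : N ≃* alternatingGroup (Fin 6)) {z : N} (h : orderOf z = 2) (b : Bool) :
    {y : N | orderOf y = 2 ∧ ((z * y) ^ 5 = 1 ↔ b)}.ncard = (cn b).card := by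
  obtain ⟨c, hc⟩ := isConj_iff.1 (conj0 ((e.orderOf_eq z).trans h))
  let f := e.trans (MulAut.conj c)
  have h1 : (f z).1 = z0 := congrArg Subtype.val hc
  rw [← Set.ncard_coe_finset]
  refine Set.ncard_congr (fun y _ => (f y).1) (fun y hy => ?_) (fun a b _ _ e => f.injective (Subtype.ext e)) fun y hy => ?_
  · rw [Set.mem_setOf_eq, ← f.orderOf_eq, orderOf_eq_prime_iff, ← f.map_eq_one_iff, map_pow, map_mul] at hy
    simp only [Subtype.ext_iff, Subgroup.coe_pow, Subgroup.coe_mul, h1, Ne] at hy
    exact mem_cn.2 ⟨(f y).2, hy.1.1, hy.1.2, hy.2⟩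
  · replace hy := mem_cn.1 hy
    refine ⟨f.symm ⟨y, hy.1⟩, ?_, by simp⟩
    rw [Set.mem_setOf_eq, ← f.orderOf_eq, orderOf_eq_prime_iff, ← f.map_eq_one_iff, map_pow, map_mul, f.apply_symm_apply]
    simpa [Subtype.ext_iff, h1, and_assoc] using hy.2

end

/-- Let G be a finite group with a normal subgroup N of index 4 isomorphic to the alternating group of degree 6 and with trivial centralizer in G (so G is the full automorphism group of A₆). Then any two Sylow 2-subgroups of G have a non-trivial intersection: for a Sylow 2-subgroup H and every x ∈ G, H ∩ H^x ≠ 1. -/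
theorem result {G : Type*} [Group G] [Finite G] (N : Subgroup G) [N.Normal]
    (e : N ≃* alternatingGroup (Fin 6)) (hidx : N.index = 4)
    (hC : Subgroup.centralizer (N : Set G) = ⊥)
    (H : Sylow 2 G) (x : G) :
    (H : Subgroup G) ⊓ MulAut.conj x • (H : Subgroup G) ≠ ⊥ := by
  open CfsgH1 CfsgH1.Sn Equiv Equiv.Perm MulAction in
  open scoped commutatorElement in
  · classical
    have h1 : Nat.card N = 360 := by rw [Nat.card_congr e.toEquiv, nat_card_alternatingGroup]; simp; rfl
    have h2 : Nat.card G = 1440 := by rw [← N.index_mul_card, hidx, h1]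
    have h3 : ∀ H : Sylow 2 G, Nat.card H = 32 := fun H => by rw [H.card_eq_multiplicity, h2]; decide +kernel
    have := H.2.isNilpotent
    obtain ⟨w, hw⟩ := Subgroup.ne_bot_iff_exists_ne_one.1 (inf_centralizer_ne_bot_of_isNilpotent (U := H ⊓ N) (L := H) inf_le_left
      (fun g hg => Subgroup.inf_normalizer_le_normalizer_inf ⟨Subgroup.le_normalizer hg, Subgroup.le_normalizer_of_normal (Subgroup.mem_top g)⟩) fun e => by
        have := Subgroup.relIndex_dvd_index_of_normal N H
        rw [← Subgroup.inf_relIndex_left, e, Subgroup.relIndex_bot_left, hidx, h3] at this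
        omega)
    obtain ⟨z, hz⟩ := exists_prime_orderOf_dvd_card' (G := (H ⊓ N ⊓ Subgroup.centralizer H : Subgroup G)) 2
      ((H.2.to_le (inf_le_left.trans inf_le_left)).card_eq_or_dvd.resolve_left (Finite.one_lt_card_iff_nontrivial.2 ⟨_, _, hw⟩).ne')
    obtain ⟨z, ⟨z0, z1⟩, z2⟩ := z
    let z' : N := ⟨z, z1⟩
    have hz : orderOf z' = 2 := by rw [← Subgroup.orderOf_coe] at hz ⊢; exact hz
    let _ : MulAction G N := MulAction.compHom N (MulAut.conjNormal (H := N))
    have ho : ∀ (g : G) (y : N), orderOf (g • y) = orderOf y := fun g y => (MulAut.conjNormal g).orderOf_eq y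
    have h4 : stabilizer G (x • z') = MulAut.conj x • (H : Subgroup G) := by
      refine (Subgroup.eq_of_le_of_card_ge ?_ ?_).symm
      · rintro _ ⟨g, hg, rfl⟩
        refine Subtype.ext (show x * g * x⁻¹ * (x * z * x⁻¹) * (x * g * x⁻¹)⁻¹ = x * z * x⁻¹ from ?_)
        rw [show x * g * x⁻¹ * (x * z * x⁻¹) * (x * g * x⁻¹)⁻¹ = x * (g * z) * g⁻¹ * x⁻¹ by group, z2 g hg]
        group
      · have h5 : 45 ≤ (orbit G (x • z')).ncard := by
          have := Set.ncard_union_eq (s := {y : N | orderOf y = 2 ∧ ((z' * y) ^ 5 = 1 ↔ true)})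
            (t := {y : N | orderOf y = 2 ∧ ((z' * y) ^ 5 = 1 ↔ false)}) (Set.disjoint_left.2 (by simp; tauto))
          rw [cnt e hz, cnt e hz, card_cn.1, card_cn.2] at this
          refine this.ge.trans (Set.ncard_le_ncard fun y hy => ?_)
          have := e.symm.toMonoidHom.map_isConj ((conj0 ((e.orderOf_eq _).trans ((ho x z').trans hz))).trans
            (conj0 ((e.orderOf_eq y).trans (hy.elim And.left And.left))).symm)
          obtain ⟨c, hc⟩ := isConj_iff.1 this
          exact ⟨c, Subtype.ext (show c.1 * (x • z').1 * c.1⁻¹ = y.1 by simpa using congrArg Subtype.val hc)⟩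
        have h6 := (stabilizer G (x • z')).index_mul_card
        rw [index_stabilizer, h2] at h6
        rw [show Nat.card (MulAut.conj x • (H : Subgroup G) : Subgroup G) = 32 from h3 (x • H)]
        nlinarith
    intro h
    have h5 : (orbit (H : Subgroup G) (x • z')).ncard = 32 := by
      rw [← index_stabilizer, ← h3 H, ← Subgroup.index_bot]
      congr 1
      exact eq_bot_iff.2 fun g hg => Subtype.ext ((Subgroup.eq_bot_iff_forall _).1 h g ⟨g.2, h4 ▸ hg⟩)
    have h6 := Set.ncard_le_ncard (s := orbit (H : Subgroup G) (x • z'))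
      (t := {y : N | orderOf y = 2 ∧ ((z' * y) ^ 5 = 1 ↔ decide ((z' * x • z') ^ 5 = 1))}) (by
        rintro _ ⟨g, rfl⟩
        refine ⟨(ho g _).trans ((ho x _).trans hz), ?_⟩
        have : z' * g.1 • x • z' = MulAut.conjNormal g.1 (z' * x • z') := by
          rw [map_mul]; congr 1; exact Subtype.ext (by simp [z', z2 g g.2])
        rw [decide_eq_true_eq, ← (MulAut.conjNormal g.1).map_eq_one_iff (x := (z' * x • z') ^ 5), map_pow, ← this]
        rfl)
    rw [cnt e hz, h5] at h6
    generalize decide ((z' * x • z') ^ 5 = 1) = b at h6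
    cases b <;> simp [card_cn] at h6

end Cfsg.Agent.S2488
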