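import Mathlib
import Cfsg.Statements.S2490
import Cfsg.Agent.H8.Pg2

set_option autoImplicit false
open Cfsg

namespace Cfsg.Agent.S2490


/-- Let G be a finite group of order 7920 = 2⁴·3²·5·11 (the order of the smallest Mathieu group) and suppose its prime graph (vertices the prime divisors of the order, distinct p, q joined when there is an element of order pq) is disconnected: the prime divisors split into two non-empty parts with no element of order pq for p in one part and q in the other. Then G is simple. -/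
theorem result {G : Type*} [Group G] [Finite G] (hord : Nat.card G = 7920)
    (hdisc : (∃ A : Set ℕ, (∃ a ∈ A, a.Prime ∧ a ∣ Nat.card G) ∧ (∃ b ∉ A, b.Prime ∧ b ∣ Nat.card G) ∧
      ∀ a ∈ A, ∀ b ∉ A, a.Prime → b.Prime → a ∣ Nat.card G → b ∣ Nat.card G → ¬ ∃ g : G, orderOf g = a * b)) :
    IsSimpleGroup G := by
  obtain ⟨A, ⟨a, ha, pa, da⟩, ⟨b, hb, pb, db⟩, hA⟩ := hdisc
  have pr : ∀ p : ℕ, p.Prime → p ∣ Nat.card G → p = 2 ∨ p = 3 ∨ p = 5 ∨ p = 11 := fun p hp hd => by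
    rw [hord, show 7920 = 2 ^ 4 * (3 ^ 2 * (5 * 11)) by norm_num] at hd
    simp only [hp.dvd_mul] at hd
    rcases hd with e | e | e | e
    · exact Or.inl ((Nat.prime_dvd_prime_iff_eq hp (by norm_num)).1 (hp.dvd_of_dvd_pow e))
    · exact Or.inr (Or.inl ((Nat.prime_dvd_prime_iff_eq hp (by norm_num)).1 (hp.dvd_of_dvd_pow e)))
    · exact Or.inr (Or.inr (Or.inl ((Nat.prime_dvd_prime_iff_eq hp (by norm_num)).1 e)))
    · exact Or.inr (Or.inr (Or.inr ((Nat.prime_dvd_prime_iff_eq hp (by norm_num)).1 e)))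
  have key : ∀ p q : ℕ, p.Prime → q.Prime → (∃ g : G, orderOf g = p * q) → (p ∈ A ↔ q ∈ A) := fun p q hp hq ⟨g, hg⟩ => by
    have h1 : p * q ∣ Nat.card G := hg ▸ orderOf_dvd_natCard g
    constructor <;> intro e <;> by_contra e'
    · exact hA p e q e' hp hq (Dvd.dvd.trans (Dvd.intro _ rfl) h1) (Dvd.dvd.trans (Dvd.intro_left _ rfl) h1) ⟨g, hg⟩
    · exact hA q e p e' hq hp (Dvd.dvd.trans (Dvd.intro_left _ rfl) h1) (Dvd.dvd.trans (Dvd.intro _ rfl) h1)
        ⟨g, hg.trans (mul_comm _ _)⟩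
  have fin : (2 ∈ A ↔ 11 ∈ A) → (3 ∈ A ↔ 11 ∈ A) → (5 ∈ A ↔ 11 ∈ A) → False := fun h1 h2 h3 => by
    rcases pr a pa da with rfl | rfl | rfl | rfl <;> rcases pr b pb db with rfl | rfl | rfl | rfl <;> tauto
  have p2 := Nat.prime_two
  have p3 := Nat.prime_three
  have p5 := Nat.prime_five
  have p11 : Nat.Prime 11 := by norm_num
  haveI : Nontrivial G := Finite.one_lt_card_iff_nontrivial.1 (by omega)
  refine ⟨fun N hN => ?_⟩
  by_contra hc
  push Not at hc
  rcases or_assoc.2 (CfsgH8.Pg.nS hord) with e | e | e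
  · obtain ⟨h1, h2, h3 | h3⟩ := CfsgH8.Pg.case1 hord e
    · exact fin (key _ _ p11 p2 h1).symm (key _ _ p11 p3 h2).symm (key _ _ p11 p5 h3).symm
    · exact fin (key _ _ p11 p2 h1).symm (key _ _ p11 p3 h2).symm ((key _ _ p5 p3 h3).trans (key _ _ p11 p3 h2).symm)
  · obtain ⟨h1, h2, h3⟩ := CfsgH8.Pg.case3 hord e
    exact fin (key _ _ p11 p2 h1).symm ((key _ _ p3 p2 h2).trans (key _ _ p11 p2 h1).symm)
      ((key _ _ p5 p2 h3).trans (key _ _ p11 p2 h1).symm)
  · obtain ⟨h1, h2, h3⟩ := CfsgH8.Pg.case2 hord e hc.1 hc.2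
    exact fin ((key _ _ p2 p5 h1).trans (key _ _ p11 p5 h3).symm) ((key _ _ p3 p5 h2).trans (key _ _ p11 p5 h3).symm)
      (key _ _ p11 p5 h3).symm

end Cfsg.Agent.S2490
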