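import Mathlib
import Cfsg.Statements.S2507
import Cfsg.Agent.H8.P2a

set_option autoImplicit false
open Cfsg

namespace Cfsg.Agent.S2507

open CfsgH8

/-- Let F be a finite field with q = 2^f ≥ 4 elements. The conjugacy class sizes of PSL(2,F) are exactly 1, q(q − 1), q² − 1 and q(q + 1). -/
theorem result {F : Type*} [Field F] [Fintype F]
    (h2 : 2 ∣ Fintype.card F) (h4 : 4 ≤ Fintype.card F) :
    Set.range (fun g : (Matrix.ProjectiveSpecialLinearGroup (Fin 2) F) => (Subgroup.centralizer ({g} : Set (Matrix.ProjectiveSpecialLinearGroup (Fin 2) F))).index) =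
      {1, Fintype.card F * (Fintype.card F - 1), Fintype.card F ^ 2 - 1, Fintype.card F * (Fintype.card F + 1)} := by
  have e : Fintype.card F % 2 = 0 := by omega
  obtain ⟨a, b, c, d⟩ := exists_ci (F := F) (by rw [gcd_two_even e]; omega)
  rw [gcd_two_even e, Nat.div_one] at d
  ext n
  simp only [Set.mem_range, Set.mem_insert_iff, Set.mem_singleton_iff]
  refine ⟨?_, ?_⟩
  · rintro ⟨g, rfl⟩
    have := ci_cases g
    rw [gcd_two_even e, Nat.div_one] at this
    unfold ci at this
    omega
  · rintro (rfl | rfl | rfl | rfl) <;> assumption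

end Cfsg.Agent.S2507
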