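import Mathlib
import Cfsg.Statements.S2515
import Cfsg.Agent.H8.Spec
import Cfsg.Agent.S3532
import Cfsg.Agent.H8.P2a

set_option autoImplicit false
open Cfsg

namespace Cfsg.Agent.S2515

open CfsgH8 Matrix

variable {F : Type} [Field F] [CharP F 3]

local notation "SL2" => Matrix.SpecialLinearGroup (Fin 2) F
local notation "PSL2" => Matrix.ProjectiveSpecialLinearGroup (Fin 2) F
local notation "M2" => Matrix (Fin 2) (Fin 2) F

/-- The twisted tensor square of the natural module. -/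
noncomputable def act (g : SL2) (X : M2) : M2 := g.1 * X * (g.1.map (frobenius F 3))ᵀ

theorem act_inv (g : SL2) (X : M2) : act (Function.surjInv πS_surj (πS g)) X = act g X := by
  rcases πS_eq_iff.1 (Function.surjInv_eq πS_surj (πS g)) with h | h <;> rw [h]
  simp [act, Matrix.map_neg]

noncomputable instance inst : DistribMulAction (PSL2 × ℤˣ) M2 where
  smul a X := a.2 • act (Function.surjInv πS_surj a.1) X
  one_smul X := by
    change (1 : ℤˣ) • act (Function.surjInv πS_surj (πS 1)) X = X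
    rw [act_inv]
    simp [act]
  mul_smul := fun ⟨a, e⟩ ⟨b, d⟩ X => by
    obtain ⟨a, rfl⟩ := πS_surj a
    obtain ⟨b, rfl⟩ := πS_surj b
    change (e * d) • act (Function.surjInv πS_surj (πS (a * b))) X =
      e • act (Function.surjInv πS_surj (πS a)) (d • act (Function.surjInv πS_surj (πS b)) X)
    simp only [act_inv]
    simp [act, mul_smul, mul_assoc, Matrix.map_mul, Units.smul_def, -zsmul_eq_mul]
  smul_zero a := by
    change a.2 • act (F := F) _ 0 = 0
    simp [act]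
  smul_add a X Y := by
    change a.2 • act (F := F) _ (X + Y) = a.2 • act (F := F) _ X + a.2 • act (F := F) _ Y
    simp [act, mul_add, add_mul]

theorem smul_eq (g : SL2) (e : ℤˣ) (X : M2) : (πS g, e) • X = e • act g X := congrArg (e • ·) (act_inv g X)

theorem fix {g : SL2} {e : ℤˣ} {X : M2} (h : (πS g, e) • X = X) (n : X ≠ 0) :
    g.1.trace = 0 ∨ g.1.trace ^ 2 = ((e : ℤ) : F) := by
  let k := SpecialLinearGroup.map (frobenius F 3) g
  have h1 : ((e : ℤ) : F) • (g.1 * X * k.1ᵀ) = X := by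
    rw [Int.cast_smul_eq_zsmul]; exact (smul_eq g e X).symm.trans h
  have e2 : ((e : ℤ) : F) * (e : ℤ) = 1 := by rw [← Int.cast_mul, Int.units_coe_mul_self, Int.cast_one]
  have t : k.1.trace = g.1.trace ^ 3 := (AddMonoidHom.map_trace (frobenius F 3) g.1).symm
  have a := sq_SL2 g
  have b := congrArg transpose (sq_SL2 k)
  rw [t, transpose_mul, transpose_sub, transpose_smul, transpose_one] at b
  generalize ((e : ℤ) : F) = c at *
  generalize k.1ᵀ = B at *
  generalize g.1.trace = τ at *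
  generalize g.1 = A at *
  have h2 : A * X * B = c • X := by rw [← congrArg (c • ·) h1, smul_smul, e2, one_smul]
  have h3 : τ • c • X - X * B = c • (A * X) := by
    rw [← mul_smul_comm c A, ← h2, mul_assoc A X, ← mul_assoc A A, a, sub_mul, smul_mul_assoc, one_mul]
  have h4 : τ ^ 3 • c • X - A * X = c • (X * B) := by
    rw [← smul_mul_assoc c X, ← h2, mul_assoc _ B B, b, mul_sub, mul_smul_comm, mul_one]
  have : (τ * (τ ^ 2 - c)) • X = 0 := by
    linear_combination (norm := module) c • h4 - h3 + e2 • (X * B - τ ^ 3 • X)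
  simpa [n, sub_eq_zero] using this

theorem spec [Fintype F] {α : ℕ} (hF : Fintype.card F = 3 ^ α) (h3 : 27 ≤ 3 ^ α) (h4 : 3 ^ α % 4 = 3) :
    Set.range (orderOf : Aff (PSL2 × ℤˣ) M2 → ℕ) = {n | ∃ m ∈ [6, 9, 3 ^ α - 1, (3 ^ α + 1) / 2], n ∣ m} := by
  have s := S3532.spec (F := F) 3 (by omega)
  rw [hF, show Nat.gcd 2 (3 ^ α - 1) = 2 from Nat.gcd_eq_left (by omega)] at s
  have t3 : (3 : F) = 0 := CharP.cast_eq_zero F 3
  have ex : ∀ v : M2, 3 • v = 0 := fun v => by rw [← Nat.cast_smul_eq_nsmul F, CharP.cast_eq_zero, zero_smul]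
  have k : ∀ (a : PSL2 × ℤˣ) m n, orderOf a.1 ∣ m → m ∣ n → 2 ∣ n → a ^ n = 1 := fun a m n h1 h2 h3 =>
    Prod.ext (orderOf_dvd_iff_pow_eq_one.1 (h1.trans h2)) (orderOf_dvd_iff_pow_eq_one.1
      ((orderOf_dvd_of_pow_eq_one (Int.units_sq _)).trans h3))
  refine range_orderOf_eq _ (fun x => ?_) ?_
  · by_cases f : ∀ v : M2, x.right • v = v → v = 0
    · rcases (s _).1 ⟨x.right.1, rfl⟩ with e | e | e
      · exact ⟨6, by simp, Aff.pow_of_fpf (k _ _ _ e (by decide) (by decide)) f⟩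
      · exact ⟨3 ^ α - 1, by simp, Aff.pow_of_fpf (k _ _ _ e (Nat.div_dvd_of_dvd (by omega)) (by omega)) f⟩
      · exact ⟨(3 ^ α + 1) / 2, by simp, Aff.pow_of_fpf (k _ _ _ e dvd_rfl (by omega)) f⟩
    push Not at f
    obtain ⟨v, ⟨a, e⟩⟩ := x
    obtain ⟨g, rfl⟩ := πS_surj a
    obtain ⟨v, h, n⟩ := f
    rcases fix h n with t | t
    · exact ⟨2 * 3, by simp, Aff.pow_mul_eq_one ex (Prod.ext (by
        change πS g ^ 2 = 1
        rw [← map_pow, sq, sq_eq_neg_one_of_trace t, πS_neg, map_one]) (Int.units_sq e))⟩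
    obtain rfl | rfl := Int.units_eq_one_or e
    · refine ⟨3 * 3, by simp, Aff.pow_mul_eq_one ex (Prod.ext ?_ (one_pow 3))⟩
      change πS g ^ 3 = 1
      rcases sq_eq_one_iff.1 (t.trans Int.cast_one) with t | t
      · rw [← πS_neg, ← map_pow, pow_char_of_trace 3 (by simp [t]; linear_combination -t3), map_one]
      · rw [← map_pow, pow_char_of_trace 3 (by rw [t]; linear_combination -t3), map_one]
    · exact absurd h4 (hF ▸ FiniteField.isSquare_neg_one_iff.1 ⟨_, by simpa [sq] using t.symm⟩)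
  simp only [List.forall_mem_cons]
  obtain ⟨a, ha⟩ := (s 3).2 (by simp)
  obtain ⟨b, hb⟩ := (s _).2 (.inr (.inl dvd_rfl))
  obtain ⟨c, hc⟩ := (s _).2 (.inr (.inr dvd_rfl))
  have o : orderOf (-1 : ℤˣ) = 2 := orderOf_eq_prime (by simp) (by decide)
  refine ⟨⟨by simp, _, (Aff.orderOf_inr (a, -1)).trans (by rw [Prod.orderOf_mk, ha, o]; rfl)⟩,
    ⟨by simp, ⟨.ofAdd !![0, 0; 0, 1], (πS (triS 1 1), 1)⟩, orderOf_eq_prime_pow (p := 3) (n := 1) (fun e => ?_)
      (Aff.pow_mul_eq_one (k := 3) ex (Prod.ext ?_ (one_pow 3)))⟩,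
    ⟨by omega, _, (Aff.orderOf_inr (b, -1)).trans ?_⟩, ⟨by omega, _, (Aff.orderOf_inr (c, 1)).trans (by rw [Prod.orderOf_mk, hc, orderOf_one, Nat.lcm_one_right])⟩, by simp⟩
  · have : (!![0, 0; 0, 1] : M2) + (πS (triS 1 (1 : F)), (1 : ℤˣ)) • (!![0, 0; 0, 1] : M2) +
        (πS (triS 1 (1 : F) * triS 1 1), (1 : ℤˣ)) • (!![0, 0; 0, 1] : M2) = 0 :=
      congrArg SemidirectProduct.left ((pow_three' _).symm.trans e)
    rw [smul_eq, smul_eq] at this
    have := congrFun (congrFun this 0) 0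
    simp [act, Matrix.mul_apply, vecMul, dotProduct, frobenius_def, vecHead] at this
    exact one_ne_zero (α := F) (by linear_combination -this + 6 * t3)
  · change πS _ ^ 3 = 1
    rw [← map_pow, pow_char_of_trace 3 (by simp [one_add_one_eq_two]), map_one]
  · rw [Prod.orderOf_mk, hb, o, Nat.Coprime.lcm_eq_mul (by rw [Nat.coprime_two_right, Nat.odd_iff]; omega)]
    omega

/-- Let q = 3^α with α ≥ 3 odd. There is a finite group H having a non-trivial normal 3-subgroup and whose element orders maximal under divisibility are exactly 6, 9, q − 1 and (q + 1)/2. -/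
theorem result (α : ℕ) (hα : 3 ≤ α) (hodd : Odd α) :
    ∃ (H : Type) (_ : Group H) (_ : Fintype H), (∃ P : Subgroup H, P.Normal ∧ P ≠ ⊥ ∧ IsPGroup 3 ↥P) ∧
      {n : ℕ | n ∈ Set.range (orderOf : H → ℕ) ∧ ∀ m ∈ Set.range (orderOf : H → ℕ), n ∣ m → m = n} = ({6, 9, 3 ^ α - 1, (3 ^ α + 1) / 2} : Set ℕ) := by
  obtain ⟨F, _, _, hF⟩ := exists_field_card (l := 3 ^ α) (Nat.prime_three.isPrimePow.pow (by omega))
  haveI : CharP F 3 := charP_of_card_eq_prime_pow hF
  have h3 : 27 ≤ 3 ^ α := Nat.pow_le_pow_right (n := 3) (by decide) hα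
  have h4 : 3 ^ α % 4 = 3 := by
    obtain ⟨k, rfl⟩ := hodd
    simp [pow_succ, pow_mul, Nat.mul_mod, Nat.pow_mod]
  have h5 : 3 ∣ 3 ^ α := dvd_pow_self 3 (by omega)
  refine ⟨Aff (Matrix.ProjectiveSpecialLinearGroup (Fin 2) F × ℤˣ) (Matrix (Fin 2) (Fin 2) F), inferInstance, Fintype.ofFinite _,
    ⟨SemidirectProduct.rightHom.ker, inferInstance, fun e => ?_, fun g => ⟨1, Subtype.ext (Aff.pow_eq_one (fun v => ?_) g.2)⟩⟩, ?_⟩
  · have := congrArg SemidirectProduct.left ((Subgroup.eq_bot_iff_forall _).1 e (.inl (.ofAdd 1)) rfl)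
    exact one_ne_zero (α := Matrix (Fin 2) (Fin 2) F) this
  · rw [pow_one, ← Nat.cast_smul_eq_nsmul F, CharP.cast_eq_zero, zero_smul]
  rw [spec hF h3 h4]
  generalize 3 ^ α = q at *
  ext n
  simp only [Set.mem_ofPred_eq, List.mem_cons, List.not_mem_nil, or_false, Set.mem_insert_iff, Set.mem_singleton_iff]
  refine ⟨fun ⟨⟨m, h, d⟩, k⟩ => k m ⟨m, h, dvd_rfl⟩ d ▸ h, fun h => ⟨⟨n, h, dvd_rfl⟩, fun m ⟨l, hl, d⟩ e => ?_⟩⟩
  obtain rfl : n = l := by
    have d := e.trans d
    have t : (q + 1) / 2 ∣ q - 1 → False := fun d => by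
      have := Nat.le_of_dvd two_pos ((Nat.dvd_add_right d).1 (show (q + 1) / 2 ∣ q - 1 + 2 from Nat.div_dvd_of_dvd (by omega) |>.trans
        (dvd_of_eq (by omega))))
      omega
    rcases h with rfl | rfl | rfl | rfl <;> rcases hl with rfl | rfl | rfl | rfl <;>
      first | rfl | omega | exact absurd (Nat.le_of_dvd (by omega) d) (by omega) | exact (t d).elim
  exact Nat.dvd_antisymm d e

end Cfsg.Agent.S2515
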