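import Cfsg.Statements.S2518
import Mathlib
import Cfsg.Agent.H7.Sp.G23
import Cfsg.Agent.S3532
import Cfsg.Agent.S0243

set_option autoImplicit false
open Cfsg

namespace Cfsg.Agent.S2518

open CfsgH7 CfsgH7.G23 CfsgH7.G23.Sp

/-- Let F₃ be the field with 3 elements and F₁₃ the field with 13 elements. The Chevalley group G₂(F₃) and PSL(2, F₁₃) have the same prime graph: the same prime divisors of their orders, and for distinct primes r, s an element of order rs in one iff in the other. -/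
theorem result {F : Type*} [Field F] [Fintype F] (hF : Fintype.card F = 3) {E : Type*} [Field E] [Fintype E] (hE : Fintype.card E = 13) :
    ((∀ r : ℕ, r.Prime → (r ∣ Nat.card ↥(Cfsg.Lie.chevG2.group F) ↔ r ∣ Nat.card (Matrix.ProjectiveSpecialLinearGroup (Fin 2) E))) ∧
      (∀ r s : ℕ, r.Prime → s.Prime → r ≠ s → ((∃ x : ↥(Cfsg.Lie.chevG2.group F), orderOf x = r * s) ↔ (∃ y : (Matrix.ProjectiveSpecialLinearGroup (Fin 2) E), orderOf y = r * s)))) := by
  obtain ⟨e⟩ := iso (mdlF hF)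
  have := M0.fin
  have : Fact (Nat.Prime 13) := ⟨by norm_num⟩
  have : CharP E 13 := char_of_card (f := 1) this.1 (by rw [hE, pow_one])
  have c : Nat.card (Matrix.ProjectiveSpecialLinearGroup (Fin 2) E) = 1092 := by
    have := Cfsg.Agent.S0243.result hE 2 (by norm_num)
    simp only [Fin.prod_univ_succ, Fin.prod_univ_zero, Fin.val_zero, Fin.val_succ] at this
    norm_num at this; omega
  have pm : ∀ r : ℕ, r.Prime → r ∣ 4245696 → r ∈ [2, 3, 7, 13] := fun r hr d =>
    prime_mem (e := 6) hr (by norm_num) (d.trans (by norm_num))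
  refine ⟨fun r hr => ?_, fun r s hr hs n => ?_⟩
  · rw [c, (mdlF hF).2.1]
    refine ⟨fun d => ?_, fun d => d.trans (by norm_num)⟩
    have := pm r hr d
    clear d hr; revert r; decide
  rw [S3532.spec 13 (by omega), hE, show (13 - 1) / Nat.gcd 2 (13 - 1) = 6 from rfl, show (13 + 1) / Nat.gcd 2 (13 - 1) = 7 from rfl]
  have k : ∀ m : ℕ, m.Prime → ¬ r * s ∣ m := fun m hm d => n (((Nat.prime_dvd_prime_iff_eq hr hm).1 ((dvd_mul_right r s).trans d)).trans
    ((Nat.prime_dvd_prime_iff_eq hs hm).1 ((dvd_mul_left s r).trans d)).symm)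
  refine ⟨fun ⟨x, hx⟩ => .inr (.inl ?_), fun h => ?_⟩
  · rw [← e.symm.orderOf_eq] at hx
    have d := M0.card ▸ hx ▸ orderOf_dvd_natCard (e.symm x)
    have k2 : ∀ p : ℕ, p.Prime → Pk G0 SL p → ¬ p ∣ r * s := fun p hp h d => by
      obtain ⟨m, h1, h2⟩ := h.use hp (hx ▸ d)
      exact k m ((by norm_num [SL] : ∀ m ∈ SL, m.Prime) m h1) (hx ▸ h2)
    have h1 := pm r hr ((dvd_mul_right r s).trans d)
    have h2 := pm s hs ((dvd_mul_left s r).trans d)
    have h3 := k2 7 (by norm_num) k7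
    have h4 := k2 13 (by norm_num) k13
    exact (by decide : ∀ r ∈ [2, 3, 7, 13], ∀ s ∈ [2, 3, 7, 13], r ≠ s → ¬7 ∣ r * s → ¬13 ∣ r * s → r * s ∣ 6) r h1 s h2 n h3 h4
  · obtain ⟨x, hx⟩ := o6
    have d := (h.resolve_left (k 13 (by norm_num))).resolve_right (k 7 (by norm_num))
    exact ⟨e (x ^ (orderOf x / (r * s))), by rw [e.orderOf_eq]; exact orderOf_pow_orderOf_div (by omega) (hx ▸ d)⟩

end Cfsg.Agent.S2518
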