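import Mathlib
import Cfsg.Statements.S2530
import Cfsg.Agent.H8.Cox

set_option autoImplicit false
open Cfsg

namespace Cfsg.Agent.S2530

open CfsgH8

/-- The Coxeter presentation of the symmetric group: for every n, the symmetric group on n+1 letters is the Coxeter group of type A_n with the adjacent transpositions (i, i+1) as simple reflections; that is, it is presented by generators r_1, …, r_n subject to r_i² = 1, (r_i r_j)² = 1 for |i − j| > 1 and (r_i r_{i+1})³ = 1, with r_i mapping to (i, i+1). -/
theorem result (n : ℕ) :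
    ∃ cs : CoxeterSystem (CoxeterMatrix.A n) (Equiv.Perm (Fin (n + 1))), ∀ i : Fin n, cs.simple i = Equiv.swap i.castSucc i.succ := by
  let M := CoxeterMatrix.A n
  let cs0 := M.toCoxeterSystem
  have hM : ∀ i j : Fin n, M i j = if i = j then 1 else (if (j : ℕ) + 1 = i ∨ (i : ℕ) + 1 = j then 3 else 2) :=
    fun i j => rfl
  have hf : M.IsLiftable (fun i : Fin n => Equiv.swap i.castSucc i.succ) := by
    intro i j
    rw [hM]
    split_ifs with h1 h2
    · subst h1; simp
    · rcases h2 with h2 | h2
      · have e : j.succ = i.castSucc := Fin.ext (by simpa using h2)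
        simp only
        rw [Equiv.swap_comm i.castSucc, Equiv.swap_comm j.castSucc, e]
        refine swap_braid ?_ ?_ ?_ <;> simp [Fin.ext_iff] <;> omega
      · have e : j.castSucc = i.succ := Fin.ext (by simpa using h2.symm)
        simp only
        rw [e]
        refine swap_braid ?_ ?_ ?_ <;> simp [Fin.ext_iff] <;> omega
    · simp only
      have h1' : (i : ℕ) ≠ j := fun h => h1 (Fin.ext h)
      have : Equiv.swap i.castSucc i.succ * Equiv.swap j.castSucc j.succ = Equiv.swap j.castSucc j.succ * Equiv.swap i.castSucc i.succ := by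
        refine swap_comm4 ?_ ?_ ?_ ?_ <;> simp [Fin.ext_iff] <;> omega
      rw [pow_two]
      nth_rewrite 1 [this]
      rw [mul_assoc, ← mul_assoc (Equiv.swap i.castSucc i.succ), Equiv.swap_mul_self, one_mul, Equiv.swap_mul_self]
  let φ := cs0.lift ⟨_, hf⟩
  have hφ : ∀ i, φ (cs0.simple i) = Equiv.swap i.castSucc i.succ := fun i => cs0.lift_apply_simple hf i
  have hs : Function.Surjective φ := by
    rw [← MonoidHom.mrange_eq_top, eq_top_iff, ← Equiv.Perm.mclosure_swap_castSucc_succ, Submonoid.closure_le]
    rintro _ ⟨i, rfl⟩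
    exact ⟨_, hφ i⟩
  let s : ℕ → M.Group := fun i => if h : i < n then cs0.simple ⟨i, h⟩ else 1
  obtain ⟨hfin, hc⟩ := cox_card_le (s := s) n (fun i hi => by simp [s, hi])
    (fun i hi => by
      have := cs0.simple_mul_simple_pow ⟨i, by omega⟩ ⟨i + 1, hi⟩
      rw [hM] at this
      simpa [s, hi, show i < n by omega] using this)
    (fun i j hi hj => by
      have := cs0.simple_mul_simple_pow ⟨i, by omega⟩ ⟨j, hj⟩
      rw [hM, if_neg (by simp; omega), if_neg (by simp; omega), pow_two, mul_eq_one_iff_eq_inv, mul_inv_rev,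
        cs0.inv_simple, cs0.inv_simple] at this
      simpa [s, hj, show i < n by omega] using this)
  have ht : Subgroup.closure (s '' Set.Iio n) = ⊤ := by
    rw [eq_top_iff, ← cs0.subgroup_closure_range_simple]
    refine Subgroup.closure_mono ?_
    rintro _ ⟨i, rfl⟩
    exact ⟨i, i.2, by simp [s]⟩
  rw [ht] at hfin hc
  haveI : Finite M.Group := Finite.of_equiv _ Subgroup.topEquiv.toEquiv
  rw [Subgroup.card_top] at hc
  have hb : Function.Bijective φ := by
    refine hs.bijective_of_nat_card_le ?_
    rw [Nat.card_perm, Nat.card_fin]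
    exact hc
  refine ⟨⟨(MulEquiv.ofBijective φ hb).symm⟩, fun i => hφ i⟩

end Cfsg.Agent.S2530
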