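import Cfsg.Statements.S2648
import Cfsg.Agent.H5.Wr5

set_option autoImplicit false
open Cfsg

namespace Cfsg.Agent.S2648

open CfsgH5 CfsgH5.Wr CfsgH5.Rk CfsgH5.CForm

/-- Let q be odd, F a field with q elements and n ≥ 1. A Sylow 2-subgroup R of the symplectic group Sp_{2n}(F) has derived length exactly k + 1, where 2^k ≤ 2n < 2^{k+1}: the (k+1)-st term of its derived series is trivial and the k-th is not. -/
theorem result {F : Type*} [Field F] [Fintype F] [DecidableEq F] (q : ℕ) (hF : Fintype.card F = q) (hq : Odd q) (n : ℕ) (hn : 1 ≤ n) (R : Sylow 2 ↥(Matrix.symplecticGroup (Fin n) F)) : derivedSeries ↥(R : Subgroup ↥(Matrix.symplecticGroup (Fin n) F)) (Nat.log 2 (2 * n) + 1) = ⊥ ∧ derivedSeries ↥(R : Subgroup ↥(Matrix.symplecticGroup (Fin n) F)) (Nat.log 2 (2 * n)) ≠ ⊥ := by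
  subst hF
  obtain rfl : ‹DecidableEq F› = Classical.decEq F := Subsingleton.elim _ _
  obtain ⟨D⟩ : Nonempty (Sylow 2 (Matrix.SpecialLinearGroup (Fin 2) F)) := inferInstance
  obtain ⟨T⟩ : Nonempty (Sylow 2 (Equiv.Perm (Fin n))) := inferInstance
  obtain ⟨e⟩ := sp_syl hq n R D T
  have := finite_linearEquiv (F := F) (V := Fin n ⊕ Fin n → F)
  have := Finite.of_equiv _ (spEquiv (F := F) n).symm.toEquiv
  rw [mul_comm, Nat.log_mul_base one_lt_two (by omega)]
  exact ⟨ds_inj (φ := e.symm.toMonoidHom) e.symm.injective (ds_K (b := 2) (a := Nat.log 2 n) (sl2_q hq D).2.1 (S4014.result 2 n hn T).1),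
    ((dl_sp hq _ n (Nat.pow_log_le_self 2 (by omega))).map (φ := (spEquiv n).symm.toMonoidHom) (spEquiv n).symm.injective).syl R⟩

end Cfsg.Agent.S2648
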