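import Cfsg.Statements.S2791
import Mathlib
import Cfsg.Agent.H2.BG0
import Cfsg.Agent.H2.Misc

set_option autoImplicit false
open Cfsg

namespace Cfsg.Agent.S2791

open Cfsg Subgroup CfsgH2
open scoped commutatorElement

/-- Let S be a Sylow p-subgroup of the finite group G and A an abelian subgroup of S that is strongly closed in S with respect to G. Then A controls strong fusion in G: for some Sylow p-subgroup T containing A, whenever a subset of T is conjugated into T by an element of G, the same elementwise conjugation is induced by an element of N_G(A). -/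
theorem result {G : Type*} [Group G] [Finite G] {p : ℕ} [Fact p.Prime] (S : Sylow p G) (A : Subgroup G) (hA : IsMulCommutative ↥A) (hsc : Cfsg.IsStronglyClosed A (S : Subgroup G)) : Cfsg.ControlsStrongFusion p A := by
  have hS := syl_top S
  have main : ∀ n, ∀ U : Subgroup G, U.index = n → ∀ g : G, U ≤ S → U.map (cj g⁻¹) ≤ S →
      ∃ x ∈ N[A], ∀ u ∈ U, g⁻¹ * u * g = x⁻¹ * u * x := by
    intro n
    induction n using Nat.strong_induction_on with
    | _ n ih =>
    have loc : ∀ R : Subgroup G, R.index ≤ n → R ≤ S → Syl p (S ⊓ N[R]) N[R] → ∀ g ∈ N[R],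
        ∃ x ∈ N[A], ∀ u ∈ R, g⁻¹ * u * g = x⁻¹ * u * x := by
      intro R hi hR h1 g hg
      have hD : N[R] ≤ N[(R ⊓ A : Subgroup G)] := fun y hy => mem_norm_of_conj fun a ha =>
        ⟨conj_mem_of_norm hy ha.1, hsc.2 a ha.2 y (hR (conj_mem_of_norm hy ha.1))⟩
      by_cases hAR : A ≤ R
      · exact ⟨g, by simpa [inf_eq_right.2 hAR] using hD hg, fun _ _ => rfl⟩
      set D := R ⊓ A
      have hRD : R ≤ N[D] := le_normalizer.trans hD
      set X := N[R] ⊓ C[D] ⊓ qc D C[qt D R]
      have x1 : X ≤ N[R] := inf_le_left.trans inf_le_left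
      have x2 : N[R] ≤ N[X] := le_norm_inf (le_norm_inf le_normalizer (le_norm_cent hD))
        (le_norm_qc hD (le_norm_cent (qt_le_norm le_rfl)))
      have x3 : ∀ Y ≤ N[R], Y ≤ qc D C[qt D R] ↔ ⁅Y, R⁆ ≤ D := fun Y hY => by
        rw [← qt_le_iff (hY.trans hD), qt_le_cent_iff (hY.trans hD) hRD]
      have x4 : piRes {p} X ≤ C[R] := piRes_le_iff'.2 fun y hy ho => by
        refine zpowers_le.1 (coprime_le_cent_of_stable (N := D) (zpowers_le.2 (x1 hy))
          (PiN.coprime' (piN_card_zpowers ho) (isPGroup_iff_piN.1 (S.2.to_le hR))) (Or.inl inferInstance) ?_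
          (zpowers_le.2 hy.1.2))
        rw [commutator_comm]; exact (x3 _ (zpowers_le.2 (x1 hy))).1 (zpowers_le.2 hy.2)
      have h2 := h1.inf_norm x1 (inf_le_right.trans x2)
      set T := (S : Subgroup G) ⊓ N[R] ⊓ X
      obtain ⟨k, hk, m, hm, rfl⟩ := h2.frattini (x2 hg)
      rw [← h2.piRes_sup] at hk
      obtain ⟨c, hc, s, hs, rfl⟩ := (mem_sup_of_norm' (h2.le.trans le_norm_piRes)).1 hk
      have hm' : m ∈ N[R] := by
        have := Subgroup.mul_mem _ (Subgroup.inv_mem _ (Subgroup.mul_mem _ (cent_le_norm _ (x4 hc)) hs.1.2)) hg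
        rwa [inv_mul_cancel_left] at this
      have hlt : R < T ⊔ R := by
        refine lt_of_le_of_ne le_sup_right fun e => ?_
        have l : R < A ⊔ R := lt_of_le_of_ne le_sup_right fun e => hAR (le_sup_left.trans e.ge)
        have nA : R ≤ N[A] := fun y hy => mem_norm_of_conj fun a ha =>
          hsc.2 a ha y (Subgroup.mul_mem _ (Subgroup.mul_mem _ (hR hy) (hsc.1 ha)) (Subgroup.inv_mem _ (hR hy)))
        obtain ⟨y, hy, hy'⟩ := SetLike.exists_of_lt (lt_inf_norm (nil_of_pg (S.2.to_le (sup_le hsc.1 hR))) l)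
        obtain ⟨a, ha, r, hr, rfl⟩ := (mem_sup_of_norm' nA).1 hy.1
        have ha' : a ∈ N[R] := by simpa using Subgroup.mul_mem _ hy.2 (Subgroup.inv_mem _ (le_normalizer hr))
        refine hy' (R.mul_mem (e.ge (mem_sup_left ⟨⟨hsc.1 ha, ha'⟩, ⟨ha', le_cent_of_comm hA inf_le_right ha⟩, ?_⟩)) hr)
        exact zpowers_le.1 ((x3 _ (zpowers_le.2 ha')).2 (le_inf (comm_le_right (zpowers_le.2 ha'))
          ((commutator_mono (zpowers_le.2 ha) le_rfl).trans (comm_le_left nA))))
      have hTR : T ⊔ R ≤ S := sup_le (inf_le_left.trans inf_le_left) hR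
      obtain ⟨x, hx, h3⟩ := ih _ (lt_of_lt_of_le (index_lt_of_lt hlt) hi) _ rfl (s * m) hTR (by
        rw [map_cj_eq (Subgroup.inv_mem _ (mem_norm_sup (Subgroup.mul_mem _ (le_normalizer hs) hm)
          (Subgroup.mul_mem _ hs.1.2 hm')))]
        exact hTR)
      refine ⟨x, hx, fun u hu => ?_⟩
      rw [← h3 u (mem_sup_right hu)]
      calc (c * s * m)⁻¹ * u * (c * s * m) = (s * m)⁻¹ * c⁻¹ * (u * c) * (s * m) := by group
        _ = _ := by rw [mem_cent_iff.1 (x4 hc) u hu]; group
    intro U hU g h1 h2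
    have hc := alperin hS n U hU g h1 h2
    clear h1 h2
    induction hc with
    | nil U => exact ⟨1, one_mem _, fun _ _ => rfl⟩
    | cons U Q x g _ h4 _ h6 h7 _ ih2 =>
      obtain ⟨y, hy, h8⟩ := loc _ (hU ▸ index_antitone h7) inf_le_left h4 x h6
      obtain ⟨z, hz, h9⟩ := ih2 (by rw [index_map_cj, hU])
      refine ⟨y * z, Subgroup.mul_mem _ hy hz, fun u hu => ?_⟩
      have := h9 _ (conj_mem_map_cj (g := x⁻¹) hu)
      rw [inv_inv] at this
      calc (x * g)⁻¹ * u * (x * g) = g⁻¹ * (x⁻¹ * u * x) * g := by group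
        _ = _ := by rw [this, h8 u (h7 hu)]; group
  refine ⟨S, hsc.1, fun B hB => ⟨hB, fun g hg => ?_⟩⟩
  obtain ⟨x, hx, h⟩ := main _ (closure B) rfl g⁻¹ ((closure_le _).2 hB) (by
    rw [inv_inv, MonoidHom.map_closure]; exact (closure_le _).2 hg)
  exact ⟨x⁻¹, Subgroup.inv_mem _ hx, fun a ha => by simpa using h a (subset_closure ha)⟩

end Cfsg.Agent.S2791
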