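import Cfsg.Statements.S2803
import Mathlib
import Cfsg.Agent.H9.FsAct

set_option autoImplicit false
open Cfsg

namespace Cfsg.Agent.S2803

/-- Let L be a finite group and p a prime with C_L(O_p(L)) ≤ O_p(L), T a Sylow p-subgroup, and Y the largest p-reduced normal subgroup of L. Put T_L = C_T(Y) and L_T = N_L(T_L). Then L = L_T · C_L(Y) (elementwise), T_L = O_p(L_T), and Y = Ω₁(Z(T_L)). -/
theorem result {L : Type*} [Group L] [Finite L] {p : ℕ} [Fact p.Prime] (hchar : Subgroup.centralizer (Cfsg.pCore p L : Set L) ≤ Cfsg.pCore p L) (T : Sylow p L) (Y : Subgroup L) (hY : (Cfsg.IsPReducedNormal p Y ∧ ∀ V : Subgroup L, Cfsg.IsPReducedNormal p V → V ≤ Y)) (TL : Subgroup L) (hTL : TL = (T : Subgroup L) ⊓ Subgroup.centralizer (Y : Set L)) : (∀ g : L, ∃ a ∈ Subgroup.normalizer (TL : Set L), ∃ c ∈ Subgroup.centralizer (Y : Set L), g = a * c) ∧ (Cfsg.pCore p ↥(Subgroup.normalizer (TL : Set L))).map (Subgroup.normalizer (TL : Set L)).subtype = TL ∧ Y = Cfsg.omegaOne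 p (TL ⊓ Subgroup.centralizer (TL : Set L)) := by
  open Subgroup CfsgH9 in
  have hL := chP_top_iff'.2 hchar
  have hT := syl_sylow T
  have e : Y = YL p ⊤ := le_antisymm (pred_top_iff.2 hY.1).le_YL (hY.2 _ (pred_top_iff.1 (pred_YL ⊤)))
  have hn : (⊤ : Subgroup L) ≤ normalizer (Y : Set L) := (pred_top_iff.2 hY.1).nm
  have hS := hT.inf_centralizer_normal hn
  rw [← hTL, top_inf_eq] at hS
  refine ⟨fun g => ?_, ?_, ?_⟩
  · obtain ⟨k, hk, n, hn', h⟩ := hS.frattini (le_normalizer_centralizer hn) (mem_top g⁻¹)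
    refine ⟨n⁻¹, inv_mem hn', k⁻¹, inv_mem hk, ?_⟩
    rw [← mul_inv_rev, ← h, inv_inv]
  · have h1 : (T : Subgroup L) ≤ normalizer (TL : Set L) := hTL ▸ le_normalizer_inf le_normalizer
      (le_normalizer_centralizer (le_top.trans hn))
    have := (YL_star hL hL hT hT (M := ⊤) rfl (R := normalizer (TL : Set L)) h1
      (by rw [← e, ← hTL]; simp) (by
        have := hT.sup_centralizer_eq hn
        rw [← hTL, top_inf_eq] at this
        rw [← e, this]; simp [dag])).2
    rw [← e, ← hTL] at this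
    exact this
  · have := YL_eq_OZ hL hT
    rw [← e, ← hTL] at this
    exact this

end Cfsg.Agent.S2803
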