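import Cfsg.Statements.S2806
import Mathlib
import Cfsg.Agent.H9.Loc

set_option autoImplicit false
open Cfsg

namespace Cfsg.Agent.S2806

/-- Let H be a finite group of local characteristic p, T a Sylow p-subgroup, and L₁, L₂ subnormal subgroups of H generating the subgroup L. Then the point stabilizer of L with respect to T ∩ L is generated by the point stabilizers of L₁ and L₂ with respect to T ∩ L₁ and T ∩ L₂ (point stabilizer of X w.r.t. R: the subgroup generated by the p-elements of X centralizing Ω₁(Z(R))). -/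
theorem result {H : Type*} [Group H] [Finite H] {p : ℕ} [Fact p.Prime] (hH : Cfsg.IsOfLocalCharacteristic p H) (T : Sylow p H) (L₁ L₂ : Subgroup H) (h₁ : L₁.IsSubnormal) (h₂ : L₂.IsSubnormal) : Cfsg.pointStabilizer p (L₁ ⊔ L₂) ((T : Subgroup H) ⊓ (L₁ ⊔ L₂)) = Cfsg.pointStabilizer p L₁ ((T : Subgroup H) ⊓ L₁) ⊔ Cfsg.pointStabilizer p L₂ ((T : Subgroup H) ⊓ L₂) := by
  open Subgroup CfsgH9 in
  have h := (locP_top_iff.1 hH).2
  have hT := syl_sylow T
  have key : ∀ L : Subgroup H, Sn L ⊤ → pointStabilizer p L ((T : Subgroup H) ⊓ L) =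
      Oupp p (L ⊓ centralizer (OZ p (T : Subgroup H) : Set H)) := by
    intro L hL
    change Oupp p (L ⊓ centralizer (OZ p ((T : Subgroup H) ⊓ L) : Set H)) = _
    by_cases h0 : (T : Subgroup H) ⊓ L = ⊥
    · have := (hT.inf_sn hL).eq_bot_iff.1 h0
      rw [Oupp_eq_bot_iff.2 (coprime_of_le inf_le_left this),
        Oupp_eq_bot_iff.2 (coprime_of_le inf_le_left this)]
    · rw [kieler_loc hL h hT h0]
  have s1 := sn_top_iff.2 h₁
  have s2 := sn_top_iff.2 h₂
  rw [key _ s1, key _ s2, key _ (s1.sup s2)]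
  refine le_antisymm (Oupp_le_iff.2 fun P a b => ?_) (sup_le (Oupp_mono (inf_le_inf_right _ le_sup_left))
    (Oupp_mono (inf_le_inf_right _ le_sup_right)))
  obtain ⟨U, u1, u2⟩ := exists_syl_ge b (a.trans inf_le_right)
  have u3 : Syl p U ⊤ := hT.of_card_le u1.pg le_top
    (u1.card_le hT.pg (le_centralizer_OZ _))
  refine (le_inf u2 (a.trans inf_le_left)).trans ?_
  rw [u3.inf_sup s1 s2]
  exact sup_le_sup (le_Oupp (le_inf inf_le_right (inf_le_left.trans u1.le)) u1.pg.to_inf_left)
    (le_Oupp (le_inf inf_le_right (inf_le_left.trans u1.le)) u1.pg.to_inf_left)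

end Cfsg.Agent.S2806
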