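import Cfsg.Statements.S2810
import Mathlib
import Cfsg.Agent.H9.FsAct

set_option autoImplicit false
open Cfsg

namespace Cfsg.Agent.S2810

/-- Let H be a finite group of characteristic p and L a subgroup of H centralizing every factor of some H-invariant chain 1 = A₀ ≤ A₁ ≤ … ≤ Aₙ = O_p(H) of normal subgroups (that is, [A_{i+1}, L] ≤ Aᵢ for each i). Then L ≤ O_p(H). -/
theorem result {H : Type*} [Group H] [Finite H] {p : ℕ} [Fact p.Prime] (hchar : Subgroup.centralizer (Cfsg.pCore p H : Set H) ≤ Cfsg.pCore p H) (L : Subgroup H) (n : ℕ) (A : Fin (n + 1) → Subgroup H) (h0 : A 0 = ⊥) (hn : A (Fin.last n) = Cfsg.pCore p H) (hmono : Monotone A) (hnorm : ∀ i, (A i).Normal) (hcent : ∀ i : Fin n, ⁅A i.succ, L⁆ ≤ A i.castSucc) : L ≤ Cfsg.pCore p H := by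
  open Subgroup CfsgH9 in
  have hc := chP_top_iff'.2 hchar
  set N := ncl ⊤ L
  let B : ℕ → Subgroup H := fun i => if h : i ≤ n then A ⟨n - i, by omega⟩ else ⊥
  have hB : ∀ i, ⁅B i, N⁆ ≤ B (i + 1) := by
    intro i
    by_cases h : i + 1 ≤ n
    · have h' : i ≤ n := by omega
      simp only [B, dif_pos h, dif_pos h']
      have := hcent ⟨n - (i + 1), by omega⟩
      have e1 : (⟨n - (i + 1), by omega⟩ : Fin n).succ = ⟨n - i, by omega⟩ := by
        ext; simp; omega
      rw [e1] at this
      haveI := hnorm ⟨n - i, by omega⟩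
      haveI := hnorm ⟨n - (i + 1), by omega⟩
      rw [commutator_comm]
      refine (le_Cmod_iff (le_normalizer_normal _ _) (le_normalizer_normal _ _)).1 (ncl_le
        ((le_Cmod_iff (le_normalizer_normal _ _) (le_normalizer_normal _ _)).2 ?_)
        (le_normalizer_Cmod (le_normalizer_normal _ _) (le_normalizer_normal _ _)))
      rwa [commutator_comm]
    · by_cases h' : i ≤ n
      · have : i = n := by omega
        subst this
        simp only [B, dif_pos h', Nat.sub_self]
        rw [show (⟨0, _⟩ : Fin (i + 1)) = 0 from rfl, h0]; simp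
      · simp only [B, dif_neg h']; simp
  have h := comm_Oup_le_of_chain (p := p) (V := Op p ⊤) (X := N) (Op_isPGroup p _)
    (le_normalizer_Op (le_normalizer_normal _ _)) (A := B) (by
      simp only [B, Nat.zero_le, dif_pos, Nat.sub_zero]
      rw [Op_top, ← hn]; rfl) hB n
  simp only [B, Nat.not_succ_le_self, dif_neg, not_false_eq_true, le_bot_iff] at h
  have h2 := Oup_eq_bot_iff.1 (hc.eq_bot le_top (comm_bot_symm h))
  exact (le_ncl _ _).trans (le_pCore (sn_ncl_self le_top) h2)

end Cfsg.Agent.S2810
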