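import Cfsg.Statements.S2813
import Mathlib
import Cfsg.Agent.H9.FsAct

set_option autoImplicit false
open Cfsg

namespace Cfsg.Agent.S2813

/-- Let K be a subgroup of the finite group H with O_p(K) = 1 and Y a p-subgroup of N_H(K) with [K, Y, Y] = 1. Then [K, Y] = 1. -/
theorem result {H : Type*} [Group H] [Finite H] {p : ℕ} [Fact p.Prime] (K : Subgroup H) (hO : Cfsg.pCore p ↥K = ⊥) (Y : Subgroup H) (hY : IsPGroup p ↥Y) (hYK : Y ≤ Subgroup.normalizer (K : Set H)) (hq : ⁅⁅K, Y⁆, Y⁆ = ⊥) : ⁅K, Y⁆ = ⊥ := by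
  open Subgroup CfsgH9 in
  have h0 : Op p K = ⊥ := by rw [Op, hO, Subgroup.map_bot]
  have h1 : ⁅Fs K, Y⁆ = ⊥ := by
    rw [← Fs_comm_comm h0 (Sn.refl _) hY (le_normalizer_Fs hYK)]
    exact comm_bot_mono hq (commutator_mono (Fs_le K) le_rfl) le_rfl
  have h2 : ⁅K, Y⁆ ≤ Fit K := le_trans (le_inf (commutator_le_left_of hYK) (le_trans
    (commutator_mono le_rfl (comm_bot_iff'.1 h1)) (commutator_le_right_of
      (le_normalizer_centralizer (le_normalizer_Fs le_normalizer))))) (centralizer_Fs_le_Fit K)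
  refine comm_bot_symm (comm_eq_bot_of_central (p := p) (Z := ⁅K, Y⁆)
    (le_antisymm (Oupp_le _) (le_Oupp le_rfl hY)) (commutator_comm _ _).le hq
    (coprime_of_le h2 (Fit_coprime h0)))

end Cfsg.Agent.S2813
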