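import Cfsg.Statements.S2814
import Mathlib
import Cfsg.Agent.H9.FsAct

set_option autoImplicit false
open Cfsg

namespace Cfsg.Agent.S2814

/-- Let A be a subgroup of the finite group H and K the subnormal closure of A (intersection of the subnormal subgroups containing A). Then K is the normal closure of A inside K and N_H(A) ≤ N_H(K); K = A·O^p(K), O^p(K) being generated by the elements of K of order prime to p; and if A is a p-group, O^p(K) = [O^p(K), A]. -/
theorem result {H : Type*} [Group H] [Finite H] {p : ℕ} [Fact p.Prime] (A : Subgroup H) (K : Subgroup H) (hK : K = Cfsg.subnormalClosure A) : (Subgroup.normalClosure ((A.subgroupOf K : Subgroup ↥K) : Set ↥K)).map K.subtype = K ∧ Subgroup.normalizer (A : Set H) ≤ Subgroup.normalizer (K : Set H) ∧ A ⊔ (Cfsg.pResidual p ↥K).map K.subtype = K ∧ (IsPGroup p ↥A → ⁅(Cfsg.pResidual p ↥K).map K.subtype, A⁆ = (Cfsg.pResidual p ↥K).map K.subtype) := by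
  open Subgroup CfsgH9 in
  rw [← snc_top] at hK
  have h1 : A ≤ K := hK ▸ le_snc _ _
  have h2 : ncl K A = K := hK ▸ ncl_snc le_top
  rw [map_normalClosure_subtype h1, Oup_eq]
  exact ⟨h2, hK ▸ le_normalizer_snc le_top (le_normalizer_normal _ _) le_rfl, sup_Oup_of_ncl h1 h2,
    comm_Oup_of_ncl h1 h2⟩

end Cfsg.Agent.S2814
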