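import Cfsg.Statements.S2815
import Mathlib
import Cfsg.Agent.H9.FsAct

set_option autoImplicit false
open Cfsg

namespace Cfsg.Agent.S2815

/-- Let H be a finite group and p a prime dividing its order with O_p(H) = 1, and suppose K = O^p(H) (generated by the elements of order prime to p) is quasisimple. Then K = F*(H); for every nontrivial p-subgroup Y of H, K = [K, Y] and K lies in the subgroup generated by the K-conjugates of Y; every normal subgroup of H not containing K has order prime to p; and H is p-irreducible. -/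
theorem result {H : Type*} [Group H] [Finite H] {p : ℕ} [Fact p.Prime] (hp : p ∣ Nat.card H) (hO : Cfsg.pCore p H = ⊥) (hq : Cfsg.IsQuasisimple ↥(Cfsg.pResidual p H)) : Cfsg.pResidual p H = Cfsg.generalizedFittingSubgroup H ∧ (∀ Y : Subgroup H, IsPGroup p ↥Y → Y ≠ ⊥ → ⁅Cfsg.pResidual p H, Y⁆ = Cfsg.pResidual p H ∧ Cfsg.pResidual p H ≤ ⨆ k : ↥(Cfsg.pResidual p H), Y.map (MulAut.conj (k : H)).toMonoidHom) ∧ (∀ C : Subgroup H, C.Normal → ¬ Cfsg.pResidual p H ≤ C → (Nat.card ↥C).Coprime p) ∧ Cfsg.IsPIrreducible p H := by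
  open Subgroup CfsgH9 in
  rw [← Oup_top] at *
  rw [← Op_top] at hO
  have hq' := qs_iff.2 hq
  have hc : Comp (Oup p (⊤ : Subgroup H)) ⊤ := ⟨sn_Oup _, hq'⟩
  have h1 : Oup p (⊤ : Subgroup H) = Fs ⊤ := by
    refine le_antisymm hc.le_Fs ?_
    rw [Fs_eq]
    exact sup_le (by rw [← Oup_Lay (p := p)]; exact Oup_mono le_top)
      (le_Oup le_top (Fit_coprime hO))
  have h2 : ∀ C : Subgroup H, C.Normal → ¬ Oup p ⊤ ≤ C → (Nat.card C).Coprime p := by
    intro C hC h
    obtain ⟨S, hS⟩ := exists_syl p C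
    refine hS.eq_bot_iff.1 (eq_bot_of_comm_Fs hO hS.pg le_top ?_)
    rw [← h1]
    exact comm_bot_mono ((hc.le_or_comm (Sn.of_normal_top C)).resolve_left h) le_rfl hS.le
  refine ⟨h1.trans Fs_top, fun Y a b => ?_, h2, pIrr_top_iff.1 ⟨fun a => ?_, fun N _ b c => ?_⟩⟩
  · have := (hq'.commutator_eq_or (U := Y) (le_normalizer_Oup (le_normalizer_normal _ _))).resolve_right
      fun e => b (eq_bot_of_comm_Fs hO a le_top (h1 ▸ e))
    refine ⟨this, ?_⟩
    rw [← ncl_eq_iSup, ncl_eq_sup_commutator, commutator_comm, this]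
    exact le_sup_right
  · have := a.coprime_of_Op_eq_bot hO
    rw [card_top] at this
    exact coprime_iff_not_dvd.1 this hp
  · by_contra d
    exact c (pCl_of_coprime (h2 N (normal_of_top_le b) d))

end Cfsg.Agent.S2815
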