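import Cfsg.Statements.S2816
import Mathlib
import Cfsg.Agent.H9.FsAct

set_option autoImplicit false
open Cfsg

namespace Cfsg.Agent.S2816

/-- Let H be a finite group and p a prime with O_p(H) = 1, and Y a p-subgroup of H. Then for every subnormal subgroup K of H containing Y, [F*(H), Y] = [F*(K), Y] = [F*(K), Y, Y]; and if Y₀ ≤ Y with [F*(H), Y, Y₀] = 1 then Y₀ = 1 (in particular [F*(H), Y] = 1 forces Y = 1). -/
theorem result {H : Type*} [Group H] [Finite H] {p : ℕ} [Fact p.Prime] (hO : Cfsg.pCore p H = ⊥) (Y : Subgroup H) (hY : IsPGroup p ↥Y) : (∀ K : Subgroup H, K.IsSubnormal → Y ≤ K → ⁅Cfsg.generalizedFittingSubgroup H, Y⁆ = ⁅(Cfsg.generalizedFittingSubgroup ↥K).map K.subtype, Y⁆ ∧ ⁅(Cfsg.generalizedFittingSubgroup ↥K).map K.subtype, Y⁆ = ⁅⁅(Cfsg.generalizedFittingSubgroup ↥K).map K.subtype, Y⁆, Y⁆) ∧ (∀ Y₀ : Subgroup H, Y₀ ≤ Y → ⁅⁅Cfsg.generalizedFittingSubgroup H, Y⁆, Y₀⁆ = ⊥ → Y₀ = ⊥) := by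
  open Subgroup CfsgH9 in
  rw [← Op_top] at hO
  rw [← Fs_top]
  have hn : Y ≤ normalizer (Fs (⊤ : Subgroup H) : Set H) := le_normalizer_Fs (le_normalizer_normal _ _)
  refine ⟨fun K a b => ⟨?_, ?_⟩, fun Y₀ a b => ?_⟩
  · have hK := sn_top_iff.2 a
    refine le_antisymm ?_ (commutator_mono (Fs_mono hK) le_rfl)
    have e := Fs_comm_comm hO (Sn.refl _) hY hn
    rw [← e]
    refine commutator_mono ?_ le_rfl
    change _ ≤ Fs K
    rw [Fs_of_sn hK]
    exact le_inf (commutator_le_left_of hn) (le_of_comm_eq_of_sn hK b le_top e)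
  · exact (Fs_comm_comm (Op_eq_bot_of_sn hO (sn_top_iff.2 a)) (Sn.refl _) hY
      (le_normalizer_Fs (b.trans le_normalizer))).symm
  · exact eq_bot_of_comm_comm_Fs hO (hY.to_le a) le_top
      (comm_bot_mono b (commutator_mono le_rfl a) le_rfl)

end Cfsg.Agent.S2816
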