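import Cfsg.Statements.S2817
import Mathlib
import Cfsg.Agent.H9.FsAct

set_option autoImplicit false
open Cfsg

namespace Cfsg.Agent.S2817

/-- Let H be a finite group and p a prime with O_p(H) = 1, Q a p-subgroup of H, L = [F*(H), Q], and F the largest normal subgroup of F*(H) centralized by Q (a normal subgroup of F*(H) centralized by Q and containing every such). Then F = C_{F*(H)}(LQ); L = [L, Q]; L ∩ F ≤ Φ(L); every p-subgroup B of N_H(Q) with [L, B] ≤ F satisfies [L, B] = 1; and C_H(FL) has order prime to p. -/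
theorem result {H : Type*} [Group H] [Finite H] {p : ℕ} [Fact p.Prime] (hO : Cfsg.pCore p H = ⊥) (Q : Subgroup H) (hQ : IsPGroup p ↥Q) (L : Subgroup H) (hL : L = ⁅Cfsg.generalizedFittingSubgroup H, Q⁆) (F : Subgroup H) (hF : F ≤ Cfsg.generalizedFittingSubgroup H ∧ Cfsg.generalizedFittingSubgroup H ≤ Subgroup.normalizer (F : Set H) ∧ Q ≤ Subgroup.centralizer (F : Set H) ∧ ∀ N : Subgroup H, N ≤ Cfsg.generalizedFittingSubgroup H → Cfsg.generalizedFittingSubgroup H ≤ Subgroup.normalizer (N : Set H) → Q ≤ Subgroup.centralizer (N : Set H) → N ≤ F) : F = Cfsg.generalizedFittingSubgroup H ⊓ Subgroup.centralizer ((L ⊔ Q : Subgroup H) : Set H) ∧ ⁅L, Q⁆ = L ∧ L ⊓ F ≤ (frattini ↥L).map L.subtype ∧ (∀ B : Subgroup H, IsPGroup p ↥B → B ≤ Subgroup.normalizer (Q : Set H) → ⁅L, B⁆ ≤ F → ⁅L, B⁆ = ⊥) ∧ (Nat.card ↥(Subgroup.centralizer ((F ⊔ L : Subgroup H) : Set H))).Coprime p := by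
  open Subgroup CfsgH9 in
  rw [← Op_top] at hO
  rw [← Fs_top] at *
  set X := Fs (⊤ : Subgroup H)
  have hX : ∀ A : Subgroup H, A ≤ normalizer (X : Set H) := fun A =>
    le_normalizer_Fs (le_normalizer_normal _ _)
  obtain ⟨f1, f2, f3, f4⟩ := hF
  have hLX : L ≤ X := hL ▸ commutator_le_left_of (hX Q)
  have hXL : X ≤ normalizer (L : Set H) := hL ▸ le_normalizer_comm_left _ _
  have hQL : Q ≤ normalizer (L : Set H) := hL ▸ le_normalizer_comm_right _ _
  have e : L ⊔ Q = ncl X Q := by rw [ncl_eq_sup_commutator, commutator_comm, hL, sup_comm]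
  have h1 : F = X ⊓ centralizer ((L ⊔ Q : Subgroup H) : Set H) := by
    refine le_antisymm (le_inf f1 ?_) (f4 _ inf_le_left (le_normalizer_inf le_normalizer
      (le_normalizer_centralizer (e ▸ le_normalizer_ncl _ _))) ?_)
    · rw [e]; exact comm_bot_iff'.1 (ncl_comm (comm_bot_iff.2 f3) f2)
    · exact le_centralizer_comm.1 (inf_le_right.trans (centralizer_anti le_sup_right))
  have hs : Sn L X := Sn.of_normal hLX hXL
  have h2 : ⁅L, Q⁆ = L := by rw [hL]; exact Fs_comm_comm hO (Sn.refl _) hQ (hX Q)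
  have hFL : F ≤ centralizer (L : Set H) :=
    h1 ▸ inf_le_right.trans (centralizer_anti le_sup_left)
  have h3 : L ⊓ F ≤ CfsgH1.frattiniOf L := by
    refine center_inf_commutator_le_frattiniOf ?_ (comm_bot_iff.2 (inf_le_right.trans hFL))
    have n1 : L ≤ normalizer ((⁅L, L⁆ : Subgroup H) : Set H) := le_normalizer_comm_left _ _
    have n2 : Q ≤ normalizer ((⁅L, L⁆ : Subgroup H) : Set H) := le_normalizer_commutator hQL hQL
    haveI : IsMulCommutative (im (qn ⁅L, L⁆) L) :=
      isMulCommutative_iff_comm.2 ((im_qn_comm_iff n1 n1).2 le_rfl)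
    have c : (Nat.card (im (qn ⁅L, L⁆) L)).Coprime p := by
      refine coprime_of_le ((im_qn_le_iff n1 ((Fit_le L).trans n1)).2 ?_) (coprime_im
        ((Fit_le L).trans n1) (Fit_coprime (Op_eq_bot_of_sn hO (hs.trans (sn_Fs _)))))
      conv_lhs => rw [← Fs_eq_self_of_sn hs, Fs_eq, sup_comm]
      exact sup_le_sup_left ((Lay_perfect L).ge.trans (commutator_mono (Lay_le L) (Lay_le L))) _
    have := CfsgH1.coprime_inf_commutator (V := im (qn ⁅L, L⁆) L) (im_le_normalizer hQL)
      (coprime_card_of_p c (isPGroup_im hQ)).symm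
    rw [← im_commutator n1 n2, h2] at this
    rw [← im_qn_eq_bot (inf_le_left.trans n1), eq_bot_iff, ← this]
    refine le_inf (le_inf (im_mono inf_le_left) (comm_bot_iff.1 ?_)) (im_mono inf_le_left)
    rw [im_qn_comm_iff (inf_le_left.trans n1) n2, comm_bot_iff'.2
      (f3.trans (centralizer_anti inf_le_right))]
    exact bot_le
  refine ⟨h1, h2, h3, fun B b1 b2 b3 => ?_, ?_⟩
  · have n : B ≤ normalizer (L : Set H) := hL ▸ le_normalizer_commutator (hX B) b2
    have := CfsgH1.eq_of_sup_le_frattiniOf ((le_inf (commutator_le_left_of n) b3).trans h3)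
      (Fs_splits' hO hs b1 n)
    exact comm_bot_iff.2 (this.ge.trans inf_le_right)
  · obtain ⟨P, hP⟩ := exists_syl p (centralizer ((F ⊔ L : Subgroup H) : Set H))
    refine hP.eq_bot_iff.1 (eq_bot_of_comm_comm_Fs hO hP.pg le_top ?_)
    have a : ⁅L, P⁆ = ⊥ := comm_bot_iff'.2 (hP.le.trans (centralizer_anti le_sup_right))
    have b : ⁅X, P⁆ ≤ X ⊓ centralizer (L : Set H) := by
      refine le_inf (commutator_le_left_of (hX P)) (comm_bot_iff.1 ?_)
      refine commutator_commutator_eq_bot_of_rotate (by rw [commutator_comm P, a]; simp) ?_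
      exact comm_bot_mono a (commutator_le_left_of hXL) le_rfl
    have n : Q ≤ normalizer ((X ⊓ centralizer (L : Set H) : Subgroup H) : Set H) :=
      le_normalizer_inf (hX Q) (le_normalizer_centralizer hQL)
    have c := Fs_splits' hO (sn_inf_centralizer hXL) hQ n
    refine comm_bot_iff'.2 (hP.le.trans (centralizer_anti (b.trans (c.ge.trans ?_))))
    rw [sup_comm]
    refine sup_le_sup ?_ (hL ▸ commutator_mono inf_le_left le_rfl)
    rw [h1, centralizer_sup, inf_assoc]

end Cfsg.Agent.S2817
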