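import Cfsg.Statements.S2819
import Mathlib
import Cfsg.Agent.H9.FsAct

set_option autoImplicit false
open Cfsg

namespace Cfsg.Agent.S2819

/-- Let P be a finite p-subgroup of a group G, H a subgroup of N_G(P), and Y a subgroup of H centralizing the derived subgroup P' such that [P, Y] is elementary abelian. Then O^p(⟨Y^H⟩), the subgroup of the normal closure of Y in H generated by its elements of order prime to p, centralizes the Frattini subgroup of P. -/
theorem result {G : Type*} [Group G] [Finite G] {p : ℕ} [Fact p.Prime] (P : Subgroup G) (hP : IsPGroup p ↥P) (H : Subgroup G) (hH : H ≤ Subgroup.normalizer (P : Set G)) (Y : Subgroup G) (hYH : Y ≤ H) (hYc : Y ≤ Subgroup.centralizer ((⁅P, P⁆ : Subgroup G) : Set G)) (hel : Cfsg.IsElementaryAbelian p ⁅P, Y⁆) (NY : Subgroup G) (hNY : NY = (Subgroup.normalClosure ((Y.subgroupOf H : Subgroup ↥H) : Set ↥H)).map H.subtype) : (Cfsg.pResidual p ↥NY).map NY.subtype ≤ Subgroup.centralizer (((frattini ↥P).map P.subtype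 : Subgroup G) : Set G) := by
  open Subgroup CfsgH9 in
  rw [map_normalClosure_subtype hYH] at hNY
  rw [Oup_eq]
  have n1 : P ≤ normalizer ((⁅P, P⁆ : Subgroup G) : Set G) := le_normalizer_comm_left _ _
  have n2 : H ≤ normalizer ((⁅P, P⁆ : Subgroup G) : Set G) := le_normalizer_commutator hH hH
  have n3 : H ≤ normalizer (CfsgH1.frattiniOf P : Set G) :=
    hH.trans (CfsgH1.normalizer_le_normalizer_frattiniOf P)
  have hF := CfsgH1.frattiniOf_le P
  have hN : NY ≤ H := hNY ▸ ncl_le_of_le hYH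
  have h1 : ⁅CfsgH1.frattiniOf P, Y⁆ ≤ ⁅P, P⁆ := by
    rw [← im_qn_comm_iff (hF.trans n1) (hYH.trans n2)]
    refine comm_bot_mono (frattiniOf_comm_of_le_OZ (isPGroup_im hP) ?_)
      (im_frattiniOf_le hP n1) le_rfl
    rw [← im_commutator n1 (hYH.trans n2)]
    have a := commutator_le_left_of (hYH.trans hH)
    exact ea_le_OZ (im_mono a) ((im_qn_comm_iff (a.trans n1) n1).2 (commutator_mono a le_rfl))
      (ea_im _ hel)
  have h2 : ⁅CfsgH1.frattiniOf P, NY⁆ ≤ ⁅P, P⁆ := by
    rw [commutator_comm] at h1 ⊢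
    refine (le_Cmod_iff (hN.trans n2) (hF.trans n1)).1 ?_
    rw [hNY]
    exact ncl_le ((le_Cmod_iff (hYH.trans n2) (hF.trans n1)).2 h1) (le_normalizer_Cmod n2 n3)
  have h3 : ⁅NY, ⁅P, P⁆⁆ = ⊥ := hNY ▸ ncl_comm (comm_bot_iff.2 hYc) n2
  refine comm_bot_iff'.1 (comm_Oup_eq_bot (hP.to_le hF) (hN.trans n3) ?_)
  exact comm_bot_mono (comm_bot_symm h3) ((commutator_mono le_rfl (Oup_le _)).trans h2) (Oup_le _)

end Cfsg.Agent.S2819
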