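import Cfsg.Statements.S2820
import Mathlib
import Cfsg.Agent.H9.FsAct

set_option autoImplicit false
open Cfsg

namespace Cfsg.Agent.S2820

/-- Let A and B be subnormal subgroups of the finite group H with A a p-group and B = O^p(B) (B generated by its elements of order prime to p). Then A normalizes B and B = O^p(AB), the subgroup of ⟨A, B⟩ generated by its elements of order prime to p. -/
theorem result {H : Type*} [Group H] [Finite H] {p : ℕ} [Fact p.Prime] (A B : Subgroup H) (hA : A.IsSubnormal) (hB : B.IsSubnormal) (hAp : IsPGroup p ↥A) (hBres : (Cfsg.pResidual p ↥B).map B.subtype = B) : A ≤ Subgroup.normalizer (B : Set H) ∧ (Cfsg.pResidual p ↥(A ⊔ B)).map (A ⊔ B).subtype = B := by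
  open Subgroup CfsgH9 in
  rw [Oup_eq] at *
  have h1 := le_Op (sn_top_iff.2 hA) hAp
  have h2 := sn_top_iff.2 hB
  refine ⟨?_, by rw [Oup_sup_of_le_Op h2 h1, hBres]⟩
  rw [← hBres]
  exact h1.trans (Op_le_normalizer_Oup h2)

end Cfsg.Agent.S2820
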