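import Cfsg.Statements.S2823
import Mathlib
import Cfsg.Agent.H9.FsAct

set_option autoImplicit false
open Cfsg

namespace Cfsg.Agent.S2823

/-- Let H be a finite group, p a prime, T a Sylow p-subgroup and L a subgroup of characteristic p containing T; let Z_L be the subgroup generated by the Ω₁(Z(S)) over the Sylow p-subgroups S of L and O^p(L) the subgroup generated by the elements of L of order prime to p. Then Z_L = Ω₁(Z(L))·[Z_L, O^p(L)] and [Z_L, L] = [Z_L, O^p(L)]. -/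
theorem result {H : Type*} [Group H] [Finite H] {p : ℕ} [Fact p.Prime] (T : Sylow p H) (L : Subgroup H) (hTL : (T : Subgroup H) ≤ L) (hL : Subgroup.centralizer (Cfsg.pCore p ↥L : Set ↥L) ≤ Cfsg.pCore p ↥L) : Cfsg.sylowCenterClosure p L = (Cfsg.omegaOne p (L ⊓ Subgroup.centralizer ((L : Subgroup H) : Set H))) ⊔ ⁅Cfsg.sylowCenterClosure p L, (Cfsg.pResidual p ↥L).map L.subtype⁆ ∧ ⁅Cfsg.sylowCenterClosure p L, L⁆ = ⁅Cfsg.sylowCenterClosure p L, (Cfsg.pResidual p ↥L).map L.subtype⁆ := by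
  open Subgroup CfsgH9 in
  have hc := chP_iff_sub.2 hL
  rw [Oup_eq]
  set Z := Cfsg.sylowCenterClosure p L
  have hZ : Cfsg.IsElementaryAbelian p Z := ea_of_le (ea_OZ _) hc.scc_le_OZ
  have hZL : Z ≤ L := scc_le
  have hn : L ≤ normalizer (Z : Set H) := le_normalizer_scc le_normalizer
  have hT := (syl_sylow T).of_le hTL le_top
  have hW : ⁅Z, Oup p L⁆ ≤ Z := commutator_le_left_of ((Oup_le _).trans hn)
  have h1 : OZ p L ≤ Z := by
    refine le_trans ?_ hT.OZ_le_scc
    refine ea_le_OZ (le_trans ?_ hT.Op_le) (comm_bot_mono (OZ_comm L) le_rfl hTL) (ea_OZ _)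
    exact le_Op (Sn.of_normal (OZ_le _) (le_normalizer_OZ le_normalizer)) (ea_isPGroup (ea_OZ _))
  have h2 : Z = OZ p L ⊔ ⁅Z, Oup p L⁆ := by
    refine le_antisymm (scc_le_iff.2 fun P hP => ?_) (sup_le h1 hW)
    rw [OZ_eq_sup hP hZ hZL hn hP.OZ_le_scc]
    exact sup_le_sup (ea_inf_centralizer_le_OZ hZ hZL) inf_le_left
  refine ⟨h2, le_antisymm ?_ (commutator_mono le_rfl (Oup_le _))⟩
  have a : L ≤ normalizer ((⁅Z, Oup p L⁆ : Subgroup H) : Set H) :=
    le_normalizer_commutator hn (le_normalizer_Oup le_normalizer)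
  conv_lhs => rw [h2]
  exact commutator_sup_le ((OZ_le _).trans a) le_normalizer (by rw [OZ_comm]; exact bot_le)
    (commutator_le_left_of a)

end Cfsg.Agent.S2823
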