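import Cfsg.Statements.S2824
import Mathlib
import Cfsg.Agent.H9.FsAct

set_option autoImplicit false
open Cfsg

namespace Cfsg.Agent.S2824

/-- Let H be a finite group, p a prime, T a Sylow p-subgroup, L and M subgroups of characteristic p containing T, Y_L the largest p-reduced normal subgroup of L and T₀ = C_T(Y_L). If M·C_H(Y_L) = L·C_H(Y_L), then L* := N_M(T₀) has Y_{L*} = Y_L and L·C_H(Y_L) = L*·C_H(Y_L). -/
theorem result {H : Type*} [Group H] [Finite H] {p : ℕ} [Fact p.Prime] (T : Sylow p H) (L M : Subgroup H) (hTL : (T : Subgroup H) ≤ L) (hTM : (T : Subgroup H) ≤ M) (hL : Subgroup.centralizer (Cfsg.pCore p ↥L : Set ↥L) ≤ Cfsg.pCore p ↥L) (hM : Subgroup.centralizer (Cfsg.pCore p ↥M : Set ↥M) ≤ Cfsg.pCore p ↥M) (T₀ : Subgroup H) (hT₀ : T₀ = (T : Subgroup H) ⊓ Subgroup.centralizer (((Cfsg.largestPReducedOf p L) : Subgroup H) : Set H)) (hfac : M ⊔ Subgroup.centralizer (((Cfsg.largestPReducedOf p L) : Subgroup H) : Set H) = L ⊔ Subgroup.centralizer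 (((Cfsg.largestPReducedOf p L) : Subgroup H) : Set H)) (Ls : Subgroup H) (hLs : Ls = M ⊓ Subgroup.normalizer ((T₀ : Subgroup H) : Set H)) : (Cfsg.largestPReducedOf p Ls) = (Cfsg.largestPReducedOf p L) ∧ L ⊔ Subgroup.centralizer (((Cfsg.largestPReducedOf p L) : Subgroup H) : Set H) = Ls ⊔ Subgroup.centralizer (((Cfsg.largestPReducedOf p L) : Subgroup H) : Set H) := by
  open Subgroup CfsgH9 in
  have hTL' := (syl_sylow T).of_le hTL le_top
  have hTM' := (syl_sylow T).of_le hTM le_top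
  have hn : M ≤ normalizer (YL p L : Set H) := le_sup_left.trans (hfac.le.trans (dag_le L))
  have h1 := hTM'.sup_centralizer_eq hn
  rw [← hT₀, ← hLs, hfac] at h1
  refine ⟨(YL_star (chP_iff_sub.2 hL) (chP_iff_sub.2 hM) hTL' hTM' hfac (R := Ls) ?_ ?_ h1).1, h1.symm⟩
  · rw [hLs, hT₀]
    exact le_inf hTM (le_normalizer_inf le_normalizer (le_normalizer_centralizer (hTM.trans hn)))
  · rw [hLs, hT₀]

end Cfsg.Agent.S2824
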