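import Cfsg.Statements.S2825
import Mathlib
import Cfsg.Agent.H9.FsAct

set_option autoImplicit false
open Cfsg

namespace Cfsg.Agent.S2825

/-- Let L be a subnormal subgroup of the finite group H, p a prime, Y_H and Y_L the largest p-reduced normal subgroups. Then Y_H ∩ L = Y_H ∩ Y_L and this subgroup is a p-reduced normal subgroup of L; C_L(Y_L) = C_L(Y_H) = C_L(Y_H ∩ L); and if O^p(H) ≤ L, then [Y_L, L] = 1 if and only if [Y_H, H] = 1. -/
theorem result {H : Type*} [Group H] [Finite H] {p : ℕ} [Fact p.Prime] (L : Subgroup H) (hL : L.IsSubnormal) : Cfsg.largestPReduced p H ⊓ L = Cfsg.largestPReduced p H ⊓ (Cfsg.largestPReducedOf p L) ∧ Cfsg.IsPReducedNormal p ((Cfsg.largestPReduced p H ⊓ L).subgroupOf L) ∧ L ⊓ Subgroup.centralizer ((Cfsg.largestPReducedOf p L : Subgroup H) : Set H) = L ⊓ Subgroup.centralizer (Cfsg.largestPReduced p H : Set H) ∧ L ⊓ Subgroup.centralizer (Cfsg.largestPReduced p H : Set H) = L ⊓ Subgroup.centralizer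 ((Cfsg.largestPReduced p H ⊓ L : Subgroup H) : Set H) ∧ (Cfsg.pResidual p H ≤ L → (⁅(Cfsg.largestPReducedOf p L), L⁆ = ⊥ ↔ ⁅Cfsg.largestPReduced p H, (⊤ : Subgroup H)⁆ = ⊥)) := by
  open Subgroup CfsgH9 in
  have hs := sn_top_iff.2 hL
  rw [← YL_top, ← Oup_top]
  have h1 := (pred_YL (p := p) (⊤ : Subgroup H)).inf hs
  have h2 := (pred_YL (p := p) (⊤ : Subgroup H)).centralizer_inf hs
  have h3 : L ⊓ centralizer (YL p L : Set H) = L ⊓ centralizer (YL p (⊤ : Subgroup H) : Set H) :=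
    le_antisymm ((inf_le_inf_left _ (centralizer_anti h1.le_YL)).trans h2.ge)
      (le_inf inf_le_left (centralizer_YL_sn hs))
  refine ⟨le_antisymm (le_inf inf_le_left h1.le_YL) (inf_le_inf_left _ (YL_le L)),
    (pred_iff_subgroupOf h1.le).1 h1, h3, h2, fun h => ⟨fun a => ?_, fun a => ?_⟩⟩
  · refine comm_bot_iff'.2 (red_YL ⊤ ⊤ (Sn.refl _) (h.trans ?_))
    exact (le_inf le_rfl (comm_bot_iff'.1 a)).trans (h3.le.trans inf_le_right)
  · exact comm_bot_iff'.2 ((le_inf le_rfl (le_top.trans (comm_bot_iff'.1 a))).trans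
      (h3.ge.trans inf_le_right))

end Cfsg.Agent.S2825
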