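import Cfsg.Statements.S2832
import Mathlib
import Cfsg.Agent.H9.WC

set_option autoImplicit false
open Cfsg

namespace Cfsg.Agent.S2832

/-- Let H be a finite group with Sylow p-subgroup T such that H is T-minimal (generated by the conjugates of T, with T in exactly one maximal subgroup), and let N be a normal subgroup of H. Then either H/N is a p-group or H/N is minimal over the image of T in the same sense. -/
theorem result {H : Type*} [Group H] [Finite H] {p : ℕ} [Fact p.Prime] (T : Sylow p H) (hmin : Cfsg.IsMinimalOver (T : Subgroup H)) (N : Subgroup H) [N.Normal] : IsPGroup p (H ⧸ N) ∨ Cfsg.IsMinimalOver ((T : Subgroup H).map (QuotientGroup.mk' N)) := by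
  open Subgroup CfsgH9 in
  obtain ⟨h1, M, h2⟩ := minO_top_iff.2 hmin
  rcases h2.Oup_le_or (syl_sylow T) le_top (le_normalizer_normal _ N) with h | h
  · right
    rw [← minO_top_iff, ← im_tf, ← im_tf_mk_top]
    exact ⟨by rw [← im_ncl le_top le_rfl, h1], _, h2.im le_rfl (by rwa [kr_tf_mk, inf_top_eq])⟩
  · left
    rw [Oup_le_iff_isPGroup_map, map_top_of_surjective _ (QuotientGroup.mk'_surjective N)] at h
    exact h.of_equiv topEquiv

end Cfsg.Agent.S2832
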