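import Cfsg.Statements.S2833
import Mathlib
import Cfsg.Agent.H9.WC

set_option autoImplicit false
open Cfsg

namespace Cfsg.Agent.S2833

/-- Let V be a subgroup of a finite group G normalized by the subgroup L, let X ≤ L and g ∈ L with [V, X, X] = 1 and L generated by X and gXg⁻¹. Put W = [V, L]. Then W = [V, X]·[V, gXg⁻¹], C_W(X) = [V, X], and C_W(L) = [V, X] ∩ [V, gXg⁻¹]. -/
theorem result {G : Type*} [Group G] [Finite G] (V L : Subgroup G) (hLV : L ≤ Subgroup.normalizer (V : Set G)) (X : Subgroup G) (hX : X ≤ L) (g : G) (hg : g ∈ L) (hq : ⁅⁅V, X⁆, X⁆ = ⊥) (hgen : X ⊔ X.map (MulAut.conj g).toMonoidHom = L) (W : Subgroup G) (hW : W = ⁅V, L⁆) : ⁅V, X⁆ ⊔ ⁅V, X.map (MulAut.conj g).toMonoidHom⁆ = W ∧ W ⊓ Subgroup.centralizer (X : Set G) = ⁅V, X⁆ ∧ W ⊓ Subgroup.centralizer (L : Set G) = ⁅V, X⁆ ⊓ ⁅V, X.map (MulAut.conj g).toMonoidHom⁆ := by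
  open Subgroup CfsgH9 in
  have hg' := cj_eq_of_mem_normalizer (hLV hg)
  change X ⊔ cj g X = L at hgen
  change ⁅V, X⁆ ⊔ ⁅V, cj g X⁆ = W ∧ _ ∧ _ = ⁅V, X⁆ ⊓ ⁅V, cj g X⁆
  have hX' : cj g X ≤ L := cj_le_of_mem hg hX
  have e : ⁅V, cj g X⁆ = cj g ⁅V, X⁆ := by rw [cj_commutator, hg']
  have a := commutator_le_left_of (hX.trans hLV)
  have b := commutator_le_left_of (hX'.trans hLV)
  have h1 : ⁅V, X⁆ ⊔ ⁅V, cj g X⁆ = W := by
    rw [hW]
    refine le_antisymm (sup_le (commutator_mono le_rfl hX) (commutator_mono le_rfl hX')) ?_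
    rw [← hgen]
    exact commutator_sup_le' (le_normalizer_of_commutator_le le_sup_left
      (commutator_mono (sup_le a b) le_rfl)) (le_normalizer_of_commutator_le le_sup_right
      (commutator_mono (sup_le a b) le_rfl)) le_sup_left le_sup_right
  have c : ⁅V, X⁆ ≤ centralizer (X : Set G) := comm_bot_iff.1 hq
  have h2 : W ⊓ centralizer (X : Set G) = ⁅V, X⁆ := by
    rw [← h1, inf_sup_of_le_normalizer (a.trans (le_normalizer_comm_left _ _)) c, sup_eq_left]
    intro x hx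
    have d : x ∈ centralizer (L : Set G) := by
      rw [← hgen, centralizer_sup, ← cj_centralizer]
      exact ⟨hx.2, cj_mono g c (e ▸ hx.1)⟩
    have := (mem_inf.1 hx).1
    rw [e, mem_cj, mul_assoc, ← mem_centralizer_iff.1 d g hg] at this
    simpa using this
  refine ⟨h1, h2, ?_⟩
  have h3 : W ⊓ centralizer (cj g X : Set G) = ⁅V, cj g X⁆ := by
    rw [e, ← h2, cj_inf, cj_centralizer, cj_eq_of_mem_normalizer
      (hW ▸ le_normalizer_comm_right V L hg : g ∈ normalizer (W : Set G))]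
  rw [← h2, ← h3, ← hgen, centralizer_sup, inf_inf_distrib_left]

end Cfsg.Agent.S2833
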