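import Cfsg.Statements.S2835
import Mathlib
import Cfsg.Agent.H9.WC

set_option autoImplicit false
open Cfsg

namespace Cfsg.Agent.S2835

/-- Let L be a finite group, L₀ a maximal subgroup, T a Sylow p-subgroup of L₀ and Y ≤ T, and suppose L is Y-minimal (generated by the conjugates of Y, with Y in exactly one maximal subgroup, necessarily L₀). Then N_L(T) ≤ L₀, O_p(L) ≤ L₀ and T is a Sylow p-subgroup of L; N_L(L₀) = L₀; L = ⟨Y, gYg⁻¹⟩ for each g ∈ L outside L₀; and if Y is abelian then Y ∩ gYg⁻¹ = C_Y(L) for each such g. -/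
theorem result {L : Type*} [Group L] [Finite L] {p : ℕ} [Fact p.Prime] (L₀ : Subgroup L) (hL₀ : IsCoatom L₀) (T : Sylow p ↥L₀) (Y : Subgroup L) (hYT : Y ≤ (T : Subgroup ↥L₀).map L₀.subtype) (hmin : Cfsg.IsMinimalOver Y) : Subgroup.normalizer (((T : Subgroup ↥L₀).map L₀.subtype : Subgroup L) : Set L) ≤ L₀ ∧ Cfsg.pCore p L ≤ L₀ ∧ (∃ P : Sylow p L, (P : Subgroup L) = (T : Subgroup ↥L₀).map L₀.subtype) ∧ Subgroup.normalizer (L₀ : Set L) = L₀ ∧ (∀ g : L, g ∉ L₀ → Y ⊔ Y.map (MulAut.conj g).toMonoidHom = ⊤) ∧ (IsMulCommutative ↥Y → ∀ g : L, g ∉ L₀ → Y ⊓ Y.map (MulAut.conj g).toMonoidHom = Y ⊓ Subgroup.center L) := by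
  open Subgroup CfsgH9 in
  obtain ⟨h1, h2⟩ := minO_top_iff.2 hmin
  have hT := syl_of_sylow T
  have u := um_of_isCoatom h2 hL₀ (hYT.trans hT.le)
  have hS := u.syl h1 hT hYT
  refine ⟨by simpa using u.normalizer_le h1 hYT (hT.le.trans_lt u.lt), ?_, hS.exists_sylow_top,
    by simpa using u.normalizer_inf h1, fun g hg => u.sup_cj h1 (mem_top g) hg, fun a g hg => ?_⟩
  · rw [← Op_top]; exact hS.Op_le.trans hT.le
  · have b := comm_bot_iff.1 (isMulCommutative_iff_comm.1 a)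
    refine le_antisymm (le_inf inf_le_left ?_) (le_inf inf_le_left fun x hx => ?_)
    · rw [← centralizer_univ, ← coe_top, ← u.sup_cj h1 (mem_top g) hg, centralizer_sup,
        ← cj_centralizer]
      exact inf_le_inf b (cj_mono g b)
    · refine mem_cj.2 ?_
      rw [mul_assoc, ← mem_center_iff.1 hx.2 g]
      simpa using hx.1

end Cfsg.Agent.S2835
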