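import Cfsg.Statements.S2836
import Mathlib
import Cfsg.Agent.H9.WC

set_option autoImplicit false
open Cfsg

namespace Cfsg.Agent.S2836

section
open Subgroup CfsgH9

theorem aux {G : Type*} [Group G] [Finite G] {p : ℕ} [Fact p.Prime] {T M N : Subgroup G}
    (h : UM T M ⊤) (hT : Syl p T ⊤) [N.Normal] (h1 : N ≤ M) (h2 : (Nat.card N).Coprime p) :
    N ≤ frattini G := by
  refine CfsgH1.le_frattini_iff.2 fun K hK => ?_
  by_contra hc
  have e := CfsgH1.sup_eq_top_of_isCoatom hK hc
  obtain ⟨S, hS⟩ := exists_syl p K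
  have a : Syl p S ⊤ := hS.trans le_top (by
    rw [← e, sup_comm]
    exact fun d => coprime_iff_not_dvd.1 h2 (d.trans (relIndex_sup_dvd (le_normalizer_normal _ _))))
  obtain ⟨g, -, b⟩ := hT.conj a
  have u := h.cj g
  rw [b, cj_top] at u
  exact u.lt.not_ge (e ▸ sup_le (cj_normal g N ▸ cj_mono g h1) (u.max K hS.le hK.1.lt_top))

end

/-- Let L be a finite group, L₀ a maximal subgroup, T a Sylow p-subgroup of L₀, Y ≤ T, and suppose L is Y-minimal. Let D be the intersection of the conjugates of L₀ (the core of L₀). Then D contains O_p(L) and D/O_p(L) is the Frattini subgroup of L/O_p(L), so D is p-closed; and every normal subgroup N of L contained in L₀ is p-closed with N/O_p(N) a nilpotent group of order prime to p. -/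
theorem result {L : Type*} [Group L] [Finite L] {p : ℕ} [Fact p.Prime] (L₀ : Subgroup L) (hL₀ : IsCoatom L₀) (T : Sylow p ↥L₀) (Y : Subgroup L) (hYT : Y ≤ (T : Subgroup ↥L₀).map L₀.subtype) (hmin : Cfsg.IsMinimalOver Y) : (Cfsg.pCore p L ≤ L₀.normalCore ∧ (L₀.normalCore).map (QuotientGroup.mk' (Cfsg.pCore p L)) = frattini (L ⧸ Cfsg.pCore p L) ∧ Cfsg.IsPClosed p ↥(L₀.normalCore)) ∧ ∀ (N : Subgroup L) [N.Normal], N ≤ L₀ → Cfsg.IsPClosed p ↥N ∧ Group.IsNilpotent (↥N ⧸ Cfsg.pCore p ↥N) ∧ (Nat.card (↥N ⧸ Cfsg.pCore p ↥N)).Coprime p := by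
  open Subgroup CfsgH9 in
  obtain ⟨h1, h2⟩ := minO_top_iff.2 hmin
  have hT := syl_of_sylow T
  have u := um_of_isCoatom h2 hL₀ (hYT.trans hT.le)
  have hS := u.syl h1 hT hYT
  have u' := u.mono hYT hT.le
  have o : Cfsg.pCore p L ≤ L₀ := Op_top (G := L) p ▸ hS.Op_le.trans hT.le
  set f := QuotientGroup.mk' (Cfsg.pCore p L)
  have hf : Function.Surjective f := QuotientGroup.mk'_surjective _
  have ub := u'.im (f := tf f) le_rfl (by rw [kr_tf_mk, inf_top_eq]; exact o)
  have sb := hS.im (f := tf f) le_rfl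
  rw [im_tf_mk_top] at ub sb
  have key : ∀ (N : Subgroup L) [N.Normal], N ≤ L₀ → PCl p N ∧ (Nat.card (N.map f)).Coprime p ∧
      N.map f ≤ frattini _ := by
    intro N _ hN
    have a := u'.pCl hS hN (le_normalizer_normal _ _)
    haveI := Normal.map ‹N.Normal› f hf
    have b : (Nat.card (N.map f)).Coprime p := by
      rw [← im_tf]
      refine (a.im le_top).coprime_of_Op_eq_bot (le_bot_iff.1 ?_)
      rw [im_tf]
      exact (Op_mono (Sn.of_normal_top _)).trans ((Op_top p).trans (pCore_quotient_pCore p)).le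
    exact ⟨a, b, aux ub sb (by rw [im_tf]; exact map_mono hN) b⟩
  refine ⟨⟨normal_le_normalCore.2 o, le_antisymm (key _ (normalCore_le _)).2.2 ?_,
    pCl_iff.1 (key _ (normalCore_le _)).1⟩, fun N _ hN => ?_⟩
  · rw [← map_comap_mk _ (frattini _)]
    refine map_mono (normal_le_normalCore.2 ?_)
    have := comap_mono (f := f) (frattini_le_coatom ub.isCoatom)
    rwa [im_tf, comap_map_mk, sup_eq_left.2 o] at this
  · obtain ⟨a, b, c⟩ := key N hN
    have e : Cfsg.pCore p N = (Cfsg.pCore p L).subgroupOf N := by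
      rw [← map_subtype_inj, subgroupOf_map_subtype, ← Op_top (G := L),
        ← Op_of_sn (Sn.of_normal_top N)]
      rfl
    have i := (QuotientGroup.quotientMulEquivOfEq e).trans
      (CfsgH1.quotientSubgroupOfEquivMap N (Cfsg.pCore p L))
    haveI := isNilpotent_of_le c frattini_nilpotent
    exact ⟨pCl_iff.1 a, nilpotent_of_mulEquiv i.symm, by rwa [Nat.card_congr i.toEquiv]⟩

end Cfsg.Agent.S2836
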