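import Cfsg.Statements.S2837
import Mathlib
import Cfsg.Agent.H9.FrakM

set_option autoImplicit false
open Cfsg

namespace Cfsg.Agent.S2837

/-- Let L be a finite group of characteristic p, L₀ a maximal subgroup, Y an elementary abelian p-subgroup of L₀ with L Y-minimal and O_p(L) ≤ N_L(Y). Put A = the normal closure of O_p(L) ∩ Y in L. Then for every g ∈ L outside L₀: Φ(A) = A' = [A ∩ Y, A] = [A ∩ Y, A ∩ gYg⁻¹] ≤ C_Y(L), and Y ∩ gYg⁻¹ = (A ∩ Y) ∩ (A ∩ gYg⁻¹) = C_Y(L) = C_A(L). -/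
theorem result {L : Type*} [Group L] [Finite L] {p : ℕ} [Fact p.Prime] (hchar : Subgroup.centralizer (Cfsg.pCore p L : Set L) ≤ Cfsg.pCore p L) (L₀ : Subgroup L) (hL₀ : IsCoatom L₀) (Y : Subgroup L) (hYL₀ : Y ≤ L₀) (hYel : Cfsg.IsElementaryAbelian p Y) (hmin : Cfsg.IsMinimalOver Y) (hOY : Cfsg.pCore p L ≤ Subgroup.normalizer (Y : Set L)) (A : Subgroup L) (hA : A = Subgroup.normalClosure (((Cfsg.pCore p L ⊓ Y : Subgroup L)) : Set L)) (g : L) (hg : g ∉ L₀) : (frattini ↥A).map A.subtype = ⁅A, A⁆ ∧ ⁅A, A⁆ = ⁅A ⊓ Y, A⁆ ∧ ⁅A ⊓ Y, A⁆ = ⁅A ⊓ Y, A ⊓ Y.map (MulAut.conj g).toMonoidHom⁆ ∧ ⁅A ⊓ Y, A⁆ ≤ Y ⊓ Subgroup.center L ∧ Y ⊓ Y.map (MulAut.conj g).toMonoidHom = Y ⊓ Subgroup.center L ∧ (A ⊓ Y) ⊓ (A ⊓ Y.map (MulAut.conj g).toMonoidHom) = Y ⊓ Subgroup.center L ∧ A ⊓ Subgroup.center L = Y ⊓ Subgroup.center L := by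
  open Subgroup CfsgH9 in
  obtain ⟨h1, h2⟩ := minO_top_iff.2 hmin
  have u := um_of_isCoatom h2 hL₀ hYL₀
  have gen := u.sup_cj h1 (mem_top g) hg
  rw [← ncl_top] at hA
  set O := Cfsg.pCore p L
  change _ ∧ _ ∧ _ = ⁅_, A ⊓ cj g Y⁆ ∧ _ ∧ Y ⊓ cj g Y = _ ∧ _ ⊓ (A ⊓ cj g Y) = _ ∧ _
  have yc := ea_le_centralizer hYel
  have zc : center L = centralizer (Y : Set L) ⊓ cj g (centralizer (Y : Set L)) := by
    rw [cj_centralizer, ← centralizer_sup, gen, coe_top, centralizer_univ]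
  have e0 : Y ⊓ cj g Y = Y ⊓ center L := by
    refine le_antisymm (le_inf inf_le_left (zc ▸ inf_le_inf yc (cj_mono g yc)))
      (le_inf inf_le_left fun x hx => mem_cj.2 ?_)
    rw [mul_assoc, ← mem_center_iff.1 hx.2 g]
    simpa using hx.1
  have nB : O ≤ normalizer ((O ⊓ Y : Subgroup L) : Set L) := le_normalizer_inf le_normalizer hOY
  have nB' : O ≤ normalizer (cj g (O ⊓ Y) : Set L) := by
    rw [← cj_normalizer]; exact (cj_normal g O).ge.trans (cj_mono g nB)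
  have l : O ⊓ Y ⊔ cj g (O ⊓ Y) ≤ O :=
    sup_le inf_le_left (by rw [cj_inf, cj_normal g O]; exact inf_le_left)
  have a : ⁅O, Y⁆ ≤ O ⊓ Y := le_inf (commutator_le_left _ _) (commutator_le_right_of hOY)
  have eA : A = O ⊓ Y ⊔ cj g (O ⊓ Y) := by
    rw [hA]
    refine le_antisymm (ncl_le le_sup_left ?_) (sup_le (le_ncl _ _) (cj_le_ncl (mem_top g)))
    rw [← gen]
    refine sup_le (le_normalizer_of_commutator_le le_sup_left ((commutator_mono l le_rfl).trans a))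
      (le_normalizer_of_commutator_le le_sup_right ((commutator_mono l le_rfl).trans ?_))
    have := cj_mono g a
    rwa [cj_commutator, cj_normal g O] at this
  have aO : A ≤ O := eA ▸ l
  have e1 : A ⊓ Y = O ⊓ Y := le_antisymm (inf_le_inf_right _ aO)
    (le_inf (eA ▸ le_sup_left) inf_le_right)
  have e2 : A ⊓ cj g Y = cj g (O ⊓ Y) := le_antisymm (by
    rw [cj_inf, cj_normal g O]; exact inf_le_inf_right _ aO)
    (le_inf (eA ▸ le_sup_right) (cj_mono g inf_le_right))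
  have eb := ea_of_le hYel (inf_le_right : O ⊓ Y ≤ Y)
  have e3 : ⁅O ⊓ Y, A⁆ = ⁅O ⊓ Y, cj g (O ⊓ Y)⁆ := by
    refine le_antisymm ?_ (commutator_mono le_rfl (eA ▸ le_sup_right))
    rw [eA]
    exact commutator_sup_le' (le_normalizer_comm_left _ _) (le_normalizer_comm_right _ _)
      (by rw [ea_comm eb]; exact bot_le) le_rfl
  have e4 : ⁅A, A⁆ = ⁅O ⊓ Y, A⁆ := by
    refine le_antisymm ?_ (commutator_mono (eA ▸ le_sup_left) le_rfl)
    rw [e3]
    conv_lhs => enter [1]; rw [eA]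
    refine commutator_sup_le (le_normalizer_comm_left _ _) (le_normalizer_comm_right _ _) e3.le ?_
    rw [eA]
    exact commutator_sup_le' (le_normalizer_comm_left _ _) (le_normalizer_comm_right _ _)
      (commutator_comm _ _).le (by rw [ea_comm (ea_cj g eb)]; exact bot_le)
  have zO : center L ≤ O := (centralizer_anti le_top).trans hchar |> le_trans (by
    rw [coe_top, centralizer_univ])
  have e5 : O ⊓ Y ⊓ cj g (O ⊓ Y) = Y ⊓ center L := by
    rw [cj_inf, cj_normal g O, ← inf_inf_distrib_left, e0, inf_eq_right.2 (inf_le_right.trans zO)]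
  have pA : IsPGroup p A := (pCore_isPGroup p).to_le aO
  rw [e1, e2]
  refine ⟨le_antisymm (CfsgH1.frattiniOf_le_of_elementary (Fact.out : p.Prime) le_rfl ?_)
    (commutator_le_frattiniOf_p pA), e4, e3, ?_, e0, e5, le_antisymm ?_
      (le_inf (e5.ge.trans (inf_le_left.trans (eA ▸ le_sup_left))) inf_le_right)⟩
  · have n : A ≤ normalizer ((⁅A, A⁆ : Subgroup L) : Set L) := le_normalizer_comm_left _ _
    have : Cfsg.IsElementaryAbelian p (im (qn ⁅A, A⁆) A) := by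
      have b := (im_qn_comm_iff n n).2 le_rfl
      conv => enter [2, 2]; rw [eA]
      rw [im_sup ((eA ▸ le_sup_left : _ ≤ A).trans n) ((eA ▸ le_sup_right : _ ≤ A).trans n)]
      exact ea_sup (ea_im _ eb) (ea_im _ (ea_cj g eb)) (comm_bot_mono b (im_mono (eA ▸ le_sup_left))
        (im_mono (eA ▸ le_sup_right)))
    intro x hx
    have b := (ea_iff.1 this).2 _ (mem_im_of_mem (n hx) hx)
    rw [← map_pow] at b
    exact (kr_qn ⁅A, A⁆).le ((mem_kr' (pow_mem (n hx) p)).2 b)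
  · rw [e3, ← e5]
    exact le_inf (commutator_le_left_of ((le_sup_right.trans l).trans nB))
      (commutator_le_right_of (inf_le_left.trans nB'))
  · refine le_inf ?_ inf_le_right
    rw [zc, eA, ← inf_assoc, sup_cj_inf_centralizer (mem_top g) gen (inf_le_right.trans yc)
      (inf_le_left.trans nB')]
    exact inf_le_left.trans inf_le_right

end Cfsg.Agent.S2837
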