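import Cfsg.Statements.S2839
import Mathlib
import Cfsg.Agent.H9.WC

set_option autoImplicit false
open Cfsg

namespace Cfsg.Agent.S2839

/-- Let Q be a nontrivial p-subgroup of the finite group H that is a weakly closed subgroup, K a subgroup containing Q and N a normal subgroup of H. Then Q is a weakly closed subgroup of K; every H-conjugate of Q contained in K is a K-conjugate of Q; N_K(Q) contains a Sylow p-subgroup of K; N = N_N(Q)·O^p(N); and QN/N is a weakly closed subgroup of H/N. -/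
theorem result {H : Type*} [Group H] [Finite H] {p : ℕ} [Fact p.Prime] (Q : Subgroup H) (hQp : IsPGroup p ↥Q) (hQ1 : Q ≠ ⊥) (hwc : Cfsg.IsWeaklyClosedSubgroup p Q) (K : Subgroup H) (hQK : Q ≤ K) (N' : Subgroup H) [N'.Normal] : Cfsg.IsWeaklyClosedSubgroup p (Q.subgroupOf K) ∧ (∀ g : H, ((Q : Subgroup H).map (MulAut.conj (g : H)).toMonoidHom) ≤ K → ∃ k ∈ K, ((Q : Subgroup H).map (MulAut.conj (g : H)).toMonoidHom) = ((Q : Subgroup H).map (MulAut.conj (k : H)).toMonoidHom)) ∧ Cfsg.IsParabolic p ((Subgroup.normalizer ((Q : Subgroup H) : Set H)).subgroupOf K) ∧ (N' ⊓ Subgroup.normalizer ((Q : Subgroup H) : Set H)) ⊔ (Cfsg.pResidual p ↥N').map N'.subtype = N' ∧ Cfsg.IsWeaklyClosedSubgroup p (Q.map (QuotientGroup.mk' N')) := by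
  open Subgroup CfsgH9 in
  have h := (wc_top_iff hQp).2 hwc
  refine ⟨(wc_iff_subgroupOf hQp hQK).1 (h.mono le_top), fun g a => h.conj hQp hQK le_top
    (mem_top g) a, ?_, ?_, ?_⟩
  · obtain ⟨S, a, -, b⟩ := (h.mono le_top).exists_syl hQp hQK
    obtain ⟨T, e⟩ := a.exists_sylow'
    exact ⟨T, e ▸ subgroupOf_mono K b⟩
  · obtain ⟨S, a, -, b⟩ := h.exists_syl hQp le_top
    rw [Oup_eq]
    refine le_antisymm (sup_le inf_le_left (Oup_le _)) ?_
    conv_lhs => rw [← (a.inf_normal le_top (le_normalizer_normal _ N')).sup_Oup]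
    exact sup_le_sup_right (le_inf inf_le_right (inf_le_left.trans b)) _
  · rw [← wc_top_iff (hQp.map _), ← im_tf, ← im_tf_mk_top]
    exact h.im hQp le_top le_rfl

end Cfsg.Agent.S2839
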