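import Cfsg.Statements.S2840
import Mathlib
import Cfsg.Agent.H9.WC

set_option autoImplicit false
open Cfsg

namespace Cfsg.Agent.S2840

/-- Let Q be a nontrivial p-subgroup of the finite group H that is a weakly closed subgroup and K a subgroup containing Q; let K° be the weak closure of Q in K (generated by the H-conjugates of Q inside K). Then K° is generated by the K-conjugates of Q, and K° is the subnormal closure of Q in K. -/
theorem result {H : Type*} [Group H] [Finite H] {p : ℕ} [Fact p.Prime] (Q : Subgroup H) (hQp : IsPGroup p ↥Q) (hQ1 : Q ≠ ⊥) (hwc : Cfsg.IsWeaklyClosedSubgroup p Q) (K : Subgroup H) (hQK : Q ≤ K) (Kc : Subgroup H) (hKc : Kc = Cfsg.weakClosure Q K) : Kc = ⨆ k : ↥K, ((Q : Subgroup H).map (MulAut.conj ((k : H) : H)).toMonoidHom) ∧ Kc = (Cfsg.subnormalClosure (Q.subgroupOf K)).map K.subtype := by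
  open Subgroup CfsgH9 in
  have h := (wc_top_iff hQp).2 hwc
  rw [← wcl_top, h.wcl_eq hQp hQK le_top] at hKc
  refine ⟨hKc.trans (ncl_eq_iSup _ _), ?_⟩
  rw [← snc_top, map_snc K.subtype_injective le_top, map_subtype_top, map_subgroupOf_eq_of_le hQK,
    (h.mono le_top).snc_eq hQp hQK, hKc]

end Cfsg.Agent.S2840
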