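import Cfsg.Statements.S2841
import Mathlib
import Cfsg.Agent.H9.WC

set_option autoImplicit false
open Cfsg

namespace Cfsg.Agent.S2841

/-- Let Q be a nontrivial p-subgroup of the finite group H that is a weakly closed subgroup and N a normal subgroup of H. Then N = N_N(Q)·[N, Q] and [N, Q] = (Q ∩ [N, Q])·[N, Q, Q]. -/
theorem result {H : Type*} [Group H] [Finite H] {p : ℕ} [Fact p.Prime] (Q : Subgroup H) (hQp : IsPGroup p ↥Q) (hQ1 : Q ≠ ⊥) (hwc : Cfsg.IsWeaklyClosedSubgroup p Q) (N' : Subgroup H) [N'.Normal] : (∀ n : H, n ∈ N' → ∃ a ∈ N' ⊓ Subgroup.normalizer ((Q : Subgroup H) : Set H), ∃ b ∈ ⁅N', Q⁆, n = a * b) ∧ (∀ c : H, c ∈ ⁅N', Q⁆ → ∃ a ∈ Q ⊓ ⁅N', Q⁆, ∃ b ∈ ⁅⁅N', Q⁆, Q⁆, c = a * b) := by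
  open Subgroup CfsgH9 in
  have h := (wc_top_iff hQp).2 hwc
  have e : ncl N' Q = Q ⊔ ⁅N', Q⁆ := by rw [ncl_eq_sup_commutator, commutator_comm]
  have n := le_normalizer_comm_right N' Q
  have l : ⁅N', Q⁆ ≤ N' := commutator_le_left _ _
  refine ⟨fun x hx => ?_, fun c hc => ?_⟩
  · obtain ⟨k, hk, m, hm, a⟩ := h.frattini hQp (le_ncl N' Q) le_top (mem_top x⁻¹)
      (cj_le_ncl (inv_mem hx))
    rw [e, sup_comm, mem_sup_of_le_normalizer' n] at hk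
    obtain ⟨b, hb, q, hq, rfl⟩ := hk
    refine ⟨(q * m)⁻¹, inv_mem ⟨?_, mul_mem (le_normalizer hq) hm⟩, b⁻¹, inv_mem hb, ?_⟩
    · have := mul_mem (inv_mem (l hb)) (inv_mem hx)
      rwa [a, mul_assoc b, inv_mul_cancel_left] at this
    · rw [← mul_inv_rev, ← mul_assoc, ← a, inv_inv]
  · have a : ncl N' Q = ncl (Q ⊔ N') Q := (ncl_eq_of_sup le_normalizer (le_normalizer_normal _ _)).symm
    have b := (h.mono le_top).ncl_ncl hQp (le_sup_left : Q ≤ Q ⊔ N')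
    rw [← a, e, ncl_eq_of_sup le_normalizer n, ncl_eq_sup_commutator, commutator_comm] at b
    have d : c ∈ (⁅⁅N', Q⁆, Q⁆ ⊔ Q) ⊓ ⁅N', Q⁆ := ⟨by rw [sup_comm, b]; exact mem_sup_right hc, hc⟩
    rw [inf_sup_of_le_normalizer' (le_normalizer_comm_right _ _) (commutator_le_left_of n),
      sup_comm, mem_sup_of_le_normalizer (inf_le_left.trans (le_normalizer_comm_right _ _))] at d
    obtain ⟨a, ha, b, hb, rfl⟩ := d
    exact ⟨a, ha, b, hb, rfl⟩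

end Cfsg.Agent.S2841
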