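import Cfsg.Statements.S2844
import Mathlib
import Cfsg.Agent.H9.Large

set_option autoImplicit false
open Cfsg

namespace Cfsg.Agent.S2844

/-- Let Q be a nontrivial large p-subgroup of the finite group H and Q• = O_p(N_H(Q)). Then for every g ∈ H outside N_H(Q): C_H(Q) ∩ C_H(gQg⁻¹) = 1, C_H(Q•) ∩ C_H(gQ•g⁻¹) = 1, Z(Q) ∩ Z(gQg⁻¹) = 1 and Z(Q•) ∩ Z(gQ•g⁻¹) = 1; moreover N_H(Q) = N_H(Q•) and Q• is large in H. -/
theorem result {H : Type*} [Group H] [Finite H] {p : ℕ} [Fact p.Prime] (Q : Subgroup H) (hQp : IsPGroup p ↥Q) (hQ1 : Q ≠ ⊥) (hL : Cfsg.IsLarge Q) (Qb : Subgroup H) (hQb : Qb = Cfsg.largeBullet p Q) : (∀ g : H, g ∉ Subgroup.normalizer ((Q : Subgroup H) : Set H) → Subgroup.centralizer ((Q : Subgroup H) : Set H) ⊓ Subgroup.centralizer ((((Q : Subgroup H).map (MulAut.conj (g : H)).toMonoidHom) : Subgroup H) : Set H) = ⊥ ∧ Subgroup.centralizer ((Qb : Subgroup H) : Set H) ⊓ Subgroup.centralizer ((((Qb : Subgroup H).map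 (MulAut.conj (g : H)).toMonoidHom) : Subgroup H) : Set H) = ⊥ ∧ (Q ⊓ Subgroup.centralizer ((Q : Subgroup H) : Set H)) ⊓ (((Q : Subgroup H).map (MulAut.conj (g : H)).toMonoidHom) ⊓ Subgroup.centralizer ((((Q : Subgroup H).map (MulAut.conj (g : H)).toMonoidHom) : Subgroup H) : Set H)) = ⊥ ∧ (Qb ⊓ Subgroup.centralizer ((Qb : Subgroup H) : Set H)) ⊓ (((Qb : Subgroup H).map (MulAut.conj (g : H)).toMonoidHom) ⊓ Subgroup.centralizer ((((Qb : Subgroup H).map (MulAut.conj (g : H)).toMonoidHom) : Subgroup H) : Set H)) = ⊥) ∧ Subgroup.normalizer ((Q : Subgroup H) : Set H) = Subgroup.normalizer ((Qb : Subgroup H) : Set H) ∧ Cfsg.IsLarge Qb := by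
  open Subgroup CfsgH9 in
  have w := large_wc hL hQp hQ1
  have a : Q ≤ Qb := hQb ▸ le_Op (Sn.of_normal le_normalizer le_rfl) hQp
  have b : normalizer (Q : Set H) = normalizer (Qb : Set H) := by
    refine le_antisymm (hQb ▸ le_normalizer_Op le_normalizer)
      (w.le_normalizer_of (hQb ▸ Op_isPGroup p _) a le_top le_rfl)
  refine ⟨fun g hg => ?_, b, (centralizer_anti a).trans (hL.1.trans a), fun U c d =>
    b ▸ hL.2 U (c.trans (centralizer_anti a)) d⟩
  have c : centralizer (Q : Set H) ⊓ centralizer (cj g Q : Set H) = ⊥ := by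
    by_contra d
    exact hg (cj_eq_iff.1 (large_eq hL hQp hQ1 d inf_le_left inf_le_right))
  have d : centralizer (Qb : Set H) ⊓ centralizer (cj g Qb : Set H) = ⊥ :=
    le_bot_iff.1 (c ▸ inf_le_inf (centralizer_anti a) (centralizer_anti (cj_mono g a)))
  exact ⟨c, d, le_bot_iff.1 (c ▸ inf_le_inf inf_le_right inf_le_right),
    le_bot_iff.1 (d ▸ inf_le_inf inf_le_right inf_le_right)⟩

end Cfsg.Agent.S2844
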