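import Cfsg.Statements.S2850
import Mathlib
import Cfsg.Agent.H9.FrakM

set_option autoImplicit false
open Cfsg

namespace Cfsg.Agent.S2850

/-- Standing hypotheses: G a finite group, S a Sylow p-subgroup, Q a nontrivial large p-subgroup of G contained in S (C_G(Q) ≤ Q and N_G(U) ≤ N_G(Q) for all nontrivial U ≤ C_G(Q)), and M a subgroup containing S with the basic property (M ∈ 𝔐_G(S)); Y_M denotes the largest p-reduced normal subgroup of M and M† = M·C_G(Y_M). Suppose Y_M is asymmetric in G. Then N_G(L) ≤ N_G(O_p(M)) ≤ M† for every p-subgroup L containing O_p(M); O_p(M) is a weakly closed subgroup of G; for every subgroup L containing O_p(M), L ∩ M† contains a Sylow p-subgroup of L; and two elements of Y_M conjugate in G are conjugate in M. -/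
theorem result {G : Type*} [Group G] [Finite G] {p : ℕ} [Fact p.Prime] (S : Sylow p G) (Q : Subgroup G) (hQp : IsPGroup p ↥Q) (hQ1 : Q ≠ ⊥) (hQS : Q ≤ (S : Subgroup G)) (hQ : Cfsg.IsLarge Q) (M : Subgroup G) (hSM : (S : Subgroup G) ≤ M) (hM : Cfsg.IsInFrakM p M) (hasym : ¬ Cfsg.IsSymmetricIn (Cfsg.largestPReducedOf p M)) : (∀ L : Subgroup G, IsPGroup p ↥L → (Cfsg.pCoreOf p M) ≤ L → Subgroup.normalizer ((L : Subgroup G) : Set G) ≤ Subgroup.normalizer (((Cfsg.pCoreOf p M) : Subgroup G) : Set G) ∧ Subgroup.normalizer (((Cfsg.pCoreOf p M) : Subgroup G) : Set G) ≤ (M ⊔ Subgroup.centralizer (((Cfsg.largestPReducedOf p M) : Subgroup G) : Set G))) ∧ Cfsg.IsWeaklyClosedSubgroup p (Cfsg.pCoreOf p M) ∧ (∀ L : Subgroup G, (Cfsg.pCoreOf p M) ≤ L → Cfsg.IsParabolic p ((L ⊓ (M ⊔ Subgroup.centralizer (((Cfsg.largestPReducedOf p M) : Subgroup G) : Set G))).subgroupOf L)) ∧ (∀ x ∈ (Cfsg.largestPReducedOf p M), ∀ g : G, g * x * g⁻¹ ∈ (Cfsg.largestPReducedOf p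 M) → ∃ m ∈ M, m * x * m⁻¹ = g * x * g⁻¹) := by
  open Subgroup CfsgH9 in
  have h := fms_of_large S hQp hQ1 hQ hSM hM
  have w := h.wc hasym
  have hP := Op_isPGroup p M
  refine ⟨fun L a b => ⟨w.le_normalizer_of a b le_top le_rfl,
    h.normalizer_Op_le.trans h.normalizer_YL.le⟩, (wc_top_iff hP).1 w, fun L a => ?_,
    fun x hx g hg => ?_⟩
  · obtain ⟨T, b, -, c⟩ := h.exists_syl hasym a
    obtain ⟨T', e⟩ := b.exists_sylow'
    exact ⟨T', e ▸ subgroupOf_mono L (le_inf b.le (c.trans h.normalizer_YL.le))⟩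
  · have a : ∀ y ∈ YL p M, Op p M ≤ centralizer ({y} : Set G) := fun y hy =>
      (Op_le_centralizer_YL M).trans (centralizer_le_centralizer_singleton hy)
    obtain ⟨k, hk, n, hn, e⟩ := w.frattini hP (a _ hg) le_top (mem_top g) (by
      rw [← cj_centralizer_singleton]; exact cj_mono g (a x hx))
    obtain ⟨m, hm, c, hc, rfl⟩ := (mem_sup_of_le_normalizer (le_normalizer_centralizer
      (pred_YL (p := p) M).nm)).1 (h.normalizer_YL.le (h.normalizer_Op_le hn))
    refine ⟨m, hm, ?_⟩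
    have b := mem_centralizer_singleton_iff.1 hk
    have d := mem_centralizer_iff.1 hc x hx
    have f : k * (m * x * m⁻¹) * k⁻¹ = g * x * g⁻¹ := by
      rw [e]; calc k * (m * x * m⁻¹) * k⁻¹ = k * (m * (x * c) * c⁻¹ * m⁻¹) * k⁻¹ := by group
        _ = _ := by rw [d]; group
    calc m * x * m⁻¹ = k⁻¹ * ((g * x * g⁻¹) * k) := by rw [← f]; group
      _ = _ := by rw [← b]; group

end Cfsg.Agent.S2850
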