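import Cfsg.Statements.S2851
import Mathlib
import Cfsg.Agent.H9.FrakM

set_option autoImplicit false
open Cfsg

namespace Cfsg.Agent.S2851

/-- Standing hypotheses: G a finite group, S a Sylow p-subgroup, Q a nontrivial large p-subgroup of G contained in S, M a subgroup containing S with the basic property (M ∈ 𝔐_G(S)); Y_M the largest p-reduced normal subgroup of M and M† = M·C_G(Y_M). Let F be the preimage in M† of the generalized Fitting subgroup of M†/C_{M†}(Y_M). If Y_M is asymmetric in G and H is a subgroup of characteristic p containing F, then Y_M ≤ Y_H. -/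
theorem result {G : Type*} [Group G] [Finite G] {p : ℕ} [Fact p.Prime] (S : Sylow p G) (Q : Subgroup G) (hQp : IsPGroup p ↥Q) (hQ1 : Q ≠ ⊥) (hQS : Q ≤ (S : Subgroup G)) (hQ : Cfsg.IsLarge Q) (M : Subgroup G) (hSM : (S : Subgroup G) ≤ M) (hM : Cfsg.IsInFrakM p M) (hasym : ¬ Cfsg.IsSymmetricIn (Cfsg.largestPReducedOf p M)) [hn : ((Subgroup.centralizer (((Cfsg.largestPReducedOf p M) : Subgroup G) : Set G)).subgroupOf (M ⊔ Subgroup.centralizer (((Cfsg.largestPReducedOf p M) : Subgroup G) : Set G))).Normal] (F : Subgroup G) (hF : F = ((Cfsg.generalizedFittingSubgroup (↥(M ⊔ Subgroup.centralizer (((Cfsg.largestPReducedOf p M) : Subgroup G) : Set G)) ⧸ (Subgroup.centralizer (((Cfsg.largestPReducedOf p M) : Subgroup G) : Set G)).subgroupOf (M ⊔ Subgroup.centralizer (((Cfsg.largestPReducedOf p M) : Subgroup G) : Set G)))).comap (QuotientGroup.mk' ((Subgroup.centralizer (((Cfsg.largestPReducedOf p M) : Subgroup G) : Set G)).subgroupOf (M ⊔ Subgroup.centralizer (((Cfsg.largestPReducedOf p M) : Subgroup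 G) : Set G))))).map ((M ⊔ Subgroup.centralizer (((Cfsg.largestPReducedOf p M) : Subgroup G) : Set G))).subtype) (H : Subgroup G) (hFH : F ≤ H) (hH : Subgroup.centralizer (Cfsg.pCore p ↥H : Set ↥H) ≤ Cfsg.pCore p ↥H) : (Cfsg.largestPReducedOf p M) ≤ Cfsg.largestPReducedOf p H := by
  open Subgroup CfsgH9 in
  have h := fms_of_large S hQp hQ1 hQ hSM hM
  set f := QuotientGroup.mk' ((centralizer (YL p M : Set G)).subgroupOf (dag p M))
  have hf : Function.Surjective f := QuotientGroup.mk'_surjective _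
  have k : kr f = centralizer (YL p M : Set G) := kr_mk'_subgroupOf le_sup_right
  have hF' : F = pre f (Fs ⊤) := by rw [Fs_top]; exact hF
  have cF : centralizer (YL p M : Set G) ≤ F := hF' ▸ k.ge.trans kr_le_pre
  obtain ⟨T, a, b, c⟩ := h.exists_syl hasym ((h.sylC.le.trans cF).trans hFH)
  have o : Op p (im f (dag p M)) = ⊥ := (Op_im_eq_bot_iff le_rfl).2 (by
    rw [k, ← h.fm.yl]; exact red_YL _)
  rw [im_top hf] at o
  have r : PRed p (YL p M) (H ⊓ dag p M) := by
    refine ⟨le_inf (((YL_le_centralizer M).trans cF).trans hFH) ((YL_le M).trans le_sup_left),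
      inf_le_right.trans (dag_le M), ea_YL M, ?_⟩
    have : Op p (im f (H ⊓ dag p M)) = ⊥ := by
      have l : Fs ⊤ ≤ im f (H ⊓ dag p M) := by
        rw [← im_pre hf (X := Fs ⊤), ← hF']
        exact im_mono (le_inf hFH (hF' ▸ pre_le))
      refine eq_bot_of_comm_Fs o (Op_isPGroup p _) le_top (le_bot_iff.1 ?_)
      rw [← Op_eq_bot_of_sn o (sn_Fs ⊤)]
      exact (le_inf (commutator_le_right_of (l.trans (le_normalizer_Op le_normalizer)))
        (commutator_le_left_of (le_normalizer_Fs (le_normalizer_normal _ _)))).trans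
          (Op_inf_le_Op (l.trans le_normalizer))
    have := (Op_im_eq_bot_iff inf_le_right).1 this
    rwa [k] at this
  exact r.le_YL_of_le (chP_iff_sub.2 hH) a (le_inf a.le (c.trans h.normalizer_YL.le)) inf_le_left

end Cfsg.Agent.S2851
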