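import Cfsg.Statements.S2852
import Mathlib
import Cfsg.Agent.H9.FrakM

set_option autoImplicit false
open Cfsg

namespace Cfsg.Agent.S2852

/-- Standing hypotheses: G a finite group, S a Sylow p-subgroup, Q a nontrivial large p-subgroup of G contained in S, M a subgroup containing S with the basic property (M ∈ 𝔐_G(S)); Y_M the largest p-reduced normal subgroup of M. If Y_M is char-p-tall and asymmetric in G, then some subgroup H of G lies in ℌ_G(O_p(M)): H has characteristic p, O_p(M) ≤ H, Y_M ≰ O_p(H), and Y_M ≤ O_p(P) for every proper subgroup P of H containing O_p(M). -/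
theorem result {G : Type*} [Group G] [Finite G] {p : ℕ} [Fact p.Prime] (S : Sylow p G) (Q : Subgroup G) (hQp : IsPGroup p ↥Q) (hQ1 : Q ≠ ⊥) (hQS : Q ≤ (S : Subgroup G)) (hQ : Cfsg.IsLarge Q) (M : Subgroup G) (hSM : (S : Subgroup G) ≤ M) (hM : Cfsg.IsInFrakM p M) (htall : Cfsg.IsCharPTall p (Cfsg.largestPReducedOf p M)) (hasym : ¬ Cfsg.IsSymmetricIn (Cfsg.largestPReducedOf p M)) : ∃ H : Subgroup G, Cfsg.IsInFrakH p M H := by
  open Subgroup CfsgH9 in
  have h := fms_of_large S hQp hQ1 hQ hSM hM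
  obtain ⟨T, L, a, b, c⟩ := htall
  obtain ⟨g, hg, e⟩ := (syl_of_sylow T).conj h.sylC
  obtain ⟨H, h1, ⟨h2, h3⟩, h4⟩ := exists_min_subgroup (A := cj g L)
    (P := fun H => Op p M ≤ H ∧ ¬ YL p M ≤ Op p H) ⟨e ▸ cj_mono g a, by
      rwa [← cj_Op, ← cj_eq_of_mem_normalizer (centralizer_le_normalizer' (YL p M) hg), cj_le_cj]⟩
  refine ⟨H, fh_iff.1 ⟨h.chP_of_le hasym ((chP_iff_sub.2 b).cj g) h2 h1, h2, h3, fun X d f => ?_⟩⟩
  by_contra i
  exact f.ne (h4 X f.le ⟨d, i⟩)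

end Cfsg.Agent.S2852
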