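import Cfsg.Statements.S2854
import Mathlib
import Cfsg.Agent.H9.FrakM

set_option autoImplicit false
open Cfsg

namespace Cfsg.Agent.S2854

/-- Standing hypotheses: G a finite group, S a Sylow p-subgroup, Q a nontrivial large p-subgroup of G contained in S, M a subgroup containing S with the basic property (M ∈ 𝔐_G(S)); Y_M the largest p-reduced normal subgroup of M and M† = M·C_G(Y_M). Suppose Y_M is asymmetric in G, H ∈ ℌ_G(O_p(M)), and H ≤ N_G(gQg⁻¹) for some g ∈ G. Then gQg⁻¹ ≤ O_p(H·gQg⁻¹) ≤ N_G(O_p(M)) ≤ N_G(Y_M) = M†; H is normal in H·gQg⁻¹ with O^p(H) = O^p(H·gQg⁻¹); and H·gQg⁻¹ is p-irreducible. -/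
theorem result {G : Type*} [Group G] [Finite G] {p : ℕ} [Fact p.Prime] (S : Sylow p G) (Q : Subgroup G) (hQp : IsPGroup p ↥Q) (hQ1 : Q ≠ ⊥) (hQS : Q ≤ (S : Subgroup G)) (hQ : Cfsg.IsLarge Q) (M : Subgroup G) (hSM : (S : Subgroup G) ≤ M) (hM : Cfsg.IsInFrakM p M) (hasym : ¬ Cfsg.IsSymmetricIn (Cfsg.largestPReducedOf p M)) (H : Subgroup G) (hH : Cfsg.IsInFrakH p M H) (g : G) (hHQ : H ≤ Subgroup.normalizer ((((Q : Subgroup G).map (MulAut.conj (g : G)).toMonoidHom) : Subgroup G) : Set G)) : ((Q : Subgroup G).map (MulAut.conj (g : G)).toMonoidHom) ≤ Cfsg.pCoreOf p (H ⊔ ((Q : Subgroup G).map (MulAut.conj (g : G)).toMonoidHom)) ∧ Cfsg.pCoreOf p (H ⊔ ((Q : Subgroup G).map (MulAut.conj (g : G)).toMonoidHom)) ≤ Subgroup.normalizer (((Cfsg.pCoreOf p M) : Subgroup G) : Set G) ∧ Subgroup.normalizer (((Cfsg.pCoreOf p M) : Subgroup G) : Set G) ≤ Subgroup.normalizer (((Cfsg.largestPReducedOf p M) : Subgroup G) : Set G) ∧ Subgroup.normalizer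 (((Cfsg.largestPReducedOf p M) : Subgroup G) : Set G) = (M ⊔ Subgroup.centralizer (((Cfsg.largestPReducedOf p M) : Subgroup G) : Set G)) ∧ (H.subgroupOf (H ⊔ ((Q : Subgroup G).map (MulAut.conj (g : G)).toMonoidHom))).Normal ∧ (Cfsg.pResidual p ↥H).map H.subtype = (Cfsg.pResidual p ↥(H ⊔ ((Q : Subgroup G).map (MulAut.conj (g : G)).toMonoidHom))).map (H ⊔ ((Q : Subgroup G).map (MulAut.conj (g : G)).toMonoidHom)).subtype ∧ Cfsg.IsPIrreducible p ↥(H ⊔ ((Q : Subgroup G).map (MulAut.conj (g : G)).toMonoidHom)) := by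
  open Subgroup CfsgH9 in
  have h := fms_of_large S hQp hQ1 hQ hSM hM
  have k := fh_iff.2 hH
  set Q' := cj g Q
  have q : IsPGroup p Q' := hQp.map _
  have n : H ⊔ Q' ≤ normalizer (Q' : Set G) := sup_le hHQ le_normalizer
  have a : Q' ≤ Op p (H ⊔ Q') := le_Op (Sn.of_normal le_sup_right n) q
  have b := h.Op_le_normalizer hasym (k.le.trans (le_sup_left : H ≤ H ⊔ Q'))
  have c : H ⊔ Q' ≤ normalizer (H : Set G) := by
    refine sup_le le_normalizer (le_normalizer_iff_cj.2 fun x hx => ?_)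
    rw [← cj_le_cj (g := x⁻¹), cj_inv_cj]
    refine k.ncl_Op.ge.trans (ncl_le_iff.2 fun y hy => ?_)
    have : x ∈ normalizer (cj y (Op p M) : Set G) := by
      rw [← cj_normalizer]
      exact cj_mono y (a.trans b) ((cj_eq_of_mem_normalizer (hHQ hy)).ge hx)
    rw [← cj_le_cj (g := x), cj_cj_inv, cj_eq_of_mem_normalizer this]
    exact cj_le_of_mem hy k.le
  rw [Oup_eq, Oup_eq]
  refine ⟨a, b, h.normalizer_Op_le, h.normalizer_YL, (normal_subgroupOf_iff_le_normalizer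
    le_sup_left).2 c, le_antisymm (Oup_mono le_sup_left) ?_, pIrr_iff.1 ?_⟩
  · rw [← Oup_Oup]
    exact Oup_mono (Oup_le_sup_of_isPGroup q (le_sup_right.trans c) (sup_comm _ _).le)
  · have hk : ∀ X, IsPGroup p (kr (qn Q') ⊓ X : Subgroup G) := fun X => by
      rw [kr_qn]; exact q.to_le inf_le_left
    rw [← pIrr_im_iff n (hk _), im_sup hHQ le_normalizer, (im_qn_eq_bot le_normalizer).2 le_rfl,
      sup_bot_eq, pIrr_im_iff hHQ (hk _)]
    exact k.pIrr

end Cfsg.Agent.S2854
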