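import Cfsg.Statements.S2855
import Mathlib
import Cfsg.Agent.H9.PIrr
import Cfsg.Agent.H9.PComp

set_option autoImplicit false
open Cfsg

namespace Cfsg.Agent.S2855

section
open Subgroup CfsgH9
open scoped commutatorElement

variable {G : Type*} [Group G] [Finite G] {p : ℕ} [hp : Fact p.Prime]

theorem minO_sup {E Q S : Subgroup G} [Q.Normal] (hQ : IsPGroup p Q)
    (h : ∀ T, Syl p T E → MinO T E) (hS : Syl p S (E ⊔ Q)) : MinO S (E ⊔ Q) := by
  obtain ⟨T, hT⟩ := exists_syl (p := p) E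
  obtain ⟨h1, M, hM⟩ := h T hT
  have h2 : Q ⊓ E ≤ T := hT.le_of_le_normalizer (hQ.to_le inf_le_left) inf_le_right
    (le_normalizer_inf le_normalizer_of_normal (hT.le.trans le_normalizer))
  have h3 : Syl p (T ⊔ Q) (E ⊔ Q) := by
    obtain ⟨U, u1, u2⟩ := exists_syl_ge hT.pg (hT.le.trans (le_sup_left (b := Q)))
    have := inf_sup_of_le_normalizer' (A := Q) (B := E) le_normalizer_of_normal
      (u1.le_of_le_normalizer hQ le_sup_right le_normalizer_of_normal)
    rw [sup_comm Q E, inf_eq_right.2 u1.le, hT.eq_of_le (u1.pg.to_le inf_le_right)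
      (le_inf hT.le u2) inf_le_left, sup_comm] at this
    exact this ▸ u1
  have h4 : MinO (T ⊔ Q) (E ⊔ Q) := by
    refine ⟨le_antisymm (ncl_le (sup_le_sup_right hT.le _) le_normalizer) (sup_le (h1.ge.trans
      (ncl_mono le_sup_left le_sup_left)) (le_sup_right.trans (le_ncl _ _))), M ⊔ Q,
      sup_le_sup_right hM.le _, lt_of_le_of_ne (sup_le_sup_right hM.lt.le _) fun e => ?_,
      fun X x1 x2 => ?_⟩
    · have := inf_sup_of_le_normalizer (A := M) (B := Q) le_normalizer_of_normal hM.lt.le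
      rw [e, inf_eq_right.2 le_sup_left] at this
      exact hM.lt.not_ge (this.le.trans (sup_le le_rfl (h2.trans hM.le)))
    · have := inf_sup_of_le_normalizer' (A := Q) (B := E) le_normalizer_of_normal
        (le_sup_right.trans x1)
      rw [sup_comm Q E, inf_eq_right.2 x2.le] at this
      refine this.le.trans (sup_le le_sup_right (le_sup_of_le_left (hM.max _
        (le_inf hT.le (le_sup_left.trans x1)) (lt_of_le_of_ne inf_le_left fun e => ?_))))
      exact x2.not_ge (sup_le (inf_eq_left.1 e) (le_sup_right.trans x1))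
  obtain ⟨g, g1, rfl⟩ := h3.conj hS
  have := (minO_map_iff (f := (MulAut.conj g).toMonoidHom) (MulAut.conj g).injective).2 h4
  rwa [show (E ⊔ Q).map (MulAut.conj g).toMonoidHom = E ⊔ Q from cj_eq_of_mem g1] at this

theorem Oup_le_of_family {𝒦 : Set (Subgroup G)} {R N : Subgroup G} [N.Normal] (h1 : R ≤ sSup 𝒦)
    (h2 : ∀ E ∈ 𝒦, E ≤ R ∧ R ≤ normalizer (E : Set G) ∧ Oup p E ≤ N) : Oup p R ≤ N := by
  rw [Oup_le_iff_isPGroup_map]
  refine (Op_isPGroup p (R.map (QuotientGroup.mk' N))).to_le ?_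
  rw [map_le_iff_le_comap]
  refine h1.trans (sSup_le fun E hE => map_le_iff_le_comap.1 ?_)
  obtain ⟨a, b, c⟩ := h2 E hE
  exact le_Op ((Sn.of_normal a b).map _) (Oup_le_iff_isPGroup_map.1 c)

theorem main (𝒦 : Set (Subgroup G)) (hne : 𝒦.Nonempty) {R : Subgroup G} (hR : R = sSup 𝒦)
    (hinv : ∀ h : G, ∀ E ∈ 𝒦, cj h E ∈ 𝒦) (htr : ∀ E ∈ 𝒦, ∀ K ∈ 𝒦, ∃ h : G, K = cj h E)
    (hres : Oup p ⊤ ≤ R) (hQ : ∀ E ∈ 𝒦, Op p ⊤ ≤ E) (hnorm : ∀ E ∈ 𝒦, R ≤ normalizer (E : Set G)) :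
    ((∀ E ∈ 𝒦, ∀ T, Syl p T E → MinO T E) → ∀ T : Subgroup G, Syl p T ⊤ → MinO T ⊤) ∧
    ((∀ E ∈ 𝒦, SPIrr p E) → PIrr p (⊤ : Subgroup G) ∧ ∀ E ∈ 𝒦, ∀ K ∈ 𝒦,
      Oup p E = Oup p K ∨ ⁅E, K⁆ ≤ Op p ⊤) := by
  have le : ∀ E ∈ 𝒦, E ≤ R := fun E h => hR ▸ le_sSup h
  have nR : ⊤ ≤ normalizer (R : Set G) :=
    hR ▸ le_normalizer_sSup fun g _ K hK => le_sSup (hinv g K hK)
  haveI := normal_of_top_le nR
  have sn : ∀ E ∈ 𝒦, Sn E ⊤ := fun E h => (Sn.of_normal (le E h) (hnorm E h)).trans (.of_normal_top R)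
  refine ⟨fun h T hT => ?_, fun h => ?_⟩
  · have tr : T ⊔ R = ⊤ := eq_top_iff.2 (hT.sup_Oup.ge.trans (sup_le_sup_left hres _))
    have m : ∀ E ∈ 𝒦, MinO (T ⊓ E) E := fun E hE => h E hE _ (hT.inf_sn (sn E hE))
    set D := R ⊓ sInf {X | ∃ E ∈ 𝒦, ∃ M, UM (T ⊓ E) M E ∧ X = normalizer (M : Set G)}
    have nD : T ≤ normalizer (D : Set G) := by
      refine le_normalizer_inf (le_top.trans nR) (le_normalizer_iff_forall.2 fun t ht x hx =>
        mem_sInf.2 ?_)
      rintro _ ⟨E, hE, M, hM, rfl⟩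
      have := mem_sInf.1 hx _ ⟨cj t⁻¹ E, hinv _ E hE, cj t⁻¹ M, by
        have := hM.cj t⁻¹
        rwa [cj_inf, cj_eq_of_mem (T.inv_mem ht)] at this, rfl⟩
      rwa [← cj_normalizer, mem_cj, inv_inv] at this
    refine ⟨eq_top_iff.2 (tr.ge.trans (sup_le (le_ncl _ _) (hR.le.trans (sSup_le fun E hE =>
      (m E hE).1.ge.trans (ncl_mono le_top inf_le_left))))), T ⊔ D, le_sup_left,
      lt_top_iff_ne_top.2 fun e => ?_, fun X x1 x2 => ?_⟩
    · obtain ⟨E, hE⟩ := hne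
      obtain ⟨m1, M, hM⟩ := m E hE
      have := inf_sup_of_le_normalizer' (A := D) (B := T) (C := R) nD inf_le_left
      rw [sup_comm D T, e, top_inf_eq] at this
      have h1 : R ≤ normalizer (M : Set G) := this.le.trans (sup_le (inf_le_right.trans
        (sInf_le ⟨E, hE, M, hM, rfl⟩)) (hM.le_normalizer (inf_le_right.trans (hnorm E hE))
          (le_normalizer_inf (inf_le_left.trans le_normalizer) (inf_le_right.trans (hnorm E hE)))))
      exact hM.lt.not_ge ((le_inf ((le E hE).trans h1) le_rfl).trans (hM.normalizer_inf m1).le)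
    · have := inf_sup_of_le_normalizer (A := T) (B := R) le_normalizer_of_normal x1
      rw [tr, top_inf_eq] at this
      refine this.le.trans (sup_le_sup_left (le_inf inf_le_left (le_sInf ?_)) _)
      rintro _ ⟨E, hE, M, hM, rfl⟩
      have h1 : X ⊓ E ≤ M := hM.max _ (inf_le_inf_right _ x1) (lt_of_le_of_ne inf_le_right fun e =>
        x2.not_ge (tr.ge.trans (sup_le x1 (hR.le.trans (sSup_le fun K hK => ?_)))))
      · have h2 := ((hT.inf_sn (sn E hE)).of_le (inf_le_inf_right _ x1) inf_le_right)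
        have h3 : R ⊓ X ≤ normalizer ((X ⊓ E : Subgroup G) : Set G) := le_normalizer_inf
          (inf_le_right.trans le_normalizer) (inf_le_left.trans (hnorm E hE))
        refine (h2.frattini_sup (le_inf (inf_le_right.trans (le E hE)) inf_le_left) h3).ge.trans
          (sup_le (h1.trans le_normalizer) (hM.le_normalizer
            (inf_le_right.trans (inf_le_left.trans (hnorm E hE))) inf_le_left))
      · obtain ⟨g, rfl⟩ := htr E hE K hK
        obtain ⟨t, ht, r, hr, rfl⟩ := (mem_sup_of_le_normalizer le_normalizer_of_normal).1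
          (tr.ge (mem_top g))
        rw [← cj_cj, cj_eq_of_mem_normalizer (hnorm E hE hr)]
        exact cj_le_of_mem (x1 ht) (inf_eq_right.1 e)
  obtain ⟨T, hT⟩ := exists_syl (p := p) (⊤ : Subgroup G)
  haveI := normal_of_top_le (le_normalizer_Op (p := p) (H := (⊤ : Subgroup G)) le_normalizer)
  have nQ : ∀ X : Subgroup G, X ≤ normalizer (Op p (⊤ : Subgroup G) : Set G) := fun _ =>
    le_normalizer_of_normal
  have op : ∀ E ∈ 𝒦, Op p E ≤ Op p ⊤ := fun E hE => Op_mono (sn E hE)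
  have x1 : ∀ E ∈ 𝒦, ⁅Oup p E, T ⊓ E⁆ = Oup p E := fun E hE =>
    have s := hT.inf_sn (sn E hE)
    comm_Oup_eq_of_le_ncl s.sup_Oup s.pg le_normalizer s.le
      ((Oup_le E).trans ((h E hE).pIrr.ncl_syl s).ge)
  have x2 : ∀ E ∈ 𝒦, ∀ U : Subgroup G, ⁅⁅U, E⁆, E⁆ ≤ Op p ⊤ → ⁅Oup p E, U⁆ ≤ Op p ⊤ := by
    intro E hE U h1
    have s := hT.inf_sn (sn E hE)
    refine (commutator_mono (Oup_le_commutator s.pg s.le ((h E hE).pIrr.ncl_syl s)) le_rfl).trans
      (three_subgroups (nQ _) (nQ _) (nQ _) ?_ h1)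
    rwa [commutator_comm E U]
  have x3 : ∀ E ∈ 𝒦, ∀ K ∈ 𝒦, Oup p E = Oup p K ∨ ⁅⁅K, E⁆, E⁆ ≤ Op p ⊤ := by
    intro E hE K hK
    have n1 := (le E hE).trans (hnorm K hK)
    have n2 := (le K hK).trans (hnorm E hE)
    by_cases c : ⁅K ⊓ E, E⁆ ≤ Op p E
    · exact Or.inr ((commutator_mono (le_inf (commutator_le_left_of n1) (commutator_le_right_of n2))
        le_rfl).trans (c.trans (op E hE)))
    · have := ((h E hE).2 _ inf_le_right (le_normalizer_inf n1 le_normalizer) c).trans inf_le_left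
      obtain ⟨g, rfl⟩ := htr E hE K hK
      exact Or.inl (eq_of_le_of_card_ge ((Oup_Oup E).ge.trans (Oup_mono this))
        (by rw [← cj_Oup, card_cj]))
  have x4 : ∀ E ∈ 𝒦, ∀ K ∈ 𝒦, Oup p E = Oup p K ∨ ⁅E, K⁆ ≤ Op p ⊤ := by
    intro E hE K hK
    refine (x3 E hE K hK).elim Or.inl fun a => (x3 K hK E hE).elim (fun e => Or.inl e.symm) fun b =>
      Or.inr ?_
    have s := hT.inf_sn (sn E hE)
    have s' := hT.inf_sn (sn K hK)
    rw [← s.sup_Oup]
    refine commutator_sup_le (nQ _) (nQ _) ?_ (x2 E hE K a)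
    rw [← s'.sup_Oup]
    refine commutator_sup_le' (nQ _) (nQ _) ?_ ?_
    · have u1 : ⁅T ⊓ E, T ⊓ K⁆ ≤ ⁅K, E⁆ := by
        rw [commutator_comm K]; exact commutator_mono inf_le_right inf_le_right
      refine le_sup_left.trans ((le_Op (K := ⁅T ⊓ E, T ⊓ K⁆ ⊔ Op p ⊤) (.of_normal (sup_le
        (u1.trans (commutator_le_right_of ((le K hK).trans (hnorm E hE)))) (hQ E hE))
        (le_normalizer_iff_commutator_le_left.2 (le_sup_of_le_right (commutator_sup_le (nQ _) (nQ _)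
          ((commutator_mono u1 le_rfl).trans a) (commutator_le_left_of (nQ _)))))) (hT.pg.to_le
          (sup_le ((commutator_mono inf_le_left inf_le_left).trans (commutator_le_self T))
            hT.Op_le))).trans (op E hE))
    · rw [commutator_comm]
      exact (commutator_mono le_rfl inf_le_right).trans (x2 K hK E b)
  refine ⟨⟨fun c => ?_, fun N _ n1 n2 => ?_⟩, x4⟩
  · obtain ⟨E, hE⟩ := hne
    exact (h E hE).1 (c.of_le le_top)
  haveI := normal_of_top_le n1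
  by_cases c : ∀ E ∈ 𝒦, ⁅N ⊓ E, E⁆ ≤ Op p E
  swap
  · push Not at c
    obtain ⟨E, hE, c⟩ := c
    have := ((h E hE).2 _ inf_le_right (le_normalizer_inf le_normalizer_of_normal le_normalizer)
      c).trans inf_le_left
    refine (Oup_Oup ⊤).ge.trans ((Oup_mono hres).trans (Oup_le_of_family hR.le fun K hK =>
      ⟨le K hK, hnorm K hK, ?_⟩))
    obtain ⟨g, rfl⟩ := htr E hE K hK
    rw [← cj_Oup]
    exact cj_le_of_mem_normalizer (n1 (mem_top g)) this
  exfalso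
  have y1 : ∀ E ∈ 𝒦, ⁅Oup p E, N ⊓ R⁆ ≤ Op p ⊤ := fun E hE => x2 E hE _
    ((commutator_mono (le_inf ((commutator_mono inf_le_left le_rfl).trans
      (commutator_le_left_of le_normalizer_of_normal)) (commutator_le_right_of
        (inf_le_right.trans (hnorm E hE)))) le_rfl).trans ((c E hE).trans (op E hE)))
  have y0 : ∀ E ∈ 𝒦, ⁅E, N⁆ ≤ N ⊓ R := fun E hE => le_inf (commutator_le_right_of
    le_normalizer_of_normal) ((commutator_mono (le E hE) le_rfl).trans
      (commutator_le_left_of le_normalizer_of_normal))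
  have y2 : ∀ E ∈ 𝒦, N ≤ normalizer (Oup p E : Set G) := by
    intro E hE n hn
    rw [← cj_eq_iff, cj_Oup]
    refine ((x4 E hE _ (hinv n E hE)).resolve_right fun e => (h E hE).1 ?_).symm
    have e1 : E ≤ cj n E ⊔ (N ⊓ R) := fun x hx => by
      have h4 := mul_mem (mem_sup_right (y0 E hE (commutator_mem_commutator hx hn)))
        (mem_sup_left (conj_mem_cj n hx) : _ ∈ cj n E ⊔ (N ⊓ R))
      simpa [commutatorElement_def, mul_assoc] using h4
    have e2 : ⁅Oup p E, E⁆ ≤ Op p ⊤ := (commutator_mono le_rfl e1).trans (commutator_sup_le' (nQ _)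
      (nQ _) ((commutator_mono (Oup_le E) le_rfl).trans e) (y1 E hE))
    exact pCl_of_isPGroup (isPGroup_of_Oup_le (Op_isPGroup p ⊤) ((x1 E hE).ge.trans
      ((commutator_mono le_rfl inf_le_right).trans e2)))
  have y3 : ∀ E ∈ 𝒦, ⁅Oup p E, N⁆ ≤ Op p ⊤ := by
    intro E hE
    refine (commutator_mono ((x1 E hE).ge.trans (commutator_mono le_rfl inf_le_right)) le_rfl).trans
      (three_subgroups (nQ _) (nQ _) (nQ _) ?_ ?_)
    · rw [commutator_comm]
      exact (commutator_mono le_rfl (y0 E hE)).trans (y1 E hE)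
    · exact (commutator_mono (le_inf (commutator_le_left_of le_normalizer_of_normal)
        ((commutator_le_right_of (y2 E hE)).trans (Oup_le E))) le_rfl).trans ((c E hE).trans (op E hE))
  let L := (centralizer (N.map (QuotientGroup.mk' (Op p ⊤)) : Set (G ⧸ Op p ⊤))).comap
    (QuotientGroup.mk' (Op p ⊤))
  have hL : ∀ U : Subgroup G, U ≤ L ↔ ⁅U, N⁆ ≤ Op p ⊤ := fun U => by
    rw [← map_le_iff_le_comap, ← comm_bot_iff, ← map_commutator, map_mk_eq_bot_iff]
  haveI : (N.map (QuotientGroup.mk' (Op p ⊤))).Normal := .map ‹_› _ (QuotientGroup.mk'_surjective _)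
  haveI : L.Normal := Normal.comap inferInstance _
  have y4 := (hL _).1 ((Oup_mono le_top).trans ((Oup_Oup ⊤).ge.trans ((Oup_mono hres).trans
    (Oup_le_of_family (N := L) hR.le fun K hK => ⟨le K hK, hnorm K hK, (hL _).2 (y3 K hK)⟩))) :
      Oup p N ≤ L)
  have s := hT.inf_normal le_top n1
  refine n2 (s.pCl_iff.2 (s.sup_Oup.ge.trans (sup_le le_normalizer
    (le_normalizer_iff_commutator_le_right.2 (le_inf ?_ ?_)))))
  · exact (commutator_mono le_rfl inf_le_right).trans (y4.trans hT.Op_le)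
  · exact (commutator_mono (Oup_le N) inf_le_right).trans (commutator_le_self N)

end

/-- Let H be a finite group, p a prime, and 𝒦 a nonempty set of subgroups of H permuted transitively by conjugation, with R the subgroup generated by the members of 𝒦. Suppose O^p(H) ≤ R, each E ∈ 𝒦 has E·O_p(H) normal in R·O_p(H), and each E ∈ 𝒦 is p-minimal (generated by the conjugates of a Sylow p-subgroup T_E of E, with T_E in exactly one maximal subgroup of E). Then H is p-minimal in the same sense. If instead each E ∈ 𝒦 is strongly p-irreducible, then H is p-irreducible and, for E, K ∈ 𝒦, either O^p(E·O_p(H)) = O^p(K·O_p(H)) or [E, K] ≤ O_p(H). -/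
theorem result {H : Type*} [Group H] [Finite H] {p : ℕ} [Fact p.Prime] (𝒦 : Set (Subgroup H)) (hne : 𝒦.Nonempty) (hinv : ∀ h : H, ∀ E ∈ 𝒦, E.map (MulAut.conj h).toMonoidHom ∈ 𝒦) (htr : ∀ E ∈ 𝒦, ∀ K ∈ 𝒦, ∃ h : H, K = E.map (MulAut.conj h).toMonoidHom) (hres : Cfsg.pResidual p H ≤ sSup 𝒦) (hnorm : ∀ E ∈ 𝒦, sSup 𝒦 ⊔ Cfsg.pCore p H ≤ Subgroup.normalizer ((E ⊔ Cfsg.pCore p H : Subgroup H) : Set H)) : ((∀ E ∈ 𝒦, ∀ T : Sylow p ↥E, Cfsg.IsMinimalOver (T : Subgroup ↥E)) → ∀ T : Sylow p H, Cfsg.IsMinimalOver (T : Subgroup H)) ∧ ((∀ E ∈ 𝒦, Cfsg.IsStronglyPIrreducible p ↥E) → Cfsg.IsPIrreducible p H ∧ ∀ E ∈ 𝒦, ∀ K ∈ 𝒦, (Cfsg.pResidual p ↥(E ⊔ Cfsg.pCore p H)).map (E ⊔ Cfsg.pCore p H).subtype = (Cfsg.pResidual p ↥(K ⊔ Cfsg.pCore p H)).map (K ⊔ Cfsg.pCore p H).subtype ∨ ⁅E, K⁆ ≤ Cfsg.pCore p H) := by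
  open Subgroup CfsgH9 in
  have nQ : ⊤ ≤ normalizer (pCore p H : Set H) := Op_top (G := H) p ▸ le_normalizer_Op le_normalizer
  haveI := normal_of_top_le nQ
  obtain ⟨a, b⟩ := main (p := p) ((fun E => E ⊔ pCore p H) '' 𝒦) (hne.image _)
    (R := sSup 𝒦 ⊔ pCore p H) (le_antisymm (sup_le (sSup_le fun E hE => le_sup_left.trans
      (le_sSup ⟨E, hE, rfl⟩)) (le_sup_right.trans (le_sSup ⟨_, hne.some_mem, rfl⟩)))
      (sSup_le (by rintro _ ⟨E, hE, rfl⟩; exact sup_le_sup_right (le_sSup hE) _)))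
    (by rintro h _ ⟨E, hE, rfl⟩; exact ⟨_, hinv h E hE, by rw [cj_sup, cj_normal h (pCore p H)]⟩)
    (by
      rintro _ ⟨E, hE, rfl⟩ _ ⟨K, hK, rfl⟩
      obtain ⟨h, rfl⟩ := htr E hE K hK
      exact ⟨h, by rw [cj_sup, cj_normal h (pCore p H)]⟩)
    (by rw [Oup_top]; exact le_sup_of_le_left hres)
    (by rintro _ ⟨E, hE, rfl⟩; rw [Op_top]; exact le_sup_right)
    (by rintro _ ⟨E, hE, rfl⟩; exact hnorm E hE)
  refine ⟨fun h T => minO_top_iff.1 (a ?_ _ (syl_sylow T)), fun h => ?_⟩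
  · rintro _ ⟨E, hE, rfl⟩ S hS
    refine minO_sup (pCore_isPGroup p) (fun T hT => ?_) hS
    obtain ⟨T, rfl⟩ := hT.exists_sylow
    exact minO_map_subtype.2 (h E hE T)
  have hk : ∀ X : Subgroup H, IsPGroup p (kr (tp (QuotientGroup.mk' (pCore p H))) ⊓ X : Subgroup H) :=
    fun X => (pCore_isPGroup p).to_le (inf_le_left.trans (kr_tp_mk' _).le)
  obtain ⟨c, d⟩ := b (by
    rintro _ ⟨E, hE, rfl⟩
    rw [← sPIrr_im_iff le_top (hk _)]
    have := im_sup_kr (f := tp (QuotientGroup.mk' (pCore p H))) (le_top (a := E))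
    rw [kr_tp_mk'] at this
    rw [this, sPIrr_im_iff le_top (hk _)]
    exact sPIrr_iff.2 (h E hE))
  refine ⟨pIrr_top_iff.1 c, fun E hE K hK => ?_⟩
  rw [Oup_eq, Oup_eq, ← Op_top]
  exact (d _ ⟨E, hE, rfl⟩ _ ⟨K, hK, rfl⟩).imp (by rw [Op_top]; exact id) fun e =>
    (commutator_mono le_sup_left le_sup_left).trans e

end Cfsg.Agent.S2855
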