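import Cfsg.Statements.S2859
import Mathlib
import Cfsg.Agent.H9.AsymL

set_option autoImplicit false
open Cfsg

namespace Cfsg.Agent.S2859

section
open Subgroup CfsgH9

theorem aux {G : Type*} [Group G] [Finite G] {p : ℕ} [Fact p.Prime] {Q H H₁ H₂ K : Subgroup G}
    (hQ : IsPGroup p Q) (w : WC p Q ⊤) (hH : H = ncl ⊤ Q)
    (h1 : H₁ ≤ H) (n1 : H ≤ normalizer (H₁ : Set G)) (h2 : H₂ ≤ H) (n2 : H ≤ normalizer (H₂ : Set G))
    (hs : H₁ ⊔ H₂ = H) (hc : ⁅H₁, H₂⁆ ≤ normalizer (Q : Set G))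
    (hK : K = Oup p (ncl (H₁ ⊔ Q) Q)) :
    (⁅K, Q⁆ = K ∧ ⁅K, H₁⁆ = K ∧ K ≤ ⁅H₁, H₁⁆ ∧ H ≤ normalizer (K : Set G)) ∧
      ⁅K, H₂⁆ ≤ Op p H ∧ ncl (H₁ ⊔ Q) Q = Q ⊔ K := by
  have q : Q ≤ H := hH ▸ le_ncl _ _
  have e : ncl H Q = H := by rw [hH]; exact w.ncl_ncl hQ le_top
  have nN := le_normalizer_commutator n1 n2
  have lN : ⁅H₁, H₂⁆ ≤ H₁ := commutator_le_left_of (h2.trans n1)
  have nO : H ≤ normalizer (Op p H : Set G) := le_normalizer_Op le_normalizer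
  have a : ⁅⁅H₁, H₂⁆, H⁆ ≤ Op p H := by
    rw [commutator_comm]
    conv_lhs => enter [1]; rw [← e]
    exact (comm_ncl_le_Op hQ (q.trans nN) nN hc).trans (Op_mono (Sn.of_normal (lN.trans h1) nN))
  have e1 := (w.mono le_top).ncl_ncl hQ (le_sup_right : Q ≤ H₁ ⊔ Q)
  have b : ⁅K, Q⁆ = K := hK ▸ comm_Oup_of_ncl (le_ncl _ _) e1 hQ
  have k1 : K ≤ H₁ := hK ▸ Oup_le_sup_of_isPGroup hQ (q.trans n1)
    ((ncl_le_of_le le_sup_right).trans (sup_comm _ _).le)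
  have kk : Oup p K = K := by rw [hK, Oup_Oup]
  have red : ∀ N : Subgroup G, N ≤ H → H ≤ normalizer (N : Set G) → K ≤ N ⊔ Op p H → K ≤ N :=
    fun N c d f => kk ▸ Oup_le_sup_of_isPGroup (Op_isPGroup p H) ((Op_le p H).trans d)
      (f.trans (sup_comm _ _).le)
  have n11 := le_normalizer_commutator n1 n1
  have c : K ≤ ⁅H₁, H₁⁆ := by
    refine red _ ((commutator_le_left_of le_normalizer).trans h1) n11 ?_
    have d : ⁅H₁, H⁆ ≤ ⁅H₁, H₁⁆ ⊔ ⁅H₁, H₂⁆ := by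
      rw [← comm_sup_eq le_normalizer (h2.trans n1), hs]
    have nn := le_normalizer_sup n11 nO
    rw [← b, ← b]
    refine (commutator_mono ((commutator_mono k1 q).trans d) q).trans (commutator_sup_le
      (((commutator_le_left_of le_normalizer).trans h1).trans nn) ((lN.trans h1).trans nn)
      ((commutator_le_left_of n11).trans le_sup_left) (a.trans le_sup_right))
  have d : ⁅K, H₂⁆ ≤ Op p H := (commutator_mono c le_rfl).trans (three_subgroups (h1.trans nO)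
    (h1.trans nO) (h2.trans nO) ((commutator_mono le_rfl h1).trans a)
      (by rw [commutator_comm H₂]; exact (commutator_mono le_rfl h1).trans a))
  have n0 : H₁ ≤ normalizer (K : Set G) :=
    hK ▸ le_normalizer_Oup (le_sup_left.trans (le_normalizer_ncl _ _))
  have n : H ≤ normalizer (K : Set G) := by
    rw [← hs]
    refine sup_le n0 ?_
    rw [← kk, ← Oup_sup_Op ((Sn.of_normal k1 n0).trans (Sn.of_normal h1 n1))]
    exact le_normalizer_Oup (le_normalizer_of_commutator_le le_sup_right (commutator_sup_le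
      ((k1.trans h1).trans nO) le_normalizer d (commutator_le_left_of (h2.trans nO))))
  refine ⟨⟨b, le_antisymm (commutator_le_left_of n0) (red _ ((commutator_le_left_of n0).trans
    (k1.trans h1)) (le_normalizer_commutator n n1) ?_), c, n⟩, d,
    hK ▸ (sup_Oup_of_ncl (le_ncl _ _) e1).symm⟩
  refine b.ge.trans ((commutator_mono le_rfl (q.trans hs.ge)).trans ?_)
  rw [comm_sup_eq n0 (h2.trans n)]
  exact sup_le_sup_left d _

end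

/-- Let Q be a nontrivial p-subgroup of the finite group H that is a weakly closed subgroup, H° the weak closure of Q in H (generated by the conjugates of Q) and H_∘ = O^p(H°). Suppose H₁, H₂ are normal subgroups of H° with H° = H₁H₂ and [H₁, H₂] ≤ N_H(Q), and put Kᵢ = O^p of the weak closure of Q in HᵢQ. Then for i = 1, 2: Kᵢ = [Kᵢ, Q] = [Kᵢ, Hᵢ] ≤ Hᵢ′ and Kᵢ is normal in H°; H_∘ = K₁K₂; and [K₁, K₂] ≤ O_p(H°). -/
theorem result {G : Type*} [Group G] [Finite G] {p : ℕ} [Fact p.Prime] (Q : Subgroup G) (hQp : IsPGroup p ↥Q) (hQ1 : Q ≠ ⊥) (hwc : Cfsg.IsWeaklyClosedSubgroup p Q) (Hc : Subgroup G) (hHc : Hc = Cfsg.weakClosure Q ⊤) (H₁ H₂ : Subgroup G) (hn₁ : H₁ ≤ Hc ∧ Hc ≤ Subgroup.normalizer ((H₁ : Subgroup G) : Set G)) (hn₂ : H₂ ≤ Hc ∧ Hc ≤ Subgroup.normalizer ((H₂ : Subgroup G) : Set G)) (hprod : H₁ ⊔ H₂ = Hc) (hcomm : ⁅H₁, H₂⁆ ≤ Subgroup.normalizer ((Q :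 Subgroup G) : Set G)) (K₁ K₂ : Subgroup G) (hK₁ : K₁ = ((Cfsg.pResidual p ↥(Cfsg.weakClosure Q (H₁ ⊔ Q))).map ((Cfsg.weakClosure Q (H₁ ⊔ Q))).subtype)) (hK₂ : K₂ = ((Cfsg.pResidual p ↥(Cfsg.weakClosure Q (H₂ ⊔ Q))).map ((Cfsg.weakClosure Q (H₂ ⊔ Q))).subtype)) : (⁅K₁, Q⁆ = K₁ ∧ ⁅K₁, H₁⁆ = K₁ ∧ K₁ ≤ ⁅H₁, H₁⁆ ∧ Hc ≤ Subgroup.normalizer ((K₁ : Subgroup G) : Set G)) ∧ (⁅K₂, Q⁆ = K₂ ∧ ⁅K₂, H₂⁆ = K₂ ∧ K₂ ≤ ⁅H₂, H₂⁆ ∧ Hc ≤ Subgroup.normalizer ((K₂ : Subgroup G) : Set G)) ∧ K₁ ⊔ K₂ = ((Cfsg.pResidual p ↥Hc).map (Hc).subtype) ∧ ⁅K₁, K₂⁆ ≤ (Cfsg.pCoreOf p Hc) := by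
  open Subgroup CfsgH9 in
  have w := (wc_top_iff hQp).2 hwc
  rw [← wcl_top, wcl_self le_top] at hHc
  rw [Oup_eq, ← wcl_top, w.wcl_eq hQp le_sup_right le_top] at hK₁ hK₂
  obtain ⟨a1, b1, c1⟩ := aux hQp w hHc hn₁.1 hn₁.2 hn₂.1 hn₂.2 hprod hcomm hK₁
  obtain ⟨a2, b2, c2⟩ := aux hQp w hHc hn₂.1 hn₂.2 hn₁.1 hn₁.2 ((sup_comm _ _).trans hprod)
    (commutator_comm H₁ H₂ ▸ hcomm) hK₂
  have q : Q ≤ Hc := hHc ▸ le_ncl _ _
  rw [Oup_eq]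
  refine ⟨a1, a2, le_antisymm (sup_le ?_ ?_) ?_, (commutator_mono le_rfl
    (a2.2.2.1.trans (commutator_le_left_of le_normalizer))).trans b1⟩
  · exact hK₁ ▸ Oup_mono ((ncl_le_of_le le_sup_right).trans (sup_le hn₁.1 q))
  · exact hK₂ ▸ Oup_mono ((ncl_le_of_le le_sup_right).trans (sup_le hn₂.1 q))
  · have n := le_normalizer_sup a1.2.2.2 a2.2.2.2
    refine Oup_le_sup_of_isPGroup hQp (q.trans n) ?_
    have e : ncl Hc Q = Hc := by rw [hHc]; exact w.ncl_ncl hQp le_top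
    have key : ∀ H K : Subgroup G, H ≤ Hc → K ≤ K₁ ⊔ K₂ → ncl (H ⊔ Q) Q = Q ⊔ K →
        H ≤ normalizer ((Q ⊔ (K₁ ⊔ K₂) : Subgroup G) : Set G) := fun H K a b c =>
      le_normalizer_iff_cj.2 fun g hg => by
        rw [cj_sup, cj_eq_of_mem_normalizer (n (a hg))]
        exact sup_le ((cj_le_ncl (mem_sup_left hg)).trans (c.le.trans (sup_le_sup_left b _)))
          le_sup_right
    exact e.ge.trans (ncl_le le_sup_left (hprod.ge.trans (sup_le (key _ _ hn₁.1 le_sup_left c1)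
      (key _ _ hn₂.1 le_sup_right c2))))

end Cfsg.Agent.S2859
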