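import Cfsg.Statements.S2860
import Mathlib
import Cfsg.Agent.H9.AsymL
import Cfsg.Agent.S2815

set_option autoImplicit false
open Cfsg

namespace Cfsg.Agent.S2860

/-- Let Q be a nontrivial large p-subgroup of the finite group H, U a nontrivial elementary abelian p-subgroup of H, and Q ≤ E ≤ N_H(U) with Q not normal in E. Suppose O_p(E/C_E(U)) = 1 and O^p(E)·C_E(U)/C_E(U) is quasisimple. Let E° be the weak closure of Q in E (generated by the conjugates of Q inside E) and E_∘ = O^p(E°). Then O^p(E)·C_E(U) = E_∘·C_E(U); E_∘ is perfect and equals O^p(E_∘); E_∘/C_{E_∘}(U) and E_∘/O_p(E_∘) are quasisimple; and E_∘ = [E_∘, Y] for every p-subgroup Y of E not centralizing U. -/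
theorem result {G : Type*} [Group G] [Finite G] {p : ℕ} [Fact p.Prime] (Q : Subgroup G) (hQp : IsPGroup p ↥Q) (hQ1 : Q ≠ ⊥) (hQ : Cfsg.IsLarge Q) (U : Subgroup G) (hU : Cfsg.IsElementaryAbelian p U) (hU1 : U ≠ ⊥) (E : Subgroup G) (hQE : Q ≤ E) (hEU : E ≤ Subgroup.normalizer ((U : Subgroup G) : Set G)) (hQn : ¬ E ≤ Subgroup.normalizer ((Q : Subgroup G) : Set G)) [hn : ((Subgroup.centralizer ((U : Subgroup G) : Set G)).subgroupOf E).Normal] (hred : Cfsg.pCore p (↥E ⧸ (Subgroup.centralizer ((U : Subgroup G) : Set G)).subgroupOf E) = ⊥) (hqs : Cfsg.IsQuasisimple ↥(((Cfsg.pResidual p ↥E) ⊔ (Subgroup.centralizer ((U : Subgroup G) : Set G)).subgroupOf E).map (QuotientGroup.mk' ((Subgroup.centralizer ((U : Subgroup G) : Set G)).subgroupOf E)))) (Er : Subgroup G) (hEr : Er = ((Cfsg.pResidual p ↥(Cfsg.weakClosure Q E)).map ((Cfsg.weakClosure Q E)).subtype)) [hn2 : ((Subgroup.centralizer ((U : Subgroup G) : Set G)).subgroupOf Er).Normal] : ((Cfsg.pResidual p ↥E).map (E).subtype) ⊔ (E ⊓ Subgroup.centralizer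 ((U : Subgroup G) : Set G)) = Er ⊔ (E ⊓ Subgroup.centralizer ((U : Subgroup G) : Set G)) ∧ ⁅Er, Er⁆ = Er ∧ ((Cfsg.pResidual p ↥Er).map (Er).subtype) = Er ∧ Cfsg.IsQuasisimple (↥Er ⧸ (Subgroup.centralizer ((U : Subgroup G) : Set G)).subgroupOf Er) ∧ Cfsg.IsQuasisimple (↥Er ⧸ Cfsg.pCore p ↥Er) ∧ ∀ Y : Subgroup G, Y ≤ E → IsPGroup p ↥Y → ¬ Y ≤ Subgroup.centralizer ((U : Subgroup G) : Set G) → ⁅Er, Y⁆ = Er := by
  open Subgroup CfsgH9 in
  have w := large_wc hQ hQp hQ1
  have hUp := ea_isPGroup hU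
  rw [Oup_eq, ← wcl_top, w.wcl_eq hQp hQE le_top] at hEr
  set C := centralizer (U : Set G)
  set f := QuotientGroup.mk' (C.subgroupOf E)
  have hf : Function.Surjective f := QuotientGroup.mk'_surjective _
  have k : kr f = E ⊓ C := by rw [kr_mk', subgroupOf_map_subtype, inf_comm]
  have i0 : im f (Oup p E) = Cfsg.pResidual p (E ⧸ C.subgroupOf E) := by
    rw [im_Oup le_rfl, im_top hf, Oup_top]
  have q : QS (im f (Oup p E)) := by
    refine qs_iff.2 ?_
    rwa [Subgroup.map_sup, (map_mk_eq_bot_iff (N := C.subgroupOf E)).2 le_rfl, sup_bot_eq,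
      ← im_map_subtype, Oup_eq] at hqs
  have nb : ∀ Y ≤ E, ¬ Y ≤ C → im f Y ≠ ⊥ := fun Y a b c =>
    b (((le_pre_iff a).2 c.le).trans (pre_bot.le.trans (k.le.trans inf_le_right)))
  have qC : ¬ Q ≤ C := fun a => hQn (hEU.trans (hQ.2 U (le_centralizer_comm.1 a) hU1))
  have key : ∀ Y ≤ E, IsPGroup p Y → ¬ Y ≤ C → ⁅im f (Oup p E), im f Y⁆ = im f (Oup p E) := by
    intro Y a b c
    have d := nb Y a c
    obtain ⟨x, -, hx⟩ := exists_orderOf_prime_of_ne_bot (isPGroup_im (f := f) b) d
    rw [i0] at q ⊢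
    exact ((Cfsg.Agent.S2815.result (hx ▸ orderOf_dvd_natCard x) hred (qs_iff.1 q)).2.1 _
      (isPGroup_im b) d).1
  have n0 : ncl E Q ≤ E := ncl_le_of_le hQE
  have eE : Er ≤ E := hEr ▸ (Oup_le _).trans n0
  have eN : Er ≤ ncl E Q := hEr ▸ Oup_le _
  have i1 : im f Er = im f (Oup p E) := by
    refine le_antisymm (im_mono (hEr ▸ Oup_mono n0)) ?_
    rw [hEr, im_Oup n0, ← Oup_Oup, im_Oup (Oup_le _)]
    refine Oup_mono ((key Q hQE hQp qC).ge.trans ?_)
    rw [← im_commutator (Oup_le _) hQE]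
    exact im_mono ((commutator_mono (Oup_le _) (le_ncl _ _)).trans
      (commutator_le_right_of (le_normalizer_ncl _ _)))
  rw [← i1] at q key
  have kk : Oup p Er = Er := by rw [hEr, Oup_Oup]
  have nE : E ≤ normalizer (Er : Set G) := hEr ▸ le_normalizer_Oup (le_normalizer_ncl _ _)
  have cm := (large_comm_le hQ hQp hQ1 hQE hUp hU1 hEU).2
  have b : ⁅Er, Q⁆ = Er := hEr ▸ comm_Oup_of_ncl (le_ncl _ _) ((w.mono le_top).ncl_ncl hQp hQE) hQp
  have sn : Sn Er (ncl E Q) := Sn.of_normal eN (n0.trans nE)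
  have cm' : ⁅Er ⊓ C, ncl E Q⁆ ≤ Op p Er := by
    rw [Op_of_sn sn]
    exact le_inf (by rw [commutator_comm]; exact (commutator_mono le_rfl inf_le_right).trans cm)
      ((commutator_mono inf_le_left le_rfl).trans (commutator_le_left_of (n0.trans nE)))
  have red : ∀ N ≤ Er, Er ≤ normalizer (N : Set G) → Er ≤ N ⊔ Op p Er → N = Er :=
    fun N c d f => le_antisymm c (kk ▸ Oup_le_sup_of_isPGroup (Op_isPGroup p Er)
      ((Op_le p Er).trans d) (f.trans (sup_comm _ _).le))
  have fac : ∀ N ≤ Er, Er ≤ normalizer (N : Set G) → im f N = im f Er → Er ≤ N ⊔ (Er ⊓ C) := by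
    intro N a c d
    have := (im_le_im_iff eE (a.trans eE)).1 d.ge
    rw [k] at this
    refine (le_inf this le_rfl).trans ?_
    rw [inf_sup_of_le_normalizer (le_normalizer_inf ((a.trans eE).trans le_normalizer)
      (le_normalizer_centralizer ((a.trans eE).trans hEU))) a]
    exact sup_le_sup_left (le_inf inf_le_right (inf_le_left.trans inf_le_right)) _
  have nO : E ≤ normalizer (Op p Er : Set G) := le_normalizer_Op nE
  have perf : ⁅Er, Er⁆ = Er := by
    have n := le_normalizer_commutator nE nE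
    have l : ⁅Er, Er⁆ ≤ Er := commutator_le_left_of le_normalizer
    refine red _ l (eE.trans n) (b.ge.trans ((commutator_mono (fac _ l (eE.trans n)
      (by rw [im_commutator eE eE, q.perf])) le_rfl).trans (commutator_sup_le
        ((l.trans eE).trans (le_normalizer_sup n nO)) ((inf_le_left.trans eE).trans
        (le_normalizer_sup n nO)) ((commutator_le_left_of (hQE.trans n)).trans le_sup_left)
        (((commutator_mono le_rfl (le_ncl _ _)).trans cm').trans le_sup_right))))
  have oC : Op p Er ≤ C := (red_iff_quot.2 hred).le_of_isPGroup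
    ((sn_Op p Er).trans (Sn.of_normal eE nE)) (Op_isPGroup p _)
  have tr : ∀ (N : Subgroup Er) [N.Normal], N.map Er.subtype ≤ C → ⁅Er ⊓ C, Er⁆ ≤ N.map Er.subtype →
      Cfsg.IsQuasisimple (Er ⧸ N) := by
    intro N _ h1 h2
    have hg := QuotientGroup.mk'_surjective N
    rw [← qs_top, ← im_top hg]
    refine ⟨by rw [← im_commutator le_rfl le_rfl, perf], fun e => q.ne_bot ?_, fun W a c => ?_⟩
    · have := (le_pre_iff le_rfl).2 e.le
      rw [pre_bot, kr_mk'] at this
      exact le_bot_iff.1 ((le_pre_iff eE).1 (pre_bot.ge.trans' (k ▸ le_inf eE (this.trans h1))))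
    · have n : Er ≤ normalizer (pre (QuotientGroup.mk' N) W : Set G) := le_normalizer_pre le_rfl c
      rcases q.norm _ (im_mono pre_le) (im_le_normalizer n) with e | e
      · left
        have := fac _ pre_le n e
        have z : Er ≤ pre (QuotientGroup.mk' N) W := perf.ge.trans ((commutator_mono this
          le_rfl).trans (commutator_sup_le le_normalizer (inf_le_left.trans n)
            (commutator_le_left_of n) (h2.trans ((kr_mk' N).ge.trans kr_le_pre))))
        exact le_antisymm a ((le_pre_iff le_rfl).1 z)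
      · right
        rw [im_comm_bot_iff (pre_le.trans eE) eE, k] at e
        have nN := le_normalizer_map_subtype N
        rw [← im_pre hg (X := W), im_comm_bot_iff pre_le le_rfl, kr_mk']
        exact comm_le_of_perfect perf (pre_le.trans nN) nN ((commutator_mono (le_inf
          ((commutator_le_left_of n).trans pre_le) (e.trans inf_le_right)) le_rfl).trans h2)
  rw [Oup_eq, Oup_eq]
  refine ⟨?_, perf, kk, tr _ (by rw [subgroupOf_map_subtype]; exact inf_le_left) ?_, tr _ oC
    ((commutator_mono le_rfl eN).trans cm'), fun Y a c d => ?_⟩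
  · rw [← k]; exact ((im_eq_im_iff eE (Oup_le _)).1 i1).symm
  · rw [subgroupOf_map_subtype, inf_comm C]
    exact commutator_le_left_of (le_normalizer_inf le_normalizer
      (le_normalizer_centralizer (eE.trans hEU)))
  · have l := commutator_le_left_of (a.trans nE)
    have n := le_normalizer_comm_left Er Y
    have := fac _ l n (by rw [im_commutator eE a, key Y a c d])
    have nn := le_normalizer_sup n (eE.trans nO)
    refine red _ l n (perf.ge.trans ((commutator_mono this le_rfl).trans (commutator_sup_le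
      (l.trans nn) (inf_le_left.trans nn) ((commutator_le_left_of n).trans le_sup_left)
      (((commutator_mono le_rfl eN).trans cm').trans le_sup_right))))

end Cfsg.Agent.S2860
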