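import Cfsg.Statements.S2864
import Mathlib
import Cfsg.Agent.H9.FrakM

set_option autoImplicit false
open Cfsg

namespace Cfsg.Agent.S2864

/-- Standing hypotheses: G a finite group, S a Sylow p-subgroup, Q a nontrivial large p-subgroup of G contained in S, M a subgroup containing S with the basic property (M ∈ 𝔐_G(S)); Y_M the largest p-reduced normal subgroup of M and M† = M·C_G(Y_M). Let I be a nontrivial normal p-subgroup of M and Y ≤ O_p(M†); let L be a subgroup of G containing Y and A a normal p-subgroup of L with I ≤ A ≤ M. If [Y, A] ≤ [I, A], then Y ≤ O_p(L). -/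
theorem result {G : Type*} [Group G] [Finite G] {p : ℕ} [Fact p.Prime] (S : Sylow p G) (Q : Subgroup G) (hQp : IsPGroup p ↥Q) (hQ1 : Q ≠ ⊥) (hQS : Q ≤ (S : Subgroup G)) (hQ : Cfsg.IsLarge Q) (M : Subgroup G) (hSM : (S : Subgroup G) ≤ M) (hM : Cfsg.IsInFrakM p M) (I : Subgroup G) (hI1 : I ≠ ⊥) (hIp : IsPGroup p ↥I) (hIM : I ≤ M ∧ M ≤ Subgroup.normalizer ((I : Subgroup G) : Set G)) (Y : Subgroup G) (hY : Y ≤ (Cfsg.pCoreOf p (M ⊔ Subgroup.centralizer (((Cfsg.largestPReducedOf p M) : Subgroup G) : Set G)))) (L : Subgroup G) (hYL : Y ≤ L) (A : Subgroup G) (hAp : IsPGroup p ↥A) (hAL : A ≤ L ∧ L ≤ Subgroup.normalizer ((A : Subgroup G) : Set G)) (hIA : I ≤ A) (hAM : A ≤ M) (hc : ⁅Y, A⁆ ≤ ⁅I, A⁆) : Y ≤ (Cfsg.pCoreOf p L) := by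
  open Subgroup CfsgH9 in
  have h := fms_of_large S hQp hQ1 hQ hSM hM
  have hYp : IsPGroup p Y := (Op_isPGroup p _).to_le hY
  have n : L ≤ normalizer ((⁅A, A⁆ : Subgroup G) : Set G) := le_normalizer_commutator hAL.2 hAL.2
  set K := snc L Y
  have k : K ≤ L := (sn_snc hYL).le
  have a : ⁅K, A⁆ ≤ ⁅A, A⁆ := by
    refine (le_Cmod_iff (k.trans n) (hAL.1.trans n)).1 (snc_le (K := L ⊓ Cmod ⁅A, A⁆ A)
      (le_inf hYL ((le_Cmod_iff (hYL.trans n) (hAL.1.trans n)).2 (hc.trans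
        (commutator_mono hIA le_rfl)))) (sn_inf_of_normal (le_normalizer_Cmod n hAL.2)) |>.trans
          inf_le_right)
  have b : ⁅A, Oup p K⁆ = ⊥ := Oup_comm_of_le_frattiniOf hAp (k.trans hAL.2) (by
    rw [commutator_comm]
    exact ((commutator_mono (Oup_le _) le_rfl).trans a).trans (commutator_le_frattiniOf_p hAp))
  have c : Oup p K ≤ dag p M := (((comm_bot_iff'.1 b).trans (centralizer_anti hIA)).trans
    (centralizer_le_normalizer' I)).trans (h.normalizer_le hIp hI1 hIM.2)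
  have d : Oup p K ≤ Op p (dag p M) := by
    rw [← comm_Oup_of_ncl (le_snc L Y) (ncl_snc hYL) hYp]
    exact (commutator_mono c hY).trans (commutator_le_right_of (le_normalizer_Op le_normalizer))
  exact (le_snc L Y).trans (le_Op (sn_snc hYL) (isPGroup_of_Oup_le (Op_isPGroup p _) d))

end Cfsg.Agent.S2864
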