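import Cfsg.Statements.S2872
import Mathlib
import Cfsg.Agent.L0.TT

set_option autoImplicit false
open Cfsg

namespace Cfsg.Agent.S2872

open Cfsg Subgroup CfsgH2 CfsgL0

/-- Let S be a Sylow 2-subgroup of the finite group G. Then G has a proper normal subgroup of 2-power index (O²(G) ≠ G), or Ω₁(Z(S)) is contained in the Frattini subgroup of S, or N_G(S) acts nontrivially on Ω₁(Z(S)) by conjugation. -/
theorem result {G : Type*} [Group G] [Finite G] (S : Sylow 2 G) : Cfsg.pResidual 2 G ≠ ⊤ ∨ Cfsg.omegaOne 2 ((S : Subgroup G) ⊓ Subgroup.centralizer ((S : Subgroup G) : Set G)) ≤ (frattini ↥(S : Subgroup G)).map (S : Subgroup G).subtype ∨ ∃ g ∈ Subgroup.normalizer ((S : Subgroup G) : Set G), ∃ z ∈ Cfsg.omegaOne 2 ((S : Subgroup G) ⊓ Subgroup.centralizer ((S : Subgroup G) : Set G)), g * z * g⁻¹ ≠ z := by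
  by_contra h
  push Not at h
  obtain ⟨h1, h2, h3⟩ := h
  obtain ⟨z, hz, hz'⟩ := SetLike.not_le_iff_exists.1 h2
  have hz1 := omegaOne_le hz
  obtain ⟨M, hM, h4⟩ := CfsgH1.exists_coatom_not_le (G := S) (N := zpowers ⟨z, hz1.1⟩) (fun e =>
    hz' ⟨_, e (mem_zpowers _), rfl⟩)
  have hi : (M.map (S : Subgroup G).subtype).relIndex S = 2 := by
    obtain ⟨L, a, -, -, b⟩ := exists_maximal_sub (S.2.to_subgroup ⊤) (lt_top_iff_ne_top.2 hM.1)
    have : L = M := (hM.le_iff.1 a).resolve_left (by rintro rfl; simp at b)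
    rw [this, relIndex_top_right] at b
    rw [relIndex, subgroupOf, comap_map_eq_self_of_injective (subtype_injective _), b]
  obtain ⟨K, a, b, c⟩ := tt_inv (Syl.odd_index (syl_top S)) hi ((elem_omegaOne (isMulComm_cent_inf _)).2 z hz) S.2
    (le_cent1_iff.2 hz1.2) hz1.1 (fun g hg => by
      have := h3 g⁻¹ (mem_norm_of_conj (by simpa using hg)) z hz
      rw [inv_inv] at this
      rw [this]
      rintro ⟨y, hy, rfl⟩
      exact h4 (zpowers_le.2 hy))
  have := piRes_le_of (π := {2}) (M := ⊤) (K := K) (top_le_norm_iff.2 a) (by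
    rw [relIndex_top_right, b]; exact PiN.of_prime Nat.prime_two rfl)
  rw [← pResidual_eq, h1] at this
  exact c (this (mem_top z))

end Cfsg.Agent.S2872
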