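import Cfsg.Statements.S2873
import Cfsg.Agent.H1.Misc1
import Cfsg.Agent.H1.LX
import Cfsg.Agent.H1.Prod
import Cfsg.Agent.L0.Invol

set_option autoImplicit false
open Cfsg

namespace Cfsg.Agent.S2873

/-- Let G be a finite group and r an odd prime such that G ⧸ O₂(G) is dihedral of order 2r, and let R be a Sylow r-subgroup of G with C_{O₂(G)}(R) = 1. Then N_G(R) is dihedral of order 2r; for any involution a of N_G(R), every involution of G outside O₂(G) is conjugate to a; and |C_{O₂(G)}(a)|² = |O₂(G)|. -/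
theorem result {G : Type*} [Group G] [Finite G] {r : ℕ} [Fact r.Prime] (hr : r ≠ 2) [hN : (Cfsg.pCore 2 G).Normal] (hquot : Nonempty (G ⧸ Cfsg.pCore 2 G ≃* DihedralGroup r)) (R : Sylow r G) (hC : Cfsg.pCore 2 G ⊓ Subgroup.centralizer ((R : Subgroup G) : Set G) = ⊥) : Nonempty (↥(Subgroup.normalizer ((R : Subgroup G) : Set G)) ≃* DihedralGroup r) ∧ ∀ a : G, a ∈ Subgroup.normalizer ((R : Subgroup G) : Set G) → orderOf a = 2 → (∀ b : G, orderOf b = 2 → b ∉ Cfsg.pCore 2 G → ∃ g : G, g * a * g⁻¹ = b) ∧ Nat.card ↥(Cfsg.pCore 2 G ⊓ Subgroup.centralizer ({a} : Set G)) ^ 2 = Nat.card ↥(Cfsg.pCore 2 G) := by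
  open Subgroup CfsgH2 in
  open CfsgH1 hiding card_inf_mul_relIndex card_lt_of_lt card_lt_of_ne_top card_map_mul_card_inf_ker card_mul_relIndex card_subgroupOf card_sup_dvd card_sup_mul_card_inf coprime_le_sup_cent exists_card_prime_le isNilpotent_map isNilpotent_of_le isPGroup_pCore isSolvable_map isSolvable_of_le le_pCore le_pPrimeCore relIndex_map_dvd in
  open scoped CfsgH1 in
  open CfsgL0 hiding cj cj_injective comm_zpowers_le conj_mem_of_mem_normalizer conj_mem_of_mem_normalizer' isPGroup_of_forall isPGroup_zpowers isPGroup_zpowers_of_orderOf mem_normalizer_of_conj_mem sec_sub in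
  open scoped CfsgL0 in
  open scoped commutatorElement in
  · have hp : r.Prime := Fact.out
    haveI : Fact (Nat.Prime 2) := ⟨Nat.prime_two⟩
    have pQ : IsPGroup 2 (pCore 2 G) := CfsgH1.isPGroup_pCore 2
    obtain ⟨e⟩ := hquot
    obtain ⟨π, sπ, kπ⟩ : ∃ π : G →* DihedralGroup r, Function.Surjective π ∧ π.ker = pCore 2 G :=
      ⟨e.toMonoidHom.comp (QuotientGroup.mk' _), e.surjective.comp (QuotientGroup.mk'_surjective _), by
        rw [← MonoidHom.comap_ker, (MonoidHom.ker_eq_bot_iff _).2 e.injective, MonoidHom.comap_bot, QuotientGroup.ker_mk']⟩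
    clear e
    generalize pCore 2 G = Q at *
    subst kπ
    have cG : Nat.card G = Nat.card π.ker * (2 * r) := by
      rw [← π.ker.card_mul_index, index_ker, MonoidHom.range_eq_top.2 sπ, card_top, DihedralGroup.nat_card]
    obtain ⟨k, hk⟩ := pQ.exists_card_eq
    have c2 : r.Coprime 2 := (Nat.coprime_primes hp Nat.prime_two).2 hr
    have cR : Nat.card R = r := by
      obtain ⟨j, hj⟩ := R.isPGroup'.exists_card_eq
      refine Nat.dvd_antisymm (Nat.Coprime.dvd_of_dvd_mul_left (m := 2 ^ (k + 1)) (hj ▸ (c2.pow_right _).pow_left j) ?_) (R.dvd_card_of_dvd_card (by rw [cG, ← mul_assoc]; exact dvd_mul_left _ _))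
      rw [pow_succ, mul_assoc, ← hk, ← cG]; exact card_subgroup_dvd_card _
    have d : (R : Subgroup G) ⊓ π.ker = ⊥ := CfsgH1.inf_eq_bot_of_coprime (by rw [cR, hk]; exact c2.pow_right k)
    have nQ : ∀ x ∈ N[(R : Subgroup G)], π x = 1 → x = 1 := fun x hx h1 => mem_bot.1 (hC.le ⟨h1, mem_cent_iff.2 fun y hy => by
      have : x * y * x⁻¹ * y⁻¹ = 1 := mem_bot.1 (d.le (mem_inf.2 ⟨mul_mem (conj_mem_of_norm hx hy) (inv_mem hy), by simp [MonoidHom.mem_ker, h1]⟩))
      rw [eq_comm, ← mul_inv_eq_iff_eq_mul, ← mul_inv_eq_one, ← this]⟩)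
    have inj : ∀ x ∈ N[(R : Subgroup G)], ∀ y ∈ N[(R : Subgroup G)], π x = π y → x = y := fun x hx y hy h =>
      mul_inv_eq_one.1 (nQ _ (mul_mem hx (inv_mem hy)) (by rw [map_mul, map_inv, h, mul_inv_cancel]))
    have zp : ∀ x ∈ (R : Subgroup G), x ≠ 1 → zpowers x = R := fun x hx x1 => zpowers_eq_of_prime (cR.symm ▸ hp) hx x1
    have cq : ∀ x ∈ (R : Subgroup G), x ≠ 1 → π.ker ⊓ C1[x] = ⊥ := fun x hx x1 => by rw [← hC, ← zp x hx x1, cent_zpowers]
    have cj : ∀ x ∈ (R : Subgroup G), x ≠ 1 → ∀ y, π y = π x → ∃ q ∈ π.ker, q * x * q⁻¹ = y := fun x hx x1 y hy => by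
      obtain ⟨q, hq⟩ := Finite.surjective_of_injective (f := fun q : π.ker => (⟨q * x * (q : G)⁻¹ * x⁻¹, by simp [MonoidHom.mem_ker, MonoidHom.mem_ker.1 q.2]⟩ : π.ker)) (fun q s h => by
        have h1 : (q : G) * x * (q : G)⁻¹ = s * x * (s : G)⁻¹ := mul_right_cancel (congrArg Subtype.val h)
        exact Subtype.ext (inv_mul_eq_one.1 (mem_bot.1 ((cq x hx x1).le (mem_inf.2 ⟨mul_mem (inv_mem s.2) q.2, mem_centralizer_singleton_iff.2 (by
          rw [mul_assoc, mul_inv_eq_iff_eq_mul.1 h1]; group)⟩)))).symm) ⟨y * x⁻¹, by simp [MonoidHom.mem_ker, hy]⟩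
      exact ⟨q, q.2, mul_right_cancel (congrArg Subtype.val hq)⟩
    obtain ⟨x, hx, x1⟩ := exists_ne_one (ne_bot_of_card_prime (cR.symm ▸ hp : (Nat.card (R : Subgroup G)).Prime))
    have xr : x ^ r = 1 := by rw [← cR]; exact congrArg Subtype.val (pow_card_eq_one' (x := (⟨x, hx⟩ : (R : Subgroup G))))
    have xN := le_normalizer hx
    have x2 : x⁻¹ * x⁻¹ ≠ 1 := fun h => x1 (orderOf_eq_one_iff.1 (Nat.eq_one_of_dvd_coprimes c2 (orderOf_dvd_of_pow_eq_one xr) (orderOf_dvd_of_pow_eq_one (by rw [← inv_eq_one, ← inv_pow, pow_two, h]))))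
    have rr : ∀ i : ZMod r, DihedralGroup.r i ^ r = 1 := fun i => by simp
    obtain ⟨s, hs⟩ : ∃ s, π x = .r s := by
      rcases h : π x with s | s
      · exact ⟨s, rfl⟩
      · exact absurd (DihedralGroup.orderOf_sr s ▸ orderOf_dvd_of_pow_eq_one (by rw [← h, ← map_pow, xr, map_one]) : 2 ∣ r) ((Nat.Prime.coprime_iff_not_dvd Nat.prime_two).1 c2.symm)
    have sr : ∀ b : G, orderOf b = 2 → π b ≠ 1 → ∃ i, π b = .sr i := fun b hb b1 => by
      rcases h : π b with s | s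
      · exact absurd (orderOf_eq_one_iff.1 (Nat.eq_one_of_dvd_coprimes c2 (orderOf_dvd_of_pow_eq_one (h ▸ rr s)) ((orderOf_map_dvd π b).trans hb.dvd))) b1
      · exact ⟨s, rfl⟩
    have key : ∀ {b c : G} {i : ZMod r}, b * b = 1 → c * c = 1 → π b = .sr i → π c = π (x * b * x⁻¹) → ∃ q ∈ π.ker, q⁻¹ * b * q ∈ N[(R : Subgroup G)] ∧ q⁻¹ * c * q ∈ N[(R : Subgroup G)] := fun {b c i} hb hc h1 h2 => by
      have hx2 := mul_mem (inv_mem hx) (inv_mem hx)
      obtain ⟨q, hq, e⟩ := cj _ hx2 x2 (b * c) (by simp [h1, h2, hs]; ring)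
      have e1 : x⁻¹ * x⁻¹ = q⁻¹ * (b * c) * q := by rw [← e]; group
      rw [← zp _ hx2 x2]
      refine ⟨q, hq, mem_norm_zpowers ?_, mem_norm_zpowers ?_⟩ <;> convert inv_mem (mem_zpowers (x⁻¹ * x⁻¹)) using 1 <;> rw [e1]
      · calc _ = q⁻¹ * (b * b * c * b⁻¹) * q := by group
          _ = _ := by simp only [hb, one_mul, mul_inv_rev, inv_inv, inv_eq_of_mul_eq_one_left hc, mul_assoc]
      · calc _ = q⁻¹ * (c * b) * q := by group
          _ = _ := by simp only [mul_inv_rev, inv_inv, inv_eq_of_mul_eq_one_left hc, inv_eq_of_mul_eq_one_left hb, mul_assoc]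
    refine ⟨⟨MulEquiv.ofBijective (π.comp (Subgroup.subtype _)) ⟨fun a b h => Subtype.ext (inj _ a.2 _ b.2 h), fun y => ?_⟩⟩, fun a ha a2 => ?_⟩
    · haveI : (π.ker ⊔ R).Normal := normal_of_index_eq_two (by
        have h1 := (π.ker ⊔ R).card_mul_index
        have h2 := (fac_sup_of_le_normalizer (N := π.ker) (H := R) le_normalizer_of_normal).card_mul
        rw [inf_comm, d, card_bot, mul_one, cR] at h2
        rw [h2, cG, mul_assoc, mul_comm 2] at h1
        exact Nat.eq_of_mul_eq_mul_left hp.pos (Nat.eq_of_mul_eq_mul_left Nat.card_pos h1))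
      obtain ⟨g, rfl⟩ := sπ y
      have t : N[(R : Subgroup G)] ⊔ (π.ker ⊔ R) = ⊤ := Sylow.normalizer_sup_eq_top' R le_sup_right
      rw [sup_comm π.ker, ← sup_assoc, sup_eq_left.2 le_normalizer] at t
      obtain ⟨n, hn, q, hq, rfl⟩ := mem_sup_of_normal_right.1 (t.ge (mem_top g))
      exact ⟨⟨n, hn⟩, by rw [map_mul, MonoidHom.mem_ker.1 hq, mul_one]; rfl⟩
    obtain ⟨i, hi⟩ := sr a a2 fun h => ne_one_of_two a2 (nQ a ha h)
    have aa := mul_self_of_two a2
    refine ⟨fun b b2 hb => ?_, ?_⟩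
    · obtain ⟨j, hj⟩ := sr b b2 hb
      have bb := mul_self_of_two b2
      obtain ⟨q, hq, h, -⟩ := key bb (c := x * b * x⁻¹) (by rw [conj_mul, bb]; simp) hj rfl
      obtain ⟨m, hm⟩ := conj_of_odd_order aa (y := q⁻¹ * b * q) (by rw [show q⁻¹ * b * q * (q⁻¹ * b * q) = q⁻¹ * (b * b) * q by group, bb]; simp)
        ((hp.odd_of_ne_two hr).of_dvd_nat (orderOf_dvd_of_pow_eq_one (nQ _ (pow_mem (mul_mem ha h) r) (by simp [hi, hj, MonoidHom.mem_ker.1 hq]))))
      exact ⟨q * (a * (q⁻¹ * b * q)) ^ m, by rw [mul_inv_rev, mul_assoc q, ← mul_assoc, mul_assoc q, hm]; group⟩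
    have ha' := mul_mem (mul_mem xN ha) (inv_mem xN)
    have f : Fac (π.ker ⊓ C1[a]) (π.ker ⊓ C1[x * a * x⁻¹]) π.ker := ⟨inf_le_left, inf_le_left, fun g hg => by
      have g1 := MonoidHom.mem_ker.1 hg
      obtain ⟨q, hq, h1, h2⟩ := key (b := g⁻¹ * a * g) (c := x * a * x⁻¹) (by rw [show g⁻¹ * a * g * (g⁻¹ * a * g) = g⁻¹ * (a * a) * g by group, aa]; simp)
        (by rw [conj_mul, aa]; simp) (i := i) (by simp [g1, hi]) (by simp [g1])
      have q1 := MonoidHom.mem_ker.1 hq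
      have e1 := inj _ h1 _ ha (by simp [g1, q1])
      have e2 := inj _ h2 _ ha' (by simp [q1])
      exact ⟨g * q, ⟨mul_mem hg hq, mem_centralizer_singleton_iff.2 (by nth_rw 1 [← e1]; group)⟩, q⁻¹, mem_inf.2 ⟨inv_mem hq, mem_centralizer_singleton_iff.2 (by nth_rw 2 [← e2]; group)⟩, by group⟩⟩
    have z : π.ker ⊓ C1[a] ⊓ (π.ker ⊓ C1[x * a * x⁻¹]) = ⊥ := eq_bot_iff.2 fun y hy => (cq _ (mul_mem (inv_mem hx) (inv_mem hx)) x2).le (mem_inf.2 ⟨hy.1.1, by
      rw [inj _ (mul_mem (inv_mem xN) (inv_mem xN)) _ (mul_mem ha ha') (by simp [hi, hs]; ring)]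
      exact mem_centralizer_singleton_iff.2 (Commute.mul_right (mem_centralizer_singleton_iff.1 hy.1.2) (mem_centralizer_singleton_iff.1 hy.2.2))⟩)
    have c : Nat.card (π.ker ⊓ C1[x * a * x⁻¹] : Subgroup G) = Nat.card (π.ker ⊓ C1[a] : Subgroup G) :=
      Nat.card_congr ((MulAut.conj x).toEquiv.subtypeEquiv fun y => by
        simp only [mem_inf, mem_centralizer_singleton_iff, MulEquiv.toEquiv_eq_coe, MulEquiv.coe_toEquiv, MulAut.conj_apply, conj_mul, mul_left_inj, mul_right_inj, MonoidHom.mem_ker, map_mul, map_inv, conj_eq_one_iff]).symm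
    rw [pow_two, ← mul_one (Nat.card π.ker), ← card_bot (G := G), ← z, f.card_mul, c]

end Cfsg.Agent.S2873
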