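import Mathlib
import Cfsg.Statements.S2874

set_option autoImplicit false
open Cfsg

namespace Cfsg.Agent.S2874

open Matrix

section
variable {R : Type*} [CommRing R] (f : R →+* ZMod 2) (hf : ∀ x, f x ≠ 0 → IsUnit x)

/-- The companion matrix. -/
def C (R : Type*) [CommRing R] : GL (Fin 2) R :=
  ⟨!![0, -1; 1, -1], !![-1, 1; -1, 0], by simp [one_fin_two], by simp [one_fin_two]⟩

include hf

theorem three {u : GL (Fin 2) R} (h : u ^ 3 = 1) (n : u ≠ 1) : IsUnit (u.1 1 0) ∧ u.1.trace = -1 ∧ u.1.det = 1 := by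
  have e : (u.1 - 1) * (u.1 ^ 2 + u.1 + 1) = 0 := by
    rw [← sub_eq_zero.2 (show u.1 ^ 3 = 1 from (Units.val_pow_eq_pow_val u 3).symm.trans (congrArg Units.val h))]
    noncomm_ring
  have k : ∀ M : Matrix (Fin 2) (Fin 2) (ZMod 2), M ^ 3 = 1 → (M ^ 2 + M + 1).det ≠ 0 ∨ (M - 1).det ≠ 0 ∧ M 1 0 ≠ 0 := by decide
  have i : ∀ M : Matrix (Fin 2) (Fin 2) R, (f.mapMatrix M).det ≠ 0 → IsUnit M := fun M t =>
    (isUnit_iff_isUnit_det M).2 (hf _ (by rwa [f.map_det]))
  rcases k (f.mapMatrix u.1) (by rw [← map_pow, ← Units.val_pow_eq_pow_val, h, Units.val_one, map_one]) with t | ⟨t, s⟩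
  · exact absurd (Units.ext (sub_eq_zero.1 ((i _ (by simpa only [map_add, map_pow, map_one] using t)).mul_left_eq_zero.1 e))) n
  have s := hf _ s
  replace e := (i _ (by simpa only [map_sub, map_one] using t)).mul_right_eq_zero.1 e
  have a := congrFun (congrFun e 1) 0
  have b := congrFun (congrFun e 0) 0
  simp [sq, mul_apply] at a b
  have c : u.1 0 0 + u.1 1 1 = -1 := s.mul_left_cancel (by linear_combination a)
  exact ⟨s, by rw [trace_fin_two, c], by rw [det_fin_two]; linear_combination u.1 0 0 * c - b⟩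

theorem conj {u : GL (Fin 2) R} (h : u ^ 3 = 1) (n : u ≠ 1) : ∃ x : GL (Fin 2) R, x * u * x⁻¹ = C R := by
  obtain ⟨s, t, d⟩ := three f hf h n
  obtain ⟨x, hx⟩ := (isUnit_iff_isUnit_det !![1, u.1 0 0; 0, u.1 1 0]).2 (by simpa using s)
  rw [trace_fin_two] at t
  rw [det_fin_two] at d
  refine ⟨x⁻¹, by
    rw [inv_inv, mul_assoc, inv_mul_eq_iff_eq_mul]
    ext i j
    fin_cases i <;> fin_cases j <;> simp [hx, C, mul_apply]
    · linear_combination u.1 0 0 * t - d
    · linear_combination u.1 1 0 * t⟩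

theorem inv {t : GL (Fin 2) R} (h : t ^ 2 = 1) (h1 : (t * C R) ^ 3 = 1) (h2 : (t * (C R)⁻¹) ^ 3 = 1) (c : C R ^ 2 ≠ 1) :
    ∃ q r : R, q + q = 0 ∧ r + r = 0 ∧ t.1 = !![1 + q + r, q; r, 1 + q + r] := by
  obtain ⟨-, a, d⟩ := three f hf h1 fun e => c (by rw [eq_inv_of_mul_eq_one_right e, inv_pow, h, inv_one])
  obtain ⟨-, b, -⟩ := three f hf h2 fun e => c (by rw [← mul_inv_eq_one.1 e, h])
  have e := congrArg Units.val h
  have e0 := congrFun (congrFun e 0) 0
  have e1 := congrFun (congrFun e 0) 1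
  have e2 := congrFun (congrFun e 1) 0
  simp [C, mul_apply, sq, trace_fin_two, det_fin_two, vecMul, dotProduct] at a b d e0 e1 e2
  have s : t.1 0 0 + t.1 1 1 = 2 := by linear_combination -a - b
  refine ⟨t.1 0 1, t.1 1 0, by linear_combination e1 - t.1 0 1 * s, by linear_combination e2 - t.1 1 0 * s, ?_⟩
  ext i j
  fin_cases i <;> fin_cases j <;> simp
  · linear_combination -b - e1 + t.1 0 1 * s
  · linear_combination -a - e2 + t.1 1 0 * s

theorem std {H : Subgroup (GL (Fin 2) R)} (e : H ≃* alternatingGroup (Fin 4)) : ∃ x t : GL (Fin 2) R,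
    H.map (MulAut.conj x).toMonoidHom = Subgroup.closure {C R, t} ∧ t ≠ 1 ∧
    ∃ q r : R, q + q = 0 ∧ r + r = 0 ∧ t.1 = !![1 + q + r, q; r, 1 + q + r] := by
  let a : alternatingGroup (Fin 4) := ⟨c[0, 1, 2], Equiv.Perm.mem_alternatingGroup.2 (by decide)⟩
  let b : alternatingGroup (Fin 4) := ⟨c[0, 1] * c[2, 3], Equiv.Perm.mem_alternatingGroup.2 (by decide)⟩
  let φ := H.subtype.comp e.symm.toMonoidHom
  have i : Function.Injective φ := H.subtype_injective.comp e.symm.injective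
  obtain ⟨x, hx⟩ := conj f hf (u := φ a) (by rw [← map_pow]; exact (congrArg φ (by decide)).trans (map_one φ))
    ((map_ne_one_iff φ i).2 (by decide))
  let ψ := (MulAut.conj x).toMonoidHom.comp φ
  have j : Function.Injective ψ := (MulAut.conj x).injective.comp i
  have ha : C R = ψ a := hx.symm
  have k : ∀ y, ψ y = 1 ↔ y = 1 := fun y => map_eq_one_iff ψ j
  refine ⟨x, ψ b, ?_, (map_ne_one_iff ψ j).2 (by decide), inv f hf ?_ ?_ ?_ ?_⟩ <;>
    simp only [ha, ← map_inv, ← map_mul, ← map_pow, ne_eq, k] <;> try decide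
  have g : Subgroup.closure {a, b} = ⊤ := (Subgroup.eq_top_iff' _).2 fun y => by
    have ha : a ∈ Subgroup.closure {a, b} := Subgroup.subset_closure (by simp)
    have hb : b ∈ Subgroup.closure {a, b} := Subgroup.subset_closure (by simp)
    obtain ⟨i, j, l, rfl⟩ : ∃ i j : Fin 3, ∃ l : Fin 2, y = a ^ i.1 * b ^ l.1 * a ^ j.1 := by revert y; decide +kernel
    exact mul_mem (mul_mem (pow_mem ha _) (pow_mem hb _)) (pow_mem ha _)
  rw [← Set.image_pair, ← MonoidHom.map_closure, g, ← Subgroup.map_map, ← Subgroup.map_map,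
    Subgroup.map_top_of_surjective _ e.symm.surjective, ← MonoidHom.range_eq_map, Subgroup.range_subtype]

end

theorem le {R : Type*} [CommRing R] (u : ∀ x y : R, x + x = 0 → y + y = 0 → x ≠ 0 → y ≠ 0 → x = y) {t t' : GL (Fin 2) R}
    (n : t ≠ 1) (n' : t' ≠ 1) {q r q' r' : R} (hq : q + q = 0) (hr : r + r = 0) (hq' : q' + q' = 0) (hr' : r' + r' = 0)
    (e : t.1 = !![1 + q + r, q; r, 1 + q + r]) (e' : t'.1 = !![1 + q' + r', q'; r', 1 + q' + r']) :
    Subgroup.closure {C R, t'} ≤ Subgroup.closure {C R, t} := by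
  have ha : C R ∈ Subgroup.closure {C R, t} := Subgroup.subset_closure (by simp)
  have hb : t ∈ Subgroup.closure {C R, t} := Subgroup.subset_closure (by simp)
  rw [Subgroup.closure_le, Set.insert_subset_iff, Set.singleton_subset_iff]
  refine ⟨ha, ?_⟩
  have a : ((C R)⁻¹ * t * C R).1 = !![1 + (q + r) + q, q + r; q, 1 + (q + r) + q] := by
    ext i j
    fin_cases i <;> fin_cases j <;> simp [C, e] <;>
      first | ring1 | linear_combination hq | linear_combination -hq | linear_combination hr | linear_combination -hr |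
        linear_combination hq - hr | linear_combination hr - hq | linear_combination -hr - hq
  have b : (C R * t * (C R)⁻¹).1 = !![1 + r + (q + r), r; q + r, 1 + r + (q + r)] := by
    ext i j
    fin_cases i <;> fin_cases j <;> simp [C, e] <;>
      first | ring1 | linear_combination hq | linear_combination -hq | linear_combination hr | linear_combination -hr |
        linear_combination hq - hr | linear_combination hr - hq | linear_combination -hr - hq
  suffices q' = q ∧ r' = r ∨ q' = q + r ∧ r' = q ∨ q' = r ∧ r' = q + r by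
    rcases this with ⟨rfl, rfl⟩ | ⟨rfl, rfl⟩ | ⟨rfl, rfl⟩
    · exact Units.ext (e.trans e'.symm) ▸ hb
    · exact Units.ext (a.trans e'.symm) ▸ mul_mem (mul_mem (inv_mem ha) hb) ha
    · exact Units.ext (b.trans e'.symm) ▸ mul_mem (mul_mem ha hb) (inv_mem ha)
  have m : ¬ (q = 0 ∧ r = 0) := fun ⟨x, y⟩ => n (Units.ext (by simp [e, x, y, one_fin_two]))
  have m' : ¬ (q' = 0 ∧ r' = 0) := fun ⟨x, y⟩ => n' (Units.ext (by simp [e', x, y, one_fin_two]))
  obtain ⟨h, h0, hh⟩ : ∃ h : R, h + h = 0 ∧ ∀ x, x + x = 0 → x = 0 ∨ x = h := (not_and_or.1 m).elim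
    (fun c => ⟨q, hq, fun x e => or_iff_not_imp_left.2 fun d => u _ _ e hq d c⟩)
    fun c => ⟨r, hr, fun x e => or_iff_not_imp_left.2 fun d => u _ _ e hr d c⟩
  rcases hh q hq with x | x <;> rcases hh r hr with y | y <;> rcases hh q' hq' with x' | x' <;> rcases hh r' hr' with y' | y' <;>
    simp [x, y, x', y', h0] at m m' ⊢

/-- For k ≥ 2, any two subgroups of GL₂(ℤ/2ᵏℤ) (the automorphism group of the homocyclic group ℤ/2ᵏ × ℤ/2ᵏ) that are isomorphic to the alternating group of degree 4 are conjugate. -/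
theorem result (k : ℕ) (hk : 2 ≤ k) (H₁ H₂ : Subgroup (GL (Fin 2) (ZMod (2 ^ k)))) (h₁ : Nonempty (↥H₁ ≃* ↥(alternatingGroup (Fin 4)))) (h₂ : Nonempty (↥H₂ ≃* ↥(alternatingGroup (Fin 4)))) : ∃ g : GL (Fin 2) (ZMod (2 ^ k)), H₂ = H₁.map (MulAut.conj g).toMonoidHom := by
  have hf : ∀ x, ZMod.castHom (dvd_pow_self 2 (by omega : k ≠ 0)) (ZMod 2) x ≠ 0 → IsUnit x := fun x h => by
    obtain ⟨n, rfl⟩ := ZMod.natCast_zmod_surjective x
    rw [map_natCast, ne_eq, ZMod.natCast_eq_zero_iff_even, Nat.not_even_iff_odd] at h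
    exact (ZMod.isUnit_iff_coprime _ _).2 ((Nat.coprime_two_right.2 h).pow_right k)
  have u : ∀ x y : ZMod (2 ^ k), x + x = 0 → y + y = 0 → x ≠ 0 → y ≠ 0 → x = y := fun x y a b c d =>
    ZMod.val_injective _ (by
      have := ((ZMod.neg_eq_self_iff x).1 (neg_eq_of_add_eq_zero_left a)).resolve_left c
      have := ((ZMod.neg_eq_self_iff y).1 (neg_eq_of_add_eq_zero_left b)).resolve_left d
      omega)
  obtain ⟨x, t, e, n, q, r, a, b, c⟩ := std _ hf h₁.some
  obtain ⟨x', t', e', n', q', r', a', b', c'⟩ := std _ hf h₂.some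
  refine ⟨x'⁻¹ * x, Subgroup.map_injective (f := (MulAut.conj x').toMonoidHom) (MulAut.conj x').injective ?_⟩
  rw [e', le_antisymm (le u n n' a b a' b' c c') (le u n' n a' b' a b c' c), ← e, Subgroup.map_map]
  congr 1
  ext1 y
  simp [mul_assoc]

end Cfsg.Agent.S2874
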