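import Cfsg.Statements.S2879
import Cfsg.Agent.H1.Misc1
import Cfsg.Agent.H1.LX
import Cfsg.Agent.H1.Sep
import Cfsg.Agent.L0.MC2
import Cfsg.Agent.H8.SL23

set_option autoImplicit false
open Cfsg

namespace Cfsg.Agent.S2879

/-- Let G be a finite solvable group with O(G) = 1 whose Sylow 2-subgroup T is dihedral of order at least 8 or semidihedral, with G ≠ T and Z(T) normal in G. Then G has a normal subgroup isomorphic to SL₂(3). -/
theorem result {G : Type*} [Group G] [Finite G] (hsol : IsSolvable G) (hO : Cfsg.oddCore G = ⊥) (T : Sylow 2 G) (hT : (∃ n : ℕ, 4 ≤ n ∧ Nonempty (↥(T : Subgroup G) ≃* DihedralGroup n)) ∨ Cfsg.IsQuasiDihedral ↥(T : Subgroup G)) (hne : (T : Subgroup G) ≠ ⊤) (hZ : ((T : Subgroup G) ⊓ Subgroup.centralizer ((T : Subgroup G) : Set G)).Normal) : ∃ U : Subgroup G, U.Normal ∧ Nonempty (↥U ≃* Matrix.SpecialLinearGroup (Fin 2) (ZMod 3)) := by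
  open Subgroup CfsgH2 in
  open CfsgH1 hiding card_inf_mul_relIndex card_lt_of_lt card_lt_of_ne_top card_map_mul_card_inf_ker card_mul_relIndex card_subgroupOf card_sup_dvd card_sup_mul_card_inf coprime_le_sup_cent exists_card_prime_le isNilpotent_map isNilpotent_of_le isPGroup_pCore isSolvable_map isSolvable_of_le le_pCore le_pPrimeCore relIndex_map_dvd in
  open scoped CfsgH1 in
  open CfsgL0 hiding DH Gr HX Tr alperin cj cj_injective comm_zpowers_le conj_mem_of_mem_normalizer conj_mem_of_mem_normalizer' involves_iff isPGroup_of_forall isPGroup_zpowers isPGroup_zpowers_of_orderOf mem_normalizer_of_conj_mem mem_pre pre_le sec_sub in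
  open scoped CfsgL0 in
  open scoped commutatorElement in
  · haveI : Fact (Nat.Prime 2) := ⟨Nat.prime_two⟩
    haveI : Fact (Nat.Prime 3) := ⟨Nat.prime_three⟩
    haveI : Group.IsSolvable G := by unfold IsSolvable at hsol; exact hsol
    have hS := syl_top T
    have qT := pCore_le_sylow T
    have cQ := centralizer_pCore_le (isPSolvable_of_isSolvable Nat.prime_two) hO
    have pQ : IsPGroup 2 (pCore 2 G) := CfsgH1.isPGroup_pCore 2
    have nQ : ∀ g : G, g ∈ N[pCore 2 G] := fun g => le_normalizer_of_normal (mem_top g)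
    have zQ : Z[(T : Subgroup G)] ≤ pCore 2 G := le_pCore (hS.pg.to_le inf_le_left)
    generalize pCore 2 G = Q at *
    have nc : ∀ {r : ℕ} {g : G}, r.Prime → r ≠ 2 → orderOf g = r → g ∉ C[Q] := fun {r g} hr r2 og h => by
      obtain ⟨k, hk⟩ := pgroup_mem_order pQ (cQ h)
      exact r2 ((Nat.prime_dvd_prime_iff_eq hr Nat.prime_two).1 (hr.dvd_of_dvd_pow (hk ▸ og.symm.dvd)))
    obtain ⟨r, hr, rd⟩ := Nat.exists_prime_and_dvd (fun e => hne (index_eq_one.1 e))
    have r2 : r ≠ 2 := fun e => T.not_dvd_index (e ▸ rd)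
    haveI := Fact.mk hr
    obtain ⟨g, og⟩ := exists_prime_orderOf_dvd_card' r (rd.trans (index_dvd_card _))
    have oo : Odd (orderOf g) := og ▸ hr.odd_of_ne_two r2
    have pre : ∀ {a b : G} {m : ℕ}, MC T a b m → (∀ x, x ∈ C1[a ^ 2 ^ m]) ∧ a ^ 2 ^ m ∈ Q ∧ ¬ ∀ x ∈ Q ⊓ zpowers a, x ^ 2 = 1 := fun {a b m} h => by
      have o := mc_ord_z h
      have zc : ∀ x, x ∈ C1[a ^ 2 ^ m] := fun x => mem_centralizer_singleton_iff.2 (by
        rcases (mem_zp2 o).1 (h.center_eq.le (hZ.conj_mem _ (h.center_eq.ge (mem_zpowers _)) x)) with e | e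
        · exact absurd (conj_eq_one_iff.1 e) (ne_one_of_two o)
        · exact mul_inv_eq_iff_eq_mul.1 e)
      refine ⟨zc, zQ (h.center_eq.ge (mem_zpowers _)), fun k => nc hr r2 og (CfsgHv.cent_of_four ?_ (zQ (h.center_eq.ge (mem_zpowers _))) o oo (nQ g) (zc g))⟩
      have l : Q ⊓ zpowers a ≤ zpowers (a ^ 2 ^ m) := fun x hx => (mem_zp2 o).2 (eq_half_of_sq h.ord hx.2 (pow_two x ▸ k x hx))
      rw [← card_inf_mul_relIndex (zpowers a) Q, inf_comm]
      exact Nat.mul_dvd_mul ((card_dvd_of_le l).trans (by rw [Nat.card_zpowers, o])) (by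
        simpa only [inf_relIndex_left, h.relIndex] using CfsgHv.relIndex_inf_dvd h.le_norm qT)
    rcases hT with ⟨n, hn, ⟨e⟩⟩ | hT
    · rcases dh_of hS.pg (by omega) e with h | ⟨a, b, m, h⟩
      · have := Nat.card_congr e.toEquiv
        rw [h.1, DihedralGroup.nat_card] at this; omega
      · exact absurd (fun x hx => not_not.1 fun k => nc hr r2 og (CfsgHv.cent_of_cyc h.pg inferInstance h.le_norm h.relIndex.dvd (fun y hy k => pow_two y ▸ h.out y hy k) qT hx k oo (nQ g))) (pre h.toMC).2.2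
    obtain ⟨a, b, m, h⟩ := sd_of' hT
    obtain ⟨zc, zq, k⟩ := pre h.toMC
    have o := mc_ord_z h.toMC
    push Not at k
    obtain ⟨w, hw, w2⟩ := k
    have e4 : ∀ x ∈ Q ⊓ zpowers a, x ^ 4 = 1 := fun x hx => not_not.1 fun k => nc hr r2 og (CfsgHv.cent_of_cyc h.pg inferInstance h.le_norm h.relIndex.dvd (n := 4) (fun y hy k => by
      rw [show 4 = 2 * 2 from rfl, pow_mul, pow_two, pow_two]
      rcases mc_out_sq h.toMC hy k with e | e <;> rw [e]
      exacts [one_mul _, half_sq h.ord]) qT hx k oo (nQ g))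
    have ow : orderOf w = 2 ^ (1 + 1) := orderOf_eq_prime_pow w2 (e4 w hw)
    have zw : zpowers w = Q ⊓ zpowers a := by
      obtain ⟨x, hx⟩ := isCyclic_iff_zpowers.1 (isCyclic_of_le (inf_le_right : Q ⊓ zpowers a ≤ _))
      refine eq_of_le_of_card_le (zpowers_le.2 hw) ?_
      rw [← hx, Nat.card_zpowers, Nat.card_zpowers, ow]
      exact Nat.le_of_dvd (by norm_num) (orderOf_dvd_of_pow_eq_one (e4 x (hx.le (mem_zpowers x))))
    obtain ⟨u, hu, u1, u2⟩ : ∃ u ∈ Q, u ∉ zpowers a ∧ u ^ 2 ≠ 1 := by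
      by_contra k
      push Not at k
      exact nc hr r2 og (CfsgHv.cent_of_cyc pQ (A := Q ⊓ zpowers a) (isCyclic_of_le inf_le_right) (le_inf le_normalizer (qT.trans h.le_norm) |>.trans inf_normalizer_le_normalizer_inf)
        (h.relIndex ▸ CfsgHv.relIndex_inf_dvd h.le_norm qT) (fun y hy y1 => k y hy fun e => y1 ⟨hy, e⟩) le_rfl ⟨hw.1, hw⟩ w2 oo (nQ g))
    have wz : w ^ 2 = a ^ 2 ^ m := (eq_half_of_sq h.ord (pow_mem hw.2 2) (by rw [← pow_add]; exact e4 w hw)).resolve_left w2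
    have uz : u ^ 2 = a ^ 2 ^ m := pow_two u ▸ (mc_out_sq h.toMC (qT hu) u1).resolve_left (pow_two u ▸ u2)
    have iv := h.conj_of_nmem (mc_mem_sq h.toMC hw.2 (by obtain ⟨k, rfl⟩ := Nat.exists_eq_add_of_le h.two; rw [pow_add, pow_mul, show w ^ 2 ^ 2 = 1 from e4 w hw, one_pow])) (qT hu) u1
    have q : CfsgH4.GQ Q w u 1 := ⟨⟨ow, fun k => u1 (zw.le k).2, zw ▸ mc_sup h.toMC qT hu u1, uz ▸ wz ▸ npow_mem_zpowers w 2, mem_norm_zpowers (iv ▸ inv_mem (mem_zpowers w))⟩, le_rfl, uz.trans wz.symm, iv⟩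
    have cG : Nat.card G = 48 := by
      have i := mc_q8_26 h.toMC h.two q qT u1
      rw [sup_eq_left.2 cQ, show N[Q] = ⊤ from eq_top_iff.2 fun g _ => nQ g, relIndex_top_right] at i
      have c := Q.card_mul_index
      rw [q.card] at c
      rcases i with i | i <;> rw [i] at c
      · exact absurd ((Nat.prime_dvd_prime_iff_eq hr Nat.prime_two).1 (hr.dvd_of_dvd_pow (n := 4) (by rw [← og, show 2 ^ 4 = Nat.card G from c]; exact orderOf_dvd_natCard g))) r2
      · exact c.symm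
    obtain ⟨x, ox⟩ := exists_prime_orderOf_dvd_card' 3 (cG ▸ by decide : 3 ∣ Nat.card G)
    obtain ⟨y, hy, ny⟩ : ∃ y ∈ Q, ⁅y, x⁆ ∉ zpowers (a ^ 2 ^ m) := by
      by_contra k
      push Not at k
      have nz : ∀ g, g ∈ N[zpowers (a ^ 2 ^ m)] := fun g => mem_norm_zpowers (by rw [mem_centralizer_singleton_iff.1 (zc g), mul_inv_cancel_right]; exact mem_zpowers _)
      have l := comm_zpowers_le' (H := Q) (fun g _ => nz g) (nz x) k
      have c := coprime_comm_comm (A := zpowers x) (K := Q) (fun g _ => nQ g) (CfsgHv.cop_odd (ox ▸ by decide) pQ) (Or.inl inferInstance)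
      rw [commutator_eq_bot_iff_le_centralizer.2 (l.trans (zpowers_le.2 (mem_cent_iff.2 fun g _ => mem_centralizer_singleton_iff.1 (zc g)))), eq_comm, commutator_comm] at c
      exact nc Nat.prime_three (by decide) ox (commutator_eq_bot_iff_le_centralizer.1 c (mem_zpowers x))
    have x3 : x ^ 3 = 1 := ox ▸ pow_orderOf_eq_one x
    have cq : ⁅y, x⁆ ∈ Q := by simpa only [commutatorElement_def, mul_assoc] using mul_mem hy (conj_mem_of_norm (nQ x) (inv_mem hy))
    have s : ⁅y, x⁆ ^ 2 = a ^ 2 ^ m := by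
      have n2 : ⁅y, x⁆ * ⁅y, x⁆ ≠ 1 := fun e => ny ((mem_zp2 o).2 (wz ▸ q.eq_of_sq cq e))
      by_cases k : ⁅y, x⁆ ∈ zpowers w
      · exact (eq_half_of_sq h.ord (pow_mem (zw.le k).2 2) (by rw [← pow_add]; exact e4 _ (zw.le k))).resolve_left (pow_two ⁅y, x⁆ ▸ n2)
      · exact (pow_two _).trans ((q.sq_eq cq k).trans wz)
    obtain ⟨φ, f1, f2⟩ := CfsgH8.exists_hom_SL23 (x := y * x * y⁻¹) (y := x⁻¹) (by rw [conj_pow, x3]; simp) (by rw [inv_pow, x3, inv_one])
      (by rw [← commutatorElement_def, show 4 = 2 * 2 from rfl, pow_mul, s, pow_two, half_sq h.ord])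
      (by rw [← commutatorElement_def, s]; exact (mem_centralizer_singleton_iff.1 (zc _)).symm)
    have inj := CfsgH8.inj_SL23 φ (by rw [map_pow, map_mul, f1, f2, ← commutatorElement_def, s]; exact ne_one_of_two o)
    refine ⟨φ.range, normal_of_index_eq_two ?_, ⟨(MonoidHom.ofInjective inj).symm⟩⟩
    have := φ.range.card_mul_index
    rw [← Nat.card_congr (MonoidHom.ofInjective inj).toEquiv, CfsgH8.card_SL23, cG] at this
    omega

end Cfsg.Agent.S2879
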