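import Cfsg.Statements.S2880
import Mathlib
import Cfsg.Agent.L0.TT

set_option autoImplicit false
open Cfsg

namespace Cfsg.Agent.S2880

open Cfsg Subgroup CfsgH2 CfsgL0
open scoped commutatorElement

/-- Let E be an extraspecial 2-group of order 2^(2m+1) of plus type, that is, containing an elementary abelian subgroup of order 2^(m+1) (equivalently, a central product of m dihedral groups of order 8). Then E has exactly 2^(2m) − 2^m elements of order 4. -/
theorem result {E : Type*} [Group E] [Finite E] (m : ℕ) (hm : 1 ≤ m) (hE : Cfsg.IsExtraspecial 2 E) (hcard : Nat.card E = 2 ^ (2 * m + 1)) (hplus : ∃ A : Subgroup E, Cfsg.IsElementaryAbelian 2 A ∧ Nat.card A = 2 ^ (m + 1)) : Nat.card {x : E // orderOf x = 4} = 2 ^ (2 * m) - 2 ^ m := by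
  classical
  obtain ⟨A, hA, hcA⟩ := hplus
  obtain ⟨hW, hnc⟩ := extraspecial_top_iff.1 hE
  have hz : o[Z[(⊤ : Subgroup E)]] = 2 := hW.cardZ
  have h1 := card_cent_mul_le hW.pg hW.der hz.le C[A] le_top
  rw [top_inf_eq, hz, card_top, hcard] at h1
  have h2 : A ≤ C[A] := le_cent_self hA.1
  have h3 : A ≤ C[C[A]] := le_centralizer_iff.1 le_rfl
  have h4 : C[A] = A := by
    refine (eq_of_le_of_card_le h2 (Nat.le_of_mul_le_mul_left ?_ (card_pos' A))).symm
    refine (Nat.mul_le_mul_right _ (card_le_of_le h3)).trans (h1.trans (le_of_eq ?_))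
    rw [hcA]; ring
  have hZA : Z[(⊤ : Subgroup E)] ≤ A := h4 ▸ inf_le_right.trans (cent_anti le_top)
  have hAn : A.Normal := normal_of_top_le_norm (le_norm_of_commutator_le (hW.der.trans hZA) le_top)
  have ex : ∀ q : E ⧸ A, ∃ a ∈ A, ∀ x : E, (x : E ⧸ A) = q → x ∉ A → ¬ Commute x a := by
    intro q
    obtain ⟨y, rfl⟩ := QuotientGroup.mk_surjective q
    by_cases hy : y ∈ A
    · exact ⟨1, one_mem _, fun x hx hx' => absurd (by simpa using A.mul_mem hy (A.inv_mem (QuotientGroup.eq.1 hx))) hx'⟩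
    · rw [← h4, mem_cent_iff] at hy
      push Not at hy
      obtain ⟨a, ha, h⟩ := hy
      refine ⟨a, ha, fun x hx _ hc => h ?_⟩
      have := isMulComm_iff.1 hA.1 a ha _ (QuotientGroup.eq.1 hx)
      calc a * y = a * x * (x⁻¹ * y) := by group
        _ = x * (a * (x⁻¹ * y)) := by rw [← hc.eq]; group
        _ = y * a := by rw [this]; group
  choose a ha ha' using ex
  have sq1 : ∀ x : E, x ^ 2 ∈ Z[(⊤ : Subgroup E)] := fun x => hW.pow_mem (mem_top x)
  have two : ∀ u ∈ Z[(⊤ : Subgroup E)], ∀ v ∈ Z[(⊤ : Subgroup E)], u ≠ 1 → v ≠ 1 → u * v = 1 := by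
    intro u hu v hv k1 k2
    obtain ⟨b, -, hb⟩ := (Nat.card_eq_two_iff' (1 : Z[(⊤ : Subgroup E)])).1 hz
    have e1 := hb ⟨u, hu⟩ (fun e => k1 (congrArg Subtype.val e))
    have e2 := hb ⟨v, hv⟩ (fun e => k2 (congrArg Subtype.val e))
    have e3 : u = v := congrArg Subtype.val (e1.trans e2.symm)
    rw [← e3, ← sq, ← hz]; exact congrArg Subtype.val (pow_card_eq_one' (x := (⟨u, hu⟩ : Z[(⊤ : Subgroup E)])))
  have key : ∀ x : E, x ∉ A → ((x * a x) ^ 2 = 1 ↔ x ^ 2 ≠ 1) := by
    intro x hx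
    have c1 : ⁅(a x)⁻¹, x⁻¹⁆ ∈ Z[(⊤ : Subgroup E)] := hW.der (commutator_mem_commutator (mem_top _) (mem_top _))
    have c2 : ⁅(a x)⁻¹, x⁻¹⁆ ≠ 1 := fun e => ha' _ x rfl hx
      (Commute.inv_inv_iff.1 (commutatorElement_eq_one_iff_commute.1 e)).symm
    rw [mul_pow_class2 (mul_eq_mul_comm x (a x)) (commute_of_mem_cent c1.2 (mem_top _))
      (commute_of_mem_cent c1.2 (mem_top _)), hA.2 _ (ha _)]
    simp only [mul_one, Nat.choose_self, pow_one]
    exact ⟨fun h e => c2 (by simpa [e] using h), fun h => two _ (sq1 x) _ c1 h c2⟩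
  have mk : ∀ x : E, ((x * a x : E) : E ⧸ A) = x := fun x => by
    rw [QuotientGroup.mk_mul, (QuotientGroup.eq_one_iff _).2 (ha _), mul_one]
  have inv : ∀ x : E, x * a x * a ((x * a x : E)) = x := fun x => by
    rw [mk, mul_assoc, ← sq, hA.2 _ (ha _), mul_one]
  have nA : ∀ x : E, x ∉ A → x * a x ∉ A := fun x hx h => hx (by simpa using A.mul_mem h (A.inv_mem (ha x)))
  haveI := Fintype.ofFinite E
  have o4 : ∀ x : E, orderOf x = 4 ↔ x ^ 2 ≠ 1 := fun x => by
    constructor
    · intro h e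
      have := orderOf_dvd_of_pow_eq_one e
      rw [h] at this; omega
    · intro h
      refine orderOf_eq_prime_pow (p := 2) (n := 1) h ?_
      rw [show 2 ^ (1 + 1) = 2 * 2 by rfl, pow_mul, sq (x ^ 2)]
      exact two _ (sq1 x) _ (sq1 x) h h
  set X := Finset.univ.filter fun x : E => x ^ 2 ≠ 1
  set Y := Finset.univ.filter fun x : E => x ∉ A ∧ x ^ 2 = 1
  have hX : ∀ x ∈ X, x ∉ A := fun x hx h => (Finset.mem_filter.1 hx).2 (hA.2 x h)
  have e1 : X.card = Y.card := Finset.card_bij' (fun x _ => x * a x) (fun x _ => x * a x)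
    (fun x hx => Finset.mem_filter.2 ⟨Finset.mem_univ _, nA x (hX x hx), (key x (hX x hx)).2 (Finset.mem_filter.1 hx).2⟩)
    (fun x hx => Finset.mem_filter.2 ⟨Finset.mem_univ _, fun e =>
      (key x (Finset.mem_filter.1 hx).2.1).1 e (Finset.mem_filter.1 hx).2.2⟩)
    (fun x _ => inv x) (fun x _ => inv x)
  have e2 : X.card + Y.card + (Finset.univ.filter fun x : E => x ∈ A).card = Fintype.card E := by
    rw [← Finset.card_union_of_disjoint, ← Finset.card_union_of_disjoint, ← Finset.card_univ]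
    · congr 1
      ext x
      simp only [X, Y, Finset.mem_union, Finset.mem_filter, Finset.mem_univ, true_and]
      tauto
    · refine Finset.disjoint_left.2 fun x hx h => ?_
      rcases Finset.mem_union.1 hx with hx | hx
      · exact hX x hx (Finset.mem_filter.1 h).2
      · exact (Finset.mem_filter.1 hx).2.1 (Finset.mem_filter.1 h).2
    · exact Finset.disjoint_left.2 fun x hx h => (Finset.mem_filter.1 hx).2 (Finset.mem_filter.1 h).2.2
  have e3 : Nat.card {x : E // orderOf x = 4} = X.card := by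
    rw [← Nat.card_eq_finsetCard]
    exact Nat.card_congr (Equiv.subtypeEquivRight fun x => by simp [X, o4])
  have e4 : (Finset.univ.filter fun x : E => x ∈ A).card = 2 ^ (m + 1) := by
    rw [← hcA, ← Nat.card_eq_finsetCard]
    exact Nat.card_congr (Equiv.subtypeEquivRight fun x => by simp)
  rw [← Nat.card_eq_fintype_card, hcard, e4, ← e1, pow_succ, pow_succ] at e2
  omega

end Cfsg.Agent.S2880
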