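import Cfsg.Statements.S2881
import Mathlib
import Cfsg.Agent.H2.Gs2

set_option autoImplicit false
open Cfsg

namespace Cfsg.Agent.S2881

/-- Let E be an extraspecial 2-group of order 2^(2m+1) of plus type (containing an elementary abelian subgroup of order 2^(m+1)), and let ω be an automorphism of E of order 5 whose fixed points are exactly the centre of E. Then m is divisible by 4. -/
theorem result {E : Type*} [Group E] [Finite E] (m : ℕ) (hm : 1 ≤ m) (hE : Cfsg.IsExtraspecial 2 E) (hcard : Nat.card E = 2 ^ (2 * m + 1)) (hplus : ∃ A : Subgroup E, Cfsg.IsElementaryAbelian 2 A ∧ Nat.card A = 2 ^ (m + 1)) (ω : E ≃* E) (hω : orderOf ω = 5) (hfix : ∀ x : E, ω x = x ↔ x ∈ Subgroup.center E) : 4 ∣ m := by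
  open Subgroup Cfsg CfsgH2 Function in
  open scoped commutatorElement in
  haveI : Fact (Nat.Prime 2) := ⟨Nat.prime_two⟩
  haveI : Fact (Nat.Prime 5) := ⟨by norm_num⟩
  classical
  have w := (extraspecial_top_iff.1 hE).1
  have hn : Nat.card (⊤ : Subgroup E) = 2 ^ (2 * m + 1) := by rw [card_top, hcard]
  obtain ⟨A, hA, hAc⟩ := hplus
  have h1 := w.pos_of_el hn ⟨hA, hAc⟩ le_top
  have h2 : DD (⊤ : Subgroup E) = 2 ^ (m + 1) := (w.DD_cases hn).resolve_right fun e => by
    rw [e] at h1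
    have : (0 : ℤ) < 2 ^ (m + 1) := by positivity
    omega
  rw [DD_top, hcard] at h2
  have hp : ∀ (k : ℕ) (x : E), ((ω : E → E)^[k]) x = (ω ^ k) x := fun k x => by
    induction k generalizing x with
    | zero => rfl
    | succ k ih => rw [iterate_succ_apply, ih, pow_succ]; rfl
  have h5 : ∀ x, (ω : E → E)^[5] x = x := fun x => by
    rw [hp, ← hω, pow_orderOf_eq_one]; rfl
  have hZ : Nat.card (center E) = 2 := hE.2
  have hsq : ∀ x ∈ center E, x ^ 2 = 1 := fun x hx => by
    have := pow_card_eq_one' (x := (⟨x, hx⟩ : center E))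
    rw [hZ] at this
    exact congrArg Subtype.val this
  have count : ∀ (q : E → Prop) (hq : ∀ x, q x → q (ω x)), (∀ x ∈ center E, q x) →
      Nat.card {x // q x} ≡ 2 [MOD 5] := by
    intro q hq hc
    haveI := Fintype.ofFinite {x // q x}
    let f : Function.End {x // q x} := fun x => ⟨ω x, hq _ x.2⟩
    have hf : f ^ 5 ^ 1 = 1 := funext fun x => Subtype.ext (h5 x)
    have := Equiv.Perm.card_fixedPoints_modEq hf
    rw [← Nat.card_eq_fintype_card, ← Nat.card_eq_fintype_card] at this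
    refine this.trans ?_
    rw [← hZ, Nat.card_congr (⟨fun x => ⟨x.1.1, (hfix _).1 (congrArg Subtype.val x.2)⟩,
      fun x => ⟨⟨x.1, hc _ x.2⟩, Subtype.ext ((hfix _).2 x.2)⟩, fun _ => rfl, fun _ => rfl⟩ :
        fixedPoints f ≃ center E)]
  have c1 := count (fun x => x ^ 2 = 1) (fun x hx => by rw [← map_pow, hx, map_one]) hsq
  have c2 := count (fun _ => True) (fun _ _ => trivial) fun _ _ => trivial
  rw [Nat.card_congr (Equiv.subtypeUnivEquiv fun _ => trivial), hcard] at c2
  have c3 : 2 * Nat.card {x : E // x ^ 2 = 1} = 2 ^ (m + 1) + 2 ^ (2 * m + 1) := by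
    have : (2 * Nat.card {x : E // x ^ 2 = 1} : ℤ) = 2 ^ (m + 1) + 2 ^ (2 * m + 1) := by
      push_cast at h2; linarith
    exact_mod_cast this
  have c4 : 2 ^ (m + 1) % 5 = 2 := by
    unfold Nat.ModEq at c1 c2
    omega
  obtain ⟨k, r, hr, rfl⟩ : ∃ k r, r < 4 ∧ m = 4 * k + r :=
    ⟨m / 4, m % 4, Nat.mod_lt _ (by norm_num), (Nat.div_add_mod m 4).symm⟩
  rw [add_assoc, pow_add, pow_mul, Nat.mul_mod, Nat.pow_mod] at c4
  interval_cases r <;> simp at c4 ⊢

end Cfsg.Agent.S2881
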