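import Cfsg.Statements.S2911
import Mathlib
import Cfsg.Agent.L0.TT

set_option autoImplicit false
open Cfsg

namespace Cfsg.Agent.S2911

open Cfsg Subgroup CfsgH2 CfsgL0

/-- A finite group whose Sylow 2-subgroups are isomorphic to the direct product of a group of order 2 and a dihedral group of order 8 has a subgroup of index two. -/
theorem result {G : Type*} [Group G] [Finite G] (S : Sylow 2 G) (hS : Nonempty (↥(S : Subgroup G) ≃* Multiplicative (ZMod 2) × DihedralGroup 4)) : ∃ H : Subgroup G, H.index = 2 := by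
  obtain ⟨e⟩ := hS
  have d1 : ∀ y : Multiplicative (ZMod 2) × DihedralGroup 4, (∀ s, s * y = y * s) → y.1 = 1 → ∃ w, y = w * w := by decide
  have d2 : ∀ w : Multiplicative (ZMod 2) × DihedralGroup 4, w * w ≠ (Multiplicative.ofAdd 1, 1) := by decide
  have d3 : ∀ w : Multiplicative (ZMod 2) × DihedralGroup 4, w * (Multiplicative.ofAdd 1, 1) = (Multiplicative.ofAdd 1, 1) * w := by decide
  set c := e.symm (Multiplicative.ofAdd 1, 1) with hc
  let φ : (S : Subgroup G) →* Multiplicative (ZMod 2) := (MonoidHom.fst _ _).comp e.toMonoidHom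
  have hi : (φ.ker.map (S : Subgroup G).subtype).relIndex S = 2 := by
    rw [relIndex, subgroupOf, comap_map_eq_self_of_injective (subtype_injective _), index_ker,
      MonoidHom.range_eq_top.2 (Prod.fst_surjective.comp e.surjective)]
    simp
  have hcc : ∀ s : (S : Subgroup G), s * c = c * s := fun s => e.injective (by simp [hc, d3])
  obtain ⟨K, -, b, -⟩ := tt_inv (Syl.odd_index (syl_top S)) hi (x := c) (by
      rw [← Subgroup.coe_pow, hc, ← map_pow, show ((Multiplicative.ofAdd 1, 1) : Multiplicative (ZMod 2) × DihedralGroup 4) ^ 2 = 1 by decide]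
      simp) S.2
    (fun s hs => mem_centralizer_singleton_iff.2 (congrArg Subtype.val (hcc ⟨s, hs⟩))) c.2 (fun g hg => by
      have hn : g⁻¹ ∈ N[(S : Subgroup G)] := mem_norm_of_conj (by simpa using hg)
      have hn' : g ∈ N[(S : Subgroup G)] := by simpa using Subgroup.inv_mem _ hn
      rintro ⟨y, hy, e1⟩
      replace e1 : (y : G) = g⁻¹ * c * g := e1
      obtain ⟨w, hw⟩ := d1 (e y) (fun s => by
        obtain ⟨s, rfl⟩ := e.surjective s
        rw [← map_mul, ← map_mul]
        congr 1
        apply Subtype.ext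
        have := congrArg Subtype.val (hcc ⟨_, conj_mem_of_norm hn' s.2⟩)
        simp only [Subgroup.coe_mul] at this ⊢
        rw [e1]
        calc s * (g⁻¹ * c * g) = g⁻¹ * (g * s * g⁻¹ * c) * g := by group
          _ = _ := by rw [this]; group) hy
      obtain ⟨w, rfl⟩ := e.surjective w
      rw [← map_mul] at hw
      refine d2 (e ⟨_, conj_mem_of_norm hn' w.2⟩) ?_
      rw [← map_mul, ← e.apply_symm_apply (Multiplicative.ofAdd 1, 1), ← hc]
      congr 1
      apply Subtype.ext
      have := congrArg Subtype.val (e.injective hw)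
      simp only [Subgroup.coe_mul] at this ⊢
      calc g * w * g⁻¹ * (g * w * g⁻¹) = g * (w * w) * g⁻¹ := by group
        _ = _ := by rw [← this, e1]; group)
  exact ⟨K, b⟩

end Cfsg.Agent.S2911
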