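import Cfsg.Statements.S2928
import Cfsg.Agent.H1.Sn5

set_option autoImplicit false
open Cfsg

namespace Cfsg.Agent.S2928

/-- Let n ≥ 8 and let H be a subgroup of the symmetric group of degree n whose generalized Fitting subgroup F*(H) is quasisimple. If H contains a Sylow 2-subgroup of the alternating group of degree n, then F*(H) is isomorphic to an alternating group of degree m for some m ∈ {n − 3, n − 2, n − 1, n}. -/
theorem result (n : ℕ) (hn : 8 ≤ n) (H : Subgroup (Equiv.Perm (Fin n))) (hF : Cfsg.IsQuasisimple ↥(Cfsg.generalizedFittingSubgroup ↥H)) (hS : ∃ P : Sylow 2 ↥(alternatingGroup (Fin n)), ((P : Subgroup ↥(alternatingGroup (Fin n))).map (alternatingGroup (Fin n)).subtype) ≤ H) : ∃ m : ℕ, (m = n - 3 ∨ m = n - 2 ∨ m = n - 1 ∨ m = n) ∧ Nonempty (↥(Cfsg.generalizedFittingSubgroup ↥H) ≃* ↥(alternatingGroup (Fin m))) := by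
  open CfsgH1 CfsgH1.Sn Equiv Equiv.Perm MulAction in
  open CfsgH9 hiding card_inf_mul_relIndex card_lt_of_lt card_lt_of_ne_top card_map_mul_card_inf_ker card_mul_relIndex card_quotient_lt card_subgroupOf card_subgroupOf_of_le card_sup_dvd card_sup_mul_card_inf commutator_sup_le commutator_sup_le' isNilpotent_map isNilpotent_of_le isSolvable_map isSolvable_of_le le_normalizer_commutator le_normalizer_inf le_normalizer_map_subtype le_normalizer_sup le_pCore le_pPrimeCore mem_sup_of_le_normalizer mem_sup_of_le_normalizer' normalizer_le_normalizer_centralizer pCore_quotient_pCore pPrimeCore_quotient_pPrimeCore relIndex_map_subtype relIndex_sup_of_le_normalizer in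
  open scoped CfsgH9 in
  open scoped commutatorElement in
  · obtain ⟨P, hP⟩ := hS
    have h := qs_Fs hF
    have h1 : ¬ 2 ∣ (P.1.map (alternatingGroup (Fin n)).subtype).relIndex (alternatingGroup (Fin n)) := by
      rw [Subgroup.relIndex, Subgroup.subgroupOf, Subgroup.comap_map_eq_self_of_injective (Subgroup.subtype_injective _)]
      exact P.not_dvd_index
    obtain ⟨z, hz, -⟩ := exists_supp (S := (Finset.univ : Finset (Fin n))) (Multiset.replicate (n / 2) 2) (by simp; omega)
      (fun a ha => (Multiset.eq_of_mem_replicate ha).ge)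
    have h2 : ∀ w : Perm (Fin n), w.cycleType = Multiset.replicate (n / 2) 2 → ∀ x, w (w x) = x := fun w hw =>
      Equiv.ext_iff.1 (show w * w = 1 by rw [← sq, pow_prime_eq_one_iff]; exact fun a ha => Multiset.eq_of_mem_replicate (hw ▸ ha))
    obtain ⟨g, -, hg⟩ := conj_in Nat.prime_two h1 (fun _ a => (mem_Ez.1 a).1.1) (Ez_two (h2 z hz))
    obtain ⟨V, Δ, a1, a2, a3⟩ := exists_bl (α := Fin n) (by simp; omega)
    obtain ⟨k, -, hk⟩ := conj_in Nat.prime_two h1 a2 a1
    obtain ⟨c, hH, hc⟩ := h.exists_three (by simpa) (h2 (g * z * g⁻¹) (cycleType_conj.trans hz)) (by simpa using hz) (fun x hx => by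
      have := Ez_conj (g := g⁻¹) (hz' := by simpa [mul_assoc] using h2 z hz) hx
      simp only [mul_assoc, inv_inv, inv_mul_cancel, mul_one, inv_mul_cancel_left] at this
      simpa [mul_assoc] using hP (hg _ this)) (a3.conj k fun x hx => hP (hk x hx))
    obtain ⟨S, e, -, h3⟩ := h.three hc hH
    refine ⟨S.card, ?_, ⟨((Subgroup.equivMapOfInjective _ _ H.subtype_injective).trans (MulEquiv.subgroupCongr e)).trans (ASe S)⟩⟩
    have := S.card_compl
    have := S.card_le_univ
    by_contra a
    obtain ⟨d, hd, b⟩ := exists_supp (S := Sᶜ) {2, 2} (by simp at *; omega) (by simp)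
    exact (e ▸ h).out h3 Nat.prime_two hP (Subgroup.map_subtype_le _) h1 (by rw [mem_alternatingGroup, sign_of_cycleType, hd]; decide)
      (by rw [← lcm_cycleType, hd]; decide) (by rw [← sum_cycleType, hd]; decide) b

end Cfsg.Agent.S2928
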