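import Cfsg.Statements.S2929
import Cfsg.Agent.H1.Sn5

set_option autoImplicit false
open Cfsg

namespace Cfsg.Agent.S2929

/-- Let n ≥ 5 and let H be a subgroup of the symmetric group of degree n whose generalized Fitting subgroup F*(H) is quasisimple. If H contains a Sylow 3-subgroup of the symmetric group, then F*(H) is isomorphic to an alternating group of degree m for some m ∈ {n − 2, n − 1, n}. -/
theorem result (n : ℕ) (hn : 5 ≤ n) (H : Subgroup (Equiv.Perm (Fin n))) (hF : Cfsg.IsQuasisimple ↥(Cfsg.generalizedFittingSubgroup ↥H)) (hS : ∃ P : Sylow 3 (Equiv.Perm (Fin n)), (P : Subgroup (Equiv.Perm (Fin n))) ≤ H) : ∃ m : ℕ, (m = n - 2 ∨ m = n - 1 ∨ m = n) ∧ Nonempty (↥(Cfsg.generalizedFittingSubgroup ↥H) ≃* ↥(alternatingGroup (Fin m))) := by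
  open CfsgH1 CfsgH1.Sn Equiv Equiv.Perm MulAction in
  open CfsgH9 hiding card_inf_mul_relIndex card_lt_of_lt card_lt_of_ne_top card_map_mul_card_inf_ker card_mul_relIndex card_quotient_lt card_subgroupOf card_subgroupOf_of_le card_sup_dvd card_sup_mul_card_inf commutator_sup_le commutator_sup_le' isNilpotent_map isNilpotent_of_le isSolvable_map isSolvable_of_le le_normalizer_commutator le_normalizer_inf le_normalizer_map_subtype le_normalizer_sup le_pCore le_pPrimeCore mem_sup_of_le_normalizer mem_sup_of_le_normalizer' normalizer_le_normalizer_centralizer pCore_quotient_pCore pPrimeCore_quotient_pPrimeCore relIndex_map_subtype relIndex_sup_of_le_normalizer in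
  open scoped CfsgH9 in
  open scoped commutatorElement in
  · obtain ⟨P, hP⟩ := hS
    have h := qs_Fs hF
    have h1 : ¬ 3 ∣ P.1.relIndex ⊤ := by simpa using P.not_dvd_index
    obtain ⟨c, hc, -⟩ := exists_supp (S := (Finset.univ : Finset (Fin n))) {3} (by simp; omega) (by simp)
    obtain ⟨g, -, hg⟩ := conj_in Nat.prime_three h1 le_top (Q := Subgroup.zpowers c)
      (.of_card (n := 1) (by rw [Nat.card_zpowers, IsThreeCycle.orderOf hc, pow_one]))
    obtain ⟨S, e, -, h2⟩ := h.three (cycleType_conj.trans hc) (hP (hg c (Subgroup.mem_zpowers c)))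
    refine ⟨S.card, ?_, ⟨((Subgroup.equivMapOfInjective _ _ H.subtype_injective).trans (MulEquiv.subgroupCongr e)).trans (ASe S)⟩⟩
    have := S.card_compl
    have := S.card_le_univ
    by_contra a
    obtain ⟨d, hd, b⟩ := exists_supp (S := Sᶜ) {3} (by simp at *; omega) (by simp)
    exact (e ▸ h).out h2 Nat.prime_three hP le_top h1 trivial (IsThreeCycle.orderOf hd)
      (by rw [IsThreeCycle.card_support hd]; omega) b

end Cfsg.Agent.S2929
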