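import Cfsg.Statements.S5909
import Cfsg.Agent.H5.Sy4

set_option autoImplicit false
open Cfsg

namespace Cfsg.Agent.S5909

open Equiv Equiv.Perm MulAction CfsgH5.Sy

theorem uniq {α β : Type*} [Fintype α] [DecidableEq α] (f : α → β) (hf : ∀ i, Nat.card {x // f x = i} = 2) {x y z : α}
    (h1 : f x = f y) (h2 : f x = f z) (h3 : y ≠ x) (h4 : z ≠ x) : y = z := by
  obtain ⟨w, -, hw⟩ := (Nat.card_eq_two_iff' (⟨x, rfl⟩ : {u // f u = f x})).mp (hf (f x))
  exact congrArg Subtype.val ((hw ⟨y, h1.symm⟩ (fun e => h3 (congrArg Subtype.val e))).trans (hw ⟨z, h2.symm⟩ (fun e => h4 (congrArg Subtype.val e))).symm)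

theorem two_case {α β : Type*} [Fintype α] [DecidableEq α] [DecidableEq β] [Fintype β] (f : α → β) (hf : ∀ i, Nat.card {x // f x = i} = 2)
    (h4 : 4 < Fintype.card α) (h8 : Fintype.card α ≠ 8) (K : Subgroup (Perm α)) (hK : Wf f ⊓ alternatingGroup α ≤ K)
    (h : Perm α) (hh : h ∈ K) (x y : α) (h1 : f x = f y) (h2 : f (h x) ≠ f (h y)) : ∃ c ∈ K, IsThreeCycle c := by
  have hp : ∀ x, ∃ y, f y = f x ∧ y ≠ x := fun x => by
    obtain ⟨p, hp, hp'⟩ := fib_out f 2 hf (f x) {x} (by simp)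
    exact ⟨p, hp, by simpa using hp'⟩
  choose p hp1 hp2 using hp
  have hpu : ∀ x y, f x = f y → y ≠ x → y = p x := fun x y a b => uniq f hf a (hp1 x).symm b (hp2 x)
  have pp : ∀ x, p (p x) = x := fun x => (hpu _ _ (hp1 x) (hp2 x).symm).symm
  have D1 : ∀ u v, swap u (p u) * swap v (p v) ∈ K := fun u v => hK ⟨mul_mem (swap_W f (hp1 u).symm) (swap_W f (hp1 v).symm),
    mul_mem_alternatingGroup_of_isSwap (swap_isSwap_iff.mpr (hp2 u).symm) (swap_isSwap_iff.mpr (hp2 v).symm)⟩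
  obtain ⟨q, hq⟩ : ∃ q : α → α, ∀ u, q u = h (p (h⁻¹ u)) := ⟨_, fun _ => rfl⟩
  have qq : ∀ u, q (q u) = u := fun u => by simp [hq, pp]
  have hq2 : ∀ u, q u ≠ u := fun u e => hp2 (h⁻¹ u) (by rw [hq] at e; exact Perm.eq_inv_iff_eq.mpr e)
  have D2 : ∀ u v, swap u (q u) * swap v (q v) ∈ K := fun u v => by
    have := mul_mem (mul_mem hh (D1 (h⁻¹ u) (h⁻¹ v))) (inv_mem hh)
    have e : ∀ u, swap u (q u) = h * swap (h⁻¹ u) (p (h⁻¹ u)) * h⁻¹ := fun u => by rw [← swap_apply_apply, hq]; simp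
    rw [e, e]; convert this using 1; group
  have pinj : ∀ u v, p u = v ↔ u = p v := fun u v => ⟨fun e => by rw [← e, pp], fun e => by rw [e, pp]⟩
  have qinj : ∀ u v, q u = v ↔ u = q v := fun u v => ⟨fun e => by rw [← e, qq], fun e => by rw [e, qq]⟩
  obtain ⟨b, hb⟩ : ∃ b, p b ≠ q b := ⟨h x, fun e => h2 (by
    have hy : y ≠ x := fun e => h2 (by rw [e])
    rw [hpu x y h1 hy, ← hp1 (h x), e, hq]; simp)⟩
  have n1 := hp2 b
  have n2 := hq2 b
  have n3 := hp2 (q b)
  have n4 : p (q b) ≠ b := fun e => hb ((pinj _ _).mp e).symm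
  have n5 : p (q b) ≠ p b := fun e => n2 (by rw [pinj, pp] at e; exact e)
  by_cases hc : q (p (q b)) = p b
  · obtain ⟨u, w, hu, hw, huw⟩ : ∃ u w, (u ≠ b ∧ u ≠ p b ∧ u ≠ q b ∧ q u ≠ b ∧ q u ≠ p b ∧ q u ≠ q b) ∧
        (w ≠ b ∧ w ≠ p b ∧ w ≠ q b ∧ p w ≠ b ∧ p w ≠ p b ∧ p w ≠ q b) ∧
        ((w = u ∧ p u = q u) ∨ (w ≠ u ∧ w ≠ q u ∧ p w ≠ u ∧ p w ≠ q u)) := by
      obtain ⟨u, -, hu⟩ := Finset.exists_mem_notMem_of_card_lt_card (s := {b, p b, q b, p (q b)}) (t := Finset.univ)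
        (lt_of_le_of_lt Finset.card_le_four h4)
      simp only [Finset.mem_insert, Finset.mem_singleton, not_or] at hu
      obtain ⟨u1, u2, u3, u4⟩ := hu
      have hU : u ≠ b ∧ u ≠ p b ∧ u ≠ q b ∧ q u ≠ b ∧ q u ≠ p b ∧ q u ≠ q b :=
        ⟨u1, u2, u3, fun e => u3 ((qinj _ _).mp e), fun e => u4 (by rw [qinj, ← hc, qq] at e; exact e), fun e => u1 (by rw [qinj, qq] at e; exact e)⟩
      have hW : ∀ w, w ≠ b → w ≠ p b → w ≠ q b → w ≠ p (q b) → w ≠ b ∧ w ≠ p b ∧ w ≠ q b ∧ p w ≠ b ∧ p w ≠ p b ∧ p w ≠ q b :=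
        fun w w1 w2 w3 w4 => ⟨w1, w2, w3, fun e => w2 ((pinj _ _).mp e), fun e => w1 (by rw [pinj, pp] at e; exact e), fun e => w4 ((pinj _ _).mp e)⟩
      by_cases hpq : p u = q u
      · exact ⟨u, u, hU, hW u u1 u2 u3 u4, Or.inl ⟨rfl, hpq⟩⟩
      have h7 : 7 ≤ Fintype.card α := by
        obtain ⟨-, -, -, a1, a2, a3⟩ := hW u u1 u2 u3 u4
        obtain ⟨-, -, -, b1, b2, b3⟩ := hU
        have a4 : p u ≠ p (q b) := fun e => u3 (by rw [pinj, pp] at e; exact e)
        have b4 : q u ≠ p (q b) := fun e => u2 (by rw [qinj, hc] at e; exact e)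
        have c1 := hp2 u
        have c2 := hq2 u
        have : ({b, p b, q b, p (q b), u, p u, q u} : Finset α).card = 7 := by
          repeat rw [Finset.card_insert_of_notMem (by simp only [Finset.mem_insert, Finset.mem_singleton]; grind)]
          rfl
        rw [← this]; exact Finset.card_le_univ _
      have := card_eq f 2 hf
      obtain ⟨w, -, hw⟩ := Finset.exists_mem_notMem_of_card_lt_card (s := {b, p b, q b, p (q b)} ∪ {u, q u, p u, p (q u)}) (t := Finset.univ)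
        (lt_of_le_of_lt ((Finset.card_union_le _ _).trans (Nat.add_le_add Finset.card_le_four Finset.card_le_four)) (by rw [Finset.card_univ]; omega))
      simp only [Finset.mem_union, Finset.mem_insert, Finset.mem_singleton, not_or] at hw
      obtain ⟨⟨w1, w2, w3, w4⟩, w5, w6, w7, w8⟩ := hw
      exact ⟨u, w, hU, hW w w1 w2 w3 w4, Or.inr ⟨w5, w6, fun e => w7 ((pinj _ _).mp e), fun e => w8 ((pinj _ _).mp e)⟩⟩
    refine ⟨_, pow_mem (mul_mem (D2 b u) (D1 b w)) 2, ?_⟩
    have : (swap b (q b) * swap u (q u) * (swap b (p b) * swap w (p w))) ^ 2 = swap b (p b) * swap b (q b) := by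
      obtain ⟨u1, u2, u3, u4, u5, u6⟩ := hu
      obtain ⟨w1, w2, w3, w4, w5, w6⟩ := hw
      have c1 := hq2 u
      have c2 := hp2 w
      rcases huw with ⟨rfl, e⟩ | ⟨e1, e2, e3, e4⟩
      · rw [e] at *
        ext z; simp only [sq, mul_apply, swap_apply_def]; grind
      · ext z; simp only [sq, mul_apply, swap_apply_def]; grind
    rw [this]
    exact isThreeCycle_swap_mul_swap_same n1.symm n2.symm hb
  · have hW : swap b (q b) * swap (p (q b)) (p b) ∈ K := by
      refine hK ⟨mem_W_of f _ (swap (f b) (f (q b))) (fun z => ?_), mul_mem_alternatingGroup_of_isSwap (swap_isSwap_iff.mpr n2.symm) (swap_isSwap_iff.mpr n5)⟩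
      have a1 := hpu b z
      have a2 := hpu (q b) z
      have a3 := hp1 b
      have a4 := hp1 (q b)
      simp only [mul_apply, swap_apply_def]; grind
    refine ⟨_, mul_mem (D2 (p (q b)) b) hW, ?_⟩
    rw [mul_assoc, ← mul_assoc (swap b (q b)), swap_mul_self, one_mul]
    exact isThreeCycle_swap_mul_swap_same (hq2 _).symm n5 hc

theorem four_case {α β : Type*} [Fintype α] [DecidableEq α] [DecidableEq β] [Nontrivial β] (f : α → β) (hf : ∀ i, Nat.card {x // f x = i} = 2)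
    (h4 : Fintype.card α = 4) : 4 ∣ Nat.card ↥(Wf f ⊓ alternatingGroup α) := by
  have : IsPretransitive ↥(Wf f ⊓ alternatingGroup α) α := ⟨fun x u => by
    have ex : ∀ x, ∃ y, f x ≠ f y := fun x => by
      obtain ⟨i, hi⟩ := exists_ne (f x)
      obtain ⟨y, hy, -⟩ := fib_out f 2 hf i ∅ (by simp)
      exact ⟨y, hy ▸ hi.symm⟩
    obtain ⟨y, hy⟩ := ex x
    obtain ⟨v, hv⟩ := ex u
    obtain ⟨w, hw, e, -⟩ := W_two f 2 hf hy hv
    obtain ⟨v', hv', hn⟩ := fib_out f 2 hf (f v) {v} (by simp)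
    obtain ⟨w', hw', e'⟩ := fix_sign f hw (p := v') (q := v) (by simpa using hn) hv'
    exact ⟨⟨w', hw'⟩, (e' x (fun k => hv (by rw [← e, k, hv'])) (fun k => hv (by rw [← e, k]))).trans e⟩⟩
  obtain ⟨x⟩ : Nonempty α := Fintype.card_pos_iff.mp (by omega)
  have h1 := Subgroup.index_dvd_card (stabilizer ↥(Wf f ⊓ alternatingGroup α) x)
  rwa [index_stabilizer_of_transitive, Nat.card_eq_fintype_card (α := α), h4] at h1

/-- Let Ω be a finite set whose size is not 8, and f : Ω → Fin b a labelling with b ≥ 2 whose fibres all have the same size a ≥ 2 (a partition into b blocks of size a). Then the even permutations preserving the partition — the intersection of the imprimitive wreath product S_a ≀ S_b with the alternating group — form a maximal subgroup of the alternating group on Ω. -/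
theorem result {Ω : Type*} [Fintype Ω] [DecidableEq Ω] (h8 : Fintype.card Ω ≠ 8) (a b : ℕ) (ha : 2 ≤ a) (hb : 2 ≤ b)
    (f : Ω → Fin b) (hf : ∀ i : Fin b, Nat.card {x : Ω // f x = i} = a) :
    IsCoatom ((Subgroup.closure {g : Equiv.Perm Ω | ∀ x y : Ω, f x = f y ↔ f (g x) = f (g y)} ⊓ alternatingGroup Ω).subgroupOf (alternatingGroup Ω)) := by
  haveI : Nontrivial (Fin b) := Fin.nontrivial_iff_two_le.mpr hb
  rw [closure_W]
  have hcard := card_eq f a hf
  rw [Fintype.card_fin] at hcard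
  constructor
  · rw [Ne, Subgroup.subgroupOf_eq_top]
    intro h
    obtain ⟨x, x', y, h1, h2, h3⟩ := W_ne f a ha hf
    have h4 : x ≠ y := fun e => h3 (by rw [e])
    have h5 : x' ≠ y := fun e => h3 (by rw [h1, e])
    have := ((h (isThreeCycle_swap_mul_swap_same h2 h4 h5).mem_alternatingGroup).1 x x').mp h1
    simp [swap_apply_def, h2.symm, h4.symm, h5.symm, h5] at this
    exact h3 this.symm
  intro K' hK'
  obtain ⟨⟨g, hgA⟩, hg, hn⟩ := SetLike.exists_of_lt hK'
  have hK : Wf f ⊓ alternatingGroup Ω ≤ K'.map (alternatingGroup Ω).subtype := fun w hw => ⟨⟨w, hw.2⟩, hK'.le hw, rfl⟩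
  suffices hA : alternatingGroup Ω ≤ K'.map (alternatingGroup Ω).subtype by
    rw [eq_top_iff]; intro k _
    obtain ⟨k', hk, e⟩ := hA k.2
    rwa [← show k' = k from Subtype.ext e]
  have hg' : g ∈ K'.map (alternatingGroup Ω).subtype := ⟨_, hg, rfl⟩
  have hn' : g ∉ Wf f := fun h => hn ⟨h, hgA⟩
  have hKA := Subgroup.map_subtype_le K'
  generalize K'.map (alternatingGroup Ω).subtype = K at *
  obtain ⟨h, hh, x, y, h1, h2⟩ := not_W f hn'
  have hh : h ∈ K := by rcases hh with rfl | rfl; exacts [hg', inv_mem hg']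
  have hxy : x ≠ y := fun e => h2 (by rw [e])
  by_cases h3 : 3 ≤ a
  · obtain ⟨z, hz, hz'⟩ := fib_out f a hf (f x) {x, y} (lt_of_le_of_lt Finset.card_le_two h3)
    simp only [Finset.mem_insert, Finset.mem_singleton, not_or] at hz'
    have hc := isThreeCycle_swap_mul_swap_same (Ne.symm hz'.1) hxy hz'.2
    refine alt_le_of_three f a ha hf (by nlinarith) K hK (h * (swap x z * swap x y) * h⁻¹) (by rw [IsThreeCycle, cycleType_conj]; exact hc)
      (mul_mem (mul_mem hh (hK ⟨mul_mem (swap_W f hz.symm) (swap_W f h1), hc.mem_alternatingGroup⟩)) (inv_mem hh)) (h x) ?_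
    simpa [swap_apply_def, hxy.symm, Ne.symm hz'.2] using h2
  obtain rfl : a = 2 := by omega
  by_cases h4 : 4 < Fintype.card Ω
  · obtain ⟨c, hcK, hc⟩ := two_case f hf h4 h8 K hK h hh x y h1 h2
    obtain ⟨u, hu⟩ : ∃ u, c u ≠ u := by
      by_contra k; push Not at k; exact hc.ne_one (Equiv.ext k)
    by_cases e : f u = f (c u)
    · refine alt_le_of_three f 2 ha hf h4 K hK c⁻¹ hc.inv (inv_mem hcK) u (fun e' => ?_)
      have := uniq f hf e e' hu (fun k => hu (by rw [Perm.inv_eq_iff_eq] at k; exact k.symm))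
      rw [Perm.eq_inv_iff_eq] at this
      have h6 : (c ^ 3) u = u := by rw [← hc.orderOf, pow_orderOf_eq_one]; rfl
      simp only [pow_succ, pow_zero, one_mul, mul_apply, this] at h6
      exact hu h6
    · exact alt_le_of_three f 2 ha hf h4 K hK c hc hcK u e
  have h4' : Fintype.card Ω = 4 := by omega
  have d1 := four_case f hf h4'
  have d2 := Subgroup.card_dvd_of_le hK
  have d3 := Subgroup.card_dvd_of_le hKA
  have d4 : Nat.card (alternatingGroup Ω) = 12 := alternatingGroup.card_of_card_eq_four (by rw [Nat.card_eq_fintype_card, h4'])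
  have d5 : Nat.card ↥(Wf f ⊓ alternatingGroup Ω) < Nat.card K := by
    by_contra k
    exact hn' ((Subgroup.eq_of_le_of_card_ge hK (not_lt.mp k)).ge hg').1
  refine (Subgroup.eq_of_le_of_card_ge hKA ?_).ge
  rw [d4] at d3 ⊢
  have d6 := d1.trans d2
  have d7 := Nat.le_of_dvd Nat.card_pos d1
  have d8 := Nat.le_of_dvd (by norm_num) d3
  generalize Nat.card K = k at *
  interval_cases k <;> omega

end Cfsg.Agent.S5909
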