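import Mathlib
import Cfsg.Statements.S2930
import Cfsg.Agent.H8.Hs4
import Cfsg.Agent.S5909
import Cfsg.Agent.S1265
import Cfsg.Agent.H9.Comp
import Cfsg.Agent.H1.SylowIn

set_option autoImplicit false
open Cfsg

namespace Cfsg.Agent.S2930

open Subgroup CfsgH1 CfsgH1.Sn CfsgH5.Sy CfsgH8.Hs MulAction Equiv Equiv.Perm
open scoped Pointwise

theorem lucas (s : ℕ) : ∀ j i r : ℕ, r < 3 ^ s → (j * 3 ^ s + r).choose (i * 3 ^ s) ≡ j.choose i [MOD 3] := by
  have : Fact (Nat.Prime 3) := ⟨Nat.prime_three⟩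
  induction s with
  | zero => intro j i r h; simp at h; simp [h, Nat.ModEq]
  | succ s ih =>
    intro j i r h
    refine Choose.choose_modEq_choose_mod_mul_choose_div_nat.trans ?_
    rw [pow_succ, ← mul_assoc, ← mul_assoc, Nat.mul_mod_left, Nat.choose_zero_right, one_mul, Nat.mul_div_cancel _ (by omega),
      show (j * 3 ^ s * 3 + r) / 3 = j * 3 ^ s + r / 3 by omega]
    exact ih j i _ (by rw [pow_succ] at h; omega)

theorem ub (s b : ℕ) : ¬ 3 ∣ b.uniformBell (3 ^ s) := by
  rw [Nat.uniformBell_eq, Nat.prime_three.prime.dvd_finsetProd_iff]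
  rintro ⟨j, -, h⟩
  have a : 0 < 3 ^ s := by positivity
  have := lucas s j j (3 ^ s - 1) (by omega)
  rw [Nat.choose_symm_add, Nat.choose_self, show j * 3 ^ s + (3 ^ s - 1) = j * 3 ^ s + 3 ^ s - 1 by omega, Nat.ModEq] at this
  omega

variable {α : Type} [Fintype α] [DecidableEq α]

theorem uni (S : Sylow 3 (alternatingGroup α)) {a b : ℕ} (ha : 2 ≤ a) (hb : 2 ≤ b) (h : Fintype.card α = b * a)
    (h8 : Fintype.card α ≠ 8) (h3 : ¬ 3 ∣ b.uniformBell a) : ∃ f : α → Fin b, (∀ i, sz f i = a) ∧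
      IsCoatom ((Wf f).subgroupOf (alternatingGroup α)) ∧ (S : Subgroup _) ≤ (Wf f).subgroupOf (alternatingGroup α) := by
  let e : α ≃ Fin b × Fin a := Fintype.equivOfCardEq (by simpa)
  have s1 : ∀ i, sz (Prod.fst ∘ e) i = a := fun i => by
    rw [sz_perm, sz_eq, ← Finset.univ_product_univ, Finset.filter_product_left (p := (· = i))]
    simp [Finset.filter_eq']
  have s2 : ty (Prod.fst ∘ e) = Multiset.replicate b a := by
    rw [ty, Multiset.map_congr rfl fun i _ => s1 i]
    simp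
  obtain ⟨g, -, c⟩ := conj_in Nat.prime_three (K := alternatingGroup α) (T := Wf (Prod.fst ∘ e)) (by
    rw [relIndex_Wf (.inr rfl) (k := a) (fun i => ⟨e.symm (i, ⟨0, by omega⟩), by simp⟩) (by
      rw [s2, Multiset.mem_replicate]; omega) ha, s2]
    exact h3) (map_subtype_le S.1) (S.2.map _)
  have s3 : ∀ i, sz ((Prod.fst ∘ e) ∘ g) i = a := fun i => (sz_perm _ g i).trans (s1 i)
  refine ⟨_, s3, ?_, fun x hx u v => ?_⟩
  · have := S5909.result h8 a b ha hb _ fun i => Nat.card_eq_fintype_card.trans (s3 i)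
    rwa [closure_W, inf_subgroupOf_right] at this
  · simpa using c _ ⟨x, hx, rfl⟩ (g u) (g v)

theorem support_swap_mul_swap' {x y z : α} (h1 : x ≠ z) (h2 : x ≠ y) (h3 : z ≠ y) :
    (swap x z * swap x y).support = {x, z, y} := by
  ext u
  simp only [mem_support, Perm.mul_apply, swap_apply_def, Finset.mem_insert, Finset.mem_singleton]
  grind

theorem contra {β : Type} [DecidableEq β] {f : α → β} (hf : ∀ i, sz f i = 3) {T : Finset α} (hT : 3 < T.card)
    (h : ∀ c : Perm α, c.IsThreeCycle → c.support ⊆ T → c ∈ Wf f) : False := by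
  obtain ⟨x, hx⟩ := Finset.card_pos.1 (show 0 < T.card by omega)
  obtain ⟨y, y1, y2⟩ := Finset.exists_mem_notMem_of_card_lt_card ((sz_eq f (f x) ▸ hf (f x)).trans_lt hT)
  have xy : x ≠ y := fun e => y2 (by simp [e])
  obtain ⟨z, z1, z2⟩ := Finset.exists_mem_notMem_of_card_lt_card (s := {x, y}) (Finset.card_le_two.trans_lt (by omega) : _ < T.card)
  obtain ⟨u, u1, u2⟩ := Finset.exists_mem_notMem_of_card_lt_card (s := {x, z})
    (Finset.card_le_two.trans_lt (by rw [← sz_eq, hf]; omega) : _ < (Finset.univ.filter fun a => f a = f x).card)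
  simp only [Finset.mem_insert, Finset.mem_singleton, not_or, Finset.mem_filter, Finset.mem_univ, true_and] at *
  have uy : u ≠ y := fun e => y2 (e ▸ u1)
  have c : (swap x z * swap x y).support ⊆ T := by
    rw [support_swap_mul_swap' (Ne.symm z2.1) xy z2.2]
    simp only [Finset.insert_subset_iff, Finset.singleton_subset_iff]
    exact ⟨hx, z1, y1⟩
  have := (h _ (isThreeCycle_swap_mul_swap_same (Ne.symm z2.1) xy z2.2) c u x).1 u1
  rw [Perm.mul_apply, Perm.mul_apply, swap_apply_left, swap_apply_of_ne_of_ne u2.1 uy, swap_apply_of_ne_of_ne u2.1 u2.2,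
    swap_apply_of_ne_of_ne xy.symm (Ne.symm z2.2)] at this
  exact y2 (this.symm.trans u1)

theorem main {n : ℕ} (hn : 5 ≤ n) (S : Sylow 3 (alternatingGroup (Fin n)))
    (h : ∀ M N, IsCoatom M → IsCoatom N → (S : Subgroup (alternatingGroup (Fin n))) ≤ M → (S : Subgroup _) ≤ N → M = N) :
    n = 6 ∨ n = 9 ∨ ∃ a : ℕ, 2 ≤ a ∧ n = 3 ^ a + 1 := by
  have : Fact (Nat.Prime 3) := ⟨Nat.prime_three⟩
  by_contra! hc
  obtain ⟨c6, c9, hc⟩ := hc
  have st : ∀ k, 0 < k → k < n → n ≠ 2 * k → ¬ 3 ∣ n.choose k → ∃ s : Finset (Fin n), s.card = k ∧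
      IsCoatom (stabilizer (alternatingGroup (Fin n)) s) ∧ (S : Subgroup _) ≤ stabilizer (alternatingGroup (Fin n)) s ∧
      (stabilizer (alternatingGroup (Fin n)) s).index = n.choose k := fun k k1 k2 k3 k4 => by
    obtain ⟨s, hs⟩ := S.isPGroup'.nonempty_fixed_point_of_prime_not_dvd_card (Set.powersetCard (Fin n) k) (by
      rwa [Set.powersetCard.card, Nat.card_fin])
    have a : ((s : Finset (Fin n)) : Set (Fin n)).ncard = k := by rw [Set.ncard_coe_finset]; exact s.2
    have b := Set.ncard_add_ncard_compl ((s : Finset (Fin n)) : Set (Fin n))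
    rw [Nat.card_fin] at b
    have c := Set.powersetCard.isPretransitive_alternatingGroup (α := Fin n) (n := k) (by simp; omega)
    have d := index_stabilizer_of_transitive (alternatingGroup (Fin n)) s
    rw [Set.powersetCard.card, Nat.card_fin] at d
    refine ⟨s, s.2, ?_, fun g hg => congrArg Subtype.val (hs ⟨g, hg⟩), d ▸ congrArg _ (Subgroup.ext fun g =>
      (Subtype.ext_iff (a1 := g • s) (a2 := s)).symm)⟩
    rw [← stabilizer_coe_finset]
    exact alternatingGroup.isCoatom_stabilizer (Set.nonempty_of_ncard_ne_zero (by omega))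
      (Set.nonempty_of_ncard_ne_zero (by omega)) (by rw [Nat.card_fin]; omega)
  have a1 := Nat.pow_log_le_self 3 (show n ≠ 0 by omega)
  have a2 := Nat.lt_pow_succ_log_self (b := 3) (by norm_num) n
  have a0 : 1 ≤ Nat.log 3 n := Nat.log_pos (by norm_num) (by omega)
  generalize Nat.log 3 n = a at a0 a1 a2
  have a3 : 3 ∣ 3 ^ a := dvd_pow_self 3 (by omega)
  have a4 : ¬ 3 ∣ n.choose (3 ^ a) := by
    have := lucas a (n / 3 ^ a) 1 (n % 3 ^ a) (Nat.mod_lt _ (by positivity))
    rw [Nat.div_add_mod', one_mul, Nat.choose_one_right, Nat.ModEq] at this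
    have b : 0 < n / 3 ^ a := Nat.div_pos a1 (by positivity)
    have c : n / 3 ^ a < 3 := Nat.div_lt_of_lt_mul a2
    omega
  have a5 : 3 ≤ 3 ^ a := Nat.le_of_dvd (by positivity) a3
  by_cases e : 3 ∣ n
  · obtain ⟨f, f1, f2, f3⟩ := uni S (a := 3) (b := n / 3) (by omega) (by omega) (by simp; omega) (by simp; omega) (ub 1 _)
    have u : ∀ s b, 2 ≤ s → 2 ≤ b → n ≠ b * 3 ^ s := fun s b b1 b2 b3 => by
      have b4 : 3 ^ 2 ≤ 3 ^ s := Nat.pow_le_pow_right (by omega) b1
      obtain ⟨g, g1, g2, g3⟩ := uni S (a := 3 ^ s) (b := b) (by omega) b2 (by simpa) (by simp; omega) (ub s _)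
      refine contra f1 (T := Finset.univ.filter fun x => g x = ⟨0, by omega⟩) (by rw [← sz_eq, g1]; omega) fun c c1 c2 =>
        (h _ _ g2 f2 g3 f3).le (show (⟨c, c1.mem_alternatingGroup⟩ : alternatingGroup _) ∈ _ from mem_W_of g c 1 fun x => ?_)
      by_cases t : c x = x
      · simp [t]
      · exact (Finset.mem_filter.1 (c2 (apply_mem_support.2 (mem_support.2 t)))).2.trans
          (Finset.mem_filter.1 (c2 (mem_support.2 t))).2.symm
    have a6 : 2 ≤ a := by
      by_contra t
      obtain rfl : a = 1 := by omega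
      omega
    have b4 : 3 ^ 2 ≤ 3 ^ a := Nat.pow_le_pow_right (by omega) a6
    obtain ⟨s, s1, s2, s3, -⟩ := st (3 ^ a) (by omega) (lt_of_le_of_ne a1 fun t => by
      obtain ⟨a, rfl⟩ : ∃ b, a = b + 1 := ⟨a - 1, by omega⟩
      refine u a 3 (by_contra fun t' => ?_) (by omega) (by rw [← t, pow_succ'])
      obtain rfl : a = 1 := by omega
      omega) (u a 2 a6 le_rfl) a4
    exact contra f1 (T := s) (by omega) fun c c1 c2 => (h _ _ s2 f2 s3 f3).le
      (show (⟨c, c1.mem_alternatingGroup⟩ : alternatingGroup _) ∈ _ from stab_of_supp c2)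
  · obtain ⟨s, -, s2, s3, s4⟩ := st (3 ^ a) (by omega) (by omega) (by omega) a4
    obtain ⟨t, -, t2, t3, t4⟩ := st 1 (by omega) (by omega) (by omega) (by simpa)
    rw [h _ _ s2 t2 s3 t3, t4, Nat.choose_one_right] at s4
    refine (lt_choose n (3 ^ a) (by omega) ?_).ne s4
    by_cases a6 : 2 ≤ a
    · have := hc a a6
      omega
    · obtain rfl : a = 1 := by omega
      omega

/-- Let X be a finite 3-minimal group (a Sylow 3-subgroup is not normal and lies in a unique maximal subgroup) whose generalized Fitting subgroup is isomorphic to an alternating group of degree n ≥ 5. Then X = F*(X), and n = 6, n = 9, or n = 3ᵃ + 1 for some a ≥ 2. -/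
theorem result {X : Type*} [Group X] [Finite X] (hX : Cfsg.IsPMinimal 3 X) (n : ℕ) (hn : 5 ≤ n) (hF : Nonempty (↥(Cfsg.generalizedFittingSubgroup X) ≃* ↥(alternatingGroup (Fin n)))) : Cfsg.generalizedFittingSubgroup X = ⊤ ∧ (n = 6 ∨ n = 9 ∨ ∃ a : ℕ, 2 ≤ a ∧ n = 3 ^ a + 1) := by
  have : Fact (Nat.Prime 3) := ⟨Nat.prime_three⟩
  have hN := CfsgH9.generalizedFittingSubgroup_normal (G := X)
  have hC := S1265.result (G := X)
  generalize generalizedFittingSubgroup X = L at *
  obtain ⟨e⟩ := hF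
  have top : L = ⊤ := by
    by_contra ne
    obtain ⟨S⟩ : Nonempty (Sylow 3 X) := inferInstance
    obtain ⟨n1, M, m1, m2⟩ := hX S
    have le : ∀ K : Subgroup X, K ≠ ⊤ → S ≤ K → K ≤ M := fun K a b => by
      obtain ⟨N, c, d⟩ := (eq_top_or_exists_le_coatom K).resolve_left a
      exact m2 N ⟨c, b.trans d⟩ ▸ d
    have SL : (S : Subgroup X) ≤ L := fun x hx => by
      obtain ⟨k, hk⟩ := S.2 ⟨x, hx⟩
      obtain ⟨a, ha⟩ := aut_pow_four hn (MulAut.congr e (MulAut.conjNormal (H := L) x))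
      have b : x ^ 4 ∈ L := by
        refine (L.mul_mem_cancel_left (inv_mem (e.symm a).2)).1 (hC fun y hy => ?_)
        rw [← map_pow, ← map_pow] at ha
        have := congrArg (fun φ => (e.symm (φ (e ⟨y, hy⟩)) : X)) ha
        simp only [MulAut.congr_apply, MulEquiv.trans_apply, MulEquiv.symm_apply_apply, MulAut.conjNormal_apply,
          MulAut.conj_apply, map_mul, map_inv, coe_mul, coe_inv] at this
        rw [mul_assoc, eq_inv_mul_iff_mul_eq, mul_inv_eq_iff_eq_mul.1 this]
        simp [mul_assoc]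
      have c : (4 : ℕ).Coprime (orderOf x) := Nat.Coprime.coprime_dvd_right (orderOf_dvd_of_pow_eq_one (n := 3 ^ k)
        (congrArg Subtype.val hk)) (Nat.Coprime.pow_right _ (by decide))
      obtain ⟨m, hm⟩ := exists_pow_eq_self_of_coprime c
      exact hm ▸ pow_mem b m
    exact m1.1.1 (top_unique ((isSylowIn_of_le S SL).frattini_top.ge.trans (sup_le (le L ne SL)
      (le _ (fun t => n1 (normalizer_eq_top_iff.1 t)) le_normalizer))))
  refine ⟨top, ?_⟩
  subst top
  let φ := (topEquiv.symm.trans e).toMonoidHom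
  have φ1 : Function.Surjective φ := (topEquiv.symm.trans e).surjective
  obtain ⟨S⟩ : Nonempty (Sylow 3 (alternatingGroup (Fin n))) := inferInstance
  exact main hn S fun M N a b c d => comap_injective φ1 ((hX (S.comapOfInjective φ (topEquiv.symm.trans e).injective
    fun x _ => φ1 x)).2.unique ⟨isCoatom_comap_of_surjective φ1 a, comap_mono c⟩ ⟨isCoatom_comap_of_surjective φ1 b, comap_mono d⟩)

end Cfsg.Agent.S2930
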