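import Cfsg.Statements.S2931
import Cfsg.Agent.H5.Wr2
import Cfsg.Agent.H8.U3e
import Cfsg.Agent.S0245
import Cfsg.Agent.S0246
import Cfsg.Agent.S0288

set_option autoImplicit false
open Cfsg

namespace Cfsg.Agent.S2931

open CfsgH8 CfsgH5.Wr2 Matrix Equiv

abbrev I4 := Fin 2 ⊕ Fin 2
abbrev I6 := (Fin 2 ⊕ Fin 2) ⊕ Fin 2

def m4 (M : Matrix (Fin 4) (Fin 4) (ZMod 3)) : Matrix I4 I4 (ZMod 3) :=
  M.submatrix (Sum.elim ![0, 1] ![2, 3]) (Sum.elim ![0, 1] ![2, 3])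

def ix : I6 → Fin 6 := Sum.elim (Sum.elim ![0, 1] ![2, 3]) ![4, 5]

def m6 (M : Matrix (Fin 6) (Fin 6) (ZMod 2)) : Matrix I6 I6 (ZMod 2) := M.submatrix ix ix

def sX : symplecticGroup (Fin 2) (ZMod 3) := ⟨m4 !![1, 0, 0, 0; 1, 2, 0, 0; 0, 1, 1, 1; 2, 0, 0, 2],
  SymplecticGroup.mem_iff.2 (by decide +kernel)⟩
def sA : symplecticGroup (Fin 2) (ZMod 3) := ⟨m4 !![0, 1, 0, 0; 2, 0, 0, 0; 0, 0, 0, 1; 0, 0, 2, 0],
  SymplecticGroup.mem_iff.2 (by decide +kernel)⟩
def sB : symplecticGroup (Fin 2) (ZMod 3) := ⟨m4 !![0, 0, 1, 0; 0, 0, 0, 2; 2, 0, 0, 0; 0, 1, 0, 0],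
  SymplecticGroup.mem_iff.2 (by decide +kernel)⟩

theorem sp {F : Type} [Field F] [Fintype F] (hF : Fintype.card F = 3) : ∃ f : W0 →* PSp 2 F, Function.Injective f := by
  let φ := (ZMod.ringEquivOfPrime F Nat.prime_three hF).toRingHom
  let h0 : symplecticGroup (Fin 2) (ZMod 3) →* symplecticGroup (Fin 2) F :=
    MonoidHom.mk' (fun A => ⟨A.1.map φ, SymplecticGroup.map_mem A.2 φ⟩) fun A B => Subtype.ext Matrix.map_mul
  let h : symplecticGroup (Fin 2) (ZMod 3) →* PSp 2 F := (QuotientGroup.mk' _).comp h0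
  have one : ∀ g : symplecticGroup (Fin 2) (ZMod 3), g.1 = 1 ∨ g.1 = -1 → h g = 1 := fun g e =>
    (QuotientGroup.eq_one_iff _).2 (Subgroup.mem_center_iff.2 fun u => Subtype.ext (by
      change u.1 * g.1.map φ = g.1.map φ * u.1
      rcases e with e | e <;> rw [e] <;> simp [Matrix.map_neg]))
  have sq : ∀ g : symplecticGroup (Fin 2) (ZMod 3), g.1 * g.1 = 1 ∨ g.1 * g.1 = -1 → h g * h g = 1 := fun g e => by
    rw [← map_mul]; exact one _ e
  have cm : ∀ g k : symplecticGroup (Fin 2) (ZMod 3), h g * h g = 1 → h k * h k = 1 →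
      ((g * k).1 * (g * k).1 = 1 ∨ (g * k).1 * (g * k).1 = -1) → Commute (h g) (h k) := fun g k a b e => by
    have c := sq _ e
    rw [map_mul] at c
    have := inv_eq_of_mul_eq_one_right c
    rw [_root_.mul_inv_rev, inv_eq_of_mul_eq_one_right a, inv_eq_of_mul_eq_one_right b] at this
    exact this.symm
  have hx := sq sX (by decide +kernel)
  have ha := sq sA (by decide +kernel)
  have hb := sq sB (by decide +kernel)
  refine homW0 hx ha hb (cm _ _ ha hb (by decide +kernel)) ?_ ?_ ?_ rfl fun e => ?_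
  · simp only [← map_mul]; exact cm _ _ hx (sq _ (by decide +kernel)) (by decide +kernel)
  · simp only [← map_mul]; exact cm _ _ hx (sq _ (by decide +kernel)) (by decide +kernel)
  · simp only [← map_mul]; exact cm _ _ hx (sq _ (by decide +kernel)) (by decide +kernel)
  · simp only [← map_mul] at e
    have e1 := congrArg Subtype.val (Subgroup.mem_center_iff.1 ((QuotientGroup.eq_one_iff _).1 e) (h0 sX))
    rw [← map_mul, ← map_mul] at e1
    exact absurd (Matrix.map_injective φ.injective e1) (by decide +kernel)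

def oX : GL I6 (ZMod 2) := ⟨m6 !![1, 0, 0, 0, 0, 0; 1, 1, 0, 1, 0, 1; 0, 0, 1, 1, 0, 0; 0, 0, 0, 1, 0, 0; 0, 0, 0, 1, 1, 0; 0, 0, 0, 0, 0, 1],
  m6 !![1, 0, 0, 0, 0, 0; 1, 1, 0, 1, 0, 1; 0, 0, 1, 1, 0, 0; 0, 0, 0, 1, 0, 0; 0, 0, 0, 1, 1, 0; 0, 0, 0, 0, 0, 1],
  by decide +kernel, by decide +kernel⟩
def oS : GL I6 (ZMod 2) := ⟨m6 !![1, 0, 0, 0, 0, 0; 0, 1, 0, 0, 0, 0; 0, 0, 1, 0, 0, 0; 0, 0, 0, 1, 0, 0; 0, 0, 0, 0, 0, 1; 0, 0, 0, 0, 1, 0],
  m6 !![1, 0, 0, 0, 0, 0; 0, 1, 0, 0, 0, 0; 0, 0, 1, 0, 0, 0; 0, 0, 0, 1, 0, 0; 0, 0, 0, 0, 0, 1; 0, 0, 0, 0, 1, 0],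
  by decide +kernel, by decide +kernel⟩
def oT : GL I6 (ZMod 2) := ⟨m6 !![1, 0, 1, 0, 0, 1; 0, 1, 0, 0, 0, 0; 0, 0, 1, 0, 0, 0; 0, 0, 0, 1, 0, 0; 0, 0, 1, 0, 1, 0; 0, 0, 0, 0, 0, 1],
  m6 !![1, 0, 1, 0, 0, 1; 0, 1, 0, 0, 0, 0; 0, 0, 1, 0, 0, 0; 0, 0, 0, 1, 0, 0; 0, 0, 1, 0, 1, 0; 0, 0, 0, 0, 0, 1],
  by decide +kernel, by decide +kernel⟩
def oY : GL I6 (ZMod 2) := ⟨m6 !![1, 0, 0, 0, 0, 0; 0, 1, 0, 1, 1, 1; 0, 0, 1, 0, 0, 0; 0, 0, 0, 1, 0, 0; 0, 0, 0, 1, 1, 0; 0, 0, 0, 1, 0, 1],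
  m6 !![1, 0, 0, 0, 0, 0; 0, 1, 0, 1, 1, 1; 0, 0, 1, 0, 0, 0; 0, 0, 0, 1, 0, 0; 0, 0, 0, 1, 1, 0; 0, 0, 0, 1, 0, 1],
  by decide +kernel, by decide +kernel⟩

theorem om {K : Type} [Field K] [Fintype K] (hK : Fintype.card K = 2) :
    ∃ f : W →* isometryGroup K (quadFormMinus 2 K 1 1), Function.Injective f := by
  let φ := (ZMod.ringEquivOfPrime K Nat.prime_two hK).toRingHom
  haveI : CharP K 2 := charP_of_card_eq_prime hK
  have two : (2 : K) = 0 := CharTwo.two_eq_zero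
  let h : GL I6 (ZMod 2) →* GL I6 K := GeneralLinearGroup.map φ
  have hi : Function.Injective h := fun a b e => Units.ext (Matrix.map_injective φ.injective (congrArg Units.val e))
  let S := (isometryGroup K (quadFormMinus 2 K 1 1)).comap h
  have mem : oX ∈ S ∧ oS ∈ S ∧ oT ∈ S ∧ oY ∈ S := by
    refine ⟨fun u v => ?_, fun u v => ?_, fun u v => ?_, fun u v => ?_⟩ <;>
      simp [h, oX, oS, oT, oY, m6, ix, quadFormMinus, mulVec, dotProduct, Fintype.sum_sum_type, Fin.sum_univ_two] <;>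
      grind
  obtain ⟨f, hf⟩ := homW (x := (⟨oX, mem.1⟩ : S)) (s := ⟨oS, mem.2.1⟩) (t := ⟨oT, mem.2.2.1⟩) (y := ⟨oY, mem.2.2.2⟩)
    (Subtype.ext (Units.ext (by simp only [Subgroup.coe_mul, Subgroup.coe_one]; decide +kernel)))
    (Subtype.ext (Units.ext (by simp only [Subgroup.coe_mul, Subgroup.coe_one]; decide +kernel)))
    (Subtype.ext (Units.ext (by simp only [Subgroup.coe_mul, Subgroup.coe_one]; decide +kernel)))
    (Subtype.ext (Units.ext (by simp only [Subgroup.coe_mul, Subgroup.coe_one]; decide +kernel)))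
    (Subtype.ext (Units.ext (by simp only [Subgroup.coe_mul, Subgroup.coe_one]; decide +kernel)))
    (Subtype.ext (Units.ext (by simp only [Subgroup.coe_mul, Subgroup.coe_one]; decide +kernel)))
    (Subtype.ext (Units.ext (by simp only [Subgroup.coe_mul, Subgroup.coe_one]; decide +kernel)))
    (Subtype.ext (Units.ext (by simp only [Subgroup.coe_mul, Subgroup.coe_one]; decide +kernel)))
    (fun e => absurd (congrArg (fun t : S => t.1.1) e) (by
      change ¬ oY.1 * (oT.1 * oY.1 * oT.1) = 1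
      decide +kernel))
  exact ⟨(h.subgroupComap _).comp f, fun a b e => hf (Subtype.ext (hi (congrArg Subtype.val e)))⟩

theorem sy : ∃ f : W →* Perm (Fin 8), Function.Injective f :=
  homW (x := swap 0 1) (s := swap 0 2 * swap 1 3) (t := swap 0 4 * swap 1 5 * swap 2 6 * swap 3 7)
    (by decide +kernel) (by decide +kernel) (by decide +kernel) (by unfold Commute SemiconjBy; decide +kernel)
    (by unfold Commute SemiconjBy; decide +kernel) (by unfold Commute SemiconjBy; decide +kernel)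
    (by unfold Commute SemiconjBy; decide +kernel) rfl (by decide +kernel)

theorem al : ∃ f : W0 →* alternatingGroup (Fin 8), Function.Injective f :=
  homW0 (x := ⟨swap 0 2 * swap 1 3, by simp⟩) (a := ⟨swap 0 1 * swap 4 5, by simp⟩)
    (b := ⟨swap 0 4 * swap 1 5 * swap 2 6 * swap 3 7, by simp⟩)
    (Subtype.ext (by decide +kernel)) (Subtype.ext (by decide +kernel)) (Subtype.ext (by decide +kernel))
    (Subtype.ext (by decide +kernel)) (Subtype.ext (by decide +kernel)) (Subtype.ext (by decide +kernel))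
    (Subtype.ext (by decide +kernel)) rfl (fun e => absurd (congrArg Subtype.val e) (by decide +kernel))

/-- The Sylow 2-subgroups of the alternating group of degree 8 and of PSp₄(3) are isomorphic, and so are the Sylow 2-subgroups of the symmetric group of degree 8 and of the full isometry group of a non-degenerate quadratic form of minus type in dimension 6 over the field with 2 elements. -/
theorem result (F : Type) [Field F] [Fintype F] (hF : Fintype.card F = 3) (K : Type) [Field K] [Fintype K] (hK : Fintype.card K = 2) (a b : K) (hab : ∀ z₁ z₂ : K, z₁ ^ 2 + a * z₁ * z₂ + b * z₂ ^ 2 = 0 → z₁ = 0 ∧ z₂ = 0) (P : Sylow 2 ↥(alternatingGroup (Fin 8))) (Q : Sylow 2 (Cfsg.PSp 2 F)) (P' : Sylow 2 (Equiv.Perm (Fin 8))) (Q' : Sylow 2 ↥(Cfsg.isometryGroup K (Cfsg.quadFormMinus 2 K a b))) : Nonempty (↥(P : Subgroup ↥(alternatingGroup (Fin 8))) ≃* ↥(Q : Subgroup (Cfsg.PSp 2 F))) ∧ Nonempty (↥(P' : Subgroup (Equiv.Perm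 (Fin 8))) ≃* ↥(Q' : Subgroup ↥(Cfsg.isometryGroup K (Cfsg.quadFormMinus 2 K a b)))) := by
  have k : ∀ c : K, c ≠ 0 → c = 1 := fun c hc => by
    have := FiniteField.pow_card_sub_one_eq_one c hc
    rwa [hK, pow_one] at this
  obtain rfl : b = 1 := k b fun e => by simpa [e] using hab 0 1
  obtain rfl : a = 1 := k a fun e => by
    haveI : CharP K 2 := charP_of_card_eq_prime hK
    simpa [e, CharTwo.add_self_eq_zero] using hab 1 1
  obtain ⟨f1, h1⟩ := al
  obtain ⟨f2, h2⟩ := sp hF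
  obtain ⟨f3, h3⟩ := sy
  obtain ⟨f4, h4⟩ := om hK
  have p0 : IsPGroup 2 W0 := IsPGroup.of_card (n := 6) cardW0
  have p1 : IsPGroup 2 W := IsPGroup.of_card (n := 7) cardW
  have c2 : Nat.card (PSp 2 F) = 25920 := by
    have := Subgroup.card_eq_card_quotient_mul_card_subgroup (Subgroup.center (symplecticGroup (Fin 2) F))
    rw [S0245.result hF, S0246.result hF 2 (by norm_num)] at this
    simp [Finset.prod_range_succ] at this
    change Nat.card (_ ⧸ _) = _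
    omega
  have c4 := S0288.result hK 3 (by norm_num) 1 1 hab
  simp only [Finset.prod_range_succ, Finset.prod_range_zero] at c4
  obtain ⟨e1⟩ := sylow_iso_of_inj f1 h1 p0 (a := 1) (m := 315) (by
    rw [cardW0, nat_card_alternatingGroup]; simp [Nat.factorial]) (by norm_num) P
  obtain ⟨e2⟩ := sylow_iso_of_inj f2 h2 p0 (a := 1) (m := 405) (by rw [cardW0, c2]) (by norm_num) Q
  obtain ⟨e3⟩ := sylow_iso_of_inj f3 h3 p1 (a := 1) (m := 315) (by
    rw [cardW, Nat.card_perm]; simp [Nat.factorial]) (by norm_num) P'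
  obtain ⟨e4⟩ := sylow_iso_of_inj f4 h4 p1 (a := 1) (m := 405) (by rw [cardW, one_mul]; exact c4) (by norm_num) Q'
  exact ⟨⟨e1.trans e2.symm⟩, ⟨e3.trans e4.symm⟩⟩

end Cfsg.Agent.S2931
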