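import Cfsg.Statements.S2934
import Mathlib
import Cfsg.Agent.L0.Q33
import Cfsg.Agent.H7.Xs

set_option autoImplicit false
open Cfsg

namespace Cfsg.Agent.S2934

open CfsgL0 Subgroup CfsgH2 Cfsg SemidirectProduct

/-- Let p be an odd prime, W a finite 2-group and E a non-cyclic abelian p-subgroup of Aut(W) such that, for every nontrivial e ∈ E, the fixed points of e in W contain at most one involution. Then E has order 9, W is extraspecial of order 2⁵, 2⁷ or 2⁹, and the common fixed points of E in W form exactly the centre Z(W). -/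
theorem result {W : Type*} [Group W] [Finite W] (hW : IsPGroup 2 W) {p : ℕ} [Fact p.Prime] (hp : p ≠ 2) (E : Subgroup (MulAut W)) (hE : IsPGroup p ↥E) (hab : IsMulCommutative ↥E) (hnc : ¬ IsCyclic ↥E) (hfix : ∀ e ∈ E, e ≠ 1 → ∀ x y : W, orderOf x = 2 → orderOf y = 2 → e x = x → e y = y → x = y) : Nat.card ↥E = 9 ∧ Cfsg.IsExtraspecial 2 W ∧ (Nat.card W = 2 ^ 5 ∨ Nat.card W = 2 ^ 7 ∨ Nat.card W = 2 ^ 9) ∧ {x : W | ∀ e ∈ E, e x = x} = (Subgroup.center W : Set W) := by
  have : Finite (W ⋊[MonoidHom.id _] MulAut W) := Finite.of_equiv _ equivProd.symm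
  have i1 : Function.Injective (inr : MulAut W →* W ⋊[MonoidHom.id _] MulAut W) := inr_injective
  have i2 : Function.Injective (inl : W →* W ⋊[MonoidHom.id _] MulAut W) := inl_injective
  have cm (u : MulAut W) (x : W) : (inl x : W ⋊[MonoidHom.id _] MulAut W) * inr u = inr u * inl x ↔ u x = x := by
    have := inl_aut (φ := MonoidHom.id (MulAut W)) u x
    rw [map_inv, eq_mul_inv_iff_mul_eq] at this
    rw [← this, mul_left_inj, i2.eq_iff, eq_comm]; rfl
  let e := topEquiv.symm.trans ((⊤ : Subgroup W).equivMapOfInjective _ i2)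
  obtain ⟨h1, h2, h3, h4⟩ := q33 (A := E.map (inr : MulAut W →* W ⋊[MonoidHom.id _] MulAut W)) (K := (⊤ : Subgroup W).map inl) hp
    (hW.of_equiv e) (hE.map _) inferInstance (fun k => hnc ((E.equivMapOfInjective _ i1).isCyclic.2 k))
    (by rw [← MonoidHom.range_eq_map, range_inl_eq_ker_rightHom]; exact le_normalizer_of_normal)
    (eq_bot_iff.2 (by
      rintro _ ⟨⟨u, -, rfl⟩, hu⟩
      rw [(MulEquiv.ext fun x => (cm u x).1 (hu _ ⟨x, mem_top x, rfl⟩) : u = 1), map_one]; exact one_mem _)) (by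
      rintro _ ⟨u, hu, rfl⟩ n _ ⟨⟨x, -, rfl⟩, hx⟩ _ ⟨⟨y, -, rfl⟩, hy⟩ ox oy
      rw [orderOf_injective _ i2] at ox oy
      rw [hfix u hu (fun e => n (by rw [e, map_one])) x y ox oy ((cm u x).1 (mem_centralizer_singleton_iff.1 hx))
        ((cm u y).1 (mem_centralizer_singleton_iff.1 hy))])
  rw [card_map_of_injective i1] at h1
  rw [← Nat.card_congr e.toEquiv] at h3
  refine ⟨h1, CfsgH7.extra_congr e.symm h2, h3, Set.ext fun x => ⟨fun k => mem_center_iff.2 fun y => i2 ?_, fun k u hu => (cm u x).1 ?_⟩⟩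
  · rw [map_mul, map_mul]
    exact (h4.le ⟨⟨x, mem_top x, rfl⟩, by rintro _ ⟨u, hu, rfl⟩; exact ((cm u x).2 (k u hu)).symm⟩).2 _ ⟨y, mem_top y, rfl⟩
  · refine ((h4.ge ⟨⟨x, mem_top x, rfl⟩, ?_⟩).2 _ ⟨u, hu, rfl⟩).symm
    rintro _ ⟨y, -, rfl⟩
    rw [← map_mul, ← map_mul, mem_center_iff.1 k y]

end Cfsg.Agent.S2934
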