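import Cfsg.Statements.S2971
import Mathlib
import Cfsg.Agent.L0.IsoP

set_option autoImplicit false
open Cfsg

namespace Cfsg.Agent.S2971

open Cfsg Subgroup CfsgH2 CfsgL0

/-- Let G be a finite group and p an odd prime such that G has p-rank at most 1 (no elementary abelian subgroup of order p²). If x ∈ G is an isolated element of order p, then x is central modulo the largest normal subgroup of G of order prime to p. -/
theorem result {G : Type*} [Group G] [Finite G] {p : ℕ} [Fact p.Prime] (hp : p ≠ 2) (hrk : Cfsg.PRankLE p 1 G) (x : G) (hx : orderOf x = p) (hiso : Cfsg.IsIsolated x) : Cfsg.InZStar p x := by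
  have hpg : PG[p, zpowers x] := pg_zpowers_of_order (k := 1) (by rw [hx, pow_one])
  obtain ⟨S, hS, h2⟩ := exists_syl_ge hpg le_top
  have hC : Cyc[S] := isCyclic_of_prk_le_one hp hS.pg ((prk_mono le_top).trans (prankLE_top_iff.1 hrk))
  have h1 : x ≠ 1 := by rintro rfl; exact (Fact.out : p.Prime).one_lt.ne (by simpa using hx)
  have := commutator_le_of_sup le_norm_piCoreOf ((iso_npc hiso h1 hS (h2 (mem_zpowers x)) hC).sup_eq hS)
  rw [comm_self_eq_bot_iff.2 (inferInstance : Ab[S]), sup_bot_eq] at this
  intro g
  rw [pPrimeCore_eq']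
  exact this (commutator_mem_commutator (mem_top g) (mem_top x))

end Cfsg.Agent.S2971
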