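import Cfsg.Statements.S2972
import Mathlib
import Cfsg.Agent.L0.IsoP

set_option autoImplicit false
open Cfsg

namespace Cfsg.Agent.S2972

open Cfsg Subgroup CfsgH2 CfsgL0

/-- Let G be a finite group, p a prime and x ∈ G an isolated element of order p (the only conjugate of x commuting with x is x) which is not central modulo the largest normal subgroup of order prime to p, while x is central modulo the largest normal subgroup of order prime to p in every proper subgroup containing x, and the image of x is so in every quotient of G by a nontrivial normal subgroup (a minimal counterexample to the Z*_p statement). Then the derived subgroup G' is a non-abelian simple group and G = G'⟨x⟩. -/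
theorem result {G : Type*} [Group G] [Finite G] {p : ℕ} [Fact p.Prime] (x : G) (hx : orderOf x = p) (hiso : Cfsg.IsIsolated x) (hnz : ¬ Cfsg.InZStar p x) (hmin : ∀ (H : Subgroup G) (hxH : x ∈ H), H ≠ ⊤ → Cfsg.InZStar p (⟨x, hxH⟩ : ↥H)) (hquot : ∀ (N : Subgroup G) [N.Normal], N ≠ ⊥ → Cfsg.InZStar p (QuotientGroup.mk x : G ⧸ N)) : IsSimpleGroup ↥(commutator G) ∧ ¬ IsMulCommutative ↥(commutator G) ∧ commutator G ⊔ Subgroup.zpowers x = ⊤ := by
  have h : MinZ p x := ⟨hx, hiso, hnz, hmin, hquot⟩
  have h0 : commutator G ≠ ⊥ := fun e => h.not_cent fun g => by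
    have : g * x * g⁻¹ * x⁻¹ ∈ commutator G := commutator_mem_commutator (mem_top g) (mem_top x)
    rwa [e, mem_bot, mul_inv_eq_one] at this
  have ht := h.sup_eq (commutator G) (by rw [h.center_eq]; exact fun e => h0 (le_bot_iff.1 e))
  set D := commutator G with hD
  have key : ∀ L : Subgroup G, L ≤ D → D ≤ N[L] → L ≠ ⊥ → L = D := by
    intro L h1 h2 h3
    obtain ⟨M, h4, ⟨h5, h6⟩, h7⟩ := exists_minimal_le (fun M : Subgroup G => D ≤ N[M] ∧ M ≠ ⊥) (H := L) ⟨h2, h3⟩
    have hMD := h4.trans h1
    have hd : p ∣ o[M] := by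
      by_contra hd
      exact h6 (le_bot_iff.1 (h.core_normal D ▸ le_pPrimeCoreOf hMD h5 hd))
    obtain ⟨P, hP, hxP⟩ := exists_syl_ge h.pg le_top
    have hS := (hP.inf_norm (K := D) le_top (le_normalizer_of_normal.trans' le_top)).inf_norm hMD (inf_le_right.trans h5)
    have hc : P ⊓ D ⊓ M ≤ M ⊓ M.map (CfsgH2.cj x) := fun y hy => ⟨hy.2, by
      have := mem_centralizer_singleton_iff.1 (iso_le_cent hiso hP.pg (hxP (mem_zpowers x)) hy.1.1)
      have e : x * y * x⁻¹ = y := by rw [← this]; group
      rw [← e]; exact conj_mem_map_cj hy.2⟩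
    have hn : D ≤ N[M.map (CfsgH2.cj x)] := by
      rw [normalizer_map_cj, ← map_cj_normal x D]; exact map_mono h5
    have := h7 _ ⟨le_norm_inf h5 hn, fun e => hS.ne_bot hd (le_bot_iff.1 (e ▸ hc))⟩ inf_le_left
    have hx' : x ∈ N[M] := map_cj_eq_iff.1 (eq_of_le_of_card_le (this.ge.trans inf_le_right) (card_map_cj x M).le).symm
    have hMn : M.Normal := normal_of_top_le_norm (ht ▸ sup_le h5 (zpowers_le.2 hx'))
    exact le_antisymm h1 ((h.der_le M h6).trans h4)
  refine ⟨?_, fun hc => ?_, ht⟩
  · have : Nontrivial D := (nontrivial_iff_ne_bot D).2 h0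
    refine ⟨fun L hL => ?_⟩
    by_cases e : L = ⊥
    · exact Or.inl e
    · refine Or.inr (map_injective D.subtype_injective ?_)
      rw [key _ (map_subtype_le L) (le_norm_map_subtype L) (by rwa [Ne, map_eq_bot_iff_of_injective _ D.subtype_injective])]
      simp [← MonoidHom.range_eq_map]
  · obtain ⟨X, hX, hq⟩ := exists_prime_le h0
    have e := key X hX (le_norm_of_le_cent (le_cent_of_comm hc hX)) (ne_bot_of_card_prime hq)
    by_cases hd : p ∣ o[D]
    · have hp' : o[D] = p := by rw [← e] at hd ⊢; exact ((Nat.prime_dvd_prime_iff_eq Fact.out hq).1 hd).symm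
      have h1 : PG[p, D ⊔ zpowers x] := isPGroup_sup (isPGroup_of_card' hp') h.pg (Or.inr le_normalizer_of_normal)
      rw [ht] at h1
      exact h.not_cent fun g => iso_eq hiso h1 (mem_top _) (mem_top _)
    · exact h0 (le_bot_iff.1 (h.core ▸ le_pPrimeCoreOf le_top (top_le_norm_iff.2 inferInstance) hd))

end Cfsg.Agent.S2972
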