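import Cfsg.Statements.S2975
import Mathlib
import Cfsg.Agent.L0.IsoP

set_option autoImplicit false
open Cfsg

namespace Cfsg.Agent.S2975

open Cfsg Subgroup CfsgH2 CfsgL0

/-- Let G be a finite group, p a prime and x ∈ G an isolated element of order p (the only conjugate of x commuting with x is x) which is not central modulo the largest normal subgroup of order prime to p, while x is central modulo the largest normal subgroup of order prime to p in every proper subgroup containing x, and the image of x is so in every quotient of G by a nontrivial normal subgroup (a minimal counterexample to the Z*_p statement). Then for every prime q, every q-subgroup of G that is normalized by x and maximal among the q-subgroups normalized by x is either trivial or a Sylow q-subgroup of G; and C_G(x) permutes the x-invariant Sylow q-subgroups of G transitively by conjugation. -/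
theorem result {G : Type*} [Group G] [Finite G] {p : ℕ} [Fact p.Prime] (x : G) (hx : orderOf x = p) (hiso : Cfsg.IsIsolated x) (hnz : ¬ Cfsg.InZStar p x) (hmin : ∀ (H : Subgroup G) (hxH : x ∈ H), H ≠ ⊤ → Cfsg.InZStar p (⟨x, hxH⟩ : ↥H)) (hquot : ∀ (N : Subgroup G) [N.Normal], N ≠ ⊥ → Cfsg.InZStar p (QuotientGroup.mk x : G ⧸ N)) (q : ℕ) [Fact q.Prime] : (∀ Q : Subgroup G, IsPGroup q ↥Q → x ∈ Subgroup.normalizer (Q : Set G) → (∀ R : Subgroup G, IsPGroup q ↥R → x ∈ Subgroup.normalizer (R : Set G) → Q ≤ R → R = Q) → Q = ⊥ ∨ ∃ S : Sylow q G, (S : Subgroup G) = Q) ∧ (∀ S₁ S₂ : Sylow q G, x ∈ Subgroup.normalizer ((S₁ : Subgroup G) : Set G) → x ∈ Subgroup.normalizer ((S₂ : Subgroup G) : Set G) → ∃ c ∈ Subgroup.centralizer ({x} : Set G), (S₁ : Subgroup G).map (MulAut.conj c).toMonoidHom = (S₂ : Subgroup G)) := by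
  have h : MinZ p x := ⟨hx, hiso, hnz, hmin, hquot⟩
  refine ⟨fun Q hQ hn hm => ?_, fun S₁ S₂ h1 h2 => ?_⟩
  · by_cases h0 : Q = ⊥
    · exact Or.inl h0
    refine Or.inr (Syl.exists_top ?_)
    by_cases e : q = p
    · subst e
      have hx' : x ∈ Q := by
        rw [← hm _ (isPGroup_sup hQ h.pg (Or.inr (zpowers_le.2 hn))) (le_normalizer (mem_sup_right (mem_zpowers x)))
          le_sup_left]
        exact mem_sup_right (mem_zpowers x)
      exact Syl.of_max le_top hQ fun R hR hl _ => hm R hR (le_normalizer (hl hx')) hl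
    have hd : ¬ p ∣ o[Q] := fun hd => by
      obtain ⟨k, hk⟩ := hQ.exists_card_eq
      rw [hk] at hd
      exact e ((Nat.prime_dvd_prime_iff_eq Fact.out Fact.out).1 ((Fact.out : p.Prime).dvd_of_dvd_pow hd)).symm
    have hne : N[Q] ≠ ⊤ := fun e2 => h0 (le_bot_iff.1 (h.core ▸ le_pPrimeCoreOf le_top e2.ge hd))
    have h1 := zstar_fac hiso h.pg hn piCoreOf_le le_norm_piCoreOf ((inZStar_subtype hn).1 (hmin _ hn hne))
    set K := O[{p}ᶜ, N[Q]]
    have hQK : Q ≤ K := le_pPrimeCoreOf le_normalizer le_rfl hd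
    have hxK : x ∈ N[K] := le_norm_piCoreOf hn
    obtain ⟨S, hS, h2, h3⟩ := exists_inv_syl_ge (zpowers_le.2 hxK) (coprime_of_pgroup h.pg not_dvd_piCoreOf)
      (Or.inl inferInstance) hQK hQ (zpowers_le.2 hn)
    obtain rfl := hm S hS.pg (h2 (mem_zpowers x)) h3
    obtain ⟨R, hR⟩ := exists_syl q (N[S] ⊓ C1[x])
    have hRS : R ≤ S := by
      have hx2 : x ∈ N[R] := cent_le_norm _ (le_cent1_iff.1 (hR.le.trans inf_le_right))
      rw [← hm _ (isPGroup_sup hQ hR.pg (Or.inr (hR.le.trans inf_le_left))) (mem_norm_sup hn hx2) le_sup_left]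
      exact le_sup_right
    refine Syl.of_norm le_top ?_
    rw [top_inf_eq]
    refine hS.trans piCoreOf_le ?_
    rw [← h1, sup_comm, relIndex_sup_of_norm (inf_le_left.trans le_norm_piCoreOf)]
    exact hR.not_dvd_of_le (hRS.trans hQK)
  · obtain ⟨g, -, hg⟩ := (syl_top S₁).conj (syl_top S₂)
    obtain ⟨k, hk, h3⟩ := iso_conj_in hiso h.pg h2 (g := g) (by
      rw [← hg, normalizer_map_cj]; exact conj_mem_map_cj h1)
    exact ⟨k * g, h3, by rw [cj_def, ← map_cj_cj, hg, map_cj_eq hk]⟩

end Cfsg.Agent.S2975
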