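import Cfsg.Statements.S3032
import Mathlib
import Cfsg.Agent.L0.HS
import Cfsg.Agent.H1.Basic

set_option autoImplicit false
open Cfsg

namespace Cfsg.Agent.S3032

open Cfsg Subgroup CfsgH2 CfsgL0 CfsgH1

def HH {G : Type*} [Group G] (E : Subgroup G) : Prop := ∀ (p : ℕ), p.Prime → ∀ P : Subgroup G, CfsgH2.Syl p P E → ¬ IsCyclic ↥P →
  ∃ D ≤ P, 1 < o[D] ∧ o[D] < o[P] ∧ ∀ F ≤ P, (o[F] = o[D] ∨ (o[D] = 2 ∧ o[F] = 4)) →
    ∀ g : G, F.map (CfsgH2.cj g) ⊓ N[F] ≤ F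

theorem tower {G : Type*} [Group G] [Finite G] (E : Subgroup G) (hn : ⊤ ≤ N[E]) (h0 : E ≠ ⊥) (h : HH E) :
    ∃ (q : ℕ) (_ : Fact q.Prime) (Q : Subgroup G), CfsgH2.Syl q Q E ∧ Q ≠ ⊥ ∧ ⊤ ≤ N[Q] := by
  induction E using WellFoundedLT.induction with
  | ind E ih =>
  have h1 : o[E] ≠ 1 := mt card_eq_one.1 h0
  haveI hp : Fact (o[E]).minFac.Prime := ⟨Nat.minFac_prime h1⟩
  have h2 := Nat.minFac_dvd o[E]
  have h3 : ∀ q : ℕ, q.Prime → q ∣ o[E] → o[E].minFac ≤ q := fun q a b => Nat.minFac_le_of_dvd a.two_le b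
  generalize o[E].minFac = p at hp h2 h3
  obtain ⟨P, hP⟩ := CfsgH2.exists_syl p E
  have h4 : NPC p E := npc_HS hP h3 (by
    by_cases hc : IsCyclic P
    · exact .inl hc
    obtain ⟨D, d1, d2, d3, d4⟩ := h p hp.out P hP hc
    exact .inr ⟨D, d1, d2, d3, fun F f1 f2 g _ => d4 F f1 f2 g⟩)
  have h5 : ¬ p ∣ o[piCoreOf {p}ᶜ E] := not_dvd_piCoreOf
  by_cases h6 : piCoreOf {p}ᶜ E = ⊥
  · refine ⟨p, hp, E, .self (isPGroup_iff_piN.2 ?_), h0, hn⟩
    have := h4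
    rwa [NPC, h6, relIndex_bot_left] at this
  have h7 : ∀ q : ℕ, q.Prime → ∀ Q, CfsgH2.Syl q Q (piCoreOf {p}ᶜ E) → Q ≠ ⊥ → CfsgH2.Syl q Q E := fun q hq Q h1 h8 => by
    haveI := Fact.mk hq
    refine h1.trans piCoreOf_le fun e => h5 ?_
    have e' : q = p := h4 q hq e
    exact (e'.symm.dvd.trans (dvd_card_of_pgroup h1.pg h8)).trans (card_dvd_of_le h1.le)
  obtain ⟨q, hq, Q, q1, q2, q3⟩ := ih _ (piCoreOf_le.lt_of_ne fun e => h5 (e.symm ▸ h2)) (hn.trans norm_le_norm_piCoreOf) h6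
    fun q hq Q h1 h2 => h q hq Q (h7 q hq Q h1 (by rintro rfl; exact h2 inferInstance)) h2
  exact ⟨q, hq, Q, h7 q hq.out Q q1 q2, q2, q3⟩

theorem HH.map {G G' : Type*} [Group G] [Group G'] [Finite G] {E : Subgroup G} (h : HH E) {f : G →* G'}
    (hf : Function.Surjective f) {q : ℕ} [hq : Fact q.Prime] (hQ : CfsgH2.Syl q f.ker E) : HH (E.map f) := by
  haveI := Finite.of_surjective f hf
  intro p hp P' hP' hc
  haveI := Fact.mk hp
  obtain ⟨P, hP, rfl⟩ : ∃ P, CfsgH2.Syl p P E ∧ P.map f = P' := by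
    obtain ⟨P, hP⟩ := CfsgH2.exists_syl p E
    obtain ⟨_, ⟨g, hg, rfl⟩, e⟩ := (hP.map f).conj hP'
    exact ⟨_, hP.map_cj_mem hg, by rw [← e, map_map_cj]⟩
  have h1 : p ≠ q := by
    rintro rfl
    rw [(Subgroup.map_eq_bot_iff _).2 (hQ.eq_of_norm hP le_normalizer_of_normal).le] at hc
    exact hc inferInstance
  have h2 : ¬ p ∣ o[f.ker] := fun e => h1 (isPGroup_iff_piN.1 hQ.pg p hp e)
  have h3 : ∀ X ≤ P, o[X.map f] = o[X] := fun X hX => card_map_of_disjoint f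
    (inf_eq_bot_of_coprime' (coprime_of_pgroup (hP.pg.to_le hX) h2).symm)
  obtain ⟨D, d1, d2, d3, d4⟩ := h p hp P hP fun e => hc (isCyclic_of_surjective _ (f.subgroupMap_surjective P))
  refine ⟨D.map f, map_mono d1, by rwa [h3 D d1], by rwa [h3 D d1, h3 P le_rfl], fun F' f1 f2 g' => ?_⟩
  obtain ⟨g, rfl⟩ := hf g'
  obtain ⟨F, f3, rfl⟩ : ∃ F ≤ P, F.map f = F' := ⟨P ⊓ F'.comap f, inf_le_left, by
    rw [map_inf_comap, inf_eq_right.2 f1]⟩
  rw [h3 D d1, h3 F f3] at f2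
  rintro _ ⟨⟨_, ⟨x, hx, rfl⟩, rfl⟩, h4⟩
  have pF := hP.pg.to_le f3
  rw [← map_norm_of_coprime hf h2 pF] at h4
  obtain ⟨T, hT⟩ := CfsgH2.exists_syl p N[F]
  have h5 : CfsgH2.cj g x ∈ N[F] ⊔ f.ker := by
    rw [← comap_map_eq]
    simpa [CfsgH2.cj] using h4
  obtain ⟨k, hk⟩ := pgroup_pow_eq_one pF hx
  obtain ⟨c, c1, c2⟩ := (hT.sup_coprime (.inl le_normalizer_of_normal) h2).exists_conj_le
    (CfsgH2.isPGroup_zpowers (x := CfsgH2.cj g x) (k := k) (by rw [← map_pow, hk, map_one])) (zpowers_le.2 h5)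
  have h6 := d4 F f3 f2 (c * g) ⟨mem_map_of_mem _ hx, by
    simpa [CfsgH2.cj, mul_assoc] using hT.le (c2 (mem_map_of_mem _ (mem_zpowers _)))⟩
  rw [← comap_map_eq, map_norm_of_coprime hf h2 pF] at c1
  simpa [CfsgH2.cj, mul_assoc] using conj_mem_of_norm (inv_mem c1) (mem_map_of_mem f h6)

universe u in
theorem aux (n : ℕ) : ∀ (G : Type u) [Group G] [Finite G], Nat.card G = n → ∀ (E : Subgroup G) [E.Normal], SS (G ⧸ E) → HH E → SS G := by
  induction n using Nat.strong_induction_on with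
  | h n ih =>
  intro G _ _ hn E _ h1 h2
  by_cases h0 : E = ⊥
  · subst h0
    exact .of_quotient .bot h1
  obtain ⟨q, hq, Q, q1, q2, q3⟩ := tower E le_normalizer_of_normal h0 h2
  haveI := normal_of_top_le_norm q3
  refine .of_quotient (N := Q) ?_ (ih _ ?_ _ rfl (E.map (QuotientGroup.mk' Q))
    (h1.of_mulEquiv (QuotientGroup.quotientQuotientEquivQuotient Q E q1.le).symm)
    (h2.map (QuotientGroup.mk'_surjective Q) (by rwa [QuotientGroup.ker_mk'])))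
  · by_cases hc : IsCyclic Q
    · exact .of_isCyclic Q
    obtain ⟨D, d1, d2, d3, d4⟩ := h2 q hq.out Q q1 hc
    obtain ⟨k, hk⟩ := exists_card_eq_pow (q1.pg.to_le d1)
    rw [hk] at d2 d3 d4
    refine ssTo_of_KK q1.pg (piRes_KK_le_of_card q1.pg q3 (Nat.pos_of_ne_zero (by rintro rfl; simp at d2))
      (pow_succ_dvd_card_of_lt q1.pg d3) fun F f1 f2 => ?_)
    have : Q ≤ N[F] := by
      by_contra h3
      obtain ⟨x, x1, x2⟩ := SetLike.exists_of_lt (lt_inf_norm (nil_of_pg q1.pg) (inf_lt_left.2 h3))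
      exact x2 ⟨x1.1, mem_norm_of_map_le ((le_inf le_rfl (((map_mono (le_inf f1
        le_normalizer)).trans (map_cj_eq x1.2).le).trans inf_le_right)).trans (d4 F f1 f2 x))⟩
    exact fun g _ => mem_norm_of_conj fun x hx => d4 F f1 f2 g
      ⟨conj_mem_map_cj hx, this (conj_mem_of_norm (q3 trivial) (f1 hx))⟩
  · rw [← hn, card_eq_card_quotient_mul_card_subgroup Q]
    exact lt_mul_of_one_lt_right Nat.card_pos ((one_lt_card_iff_ne_bot _).2 q2)

/-- Let G be a finite group and E a normal subgroup with G/E supersolvable. Suppose that for every prime p and every non-cyclic Sylow p-subgroup P of E there is a subgroup D of P with 1 < |D| < |P| such that every subgroup F of P of order |D|, and also every subgroup F of P of order 4 when |D| = 2, satisfies g F g⁻¹ ∩ N_G(F) ≤ F for all g ∈ G. Then G is supersolvable. -/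
theorem result {G : Type*} [Group G] [Finite G] (E : Subgroup G) [E.Normal] (hGE : Cfsg.IsSupersolvable (G ⧸ E))
    (h : ∀ (p : ℕ), p.Prime → ∀ P : Subgroup G, P ≤ E → IsPGroup p P → ¬ p ∣ P.relIndex E → ¬ IsCyclic ↥P →
      ∃ D : Subgroup G, D ≤ P ∧ 1 < Nat.card D ∧ Nat.card D < Nat.card P ∧
        ∀ F : Subgroup G, F ≤ P → (Nat.card F = Nat.card D ∨ (Nat.card D = 2 ∧ Nat.card F = 4)) →
          ∀ g : G, F.map (MulAut.conj g).toMonoidHom ⊓ Subgroup.normalizer (F : Set G) ≤ F) :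
    Cfsg.IsSupersolvable G := by
  exact CfsgH1.isSupersolvable_iff.2 (aux _ G rfl E (CfsgH1.isSupersolvable_iff.1 hGE)
    fun p hp P hP hc => h p hp P hP.le hP.pg hP.nd hc)

end Cfsg.Agent.S3032
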