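import Cfsg.Statements.S3035
import Mathlib
import Cfsg.Agent.L0.D8E

set_option autoImplicit false
open Cfsg

namespace Cfsg.Agent.S3035

open Subgroup CfsgH2 CfsgL0

/-- Let G be a finite group with an involution z whose centralizer is dihedral of order 8. Then G = C_G(z) O(G) with O(G) the largest normal subgroup of odd order, or G is isomorphic to the symmetric group of degree 4, the symmetric group of degree 5, the group SL₃(2), or the alternating group of degree 6. -/
theorem result {G : Type*} [Group G] [Finite G] (z : G) (hz : orderOf z = 2)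
    (hC : Nonempty (↥(Subgroup.centralizer ({z} : Set G)) ≃* DihedralGroup 4)) :
    Subgroup.centralizer ({z} : Set G) ⊔ Cfsg.oddCore G = ⊤ ∨ Nonempty (G ≃* Equiv.Perm (Fin 4)) ∨ Nonempty (G ≃* Equiv.Perm (Fin 5)) ∨
      Nonempty (G ≃* Matrix.SpecialLinearGroup (Fin 3) (ZMod 2)) ∨ Nonempty (G ≃* ↥(alternatingGroup (Fin 6))) := by
  rcases d8_main hz hC.some with ⟨_, h | h⟩ | ⟨-, h | h | h⟩
  · exact .inr (.inr (.inr (.inl (sl32 h))))
  · exact .inr (.inr (.inr (.inr (a6_360 h))))
  · exact .inl h
  · exact .inr (.inl h)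
  · exact .inr (.inr (.inl h))

end Cfsg.Agent.S3035
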