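import Cfsg.Statements.S3157
import Cfsg.Agent.H5.He4
import Cfsg.Agent.H2.MaxCl

set_option autoImplicit false
open Cfsg

namespace Cfsg.Agent.S3157

open CfsgH5 CfsgH5.He4 CfsgH2 Subgroup Function
open scoped commutatorElement

section
variable {T : Type*} [Group T] [Finite T] {ρ : MulAut T}

theorem inv4 (hT : Nat.card T = 64) (r3 : ∀ y, ρ (ρ (ρ y)) = y) (hfp : ∀ y : T, ρ y = y → y = 1) (K : Subgroup T)
    (h : ∀ y ∈ K, ρ y ∈ K) : Nat.card K = 1 ∨ Nat.card K = 4 ∨ Nat.card K = 16 ∨ Nat.card K = 64 := by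
  classical
  haveI := Fintype.ofFinite K
  haveI : Fact (Nat.Prime 3) := ⟨by norm_num⟩
  let f : Function.End K := fun y => ⟨ρ y, h _ y.2⟩
  have := Equiv.Perm.card_fixedPoints_modEq (f := f) (p := 3) (n := 1) (funext fun y => Subtype.ext (r3 y))
  rw [← Nat.card_eq_fintype_card, ← Nat.card_eq_fintype_card, (Nat.card_eq_one_iff_exists (α := f.fixedPoints)).2 ⟨⟨1, Subtype.ext (map_one ρ)⟩,
    fun y => Subtype.ext (Subtype.ext (hfp _ (congrArg Subtype.val y.2)))⟩] at this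
  have m : Nat.card K ∈ Nat.divisors 64 := Nat.mem_divisors.2 ⟨hT ▸ card_subgroup_dvd_card K, by norm_num⟩
  rw [show Nat.divisors 64 = {1, 2, 4, 8, 16, 32, 64} by decide] at m
  simp only [Finset.mem_insert, Finset.mem_singleton] at m
  unfold Nat.ModEq at this
  omega

omit [Finite T] in
theorem invZ (φ : MulAut T) {z : T} (h : z ∈ center T) : φ z ∈ center T := mem_center_iff.2 fun g => by
  obtain ⟨g, rfl⟩ := φ.surjective g
  rw [← map_mul, mem_center_iff.1 h, map_mul]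

theorem str (hT : Nat.card T = 64) (hna : ¬ IsMulCommutative T) (r3 : ∀ y, ρ (ρ (ρ y)) = y)
    (hfp : ∀ y : T, ρ y = y → y = 1) : (∀ y, y * ρ y * ρ (ρ y) = 1) ∧ (∀ y, y * ρ y = ρ y * y) ∧
      Nat.card (center T) = 4 ∧ ∀ u v : T, ⁅u, v⁆ ∈ center T := by
  have N : ∀ y, y * ρ y * ρ (ρ y) = 1 := fun y => by
    simpa [List.range_succ, mul_assoc] using MonoidHom.FixedPointFree.prod_pow_eq_one (φ := ρ) hfp (n := 3) (funext r3) y
  have rr : ∀ y, ρ (ρ y) = (y * ρ y)⁻¹ := fun y => eq_inv_of_mul_eq_one_right (N y)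
  have c0 : ∀ y, y * ρ y = ρ y * y := fun y => by
    have := N y⁻¹
    rw [map_inv, map_inv, rr, inv_inv, ← mul_inv_rev, inv_mul_eq_one] at this
    exact this.symm
  have top : ∀ (K L : Subgroup T) (y : T), (∀ k ∈ K, ρ k ∈ K) → Nat.card K = 16 → y ∉ K → K ≤ L → y ∈ L → ρ y ∈ L →
      L = ⊤ := fun K L y h c hy l a b => by
    have m1 : y ∈ closure {y, ρ y} ⊔ K := mem_sup_left (subset_closure (by simp))
    have m2 : ρ y ∈ closure {y, ρ y} ⊔ K := mem_sup_left (subset_closure (by simp))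
    have i : closure {y, ρ y} ⊔ K ≤ (closure {y, ρ y} ⊔ K).comap ρ.toMonoidHom := sup_le ((closure_le _).2 (by
      rintro _ (rfl | rfl)
      · exact m2
      · change ρ (ρ y) ∈ closure {y, ρ y} ⊔ K
        rw [rr]; exact inv_mem (mul_mem m1 m2))) fun k hk => mem_sup_right (h k hk)
    have := inv4 hT r3 hfp _ i
    have l1 := card_le_of_le (le_sup_right : K ≤ closure {y, ρ y} ⊔ K)
    have l2 : Nat.card (closure {y, ρ y} ⊔ K : Subgroup T) ≠ 16 := fun e =>
      hy ((eq_of_le_of_card_ge le_sup_right (by omega)).ge m1)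
    refine eq_top_iff.2 ((eq_top_of_le_card (closure {y, ρ y} ⊔ K) (by omega)).ge.trans (sup_le ((closure_le _).2 ?_) l))
    rintro _ (rfl | rfl) <;> assumption
  have pT : IsPGroup 2 T := IsPGroup.of_card (n := 6) hT
  haveI : Nontrivial T := Finite.one_lt_card_iff_nontrivial.1 (by omega)
  have zt : center T ≠ ⊤ := fun e => hna ⟨⟨fun a b => mem_center_iff.1 (e.ge (mem_top b)) a⟩⟩
  have cZ : Nat.card (center T) = 4 := by
    have := Finite.one_lt_card_iff_nontrivial.2 pT.center_nontrivial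
    rcases inv4 hT r3 hfp (center T) fun _ => invZ ρ with e | e | e | e
    · omega
    · exact e
    · obtain ⟨y, -, hy⟩ := SetLike.exists_of_lt (lt_top_iff_ne_top.2 zt)
      refine absurd (mem_center_iff.2 fun g => mem_centralizer_singleton_iff.1 ((top _ (centralizer {y}) y
        (fun _ => invZ ρ) e hy (center_le_centralizer _) (mem_centralizer_singleton_iff.2 rfl)
        (mem_centralizer_singleton_iff.2 (c0 y).symm)).ge (mem_top g))) hy
    · exact absurd (eq_top_of_le_card _ (by omega)) zt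
  refine ⟨N, c0, cZ, ?_⟩
  let π := QuotientGroup.mk' (center T)
  have k : ∀ u v : T, π u * π v = π v * π u ↔ ⁅u, v⁆ ∈ center T := fun u v => by
    rw [← commutatorElement_eq_one_iff_mul_comm, ← map_commutatorElement]; exact QuotientGroup.eq_one_iff _
  have mz : ∀ y, y ∈ (center _).comap π ↔ ∀ g, ⁅g, y⁆ ∈ center T := fun y =>
    ⟨fun h g => (k _ _).1 (mem_center_iff.1 h _), fun h => mem_center_iff.2 fun g => by
      obtain ⟨g, rfl⟩ := QuotientGroup.mk'_surjective _ g; exact (k _ _).2 (h g)⟩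
  have i2 : ∀ y ∈ (center _).comap π, ρ y ∈ (center _).comap π := fun y hy => (mz _).2 fun g => by
    obtain ⟨g, rfl⟩ := ρ.surjective g
    rw [← map_commutatorElement]; exact invZ ρ ((mz _).1 hy g)
  have l : center T ≤ (center _).comap π := fun z hz => (mz _).2 fun g => by
    rw [commutatorElement_eq_one_iff_mul_comm.2 (mem_center_iff.1 hz g)]; exact one_mem _
  have l1 := card_le_of_le l
  have l2 : Nat.card ((center _).comap π) ≠ 4 := fun e => by
    haveI : Nontrivial (T ⧸ center T) := QuotientGroup.nontrivial_iff.2 zt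
    haveI := (pT.to_quotient (center T)).center_nontrivial
    obtain ⟨⟨y, hy⟩, y1⟩ := exists_ne (1 : center (T ⧸ center T))
    obtain ⟨y, rfl⟩ := QuotientGroup.mk'_surjective _ y
    exact y1 (Subtype.ext ((QuotientGroup.eq_one_iff _).2 ((eq_of_le_of_card_ge l (by omega)).ge hy)))
  suffices e : (center _).comap π = ⊤ from fun u v => (mz v).1 (e.ge (mem_top v)) u
  by_contra e
  obtain ⟨y, -, hy⟩ := SetLike.exists_of_lt (lt_top_iff_ne_top.2 e)
  have c : Nat.card ((center _).comap π) ≠ 64 := fun c => e (eq_top_of_le_card _ (by omega))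
  have := inv4 hT r3 hfp _ i2
  refine hy ((mz y).2 fun g => (k _ _).1 (mem_centralizer_singleton_iff.1 ((top _ ((centralizer {π y}).comap π) y i2
    (by omega) hy (comap_mono (center_le_centralizer _)) (mem_centralizer_singleton_iff.2 rfl)
      (mem_centralizer_singleton_iff.2 ?_)).ge (mem_top g))))
  rw [← map_mul, ← c0, map_mul]

end

/-- Let T be a non-abelian group of order 64 admitting automorphisms ρ of order 3 and x of order 2 with x ρ x⁻¹ = ρ⁻¹ (so they generate a symmetric group of degree 3), where ρ fixes only the identity. Then T is isomorphic to a Sylow 2-subgroup of the projective special linear group of dimension 3 over the field with 4 elements, and the subgroup of fixed points of x is dihedral of order 8 or quaternion of order 8. -/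
theorem result {T : Type*} [Group T] [Finite T] (hT : Nat.card T = 64) (hna : ¬ IsMulCommutative T) (ρ x : MulAut T) (hρ : orderOf ρ = 3) (hx : orderOf x = 2)
    (hxr : x * ρ * x⁻¹ = ρ⁻¹) (hfp : ∀ y : T, ρ y = y → y = 1) (C : Subgroup T) (hC : ∀ y : T, y ∈ C ↔ x y = y) :
    (∃ (F : Type) (_ : Field F) (_ : Fintype F), Fintype.card F = 4 ∧
        ∃ S : Sylow 2 (Matrix.ProjectiveSpecialLinearGroup (Fin 3) F), Nonempty (T ≃* ↥(S : Subgroup (Matrix.ProjectiveSpecialLinearGroup (Fin 3) F)))) ∧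
      (Nonempty (↥C ≃* DihedralGroup 4) ∨ Nonempty (↥C ≃* QuaternionGroup 2)) := by
  have r3 : ∀ y, ρ (ρ (ρ y)) = y := fun y => congrArg (fun φ : MulAut T => φ y) (hρ ▸ pow_orderOf_eq_one ρ : ρ ^ 3 = 1)
  have x2 : ∀ y, x (x y) = y := fun y => congrArg (fun φ : MulAut T => φ y) (hx ▸ pow_orderOf_eq_one x : x ^ 2 = 1)
  have xr : ∀ y, x (ρ y) = ρ (ρ (x y)) := fun y => by
    have := congrArg (fun φ : MulAut T => ρ (φ (x y))) hxr
    simp only [MulAut.mul_apply, MulAut.inv_apply_self, MulAut.apply_inv_self] at this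
    rw [← r3 (x (ρ y)), this]
  obtain ⟨N, c0, cZ, c1⟩ := str hT hna r3 hfp
  have rr : ∀ y, ρ (ρ y) = (y * ρ y)⁻¹ := fun y => eq_inv_of_mul_eq_one_right (N y)
  have ls : ∀ z ∈ center T, z ≠ 1 → ∀ w ∈ center T, w = 1 ∨ w = z ∨ w = ρ z ∨ w = ρ (ρ z) := fun z hz z1 w hw => by
    by_contra h
    push Not at h
    have a1 : ρ z ≠ z := fun e => z1 (hfp _ e)
    have a2 : ρ (ρ z) ≠ ρ z := fun e => a1 (ρ.injective e)
    have a3 : ρ (ρ z) ≠ z := fun e => a1 (by rw [← e, r3, e])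
    have := Set.ncard_le_ncard (show ({w, 1, z, ρ z, ρ (ρ z)} : Set T) ⊆ center T by
      rintro _ (rfl | rfl | rfl | rfl | rfl)
      exacts [hw, one_mem _, hz, invZ ρ hz, invZ ρ (invZ ρ hz)])
    rw [Set.ncard_insert_of_notMem (by simp [h]), Set.ncard_insert_of_notMem (by simp [eq_comm (a := (1 : T)), z1]),
      Set.ncard_insert_of_notMem (by simp [a1.symm, a3.symm]), Set.ncard_pair a2.symm, ← Nat.card_coe_set_eq] at this
    exact absurd (this.trans cZ.le) (by norm_num)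
  have e2 : ∀ w ∈ center T, w * w = 1 := fun w hw => by
    by_contra h
    have w4 : w * w * (w * w) = 1 := by
      have := congrArg Subtype.val (pow_card_eq_one' (x := (⟨w, hw⟩ : center T)))
      rw [cZ] at this
      simpa [pow_succ, mul_assoc] using this
    rcases ls _ (mul_mem hw hw) h w hw with e | e | e | e <;> refine h ?_ <;> rw [e] <;>
      simp only [← map_mul, w4, map_one, mul_one]
  have zi : ∀ w ∈ center T, w⁻¹ = w := fun w hw => inv_eq_of_mul_eq_one_right (e2 w hw)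
  have sy : ∀ u v : T, ⁅u, v⁆ = ⁅v, u⁆ := fun u v => by rw [← zi _ (c1 u v), commutatorElement_inv]
  have bl : ∀ u v w : T, ⁅u * v, w⁆ = ⁅u, w⁆ * ⁅v, w⁆ := fun u v w => by
    calc ⁅u * v, w⁆ = u * ⁅v, w⁆ * u⁻¹ * ⁅u, w⁆ := by group
      _ = _ := by rw [mem_center_iff.1 (c1 v w) u, mul_inv_cancel_right, mem_center_iff.1 (c1 u w)]
  have br : ∀ u v w : T, ⁅u, v * w⁆ = ⁅u, v⁆ * ⁅u, w⁆ := fun u v w => by rw [sy, bl, sy v, sy w]
  have bi : ∀ u w : T, ⁅u⁻¹, w⁆ = ⁅u, w⁆ := fun u w => by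
    rw [← zi _ (c1 u w)]; exact eq_inv_of_mul_eq_one_left (by rw [← bl]; simp)
  have b0 : ∀ y, ⁅y, ρ y⁆ = 1 := fun y => commutatorElement_eq_one_iff_mul_comm.2 (c0 y)
  have bz : ∀ u, ∀ z ∈ center T, ⁅u, z⁆ = 1 := fun u z hz => commutatorElement_eq_one_iff_mul_comm.2 (mem_center_iff.1 hz u)
  have pol : ∀ u v, ⁅u, ρ v⁆ = ⁅ρ u, v⁆ := fun u v => by
    have := b0 (u * v)
    rw [map_mul, bl, br, br, b0, b0, one_mul, mul_one, sy v] at this
    rw [eq_inv_of_mul_eq_one_left this, zi _ (c1 _ _)]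
  have rho : ∀ u v, ρ ⁅u, v⁆ = ⁅u, v⁆ * ⁅ρ u, v⁆ := fun u v => by rw [map_commutatorElement, pol, rr, bi, bl]
  have sq : ∀ u, u * u ∈ center T := fun u => mem_center_iff.2 fun g =>
    (commutatorElement_eq_one_iff_mul_comm.1 (by rw [bl, e2 _ (c1 _ _)])).symm
  have sw : ∀ u v : T, v * u = u * ⁅u, v⁆ * v := fun u v => by
    rw [mem_center_iff.1 (c1 u v) u, sy]; group
  have s2 : ∀ u v : T, u * v * (u * v) = u * u * (v * v) * ⁅u, v⁆ := fun u v => by
    calc _ = u * (v * u) * v := by simp only [mul_assoc]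
      _ = u * u * (⁅u, v⁆ * (v * v)) := by rw [sw u v]; simp only [mul_assoc]
      _ = _ := by rw [← mem_center_iff.1 (c1 u v), mul_assoc (u * u)]
  have pick : ∀ D : Subgroup T, center T ≤ D → (∀ y, ρ y ∈ D → y ∈ D) → D ≠ ⊤ → ∃ b ∉ D, x b = b := fun D l i t => by
    obtain ⟨a, a1, a2⟩ : ∃ a ∉ D, a⁻¹ * x a ∈ center T := by
      obtain ⟨y, -, hy⟩ := SetLike.exists_of_lt (lt_top_iff_ne_top.2 t)
      have k : ∀ y, (y * x y)⁻¹ * x (y * x y) ∈ center T := fun y => by
        rw [map_mul, x2, show (y * x y)⁻¹ * (x y * y) = ⁅(x y)⁻¹, y⁻¹⁆ by group]; exact c1 _ _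
      by_cases h : y * x y ∈ D
      · refine ⟨_, fun e => hy ?_, k (ρ y)⟩
        rw [xr] at e
        have e1 := i _ (i _ (show ρ (ρ (ρ (ρ (ρ (ρ (y * x y)))))) ∈ D by rwa [r3, r3]))
        rw [r3, map_mul] at e1
        have e3 := i _ (show ρ (y * ρ (x y)) ∈ D by rwa [map_mul])
        have e4 := mul_mem e1 (inv_mem e3)
        rw [show ρ y * ρ (x y) * (y * ρ (x y))⁻¹ = ρ y * y * (y * y)⁻¹ by group] at e4
        have e5 := (mul_mem_cancel_right (inv_mem (l (sq y)))).1 e4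
        refine i _ (i _ ?_)
        rw [rr, c0]; exact inv_mem e5
      · exact ⟨_, h, k y⟩
    refine ⟨a * ρ (a⁻¹ * x a), fun e => a1 ((mul_mem_cancel_right (l (invZ ρ a2))).1 e), ?_⟩
    have f : x (a⁻¹ * x a) = a⁻¹ * x a := by rw [← zi _ a2, map_inv, map_mul, map_inv, x2]; simp [zi _ a2]
    rw [map_mul, xr, f, rr, zi _ (mul_mem a2 (invZ ρ a2))]
    calc _ = a * (a⁻¹ * x a * (a⁻¹ * x a)) * ρ (a⁻¹ * x a) := by group
      _ = _ := by rw [e2 _ a2, mul_one]
  have rc : ∀ u v, ⁅u, v⁆ = 1 → ⁅u, ρ v⁆ = 1 := fun u v h => by rw [pol]; simpa [h] using (rho u v).symm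
  have cs : ∀ u v : T, v ∈ centralizer {u} ↔ ⁅u, v⁆ = 1 := fun u v => by
    rw [mem_centralizer_singleton_iff, commutatorElement_eq_one_iff_mul_comm, eq_comm]
  obtain ⟨a, a1, a2⟩ := pick _ le_rfl (fun y h => r3 y ▸ invZ ρ (invZ ρ h))
    fun e => hna ⟨⟨fun a b => mem_center_iff.1 (e.ge (mem_top b)) a⟩⟩
  obtain ⟨b, b1, b2⟩ := pick (centralizer {a}) (center_le_centralizer _)
    (fun y h => (cs _ _).2 (r3 y ▸ rc _ _ (rc _ _ ((cs _ _).1 h))))
    fun e => a1 (mem_center_iff.2 fun g => mem_centralizer_singleton_iff.1 (e.ge (mem_top g)))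
  rw [cs] at b1
  have fz : ∀ a b, x a = a → x b = b → ⁅a, b⁆ ≠ 1 → ∀ w ∈ center T, x w = w → w = 1 ∨ w = ⁅a, b⁆ := fun a b a2 b2 b1 w hw e => by
    have f : x ⁅a, b⁆ = ⁅a, b⁆ := by rw [map_commutatorElement, a2, b2]
    rcases ls _ (c1 a b) b1 w hw with h | h | rfl | rfl
    · exact .inl h
    · exact .inr h
    · rw [xr, f] at e; exact absurd (hfp _ (ρ.injective e)) b1
    · rw [xr, xr, f, r3] at e; exact absurd (hfp _ (ρ.injective e).symm) b1
  have iso : ∀ a b : T, a * a = 1 → b * b = 1 → ⁅a, b⁆ ≠ 1 → Nonempty (T ≃* H) ∧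
      ∀ y, ⁅y, a⁆ = 1 → ⁅y, b⁆ = 1 → y ∈ center T := fun a b sa sb n => by
    obtain ⟨f, hf, hK⟩ := hom (a1 := a) (a2 := ρ a) (b1 := b) (b2 := ρ b) (z1 := ⁅a, b⁆) (z2 := ⁅ρ a, b⁆) sa
      (by rw [← map_mul, sa, map_one]) sb (by rw [← map_mul, sb, map_one]) (e2 _ (c1 _ _)) (e2 _ (c1 _ _)) (c0 a) (c0 b).symm
      (fun u _ => mem_center_iff.1 (c1 _ _) u) (fun u _ => mem_center_iff.1 (c1 _ _) u) (sw _ _) (sw _ _)
      (by rw [← pol]; exact sw _ _) (by rw [← rho, map_commutatorElement]; exact sw _ _) n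
      (fun e => n (hfp _ (by rw [rho, e, mul_one]))) (by rw [← rho]; exact fun e => n ((map_eq_one_iff ρ ρ.injective).1 e))
    have bj := (Nat.bijective_iff_injective_and_card f).2 ⟨hf, by rw [cardH, hT]⟩
    refine ⟨⟨(MulEquiv.ofBijective f bj).symm⟩, fun y h1 h2 => mem_center_iff.2 fun g => ?_⟩
    obtain ⟨g, rfl⟩ := bj.2 g
    exact mem_centralizer_singleton_iff.1 (hK (centralizer {y}) ((cs _ _).2 h1) ((cs _ _).2 (rc _ _ h1)) ((cs _ _).2 h2)
      ((cs _ _).2 (rc _ _ h2)) (center_le_centralizer _ (c1 _ _)) (center_le_centralizer _ (c1 _ _)) g)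
  have fin : ∀ a b, x a = a → x b = b → ⁅a, b⁆ ≠ 1 → a * a = ⁅a, b⁆ → (∀ y, ⁅y, a⁆ = 1 → ⁅y, b⁆ = 1 → y ∈ center T) →
      Cy2 C a b 1 ∧ b * a * b⁻¹ = a⁻¹ := fun a b a2 b2 n sa g => by
    have cj : b * a * b⁻¹ = a⁻¹ := by
      rw [sw a b, ← sa, mul_inv_cancel_right]
      exact eq_inv_of_mul_eq_one_left (by
        rw [show a * (a * a) * a = a * a * (a * a) by simp only [mul_assoc], sa, e2 _ (c1 _ _)])
    have zm : ∀ w ∈ center T, x w = w → w ∈ zpowers a := fun w hw e => by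
      rcases fz a b a2 b2 n w hw e with rfl | rfl
      · exact one_mem _
      · rw [← sa]; exact mul_mem (mem_zpowers a) (mem_zpowers a)
    refine ⟨⟨orderOf_eq_prime_pow (by rwa [pow_one, pow_two, sa]) (by
      rw [show a ^ 2 ^ (1 + 1) = a * a * (a * a) by simp [pow_succ, mul_assoc], sa, e2 _ (c1 _ _)]), fun ⟨k, hk⟩ => n ?_,
      le_antisymm (sup_le (zpowers_le.2 ((hC _).2 a2)) (zpowers_le.2 ((hC _).2 b2))) fun y hy => ?_,
      by rw [pow_two]; exact zm _ (sq b) (by rw [map_mul, b2]), mem_norm_of_map_le (by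
        rw [MonoidHom.map_zpowers, zpowers_le, cj_apply, cj]; exact inv_mem (mem_zpowers a))⟩, cj⟩
    · rw [← hk]; exact commutatorElement_eq_one_iff_commute.2 (Commute.zpow_right rfl k)
    have A : a ∈ zpowers a ⊔ zpowers b := mem_sup_left (mem_zpowers a)
    have B : b ∈ zpowers a ⊔ zpowers b := mem_sup_right (mem_zpowers b)
    have y2 := (hC y).1 hy
    have q : ∀ u ∈ zpowers a ⊔ zpowers b, x u = u → ⁅y * u, a⁆ = 1 → ⁅y * u, b⁆ = 1 → y ∈ zpowers a ⊔ zpowers b :=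
      fun u hu e h1 h2 => (mul_mem_cancel_right hu).1 (mem_sup_left (zm _ (g _ h1 h2) (by rw [map_mul, y2, e])))
    have z2 := e2 _ (c1 a b)
    rcases fz a b a2 b2 n _ (c1 y a) (by rw [map_commutatorElement, y2, a2]) with h1 | h1 <;>
      rcases fz a b a2 b2 n _ (c1 y b) (by rw [map_commutatorElement, y2, b2]) with h2 | h2
    · exact q 1 (one_mem _) (map_one x) (by simpa using h1) (by simpa using h2)
    · exact q a A a2 (by simp [bl, h1]) (by rw [bl, h2, z2])
    · exact q b B b2 (by rw [bl, h1, sy b, z2]) (by simp [bl, h2])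
    · exact q (a * b) (mul_mem A B) (by rw [map_mul, a2, b2]) (by simp [bl, h1, sy b a, z2]) (by simp [bl, h2, z2])
  have out : Nonempty (T ≃* H) → ∃ (F : Type) (_ : Field F) (_ : Fintype F), Fintype.card F = 4 ∧
      ∃ S : Sylow 2 (Matrix.ProjectiveSpecialLinearGroup (Fin 3) F),
        Nonempty (T ≃* ↥(S : Subgroup (Matrix.ProjectiveSpecialLinearGroup (Fin 3) F))) := fun ⟨e⟩ => by
    letI : Fintype (GaloisField 2 2) := Fintype.ofFinite _
    have hF : Fintype.card (GaloisField 2 2) = 4 := by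
      rw [← Nat.card_eq_fintype_card, GaloisField.card 2 2 (by norm_num)]; norm_num
    exact ⟨_, inferInstance, inferInstance, hF, default, (syl hF default).map fun k => e.trans k.symm⟩
  have dd : ∀ a b, x a = a → x b = b → ⁅a, b⁆ ≠ 1 → a * a = 1 → b * b = 1 →
      Nonempty (T ≃* H) ∧ Nonempty (C ≃* DihedralGroup 4) := fun a b a2 b2 n sa sb => by
    obtain ⟨i1, i2⟩ := iso a b sa sb n
    have e : ⁅a * b, b⁆ = ⁅a, b⁆ := by simp [bl]
    obtain ⟨j1, j2⟩ := fin (a * b) b (by rw [map_mul, a2, b2]) b2 (by rwa [e]) (by rw [s2, sa, sb, e]; simp)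
      fun y h1 h2 => i2 y (by rwa [br, h2, mul_one] at h1) h2
    exact ⟨i1, j1.dihedral (by rwa [pow_two]) j2⟩
  have z2 := e2 _ (c1 a b)
  rcases fz a b a2 b2 b1 _ (sq a) (by rw [map_mul, a2]) with sa | sa <;>
    rcases fz a b a2 b2 b1 _ (sq b) (by rw [map_mul, b2]) with sb | sb
  · exact (dd a b a2 b2 b1 sa sb).imp out .inl
  · exact (dd a (a * b) a2 (by rw [map_mul, a2, b2]) (by simpa [br] using b1) sa
      (by rw [s2, sa, sb, one_mul, z2])).imp out .inl
  · exact (dd (a * b) b (by rw [map_mul, a2, b2]) b2 (by simpa [bl] using b1)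
      (by rw [s2, sa, sb, mul_one, z2]) sb).imp out .inl
  · have p1 : ⁅a, ρ b⁆ = ρ (ρ ⁅a, b⁆) := by
      rw [rr, rho, pol, ← mul_assoc, z2, one_mul, zi _ (c1 _ _)]
    have p2 : ⁅a, ρ (ρ b)⁆ = ρ ⁅a, b⁆ := by rw [pol, map_commutatorElement]
    obtain ⟨i1, i2⟩ := iso (a * ρ b) (a * ρ (ρ b)) (by rw [s2, ← map_mul, sa, sb, p1, N])
      (by rw [s2, ← map_mul, ← map_mul, sa, sb, p2, mul_assoc, mem_center_iff.1 (invZ ρ (c1 a b)), ← mul_assoc, N])
      (by
        rw [bl, br, br, b0, sy (ρ b), p1, p2, commutatorElement_self, one_mul, mul_one]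
        intro e
        have := N ⁅a, b⁆
        rw [mul_assoc, e, mul_one] at this
        exact b1 this)
    obtain ⟨j1, j2⟩ := fin a b a2 b2 b1 sa fun y h1 h2 => i2 y (by rw [br, h1, rc _ _ h2, one_mul])
      (by rw [br, h1, rc _ _ (rc _ _ h2), one_mul])
    exact ⟨out i1, .inr (j1.quaternion (by rw [pow_one, pow_two, pow_two, sa, sb]) j2)⟩

end Cfsg.Agent.S3157
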