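import Cfsg.Statements.S3171
import Cfsg.Agent.H5.Ut5
import Cfsg.Agent.H8.U3e

set_option autoImplicit false
open Cfsg

namespace Cfsg.Agent.S3171

open CfsgH5.Ut5 Subgroup Function

theorem idx {Q : Type*} [Group Q] [Finite Q] (hQ : Nat.card Q = 2 ^ 9) {M : Subgroup Q} (hM : IsCoatom M) :
    M.index = 2 := by
  obtain ⟨n, hn⟩ := (IsPGroup.iff_card (p := 2)).1 ((IsPGroup.of_card hQ).to_subgroup M)
  have e := M.card_mul_index
  have lt : n < 9 := by
    by_contra h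
    refine hM.1 (eq_top_of_le_card _ ?_)
    rw [hQ, hn]; exact Nat.pow_le_pow_right (by norm_num) (by omega)
  obtain ⟨K, hK, le⟩ := Sylow.exists_subgroup_card_pow_succ (p := 2) (hQ ▸ pow_dvd_pow 2 lt) hn
  have : K = ⊤ := hM.2 K (lt_of_le_of_ne le fun h => by rw [← h, hn] at hK; simp at hK)
  rw [this, card_top, ← e, hn, pow_succ] at hK
  exact Nat.eq_of_mul_eq_mul_left (by positivity) hK

theorem cm {x y : SS} (h : x * y = y * x) : x.a * y.b = y.a * x.b ∧ x.b * y.c = y.b * x.c ∧ x.c * y.d = y.c * x.d ∧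
    x.a * y.f + x.e * y.c = y.a * x.f + y.e * x.c ∧ x.b * y.g + x.f * y.d = y.b * x.g + y.f * x.d := by
  have h1 := congrArg SS.e h
  have h2 := congrArg SS.f h
  have h3 := congrArg SS.g h
  have h4 := congrArg SS.h h
  have h5 := congrArg SS.i h
  simp only [SS.mul_def, SS.mul] at h1 h2 h3 h4 h5
  exact ⟨by linear_combination h1, by linear_combination h2, by linear_combination h3, by linear_combination h4,
    by linear_combination h5⟩

theorem z2 : ∀ t : ZMod 2, t ≠ 0 → t = 1 := by decide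

def AA : Subgroup SS where
  carrier := {x | x.b = 0 ∧ x.c = 0 ∧ x.f = 0}
  mul_mem' := fun {x y} ⟨a, b, c⟩ ⟨d, e, f⟩ => by simp [SS.mul_def, SS.mul, *]
  one_mem' := ⟨rfl, rfl, rfl⟩
  inv_mem' := fun {x} ⟨a, b, c⟩ => by
    change x.b = 0 ∧ x.c = 0 ∧ x.f + x.b * x.c = 0
    simp [*]

abbrev T6 := ZMod 2 × ZMod 2 × ZMod 2 × ZMod 2 × ZMod 2 × ZMod 2

theorem cA : Nat.card AA = 64 := by
  rw [Nat.card_congr (β := T6) ⟨fun x => ⟨x.1.a, x.1.d, x.1.e, x.1.g, x.1.h, x.1.i⟩,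
    fun ⟨a, d, e, g, h, i⟩ => ⟨⟨a, 0, 0, d, e, 0, g, h, i⟩, rfl, rfl, rfl⟩,
    fun ⟨x, a, b, c⟩ => Subtype.ext (SS.ext rfl a.symm b.symm rfl rfl c.symm rfl rfl rfl), fun _ => rfl⟩]
  simp

theorem uq (B : Subgroup SS) (c : ∀ x ∈ B, ∀ y ∈ B, x * y = y * x) (hB : Nat.card B = 64) : B = AA := by
  have sj : ∀ φ : SS → T6, (∀ v ∈ B, ∀ w ∈ B, φ v = φ w → v = w) → ∀ t, ∃ v ∈ B, φ v = t := fun φ h t => by
    obtain ⟨v, hv⟩ := ((Nat.bijective_iff_injective_and_card (fun v : B => φ v)).2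
      ⟨fun v w e => Subtype.ext (h _ v.2 _ w.2 e), by rw [hB]; simp⟩).2 t
    exact ⟨v, v.2, hv⟩
  have hb : ∀ w ∈ B, w.b = 0 := fun w hw => by
    by_contra e
    have e := z2 _ e
    have k := sj (fun v => (v.b, v.d, v.e, v.f, v.h, v.i)) fun u hu v hv q => by
      simp only [Prod.mk.injEq] at q
      have := cm (c w hw u hu)
      have := cm (c w hw v hv)
      ext <;> grind
    obtain ⟨u, hu, q1⟩ := k (0, 1, 0, 0, 0, 0)
    obtain ⟨v, hv, q2⟩ := k (0, 0, 0, 1, 0, 0)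
    simp only [Prod.mk.injEq] at q1 q2
    simpa [q1, q2] using (cm (c u hu v hv)).2.2.2.2
  have hc : ∀ w ∈ B, w.c = 0 := fun w hw => by
    by_contra e
    have e := z2 _ e
    have k := sj (fun v => (v.a, v.c, v.f, v.g, v.h, v.i)) fun u hu v hv q => by
      simp only [Prod.mk.injEq] at q
      have := cm (c w hw u hu)
      have := cm (c w hw v hv)
      ext <;> grind
    obtain ⟨u, hu, q1⟩ := k (1, 0, 0, 0, 0, 0)
    obtain ⟨v, hv, q2⟩ := k (0, 0, 1, 0, 0, 0)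
    simp only [Prod.mk.injEq] at q1 q2
    simpa [q1, q2] using (cm (c u hu v hv)).2.2.2.1
  have hf : ∀ w ∈ B, w.f = 0 := fun w hw => by
    by_contra e
    have e := z2 _ e
    obtain ⟨u, hu, q⟩ := sj (fun v => (v.b, v.e, v.f, v.g, v.h, v.i)) (fun u hu v hv q => by
      simp only [Prod.mk.injEq] at q
      have := cm (c w hw u hu)
      have := cm (c w hw v hv)
      have := hb w hw
      have := hb u hu
      have := hc w hw
      have := hc u hu
      have := hc v hv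
      ext <;> grind) (1, 0, 0, 0, 0, 0)
    simp only [Prod.mk.injEq] at q
    simpa [q] using hb u hu
  haveI : Finite SS := Nat.finite_of_card_ne_zero (by rw [cardS]; norm_num)
  exact eq_of_le_of_card_ge (fun w hw => ⟨hb w hw, hc w hw, hf w hw⟩) (by rw [cA, hB])

theorem sm : ∀ a b c d e f g h i : ZMod 2, (∀ p ∈ [((⟨1, 1, 0, 0, 1, 0, 0, 0, 0⟩, ⟨0, 0, 1, 1, 0, 0, 1, 0, 0⟩) : SS × SS),
    (⟨1, 0, 0, 0, 0, 1, 0, 1, 0⟩, ⟨0, 1, 1, 0, 0, 1, 0, 0, 0⟩)],
    p.1 * ⟨a, b, c, d, e, f, g, h, i⟩ = ⟨a, b, c, d, e, f, g, h, i⟩ * p.1 ∨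
    p.2 * ⟨a, b, c, d, e, f, g, h, i⟩ = ⟨a, b, c, d, e, f, g, h, i⟩ * p.2 ∨
    p.1 * p.2 * ⟨a, b, c, d, e, f, g, h, i⟩ = ⟨a, b, c, d, e, f, g, h, i⟩ * (p.1 * p.2)) →
    a = 0 ∧ b = 0 ∧ c = 0 ∧ d = 0 ∧ f = 0 ∧ e * g = 0 := by
  set_option synthInstance.maxSize 100000 in decide +kernel

theorem main {Q : Type*} [Group Q] (E : Q ≃* SS) : (∀ M : Subgroup Q, IsCoatom M → Nat.card (center M) ≤ 8) ∧
    (∃ A : Subgroup Q, IsElementaryAbelian 2 A ∧ Nat.card A = 64) ∧
      ∀ A B : Subgroup Q, IsMulCommutative A → Nat.card A = 64 → IsMulCommutative B → Nat.card B = 64 → A = B := by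
  have hQ : Nat.card Q = 2 ^ 9 := by rw [Nat.card_congr E.toEquiv, cardS]
  haveI : Finite Q := Nat.finite_of_card_ne_zero (by rw [hQ]; norm_num)
  refine ⟨fun M hM => ?_, ⟨AA.comap E.toMonoidHom, ⟨⟨⟨fun x y => Subtype.ext (E.injective ?_)⟩⟩, fun x hx => E.injective ?_⟩, ?_⟩,
    fun A B a ca b cb => ?_⟩
  · have k : ∀ w : center M, (E w.1.1).a = 0 ∧ (E w.1.1).b = 0 ∧ (E w.1.1).c = 0 ∧ (E w.1.1).d = 0 ∧ (E w.1.1).f = 0 ∧
        (E w.1.1).e * (E w.1.1).g = 0 := fun w => sm _ _ _ _ _ _ _ (E w.1.1).h (E w.1.1).i fun p _ => by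
      have q : ∀ x, E.symm x ∈ M → x * E w.1.1 = E w.1.1 * x := fun x hx => by
        have := congrArg (fun t : M => E t.1) (mem_center_iff.1 w.2 ⟨_, hx⟩)
        simpa using this
      by_cases h1 : E.symm p.1 ∈ M
      · exact .inl (q _ h1)
      by_cases h2 : E.symm p.2 ∈ M
      · exact .inr (.inl (q _ h2))
      exact .inr (.inr (q _ (by rw [map_mul, mul_mem_iff_of_index_two (idx hQ hM)]; exact iff_of_false h1 h2)))
    refine (Nat.card_le_card_of_injective (fun w : center M => ((E w.1.1).e + (E w.1.1).g, (E w.1.1).h, (E w.1.1).i))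
      fun u v q => Subtype.ext (Subtype.ext (E.injective ?_))).trans (by simp)
    have k1 := k u
    have k2 := k v
    have k3 := (k (u * v)).2.2.2.2.2
    simp only [Subgroup.coe_mul, map_mul, SS.mul_def, SS.mul, k1, k2, mul_zero, add_zero] at k3
    simp only [Prod.mk.injEq] at q
    have : ∀ a b c d : ZMod 2, a * b = 0 → c * d = 0 → (a + c) * (b + d) = 0 → a + b = c + d → a = c ∧ b = d := by decide
    have := this _ _ _ _ k1.2.2.2.2.2 k2.2.2.2.2.2 k3 q.1
    ext <;> simp [k1, k2, q, this]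
  · obtain ⟨a, b, c⟩ : E x ∈ AA := x.2
    obtain ⟨d, e, f⟩ : E y ∈ AA := y.2
    simp only [Subgroup.coe_mul, map_mul]
    ext <;> simp [SS.mul_def, SS.mul, *, add_comm]
  · obtain ⟨a, b, c⟩ : E x ∈ AA := hx
    rw [map_pow, map_one, sq]
    ext <;> simp [SS.mul_def, SS.mul, SS.one_def, *, CharTwo.add_self_eq_zero]
  · rw [← cA]
    exact Nat.card_congr (E.toEquiv.subtypeEquiv fun _ => Iff.rfl)
  · have k : ∀ A : Subgroup Q, IsMulCommutative A → Nat.card A = 64 → A.map E.toMonoidHom = AA := fun A a ca =>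
      uq _ (by
        rintro _ ⟨x, hx, rfl⟩ _ ⟨y, hy, rfl⟩
        rw [← map_mul, ← map_mul]
        exact congrArg (fun t : A => E t.1) (a.is_comm.comm ⟨x, hx⟩ ⟨y, hy⟩)) (by rw [card_map_of_injective E.injective, ca])
    exact map_injective (f := E.toMonoidHom) E.injective ((k A a ca).trans (k B b cb).symm)

/-- Let P be a Sylow 2-subgroup of the Mathieu group of degree 24 and S the quotient of P by its centre. Then the centre of every maximal subgroup of S has order at most 8; S has an elementary abelian subgroup of order 64; and S has only one abelian subgroup of order 64. -/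
theorem result (P : Sylow 2 ↥Cfsg.M24) :
    (∀ M : Subgroup (↥(P : Subgroup ↥Cfsg.M24) ⧸ Subgroup.center ↥(P : Subgroup ↥Cfsg.M24)), IsCoatom M →
        Nat.card ↥(Subgroup.center ↥M) ≤ 8) ∧
      (∃ A : Subgroup (↥(P : Subgroup ↥Cfsg.M24) ⧸ Subgroup.center ↥(P : Subgroup ↥Cfsg.M24)),
        Cfsg.IsElementaryAbelian 2 A ∧ Nat.card ↥A = 64) ∧
      ∀ A B : Subgroup (↥(P : Subgroup ↥Cfsg.M24) ⧸ Subgroup.center ↥(P : Subgroup ↥Cfsg.M24)),
        IsMulCommutative ↥A → Nat.card ↥A = 64 → IsMulCommutative ↥B → Nat.card ↥B = 64 → A = B := by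
  obtain ⟨f, hf⟩ := hom
  haveI : Finite M24 := inferInstance
  obtain ⟨e⟩ := CfsgH8.sylow_iso_of_inj f hf (IsPGroup.of_card (n := 10) cardU) (a := 1) (m := 239085)
    (by rw [cardU, CfsgH7.Gol.card24]; norm_num) (by norm_num) P
  let π : UU →* SS := MonoidHom.mk' (fun u => u.s) fun _ _ => rfl
  have sj : Surjective (π.comp e.toMonoidHom) := fun s => ⟨e.symm ⟨s, 0⟩, congrArg UU.s (e.apply_symm_apply ⟨s, 0⟩)⟩
  have kz : center (P : Subgroup M24) = (π.comp e.toMonoidHom).ker := by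
    ext x
    rw [mem_center_iff, MonoidHom.mem_ker]
    refine ⟨fun h => cen fun g => ?_, fun h g => e.injective ?_⟩
    · obtain ⟨g, rfl⟩ := e.surjective g
      exact (map_mul e _ _).symm.trans ((congrArg e (h g)).trans (map_mul e _ _))
    · have h : (e x).s = 1 := h
      rw [map_mul, map_mul]
      refine UU.ext (show (e g).s * (e x).s = (e x).s * (e g).s by rw [h, mul_one, one_mul]) ?_
      simp [UU.mul_def, UU.mul, h, SS.one_def, add_comm]
  exact main ((QuotientGroup.quotientMulEquivOfEq kz).trans (QuotientGroup.quotientKerEquivOfSurjective _ sj))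

end Cfsg.Agent.S3171
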