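import Mathlib
import Cfsg.Statements.S3179
import Cfsg.Agent.S1163
import Cfsg.Agent.H5.Unit2
import Cfsg.Agent.S3532

set_option autoImplicit false
open Cfsg

namespace Cfsg.Agent.S3179

open CfsgH8

theorem card : Nat.card (GL (Fin 5) (ZMod 2)) = 9999360 := by
  rw [Matrix.card_GL_field, ZMod.card]
  decide

theorem nine (g : GL (Fin 5) (ZMod 2)) : orderOf g ≠ 9 := fun h => by
  haveI := Fact.mk Nat.prime_three
  let A : Matrix (Fin 5) (Fin 5) (ZMod 2) := !![0, 1, 0, 0, 0; 1, 1, 0, 0, 0; 0, 0, 1, 0, 0; 0, 0, 0, 1, 0; 0, 0, 0, 0, 1]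
  let B : Matrix (Fin 5) (Fin 5) (ZMod 2) := !![1, 0, 0, 0, 0; 0, 1, 0, 0, 0; 0, 0, 0, 1, 0; 0, 0, 1, 1, 0; 0, 0, 0, 0, 1]
  let a : GL (Fin 5) (ZMod 2) := ⟨A, A * A, by decide +kernel, by decide +kernel⟩
  let b : GL (Fin 5) (ZMod 2) := ⟨B, B * B, by decide +kernel, by decide +kernel⟩
  have f : (Nat.card (GL (Fin 5) (ZMod 2))).factorization 3 = 2 := by
    rw [card]; exact le_antisymm (by_contra fun l => absurd ((Nat.prime_three.pow_dvd_iff_le_factorization (by simp)).2 (not_le.1 l))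
      (by norm_num))
      ((Nat.prime_three.pow_dvd_iff_le_factorization (by simp)).1 (by norm_num))
  let P := Sylow.ofCard (p := 3) (Subgroup.zpowers g) (by rw [Nat.card_zpowers, h, f]; rfl)
  have c : Commute a b := show a * b = b * a by decide +kernel
  have p : ∀ x : GL (Fin 5) (ZMod 2), x ^ 3 = 1 → IsPGroup 3 (Subgroup.zpowers x) := fun x e =>
    IsPGroup.of_card_dvd_pow (n := 1) (by rw [Nat.card_zpowers]; exact orderOf_dvd_of_pow_eq_one e)
  obtain ⟨Q, hQ⟩ := (IsPGroup.to_sup_of_normal_right' (p a (by decide +kernel)) (p b (by decide +kernel)) (Subgroup.zpowers_le.2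
    (Subgroup.centralizer_le_normalizer _ (by rintro _ ⟨k, rfl⟩; exact (c.zpow_right k).symm)))).exists_le_sylow
  haveI : IsCyclic P := inferInstanceAs (IsCyclic (Subgroup.zpowers g))
  haveI : IsCyclic Q := isCyclic_of_surjective _ (P.equiv Q).surjective
  have ha : a ∈ Q := hQ (Subgroup.mem_sup_left (Subgroup.mem_zpowers a))
  have hb : b ∈ Q := hQ (Subgroup.mem_sup_right (Subgroup.mem_zpowers b))
  classical
  haveI := Fintype.ofFinite Q
  have := (Finset.card_le_card (s := {1, ⟨a, ha⟩, ⟨b, hb⟩, ⟨a * b, mul_mem ha hb⟩}) (by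
    simp only [Finset.insert_subset_iff, Finset.singleton_subset_iff, Finset.mem_filter, Finset.mem_univ, true_and]
    exact ⟨one_pow 3, Subtype.ext (show a ^ 3 = 1 by decide +kernel), Subtype.ext (show b ^ 3 = 1 by decide +kernel),
      Subtype.ext (show (a * b) ^ 3 = 1 by decide +kernel)⟩)).trans (IsCyclic.card_pow_eq_one_le (α := Q) three_pos)
  have a1 : a ≠ 1 := by decide +kernel
  have b1 : b ≠ 1 := by decide +kernel
  have ab : a ≠ b := by decide +kernel
  have ab1 : a * b ≠ 1 := by decide +kernel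
  rw [Finset.card_insert_of_notMem (by simp [Subtype.ext_iff, a1.symm, b1.symm, ab1.symm]),
    Finset.card_insert_of_notMem (by simp [ab, b1]), Finset.card_pair (by simp [a1])] at this
  omega

/-- Let X be a section of the general linear group GL(5, 2), that is, a quotient of a subgroup of it. If X is isomorphic to PSL(2, 2^n) for some n ≥ 2, to a Suzuki group over the field with 2^(2m+1) elements for some m ≥ 1, or to PSU(3, 2^n) for some n ≥ 2, then X is isomorphic to PSL(2, 4). -/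
theorem result {H : Subgroup (GL (Fin 5) (ZMod 2))}
    {K : Subgroup ↥H} [K.Normal]
    (hX : (∃ (n : ℕ) (F : Type) (_ : Field F) (_ : Fintype F), 2 ≤ n ∧ Fintype.card F = 2 ^ n ∧
        Nonempty (↥H ⧸ K ≃* Matrix.ProjectiveSpecialLinearGroup (Fin 2) F)) ∨
      (∃ (m : ℕ) (F : Type) (_ : Field F) (_ : Fintype F), 1 ≤ m ∧ Fintype.card F = 2 ^ (2 * m + 1) ∧
        Nonempty (↥H ⧸ K ≃* ↥(Cfsg.Lie.Sz F (2 ^ (m + 1))))) ∨
      (∃ (n : ℕ) (F : Type) (_ : Field F) (_ : Fintype F), 2 ≤ n ∧ Fintype.card F = 4 ^ n ∧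
        Nonempty (↥H ⧸ K ≃* Cfsg.PSU 3 F (2 ^ n)))) :
    ∃ (F : Type) (_ : Field F) (_ : Fintype F), Fintype.card F = 4 ∧
      Nonempty (↥H ⧸ K ≃* Matrix.ProjectiveSpecialLinearGroup (Fin 2) F) := by
  have d : Nat.card (H ⧸ K) ∣ 9999360 := card ▸ K.card_quotient_dvd_card.trans H.card_subgroup_dvd_card
  rcases hX with ⟨n, F, _, _, hn, hF, ⟨e⟩⟩ | ⟨m, F, _, _, hm, hF, ⟨e⟩⟩ | ⟨n, F, _, _, hn, hF, ⟨e⟩⟩ <;>
    rw [Nat.card_congr e.toEquiv] at d
  · have g : Nat.gcd 2 (2 ^ n - 1) = 1 := Nat.coprime_two_left.2 (Nat.Even.sub_odd Nat.one_le_two_pow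
      ((Nat.even_pow' (by omega)).2 even_two) odd_one)
    have c := card_PSL2 (F := F)
    rw [hF, g, one_mul] at c
    rw [c] at d
    have : n < 11 := by_contra fun l => absurd (((pow_dvd_pow 2 (not_lt.1 l)).mul_right _).trans d) (by decide)
    interval_cases n <;> try exact absurd d (by decide)
    · exact ⟨F, _, _, hF, ⟨e⟩⟩
    haveI : CharP F 2 := charP_of_card_eq_prime_pow hF
    obtain ⟨x, hx⟩ := (S3532.spec (F := F) 2 (by omega) 9).2 (by simp [hF])
    obtain ⟨y, hy⟩ := QuotientGroup.mk'_surjective K (e.symm x)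
    have : 9 ∣ orderOf y := by rw [← hx, ← e.symm.orderOf_eq, ← hy]; exact orderOf_map_dvd _ _
    exact absurd ((Subgroup.orderOf_coe _).trans (orderOf_pow_orderOf_div (orderOf_pos y).ne' this)) (nine _)
  · rw [(S1163.result hm hF).1] at d
    have : m < 3 := by_contra fun l => absurd ((((pow_dvd_pow 2 (show 11 ≤ (2 * m + 1) * 2 by omega)).trans
      (pow_mul 2 _ 2).dvd).mul_right _).mul_right _ |>.trans d) (by decide)
    interval_cases m <;> exact absurd d (by decide)
  · have c := CfsgH5.card_PSU (CfsgH5.frobq_UF (F := F) (q := 2 ^ n) (by rw [hF, ← pow_mul, mul_comm, pow_mul]; rfl)) (n := 3) (by omega)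
    have d := c ▸ mul_dvd_mul (Nat.gcd_dvd_left 3 _) (mul_dvd_mul_left (2 ^ n + 1) d)
    have : n < 4 := by_contra fun l => absurd (Nat.Coprime.dvd_of_dvd_mul_left (k := 2 ^ 11) (n := 9999360) (m := 3 * (2 ^ n + 1))
      (Nat.Coprime.pow_left _ (Nat.coprime_two_left.2 (Odd.mul (by decide) (((Nat.even_pow' (by omega)).2 even_two).add_one))))
      (mul_assoc 3 _ _ ▸ (((pow_dvd_pow 2 (show 11 ≤ n * 3 by omega)).trans (pow_mul 2 _ 3).dvd).mul_right _).trans d)) (by decide)
    interval_cases n <;> exact absurd d (by decide)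

end Cfsg.Agent.S3179
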