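import Cfsg.Statements.S3184
import Mathlib
import Cfsg.Agent.L0.SCA
import Cfsg.Agent.L0.G3

set_option autoImplicit false
open Cfsg

namespace Cfsg.Agent.S3184

open Cfsg Subgroup CfsgH2 CfsgL0

/-- Let G be a finite group in which the intersection of any two distinct Sylow 2-subgroups is contained in the centre of some Sylow 2-subgroup, and let S be a Sylow 2-subgroup. If C is a nontrivial cyclic characteristic subgroup of S, then the involution of C is central modulo the largest normal subgroup of odd order of G: each of its conjugates has the same image in G/O(G). -/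
theorem result {G : Type*} [Group G] [Finite G]
    (hCI : ∀ S T : Sylow 2 G, S ≠ T → ∃ U : Sylow 2 G,
      (S : Subgroup G) ⊓ (T : Subgroup G) ≤ (Subgroup.center ↥(U : Subgroup G)).map (U : Subgroup G).subtype)
    (S : Sylow 2 G) (C : Subgroup ↥(S : Subgroup G)) (hC : C ≠ ⊥) (hCc : IsCyclic ↥C) (hCh : C.Characteristic)
    (c : ↥(S : Subgroup G)) (hc : c ∈ C) (hc2 : orderOf c = 2) :
    ∀ g : G, (QuotientGroup.mk (s := Cfsg.oddCore G) (g * (c : G) * g⁻¹)) =
      QuotientGroup.mk (s := Cfsg.oddCore G) (c : G) := by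
  have s := syl_top S
  have o : orderOf (c : G) = 2 := by simpa using hc2
  have n : N[(S : Subgroup G)] ≤ C1[(c : G)] := fun n hn => mem_c1.2 (mul_inv_eq_iff_eq_mul.1 (eq_of_orderOf_two
    (isCyclic_map (S : Subgroup G).subtype hCc) (conj_mem_of_norm (norm_le_norm_map_subtype C hn) ⟨c, hc, rfl⟩) ⟨c, hc, rfl⟩
      (by rw [orderOf_conj', o]) o))
  have n1 := le_normalizer.trans n
  obtain ⟨N, n2, n3, n4⟩ := Cfsg.Agent.S0215.result S c o c.2 fun g hg => by
    have n2 : (S : Subgroup G).map (cj g) ≤ C1[g * c * g⁻¹] := centralizer_conj g _ ▸ map_mono n1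
    have s2 := s.map_cj_mem (mem_top g)
    obtain ⟨U, u1, u2, u3⟩ : ∃ U : Subgroup G, Syl 2 U ⊤ ∧ U ≤ C1[(c : G)] ∧ U ≤ C1[g * c * g⁻¹] := by
      obtain ⟨T, t1, t2⟩ := exists_syl_ge (p := 2) (M := C1[g * c * g⁻¹]) (S.2.to_le inf_le_left) (inf_le_right (a := (S : Subgroup G)))
      obtain ⟨T, rfl⟩ := (t1.trans le_top (s2.not_dvd_of_le n2)).exists_top
      by_cases e : S = T
      · exact ⟨S, s, n1, e ▸ t1.le⟩
      obtain ⟨U, hU⟩ := hCI S T e
      rw [map_center_subtype] at hU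
      exact ⟨U, syl_top U, le_cent1_iff.2 (hU ⟨c.2, t2 ⟨c.2, mem_c1_comm.1 (n1 hg)⟩⟩).2,
        le_cent1_iff.2 (hU ⟨hg, t2 ⟨hg, self_mem_cent1 _⟩⟩).2⟩
    obtain ⟨h, h1, h2⟩ := (u1.mono u2 le_top).conj (s.mono n1 le_top)
    obtain ⟨k, k1, k2⟩ := (s2.mono n2 le_top).conj (u1.mono u3 le_top)
    rw [← k2, map_cj_cj, map_cj_cj, map_cj_eq_iff] at h2
    calc _ = g * c * g⁻¹ * k * k⁻¹ := by group
      _ = h⁻¹ * (h * k * g * c) * (k * g)⁻¹ := by rw [← mem_c1.1 k1]; group
      _ = h⁻¹ * (c * h) := by rw [mem_c1.1 (n h2)]; group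
      _ = _ := by rw [← mem_c1.1 h1]; group
  intro g
  rw [eq_comm, QuotientGroup.eq]
  convert le_pPrimeCore (p := 2) (Nat.two_dvd_ne_zero.2 (Nat.odd_iff.1 n3)) (n2.conj_mem _ (inv_mem (n4 g)) (c : G)⁻¹) using 1
  group

end Cfsg.Agent.S3184
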