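import Cfsg.Statements.S4160
import Mathlib
import Cfsg.Agent.L0.G3

set_option autoImplicit false
open Cfsg

namespace Cfsg.Agent.S4160

open Cfsg Subgroup CfsgH2 CfsgL0

/-- Let G be a finite group and p ≠ q primes each dividing the size of some conjugacy class of G, such that no conjugacy class size is divisible by pq. Then G has a normal p-complement or a normal q-complement. -/
theorem result {G : Type*} [Group G] [Finite G] (p q : ℕ) (hp : p.Prime) (hq : q.Prime) (hpq : p ≠ q)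
    (hp' : ∃ x : G, p ∣ (Subgroup.centralizer ({x} : Set G)).index) (hq' : ∃ x : G, q ∣ (Subgroup.centralizer ({x} : Set G)).index) (h : ∀ x : G, ¬ p * q ∣ (Subgroup.centralizer ({x} : Set G)).index) :
    Cfsg.HasNormalPComplement p G ∨ Cfsg.HasNormalPComplement q G := by
  haveI := Fact.mk hp
  haveI := Fact.mk hq
  obtain ⟨P, hP⟩ := exists_syl p (⊤ : Subgroup G)
  obtain ⟨Q, hQ⟩ := exists_syl q (⊤ : Subgroup G)
  by_contra! c
  have k : ∀ R : Subgroup G, ¬ ⊤ ⊓ N[R] ≤ C[R] → 2 * {x | ∃ g, g * x * g⁻¹ ∈ C[R]}.ncard ≤ Nat.card G :=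
    fun R hR => by
      have h1 := two_conj_cover (norm_le_norm_cent R)
      rw [← card_mul_relIndex (cent_le_norm R), mul_comm, mul_comm (Nat.card G), mul_assoc] at h1
      refine (Nat.mul_le_mul_right _ ?_).trans (Nat.le_of_mul_le_mul_left h1 Nat.card_pos)
      exact lt_of_le_of_ne (relIndex_pos _ _) fun e => hR (inf_le_right.trans (relIndex_eq_one.1 e.symm))
  have h1 := k P fun e => c.1 (npc_top_iff.2 (hP.npc_of_norm_le_cent e))
  have h2 := k Q fun e => c.2 (npc_top_iff.2 (hQ.npc_of_norm_le_cent e))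
  have h3 := Set.ncard_union_add_ncard_inter {x | ∃ g, g * x * g⁻¹ ∈ C[P]} {x | ∃ g, g * x * g⁻¹ ∈ C[Q]}
  rw [Set.eq_univ_of_forall (s := _ ∪ _) fun x => ?_, Set.ncard_univ] at h3
  · have := (Set.ncard_pos (s := {x | ∃ g, g * x * g⁻¹ ∈ C[P]} ∩ {x | ∃ g, g * x * g⁻¹ ∈ C[Q]})).2
      ⟨1, ⟨1, by simp⟩, 1, by simp⟩
    omega
  by_cases e : p ∣ cs[x]
  · exact .inr ((hQ.exists_conj_cent (relIndex_top_right C1[x] ▸ fun e' => h x
      (((Nat.coprime_primes hp hq).2 hpq).mul_dvd_of_dvd_of_dvd e e'))).imp fun _ h => h.2)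
  · exact .inl ((hP.exists_conj_cent (relIndex_top_right C1[x] ▸ e)).imp fun _ h => h.2)

end Cfsg.Agent.S4160
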