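import Cfsg.Statements.S3222
import Mathlib
import Cfsg.Agent.L0.ZS4
import Cfsg.Agent.H3.Burnside

set_option autoImplicit false
open Cfsg

namespace Cfsg.Agent.S3222

open Subgroup CfsgH2 CfsgL0

/-- Let G be a finite group of even order such that (1) some involution t lying in the centre of a Sylow 2-subgroup of G has C_G(t) ≅ Z₂ × S₄, and (2) every Sylow 2-subgroup S of G satisfies C_G(S′) = S, where S′ is the derived subgroup of S. Then G = C_G(t) if G is solvable, and G ≅ S₆ otherwise. -/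
theorem result {G : Type*} [Group G] [Finite G] (hev : Even (Nat.card G))
    (t : G) (ht : orderOf t = 2) (T : Sylow 2 G) (htT : t ∈ (T : Subgroup G)) (htc : ∀ s ∈ (T : Subgroup G), s * t = t * s)
    (e : ↥(Subgroup.centralizer ({t} : Set G)) ≃* (Multiplicative (ZMod 2) × Equiv.Perm (Fin 4)))
    (h2 : ∀ S : Sylow 2 G, Subgroup.centralizer ((⁅(S : Subgroup G), (S : Subgroup G)⁆ : Subgroup G) : Set G) = (S : Subgroup G)) :
    (Group.IsSolvable G → Subgroup.centralizer ({t} : Set G) = ⊤) ∧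
      (¬ Group.IsSolvable G → Nonempty (G ≃* Equiv.Perm (Fin 6))) := by
  obtain ⟨f, h, rfl⟩ := ZS.of ht (syl_top T) (fun s hs => mem_centralizer_singleton_iff.2 (htc s hs)) e
    fun S hS => by obtain ⟨Q, rfl⟩ := hS.exists_top; exact h2 Q
  rcases h.main with h1 | ⟨⟨h1⟩⟩
  · have h3 : C1[f Q48.t] = ⊤ := eq_top_iff.2 fun g _ => mem_centralizer_singleton_iff.2 (mem_center_iff.1 h1 g)
    refine ⟨fun _ => h3, fun n => absurd (CfsgH3.burnside_paqb 2 3 4 1 Nat.prime_two Nat.prime_three ?_) n⟩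
    rw [← card_top, ← h3, Nat.card_congr e.toEquiv, Q48.card]; norm_num
  · refine ⟨fun s => absurd (Group.isSolvable_of_surjective (f := h1.toMonoidHom) h1.surjective)
      (Equiv.Perm.not_isSolvable _ (by rw [Cardinal.mk_fin]; norm_cast)), fun _ => ⟨h1⟩⟩

end Cfsg.Agent.S3222
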