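import Cfsg.Statements.S3261
import Mathlib
import Cfsg.Agent.L0.D8E

set_option autoImplicit false
open Cfsg

namespace Cfsg.Agent.S3261

open Subgroup CfsgH2 CfsgL0 Equiv

def t0 : alternatingGroup (Fin 6) := ⟨swap 0 1 * swap 2 3, Perm.mem_alternatingGroup.2 (by decide +kernel)⟩
def s0 : alternatingGroup (Fin 6) := ⟨swap 0 1 * swap 4 5, Perm.mem_alternatingGroup.2 (by decide +kernel)⟩
def r0 : alternatingGroup (Fin 6) := ⟨swap 0 1 * swap 0 2 * swap 1 3 * swap 4 5, Perm.mem_alternatingGroup.2 (by decide +kernel)⟩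

theorem aux : Nonempty (C1[t0] ≃* DihedralGroup 4) := by
  have h1 : orderOf r0 = 4 := by
    rw [show 4 = 2 ^ (1 + 1) from rfl]
    exact orderOf_eq_prime_pow (by decide +kernel) (by decide +kernel)
  have h2 : ∀ σ : Perm (Fin 6), σ * t0.1 = t0.1 * σ → Perm.sign σ = 1 →
      ∃ k : Fin 4, σ = r0.1 ^ k.1 ∨ σ = s0.1 * r0.1 ^ k.1 := by decide +kernel
  have h3 : C1[t0] = closure {s0, r0} := by
    refine le_antisymm (fun σ hσ => ?_) ((closure_le _).2 ?_)
    · have m1 : s0 ∈ closure {s0, r0} := subset_closure (by simp)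
      have m2 : r0 ∈ closure {s0, r0} := subset_closure (by simp)
      obtain ⟨k, e | e⟩ := h2 σ (congrArg Subtype.val (mem_centralizer_singleton_iff.1 hσ)) σ.2
      · exact (Subtype.ext e : σ = r0 ^ k.1) ▸ pow_mem m2 _
      · exact (Subtype.ext e : σ = s0 * r0 ^ k.1) ▸ mul_mem m1 (pow_mem m2 _)
    · rintro _ (rfl | rfl)
      all_goals exact mem_centralizer_singleton_iff.2 (by decide +kernel)
  rw [h3, ← h1]
  refine dihedral_iso s0 r0 (by decide +kernel) (by decide +kernel) fun h => ?_
  rw [mem_zpowers_iff_mem_range_orderOf, h1] at h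
  revert h
  decide +kernel

/-- Let α̃ be an involution of the alternating group A₆ that is a product of two disjoint transpositions (it lies in the centre of a Sylow 2-subgroup of A₆; its centralizer is dihedral of order 8). Let G be a finite group that has no subgroup of index 2 and contains an involution α, central in some Sylow 2-subgroup of G, with C_G(α) ≅ C_{A₆}(α̃). Then G is isomorphic to A₆ or to PSL₂(7). -/
theorem result {G : Type*} [Group G] [Finite G]
    (hG : ∀ H : Subgroup G, H.index ≠ 2)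
    (αt : ↥(alternatingGroup (Fin 6))) (hαt : orderOf αt = 2) (hsupp : (αt : Equiv.Perm (Fin 6)).support.card = 4)
    (α : G) (hα : orderOf α = 2) (S : Sylow 2 G) (hαS : α ∈ (S : Subgroup G)) (hαc : ∀ s ∈ (S : Subgroup G), s * α = α * s)
    (e : ↥(Subgroup.centralizer ({α} : Set G)) ≃* ↥(Subgroup.centralizer ({αt} : Set ↥(alternatingGroup (Fin 6))))) :
    Nonempty (G ≃* ↥(alternatingGroup (Fin 6))) ∨
      (∃ (F : Type) (_ : Field F) (_ : Fintype F), Fintype.card F = 7 ∧ Nonempty (G ≃* Matrix.ProjectiveSpecialLinearGroup (Fin 2) F)) := by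
  have h1 : IsConj t0.1 αt.1 := by
    rw [Perm.isConj_iff_cycleType_eq]
    have h2 : orderOf αt.1 = 2 := by rw [orderOf_coe, hαt]
    obtain ⟨n, hn⟩ := Perm.cycleType_prime_order (h2 ▸ Nat.prime_two)
    rw [← Perm.sum_cycleType, hn, h2, Multiset.sum_replicate, smul_eq_mul] at hsupp
    rw [hn, h2, show n = 1 by omega]
    decide +kernel
  obtain ⟨g, hg⟩ := isConj_iff.1 h1
  have h2 : C1[t0].map (MulAut.conjNormal g).toMonoidHom = C1[αt] := by
    ext x
    rw [mem_map_equiv, mem_centralizer_singleton_iff, mem_centralizer_singleton_iff,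
      show αt = MulAut.conjNormal g t0 from Subtype.ext hg.symm, ← (MulAut.conjNormal g).injective.eq_iff]
    simp
  rcases d8_main hα (e.trans ((MulEquiv.subgroupCongr h2.symm).trans
    (((MulAut.conjNormal g).subgroupMap C1[t0]).symm.trans aux.some))) with ⟨_, h | h⟩ | ⟨⟨H, hH⟩, -⟩
  · have : Fact (Nat.Prime 7) := ⟨by norm_num⟩
    exact .inr ⟨ZMod 7, inferInstance, inferInstance, by simp, CfsgH8.Za.psl_168 h _ (by simp)⟩
  · exact .inl (a6_360 h)
  · exact absurd hH (hG H)

end Cfsg.Agent.S3261
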