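import Cfsg.Statements.S3278
import Mathlib
import Cfsg.Agent.L0.K4A

set_option autoImplicit false
open Cfsg

namespace Cfsg.Agent.S3278

open Subgroup CfsgH2 CfsgL0

/-- Let G be a finite simple group with an involution x such that a Sylow 2-subgroup of C_G(x) is a Klein four-group which is normal in C_G(x). Then G is isomorphic to the alternating group of degree 5 (that is, to PSL(2, 5)). -/
theorem result {G : Type*} [Group G] [Finite G] [IsSimpleGroup G] (x : G) (hx : orderOf x = 2)
    (S₀ : Subgroup G) (hle : S₀ ≤ Subgroup.centralizer ({x} : Set G)) (hK : IsKleinFour ↥S₀)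
    (hodd : ¬ 2 ∣ S₀.relIndex (Subgroup.centralizer ({x} : Set G))) (hn : (S₀.subgroupOf (Subgroup.centralizer ({x} : Set G))).Normal) :
    Nonempty (G ≃* ↥(alternatingGroup (Fin 5))) := by
  have hk := k4_iff.1 hK
  have s : Syl 2 S₀ C1[x] := ⟨hle, hk.pg, hodd⟩
  have n : C1[x] ≤ N[S₀] := (normal_subgroupOf_iff_le_normalizer hle).1 hn
  have x1 := inv_ne_one hx
  have xS : x ∈ S₀ := s.mem_of_norm n (self_mem_cent1 x) (k := 1) (by rw [pow_one, ← hx, pow_orderOf_eq_one])
  have h4 : 4 ∣ Nat.card G := hk.1 ▸ card_subgroup_dvd_card S₀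
  have ns := (simple_even_facts (G := G) (even_iff_two_dvd.2 (dvd_trans (by norm_num) h4))
    (lt_of_lt_of_le (by norm_num) (Nat.le_of_dvd Nat.card_pos h4))).2.2
  have np : ¬ PG[2, (⊤ : Subgroup G)] := fun h => by
    have := (isPGroup_top_iff.1 h).isNilpotent
    exact ns inferInstance
  rcases k4_syl_or hk xS x1 s n with t | ⟨z, hz, z1, -, h⟩
  · refine k4_a5 t hk (fun h => ?_) xS hx (relIndex_eq_one.1 ?_) ?_
    · have e := h.sup_eq t
      rcases (normal_of_top_le_norm (le_norm_piCoreOf (π := {2}ᶜ) (M := (⊤ : Subgroup G)))).eq_bot_or_eq_top with e1 | e1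
      · rw [e1, bot_sup_eq] at e
        exact np (e ▸ hk.pg)
      · have := piN_piCoreOf (π := {2}ᶜ) (M := (⊤ : Subgroup G))
        rw [e1, card_top] at this
        exact this 2 Nat.prime_two (dvd_trans (by norm_num) h4) rfl
    · have h1 := hk.le_two n xS x1 le_rfl
      have h2 := s.not_dvd_of_le (le_cent_self hk.ab)
      have h3 := CfsgH2.relIndex_pos C[S₀] C1[x]
      omega
    · refine (normalCore_normal _).eq_bot_or_eq_top.resolve_right fun e => ?_
      rcases (normal_of_top_le_norm (e ▸ normalCore_le _)).eq_bot_or_eq_top with e1 | e1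
      · exact x1 (e1.le xS)
      · exact np (e1 ▸ hk.pg)
  · rcases (normalClosure_normal (s := ({z} : Set G))).eq_bot_or_eq_top with e | e
    · exact absurd (e.le (subset_normalClosure rfl)) z1
    · exact absurd (isPGroup_of_exp fun a ha => by rw [pow_two, ncl_ea (hk.2 z hz) h a (e ▸ ha)]) np

end Cfsg.Agent.S3278
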