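import Cfsg.Statements.S3279
import Mathlib
import Cfsg.Agent.L0.SCA
import Cfsg.Agent.L0.G3
import Cfsg.Agent.L0.Isolated
import Cfsg.Agent.S0208
import Cfsg.Agent.S0209
import Cfsg.Agent.H1.KW

set_option autoImplicit false
open Cfsg

namespace Cfsg.Agent.S3279

open Cfsg Subgroup CfsgH2 CfsgL0

/-- Let G be a finite simple group and x an involution of G whose centralizer contains at most three involutions. Then C_G(x) contains a Sylow 2-subgroup of G, and all involutions of G are conjugate. -/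
theorem result {G : Type*} [Group G] [Finite G] [IsSimpleGroup G] (x : G) (hx : orderOf x = 2)
    (h3 : Nat.card {u : ↥(Subgroup.centralizer ({x} : Set G)) // orderOf u = 2} ≤ 3) :
    (∃ S : Sylow 2 G, (S : Subgroup G) ≤ Subgroup.centralizer ({x} : Set G)) ∧
      ∀ u v : G, orderOf u = 2 → orderOf v = 2 → IsConj u v := by
  have cen : ∀ z : G, orderOf z = 2 → z ∈ center G → ∀ u : G, orderOf u = 2 → u = z := fun z hz hc u hu => by
    have : (zpowers z).Normal := top_le_norm_iff.1 (le_norm_of_le_cent (le_centralizer_iff.1 (cent_top (G := G) ▸ zpowers_le.2 hc)))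
    have e := this.eq_bot_or_eq_top.resolve_left (by rw [zpowers_eq_bot]; rintro rfl; simp at hz)
    exact eq_of_orderOf_two (C := zpowers z) inferInstance (e.ge (mem_top u)) (mem_zpowers z) hu hz
  have P : ∀ g u v w : G, u ∈ C1[g * x * g⁻¹] → v ∈ C1[g * x * g⁻¹] → w ∈ C1[g * x * g⁻¹] → orderOf u = 2 → orderOf v = 2 →
      orderOf w = 2 → u ≠ g * x * g⁻¹ → v ≠ g * x * g⁻¹ → u ≠ v → w = g * x * g⁻¹ ∨ w = u ∨ w = v := by
    intro g u v w hu hv hw ou ov ow n1 n2 n3
    by_contra! n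
    rw [centralizer_conj, mem_map_cj] at hu hv hw
    have o : ∀ a : G, orderOf a = 2 → ∀ h : g⁻¹ * a * g ∈ C1[x], orderOf (⟨_, h⟩ : C1[x]) = 2 := fun a ha h => by
      simpa [ha] using orderOf_conj' g⁻¹ a
    have := Nat.card_le_card_of_injective (α := Fin 4) (β := {u : C1[x] // orderOf u = 2})
      ![⟨⟨x, self_mem_cent1 x⟩, by simpa using hx⟩, ⟨_, o u ou hu⟩, ⟨_, o v ov hv⟩, ⟨_, o w ow hw⟩] (by
        have k : ∀ a, a ≠ g * x * g⁻¹ → g⁻¹ * a * g ≠ x := fun a h e => h (by rw [← e]; group)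
        have k1 := k u n1; have k2 := k v n2; have k3 := k w n.1
        intro i j e
        fin_cases i <;> fin_cases j <;> simp_all [eq_comm])
    simp at this
    omega
  have key : ∀ t : G, orderOf t = 2 → IsConj x t := by
    intro t ht
    by_contra n
    by_cases iso : IsIsolatedInvolution x
    · obtain ⟨S, s, hS⟩ := exists_syl_ge (p := 2) (M := ⊤) (CfsgH2.isPGroup_zpowers (k := 1) (x := x)
        (by rw [pow_one, ← hx, pow_orderOf_eq_one])) le_top
      obtain ⟨S, rfl⟩ := s.exists_top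
      obtain ⟨N, n1, n2, n3⟩ := Cfsg.Agent.S0215.result S x hx (hS (mem_zpowers x)) fun g hg =>
        isolated_eq_of_mem iso (isConj_iff.2 ⟨g, rfl⟩) (IsConj.refl x) S.2 hg (hS (mem_zpowers x))
      rcases n1.eq_bot_or_eq_top with rfl | rfl
      · refine n (cen x hx (mem_center_iff.2 fun g => ?_) t ht ▸ IsConj.refl _)
        have := mem_bot.1 (n3 g)
        rw [mul_assoc, ← mul_inv_rev, mul_inv_eq_one] at this
        exact this.symm
      · exact Nat.not_even_iff_odd.2 n2 (even_iff_two_dvd.2 (hx ▸ orderOf_dvd_of_mem (mem_top x)))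
    simp only [IsIsolatedInvolution, hx, true_and, not_forall] at iso
    obtain ⟨g, c, ne⟩ := iso
    have oy : orderOf (g * x * g⁻¹) = 2 := by rw [orderOf_conj', hx]
    have x2 : x * x = 1 := by rw [← sq, ← hx, pow_orderOf_eq_one]
    have y2 := conj_mul_self x2 g
    generalize hy : g * x * g⁻¹ = y at c ne oy y2
    have oz : orderOf (x * y) = 2 := orderOf_eq_prime (by rw [c.mul_pow, sq, sq, x2, y2, one_mul]) fun e =>
      ne (by rw [← one_mul y, ← x2, mul_assoc, e, mul_one])
    have z1 : x * y ≠ x := fun e => by simp [mul_eq_left.1 e] at oy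
    have z2 : x * y ≠ y := fun e => by simp [mul_eq_right.1 e] at hx
    have k : ∀ t : G, orderOf t = 2 → ¬ IsConj x t → t ∈ C1[x * y] := fun t ht n => by
      have t1 : t ≠ x := fun e => n (e ▸ IsConj.refl _)
      have t2 : t ≠ y := fun e => n (isConj_iff.2 ⟨g, hy.trans e.symm⟩)
      obtain ⟨c1, c2, c3⟩ := Cfsg.Agent.S0209.result x t hx ht (Nat.not_odd_iff_even.1 fun h => by
        obtain ⟨d, -, hd⟩ := Cfsg.Agent.S0208.result x t hx ht h
        exact n (isConj_iff.2 ⟨d, hd⟩))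
      have P1 := P 1
      have P2 := P g
      simp only [one_mul, inv_one, mul_one, hy] at P1 P2
      have m1 : x * y ∈ C1[x] := mul_mem (self_mem_cent1 x) (mem_c1.2 c.symm)
      rcases P1 y _ _ (mem_c1.2 c.symm) m1 (mem_c1.2 c2) oy oz c1 ne z1 z2.symm with e | e | e <;> rw [e] at c3
      · exact ((P1 y _ t (mem_c1.2 c.symm) m1 (mem_c1.2 c3.symm) oy oz ht ne z1 z2.symm).resolve_left t1).resolve_left t2 ▸
          self_mem_cent1 _
      · exact ((P2 x _ t (mem_c1.2 c) (mul_mem (mem_c1.2 c) (self_mem_cent1 y)) (mem_c1.2 c3.symm) hx oz ht (Ne.symm ne) z2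
          z1.symm).resolve_left t2).resolve_left t1 ▸ self_mem_cent1 _
      · exact mem_c1.2 c3.symm
    have e := (normalClosure_normal (s := {t})).eq_bot_or_eq_top.resolve_left fun e => by
      simp [mem_bot.1 (e.le (subset_normalClosure rfl))] at ht
    refine z1 (cen _ oz (c1_eq_top.1 (top_le_iff.1 (e.ge.trans ((closure_le _).2 fun u hu => ?_)))) x hx).symm
    obtain ⟨a, rfl, h⟩ := Group.mem_conjugatesOfSet_iff.1 hu
    exact k u (by obtain ⟨d, rfl⟩ := isConj_iff.1 h; rw [orderOf_conj', ht]) fun h' => n (h'.trans h.symm)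
  refine ⟨?_, fun u v hu hv => (key u hu).symm.trans (key v hv)⟩
  obtain ⟨S, s⟩ := exists_syl 2 (⊤ : Subgroup G)
  obtain ⟨z, z1, z2⟩ := CfsgH1.exists_center_prime (nil_of_pg s.pg) Nat.prime_two
    (s.dvd_card (hx ▸ orderOf_dvd_of_mem (mem_top x)))
  obtain ⟨g, rfl⟩ := isConj_iff.1 (key z z2).symm
  obtain ⟨T, e⟩ := (s.map_cj_mem (mem_top g)).exists_top
  exact ⟨T, e ▸ centralizer_conj g z ▸ map_mono (le_cent1_iff.2 z1.2)⟩

end Cfsg.Agent.S3279
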