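import Cfsg.Statements.S3333
import Mathlib
import Cfsg.Agent.L0.D8f

set_option autoImplicit false
open Cfsg

namespace Cfsg.Agent.S3333

open CfsgL0 Subgroup CfsgH2 Cfsg
open scoped commutatorElement

/-- Let G be a finite group with a Sylow 3-subgroup S of order 9 that is its own centralizer, with N_G(S)/S dihedral of order 8, and such that C_G(x) ≤ N_G(S) for every non-identity x in S. Then S is normal in G or G is isomorphic to the symmetric group of degree 6. -/
theorem result {G : Type*} [Group G] [Finite G]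
    (P : Sylow 3 G) (S : Subgroup G) (hSP : S = P) (hcard : Nat.card S = 9)
    (hC : Subgroup.centralizer (S : Set G) = S)
    (eN : Subgroup.normalizer (S : Set G) ⧸ S.subgroupOf (Subgroup.normalizer (S : Set G)) ≃* DihedralGroup 4)
    (hcent : ∀ x ∈ S, x ≠ 1 → Subgroup.centralizer ({x} : Set G) ≤ Subgroup.normalizer (S : Set G)) :
    S.Normal ∨ Nonempty (G ≃* Equiv.Perm (Fin 6)) := by
  have := Fintype.ofFinite G
  have : Fact (Nat.Prime 3) := ⟨by norm_num⟩
  have h : TI3 S := by
    refine ⟨hSP ▸ syl_top P, fun x hx => by_contra fun n => ?_, hC, hcent⟩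
    have : IsCyclic S := by
      obtain ⟨c, hc, e⟩ := (Nat.dvd_prime_pow Nat.prime_three (m := 2)).1 (hcard ▸ orderOf_dvd_natCard (⟨x, hx⟩ : S))
      refine isCyclic_of_orderOf_eq_card ⟨x, hx⟩ ?_
      rw [orderOf_mk] at e ⊢
      interval_cases c
      exacts [(n (orderOf_dvd_iff_pow_eq_one.1 (by simp [e]))).elim, (n (orderOf_dvd_iff_pow_eq_one.1 (by simp [e]))).elim,
        e.trans hcard.symm]
    obtain ⟨a, ha⟩ := QuotientGroup.mk_surjective (eN.symm (.r 1))
    obtain ⟨b, hb⟩ := QuotientGroup.mk_surjective (eN.symm (.sr 0))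
    have k := (QuotientGroup.eq_one_iff (N := S.subgroupOf (normalizer (S : Set G))) ⁅a, b⁆).2 (hC.le (commutator_norm_le_cent_of_cyclic this
      (commutator_mem_commutator a.2 b.2)))
    rw [← QuotientGroup.mk'_apply, map_commutatorElement, QuotientGroup.mk'_apply, QuotientGroup.mk'_apply, ha, hb,
      ← map_commutatorElement, map_eq_one_iff _ eN.symm.injective] at k
    exact absurd k (by decide)
  obtain ⟨Q⟩ := (inferInstance : Nonempty (Sylow 2 (normalizer (S : Set G))))
  have c8 : Nat.card (normalizer (S : Set G) ⧸ S.subgroupOf (normalizer (S : Set G))) = 8 := by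
    rw [Nat.card_congr eN.toEquiv, DihedralGroup.nat_card]
  have c72 : Nat.card (normalizer (S : Set G)) = 72 := by
    rw [← card_mul_relIndex (le_normalizer (H := S)), hcard, relIndex, index, c8]
  have cQ : Nat.card Q = 8 := by
    rw [Q.card_eq_multiplicity, c72, (by norm_num : 72 = 2 ^ 3 * 9), Nat.factorization_mul (by norm_num) (by norm_num),
      Nat.factorization_pow]
    simp [Nat.prime_two.factorization, Nat.factorization_eq_zero_of_not_dvd]
  let φ := (QuotientGroup.mk' (S.subgroupOf (normalizer (S : Set G)))).comp (Q : Subgroup _).subtype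
  have b : Function.Bijective φ := (Nat.bijective_iff_injective_and_card φ).2 ⟨(injective_iff_map_eq_one φ).2 fun x hx => by
    have h1 := h.ex _ ((QuotientGroup.eq_one_iff x.1).1 hx)
    have h2 : x ^ 8 = 1 := cQ ▸ pow_card_eq_one'
    have h3 : x ^ 3 = 1 := Subtype.ext (Subtype.ext h1)
    simpa using pow_gcd_eq_one.2 ⟨h2, h3⟩, cQ.trans c8.symm⟩
  obtain ⟨f, inj, rg, mT⟩ := d8_hom' h hcard Q ((MulEquiv.ofBijective φ b).trans eN)
  exact d8_s6 h hcard f inj rg mT

end Cfsg.Agent.S3333
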