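import Cfsg.Statements.S3341
import Mathlib
import Cfsg.Agent.L0.T3
import Cfsg.Agent.L0.TwoF

set_option autoImplicit false
open Cfsg

namespace Cfsg.Agent.S3341

open Subgroup CfsgH2 CfsgL0

/-- Let G be a finite simple group whose Sylow 3-subgroup S is elementary abelian of order 9, such that G has more than one conjugacy class of elements of order 3 and C_G(s) = S for every non-identity s in S. Then G is isomorphic to the alternating group of degree 6. -/
theorem result {G : Type*} [Group G] [Finite G] [IsSimpleGroup G]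
    (P : Sylow 3 G) (S : Subgroup G) (hSP : S = P) (hcomm : IsMulCommutative S) (hexp : ∀ a ∈ S, a ^ 3 = 1)
    (hcard : Nat.card S = 9)
    (hclasses : ∃ a b : G, orderOf a = 3 ∧ orderOf b = 3 ∧ ∀ g : G, g * a * g⁻¹ ≠ b)
    (hcent : ∀ s ∈ S, s ≠ 1 → Subgroup.centralizer ({s} : Set G) = S) :
    Nonempty (G ≃* alternatingGroup (Fin 6)) := by
  subst hSP
  obtain ⟨a, b, ha, hb, n⟩ := hclasses
  obtain ⟨x, hx, e1⟩ := exists_isConj_mem (k := 1) (syl_top P) ha
  obtain ⟨y, hy, e2⟩ := exists_isConj_mem (k := 1) (syl_top P) hb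
  have k {x a : G} (hx : x ∈ (P : Subgroup G)) (ha : orderOf a = 3) (e : IsConj x a) : (⟨x, hx⟩ : (P : Subgroup G)) ≠ 1 :=
    fun h => by
      obtain rfl : x = 1 := congrArg Subtype.val h
      rw [isConj_one_right.1 e, orderOf_one] at ha; omega
  exact a6_360 (cc9 hcent (syl_top P) hexp hcard (k hx ha e1) (k hy hb e2) fun e =>
    let ⟨g, hg⟩ := isConj_iff.1 (e1.symm.trans (e.trans e2)); n g hg)

end Cfsg.Agent.S3341
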