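import Cfsg.Statements.S3390
import Mathlib
import Cfsg.Agent.H4.Ssm
import Cfsg.Agent.L0.Fus1
import Cfsg.Agent.S3224

set_option autoImplicit false
open Cfsg

open Subgroup CfsgH1 MulAction Pointwise
open scoped commutatorElement

namespace Cfsg.Agent.S3390

theorem dq {G : Type*} [Group G] [Finite G] {P : Subgroup G} (hP : IsPGroup 2 P) {t : G} (ht : t ∈ P)
    (h1 : t ≠ 1) (h2 : t ^ 2 = 1) (hc : Nat.card (centralizer ({t} : Set G) ⊓ P : Subgroup G) = 4)
    (h4 : Nat.card P = 4 → ∀ y ∈ P, y ^ 2 = 1) :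
    (∃ n : ℕ, Nonempty (↥P ≃* DihedralGroup n)) ∨ IsQuasiDihedral ↥P := by
  have e : centralizer ({(⟨t, ht⟩ : P)} : Set P) = (centralizer ({t} : Set G)).subgroupOf P := by
    ext y
    rw [mem_subgroupOf, mem_centralizer_singleton_iff, mem_centralizer_singleton_iff, Subtype.ext_iff]; rfl
  rcases Cfsg.Agent.S3224.result hP ⟨t, ht⟩ (orderOf_eq_prime (Subtype.ext h2) fun e => h1 (congrArg Subtype.val e))
    (by rw [e, card_subgroupOf, hc]) with h | h | h
  · exact .inl h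
  · exact .inr h
  · haveI : Nontrivial P := ⟨⟨t, ht⟩, 1, fun e => h1 (congrArg Subtype.val e)⟩
    haveI : IsKleinFour P := ⟨h, (Monoid.exponent_eq_prime_iff Nat.prime_two).2 fun y hy =>
      orderOf_eq_prime (Subtype.ext (h4 h y y.2)) hy⟩
    exact .inl ⟨2, IsKleinFour.nonempty_mulEquiv⟩

theorem idx {G : Type*} [Group G] [Finite G] (S : Sylow 2 G) {M : Subgroup G} (hM : M.relIndex S = 2)
    (h : ∀ x ∈ (S : Subgroup G), ∀ u : G, u * x * u⁻¹ ∈ (S : Subgroup G) → x ∈ M → u * x * u⁻¹ ∈ M) :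
    ∃ N : Subgroup G, N.Normal ∧ N.index = 2 ∧ ∀ x ∈ (S : Subgroup G), x ∈ N ↔ x ∈ M := by
  have hf : (S : Subgroup G).focalSubgroupOf ≤ M.subgroupOf S := by
    rw [focalSubgroupOf_eq_closure, closure_le]
    rintro g ⟨x, hx, u, e⟩
    have a1 : u * x * u⁻¹ ∈ (S : Subgroup G) := by
      have := mul_mem (inv_mem g.2) hx
      rwa [e, show ⁅x, u⁆⁻¹ * x = u * x * u⁻¹ by rw [commutatorElement_def]; group] at this
    have a2 : g = (⟨x, hx⟩ : S) * (⟨_, a1⟩ : S)⁻¹ := Subtype.ext (by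
      rw [e, commutatorElement_def]; simp [mul_assoc])
    rw [SetLike.mem_coe, a2, mul_mem_iff_of_index_two hM, inv_mem_iff]
    exact ⟨h x hx u a1, fun e => mem_subgroupOf.2 (by simpa [mul_assoc] using h _ a1 u⁻¹ (by simpa [mul_assoc] using hx) e)⟩
  refine ⟨((M.subgroupOf S).map (QuotientGroup.mk' (S : Subgroup G).focalSubgroupOf)).comap
    (S : Subgroup G).transferFocal, inferInstance, ?_, fun x hx => ?_⟩
  · rw [index_comap_of_surjective _ (transferFocal_surjective S), index_map_mk', sup_eq_left.2 hf]; exact hM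
  · rw [mem_comap, show x = ((⟨x, hx⟩ : S) : G) from rfl, transferFocal_eq_pow, ← QuotientGroup.mk_pow]
    change (⟨x, hx⟩ : S) ^ _ ∈ ((M.subgroupOf S).map (QuotientGroup.mk' _)).comap (QuotientGroup.mk' _) ↔ _
    rw [comap_map_eq_self (by rwa [QuotientGroup.ker_mk'])]
    obtain ⟨k, hk⟩ := Nat.odd_iff.2 (Nat.two_dvd_ne_zero.1 S.not_dvd_index)
    rw [hk, pow_succ, pow_mul, mul_mem_cancel_left (pow_mem (sq_mem_of_index_two hM _) k)]
    rfl

/-- Let G be a finite group acting faithfully and transitively on a finite set Ω with fixity 2 (every non-identity element fixes at most two points, and some fixes exactly two). Let α ∈ Ω and S a Sylow 2-subgroup of G. Then one of the following holds: the stabilizer S_α of α in S is trivial; S is dihedral or semidihedral and either |S_α| = 2 or |S : S_α| = 2; |S| ≥ 4, S has exactly one orbit of size 2 on Ω, every other S-orbit is regular, and G has a normal subgroup of index 2 or of index |S| which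 is a Frobenius group; or S ≤ G_α. -/
theorem result {G : Type*} [Group G] [Finite G] {Ω : Type*} [Fintype Ω] [MulAction G Ω] [FaithfulSMul G Ω] (htr : MulAction.IsPretransitive G Ω)
    (hfix : ∀ g : G, g ≠ 1 → Nat.card (MulAction.fixedBy Ω g) ≤ 2) (hex : ∃ g : G, g ≠ 1 ∧ Nat.card (MulAction.fixedBy Ω g) = 2) (α : Ω) (S : Sylow 2 G) :
    (S : Subgroup G) ⊓ MulAction.stabilizer G α = ⊥ ∨
    (((∃ n : ℕ, Nonempty (↥(S : Subgroup G) ≃* DihedralGroup n)) ∨ Cfsg.IsQuasiDihedral ↥(S : Subgroup G)) ∧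
       (Nat.card ↥((S : Subgroup G) ⊓ MulAction.stabilizer G α) = 2 ∨ ((S : Subgroup G) ⊓ MulAction.stabilizer G α).relIndex (S : Subgroup G) = 2)) ∨
    (4 ≤ Nat.card (S : Subgroup G) ∧
       (∃ ω : Ω, Nat.card (MulAction.orbit ↥(S : Subgroup G) ω) = 2 ∧
          ∀ ω' : Ω, ω' ∉ MulAction.orbit ↥(S : Subgroup G) ω → Nat.card (MulAction.orbit ↥(S : Subgroup G) ω') = Nat.card (S : Subgroup G)) ∧
       ∃ N : Subgroup G, N.Normal ∧ (N.index = 2 ∨ N.index = Nat.card (S : Subgroup G)) ∧ (∃ H : Subgroup ↥N, Cfsg.IsFrobeniusComplement H)) ∨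
    (S : Subgroup G) ≤ MulAction.stabilizer G α := by
  set P := (S : Subgroup G) with hP
  set M := P ⊓ stabilizer G α with hMd
  have h3 : ∀ n : G, n ≠ 1 → ∀ a b c : Ω, n • a = a → n • b = b → n • c = c → a ≠ b → c = a ∨ c = b := by
    intro n hn a b c ha hb hc hab
    by_contra hcon
    push Not at hcon
    have : ({a, b, c} : Set Ω).ncard ≤ 2 := (Set.ncard_le_ncard (t := fixedBy Ω n) (by
      rintro _ (rfl | rfl | rfl) <;> assumption)).trans (hfix n hn)
    rw [Set.ncard_eq_three.2 ⟨a, b, c, hab, hcon.1.symm, hcon.2.symm, rfl⟩] at this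
    omega
  by_cases h0 : M = ⊥
  · exact .inl h0
  by_cases h1 : P ≤ stabilizer G α
  · exact .inr (.inr (.inr h1))
  right
  have hMP : M < P := lt_of_le_of_ne inf_le_left fun e => h1 (e ▸ inf_le_right)
  set T := P ⊓ normalizer (M : Set G) with hT
  obtain ⟨x, hxT, hxM⟩ := SetLike.exists_of_lt (CfsgL0.lt_nI S.isPGroup' le_rfl hMP)
  obtain ⟨m, hm, hm1⟩ := (M.bot_or_exists_ne_one).resolve_left h0
  have fx : ∀ y ∈ T, ∀ m ∈ M, m • y • α = y • α := fun y hy m hm => by
    have : (y⁻¹ * m * y) • α = α := (conj_mem_of_mem_normalizer' hy.2 hm).2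
    rw [mul_smul, mul_smul, inv_smul_eq_iff] at this; exact this
  have hβ : α ≠ x • α := fun e => hxM ⟨hxT.1, e.symm⟩
  have back : ∀ y ∈ P, y • α = x • α → x⁻¹ * y ∈ M := fun y hy e =>
    mem_inf.2 ⟨mul_mem (inv_mem (mem_inf.1 hxT).1) hy, by rw [mem_stabilizer_iff, mul_smul, e, inv_smul_smul]⟩
  have hMT : M ≤ T := le_inf inf_le_left le_normalizer
  have i2 : M.relIndex T = 2 := by
    refine index_eq_two_iff_exists_notMem_and'.2 ⟨(⟨x, hxT⟩ : T)⁻¹, fun e => hxM (by simpa [mem_subgroupOf] using inv_mem e), fun y => ?_⟩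
    exact (h3 m hm1 _ _ _ hm.2 (fx x hxT m hm) (fx y y.2 m hm) hβ).symm.imp (back y y.2.1) fun e => ⟨y.2.1, e⟩
  have cT := card_mul_relIndex hMT
  rw [i2] at cT
  by_cases hTP : T ≠ P
  · obtain ⟨g, hg, hgT⟩ := SetLike.exists_of_lt (CfsgL0.lt_nI S.isPGroup' le_rfl (lt_of_le_of_ne inf_le_left hTP))
    have k1 : ∀ m ∈ M, g * m * g⁻¹ ∈ M → m = 1 := fun m hm e => by
      by_contra hne
      rcases h3 (g * m * g⁻¹) (by simpa using hne) _ _ (g • α) e.2 (fx x hxT _ e) (by
        rw [mul_smul, mul_smul, inv_smul_smul, show m • α = α from hm.2]) hβ with e | e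
      · exact hgT (hMT ⟨hg.1, e⟩)
      · exact hgT (by simpa using mul_mem hxT (hMT (back g hg.1 e)))
    have k2 : ∀ m' ∈ M, m' ≠ 1 → m' = m := fun m' hm' hne => by
      have a1 := conj_mem_of_mem_normalizer hg.2 (hMT hm)
      have a2 := conj_mem_of_mem_normalizer hg.2 (hMT hm')
      have a3 := (mul_mem_iff_of_index_two i2 (a := (⟨_, a1⟩ : T)⁻¹) (b := ⟨_, a2⟩)).2 (by
        rw [inv_mem_iff]; exact iff_of_false (fun e => hm1 (k1 m hm e)) fun e => hne (k1 m' hm' e))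
      exact (inv_mul_eq_one.1 (k1 _ (mul_mem (inv_mem hm) hm') (by
        simpa [mem_subgroupOf, mul_assoc] using a3))).symm
    have cM : Nat.card M = 2 := (Nat.card_eq_two_iff' 1).2 ⟨⟨m, hm⟩, fun e => hm1 (congrArg Subtype.val e),
      fun y hy => Subtype.ext (k2 y y.2 fun e => hy (Subtype.ext e))⟩
    have m2 : m ^ 2 = 1 := by
      have := pow_card_eq_one' (x := (⟨m, hm⟩ : M)); rw [cM] at this; exact congrArg Subtype.val this
    have eT : centralizer ({m} : Set G) ⊓ P = T := by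
      ext y
      rw [mem_inf, mem_centralizer_singleton_iff]
      refine ⟨fun ⟨a, b⟩ => ⟨b, mem_normalizer_of_conj_mem fun z hz => ?_⟩, fun ⟨a, b⟩ => ⟨?_, a⟩⟩
      · by_cases e : z = 1
        · simp [e]
        · rw [k2 z hz e, a, mul_inv_cancel_right]; exact hm
      · exact mul_inv_eq_iff_eq_mul.1 (k2 _ (conj_mem_of_mem_normalizer b hm) (by simpa using hm1))
    refine .inl ⟨dq S.isPGroup' hm.1 hm1 m2 (by rw [eT, ← cT, cM]) fun e => ?_, .inl cM⟩
    exact absurd (eq_of_le_of_card_ge inf_le_left (by rw [← hT, ← cT, cM, e])) hTP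
  push Not at hTP
  rw [hTP] at i2 cT fx
  have hx : x ∈ P := hxT.1
  have cM : 2 ≤ Nat.card M := (one_lt_card_iff_ne_bot M).2 h0
  have sq : ∀ y ∈ P, y ^ 2 ∈ M := fun y hy => sq_mem_of_index_two i2 ⟨y, hy⟩
  have oth : ∀ y ∈ P, y ∉ M → y • α = x • α := fun y hy hn =>
    (h3 m hm1 _ _ _ hm.2 (fx x hx m hm) (fx y hy m hm) hβ).resolve_left fun e => hn ⟨hy, e⟩
  have swap : ∀ y ∈ P, y ∉ M → y • x • α = α := fun y hy hn => by
    rw [← oth y hy hn, ← mul_smul, ← pow_two]; exact (sq y hy).2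
  by_cases hfp : ∃ t ∈ P, t ∉ M ∧ ∃ ω : Ω, t • ω = ω
  · obtain ⟨t, ht, htM, ω, hω⟩ := hfp
    have w1 : ω ≠ α := by rintro rfl; exact htM ⟨ht, hω⟩
    have w2 : ω ≠ x • α := by rintro rfl; exact hβ ((swap t ht htM).symm.trans hω)
    have k1 : ∀ c ∈ M, c • ω = ω → c = 1 := fun c hc e => by
      by_contra hne
      exact (h3 c hne _ _ _ hc.2 (fx x hx c hc) e hβ).elim w1 w2
    have t1 : t ≠ 1 := fun e => htM (e ▸ one_mem _)
    have t2 : t ^ 2 = 1 := k1 _ (sq t ht) (by rw [pow_two, mul_smul, hω, hω])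
    haveI := S.isPGroup'.isNilpotent
    obtain ⟨z, hz, hz1⟩ := (bot_or_exists_ne_one _).resolve_left
      (inf_centralizer_ne_bot_of_isNilpotent hMP.le (hTP ▸ inf_le_right) h0)
    set C := centralizer ({t} : Set G) ⊓ P with hC
    have fz : ∀ c ∈ C, t • c • ω = c • ω := fun c hc => by
      rw [← mul_smul, ← mem_centralizer_singleton_iff.1 hc.1, mul_smul, hω]
    have zC : z ∈ C := ⟨mem_centralizer_singleton_iff.2 (hz.2 t ht).symm, hz.1.1⟩
    have c2 : Nat.card (M ⊓ C : Subgroup G) = 2 := (Nat.card_eq_two_iff' 1).2 ⟨⟨z, hz.1, zC⟩,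
      fun e => hz1 (congrArg Subtype.val e), fun y hy => Subtype.ext (by
        rcases h3 t t1 _ _ _ hω (fz z zC) (fz y y.2.2) (fun e => hz1 (k1 z hz.1 e.symm)) with e | e
        · exact absurd (Subtype.ext (k1 y y.2.1 e)) hy
        · exact (inv_mul_eq_one.1 (k1 _ (mul_mem (inv_mem hz.1) y.2.1) (by
            rw [mul_smul, e, inv_smul_smul]))).symm)⟩
    have c3 : M.relIndex C = 2 := index_eq_two_iff_exists_notMem_and.2 ⟨⟨t, mem_centralizer_singleton_iff.2 rfl, ht⟩,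
      htM, fun y => by
        by_cases e : (y : G) ∈ M
        · exact .inr e
        · exact .inl ((mul_mem_iff_of_index_two i2 (a := ⟨y, y.2.2⟩) (b := ⟨t, ht⟩)).2 (iff_of_false e htM))⟩
    have c4 := card_inf_mul_relIndex M C
    rw [c2, c3] at c4
    refine .inl ⟨dq S.isPGroup' ht t1 t2 c4.symm fun e y hy => ?_, .inr i2⟩
    have eC : C = P := eq_of_le_of_card_ge inf_le_right (by rw [e, ← c4])
    have u : ∀ y ∈ M, y ^ 2 = 1 := fun y hy => by
      have := pow_card_eq_one' (x := (⟨y, hy⟩ : M))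
      rw [show Nat.card M = 2 by omega] at this; exact congrArg Subtype.val this
    by_cases e : y ∈ M
    · exact u y e
    · have a := u _ ((mul_mem_iff_of_index_two i2 (a := ⟨y, hy⟩) (b := ⟨t, ht⟩)).2 (iff_of_false e htM))
      have b : Commute y t := mem_centralizer_singleton_iff.1 (eC ▸ hy : y ∈ C).1
      change (y * t) ^ 2 = 1 at a
      rwa [b.mul_pow, t2, mul_one] at a
  push Not at hfp
  have inM : ∀ t ∈ P, ∀ ω : Ω, t • ω = ω → t ∈ M := fun t ht ω e => by_contra fun hn => hfp t ht hn ω e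
  refine .inr (.inl ⟨by omega, ⟨α, ?_, fun ω hω => ?_⟩, ?_⟩)
  · rw [Nat.card_coe_set_eq, ← index_stabilizer, ← i2, hMd, inf_relIndex_left]; rfl
  · rw [Nat.card_coe_set_eq, ← index_stabilizer, ← index_bot]
    congr 1
    refine (eq_bot_iff_forall _).2 fun c hc => by_contra fun hne => ?_
    have hc' := inM c c.2 ω hc
    rcases h3 c (fun e => hne (Subtype.ext e)) _ _ _ hc'.2 (fx x hx c hc') hc hβ with e | e
    · exact hω (e ▸ mem_orbit_self _)
    · exact hω ⟨⟨x, hx⟩, e.symm⟩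
  obtain ⟨N, hN, iN, hNM⟩ := idx S i2 fun y _ u hu hy => inM _ hu (u • α) (by
    rw [mul_smul, mul_smul, inv_smul_smul, show y • α = α from hy.2])
  have stN : stabilizer G α ≤ N := fun y hy => by
    obtain ⟨b, a, hb, ha⟩ := CfsgH4.Ssm.exists_ppow Nat.prime_two y
    obtain ⟨Q, hQ⟩ := (IsPGroup.of_card (G := zpowers (y ^ b)) (by rw [Nat.card_zpowers, ha])).exists_le_sylow
    obtain ⟨g, rfl⟩ := MulAction.exists_smul_eq G S Q
    have a1 : g⁻¹ * y ^ b * g ∈ P := mem_conj_smul.1 (hQ (mem_zpowers _))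
    have a2 := (hNM _ a1).2 (inM _ a1 (g⁻¹ • α) (by
      rw [mul_smul, mul_smul, smul_inv_smul, show y ^ b • α = α from pow_mem hy b]))
    have a3 : y ^ b ∈ N := by simpa [mul_assoc] using hN.conj_mem _ a2 g
    obtain ⟨k, rfl⟩ := Nat.odd_iff.2 (Nat.two_dvd_ne_zero.1 hb)
    rwa [pow_succ, pow_mul, mul_mem_cancel_left (pow_mem (sq_mem_of_index_two iN _) k)] at a3
  have xN : x ∉ N := fun e => hxM ((hNM x hx).1 e)
  have mN : m ∈ N := stN hm.2
  refine ⟨N, hN, .inl iN, (stabilizer G α).subgroupOf N, fun e => hm1 (congrArg Subtype.val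
    ((eq_bot_iff_forall _).1 e ⟨m, mN⟩ hm.2)), fun e => hm1 (eq_of_smul_eq_smul (α := Ω) fun ω => ?_),
    fun g hg => (eq_bot_iff_forall _).2 fun n hn => by_contra fun hne => ?_⟩
  · obtain ⟨g, rfl⟩ := exists_smul_eq G α ω
    have : (g⁻¹ * m * g) • α = α := subgroupOf_eq_top.1 e (hN.conj_mem' m mN g)
    rw [mul_smul, mul_smul, inv_smul_eq_iff] at this
    rw [this, one_smul]
  obtain ⟨r, hr, hd⟩ := Nat.exists_prime_and_dvd (mt orderOf_eq_one_iff.1 hne)
  haveI := Fact.mk hr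
  set n' := n ^ (orderOf n / r) with hn'
  have on' : orderOf n' = r := orderOf_pow_orderOf_div (orderOf_pos n).ne' hd
  have hn2 : n' ∈ _ := pow_mem hn (orderOf n / r)
  have n1 : (n' : G) ≠ 1 := fun e => hr.ne_one (by rw [← on', show n' = 1 from Subtype.ext e, orderOf_one])
  have f1 : (n' : G) • α = α := hn2.1
  have f2 : (n' : G) • (g : G) • α = (g : G) • α := by
    have : ((g⁻¹ * n' * g : N) : G) • α = α := mem_conj_smul.1 hn2.2
    rw [coe_mul, coe_mul, mul_smul, mul_smul, coe_inv, inv_smul_eq_iff] at this; exact this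
  have gα : α ≠ (g : G) • α := fun e => hg e.symm
  have io : (stabilizer G α).relIndex N = Nat.card (orbit N α) := by
    rw [Nat.card_coe_set_eq, ← index_stabilizer]; rfl
  have d1 : r ∣ (stabilizer G α).relIndex N := by
    by_contra hnd
    let n2 : N := ⟨x⁻¹ * n' * x, hN.conj_mem' _ n'.2 x⟩
    have : IsPGroup r (zpowers n2) := IsPGroup.of_card (n := 1) (by
      rw [Nat.card_zpowers, pow_one, ← on', ← orderOf_coe, ← orderOf_coe n']
      exact (SemiconjBy.orderOf_eq x (show SemiconjBy x (x⁻¹ * n' * x) n' by unfold SemiconjBy; group)))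
    obtain ⟨⟨_, u, rfl⟩, hu⟩ := this.nonempty_fixed_point_of_prime_not_dvd_card (orbit N α) (io ▸ hnd)
    have e : (x⁻¹ * n' * x) • (u : G) • α = (u : G) • α := congrArg Subtype.val (hu ⟨n2, mem_zpowers _⟩)
    rw [mul_smul, mul_smul, inv_smul_eq_iff] at e
    rcases h3 _ n1 _ _ _ f1 f2 e gα with e | e
    · exact xN (by simpa using mul_mem (stN (show x * u ∈ stabilizer G α by
        rw [mem_stabilizer_iff, mul_smul, e])) (inv_mem u.2))
    · exact xN (by simpa using mul_mem (mul_mem g.2 (stN (show (g : G)⁻¹ * (x * u) ∈ stabilizer G α by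
        rw [mem_stabilizer_iff, mul_smul, mul_smul, e, inv_smul_smul]))) (inv_mem u.2))
  have d2 := relIndex_mul_index stN
  have d3 : Nat.card (fixedPoints (zpowers (n' : G)) Ω) = 2 := by
    rw [Nat.card_coe_set_eq, ← Set.ncard_pair gα]
    congr 1
    ext ω
    refine ⟨fun e => h3 _ n1 _ _ _ f1 f2 (e ⟨_, mem_zpowers _⟩) gα, ?_⟩
    rintro (rfl | rfl) ⟨c, hc⟩
    · exact (zpowers_le.2 (show (n' : G) ∈ stabilizer G _ from f1) hc :)
    · exact (zpowers_le.2 (show (n' : G) ∈ stabilizer G _ from f2) hc :)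
  have d4 := (IsPGroup.of_card (p := r) (G := zpowers (n' : G)) (n := 1) (by
    rw [Nat.card_zpowers, pow_one, orderOf_coe, on'])).card_modEq_card_fixedPoints Ω
  rw [d3, ← index_stabilizer_of_transitive G α, ← d2] at d4
  obtain rfl : r = 2 := (Nat.prime_dvd_prime_iff_eq hr Nat.prime_two).1 ((d4.dvd_iff dvd_rfl).1 (d1.mul_right _))
  have d5 : (stabilizer G α).index ∣ M.index := index_dvd_of_le inf_le_right
  rw [← d2, iN, ← relIndex_mul_index hMP.le, i2, mul_comm] at d5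
  exact S.not_dvd_index (d1.trans (Nat.dvd_of_mul_dvd_mul_left two_pos d5))

end Cfsg.Agent.S3390
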