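import Mathlib
import Cfsg.Statements.S3413
import Cfsg.Agent.H8.Nse
import Cfsg.Agent.S2490

set_option autoImplicit false
open Cfsg

namespace Cfsg.Agent.S3413

theorem cc {G : Type*} [Group G] [Finite G] (x : {g : G // g ≠ 1}) :
    Nat.card (Subgroup.centralizer ({x.1} : Set G)) = Nat.card {y : {g : G // g ≠ 1} // x.1 * y = y * x} + 1 := by
  classical
  haveI := Fintype.ofFinite (Subgroup.centralizer ({x.1} : Set G))
  have h1 := Fintype.card_subtype_compl (fun y : Subgroup.centralizer ({x.1} : Set G) => y = 1)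
  have h2 : 0 < Fintype.card (Subgroup.centralizer ({x.1} : Set G)) := Fintype.card_pos
  rw [Fintype.card_subtype_eq, ← Nat.card_eq_fintype_card] at h1
  rw [Nat.card_eq_fintype_card, ← Nat.card_congr (α := {y : Subgroup.centralizer ({x.1} : Set G) // ¬ y = 1})
    ⟨fun y => ⟨⟨y.1.1, fun e => y.2 (Subtype.ext e)⟩, (Subgroup.mem_centralizer_singleton_iff.1 y.1.2).symm⟩,
     fun y => ⟨⟨y.1.1, Subgroup.mem_centralizer_singleton_iff.2 y.2.symm⟩, fun e => y.1.2 (congrArg Subtype.val e)⟩,
     fun _ => rfl, fun _ => rfl⟩]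
  omega

theorem c1 {G : Type*} [Group G] [Finite G] : Nat.card G = Nat.card {g : G // g ≠ 1} + 1 := by
  classical
  haveI := Fintype.ofFinite G
  have h2 : 0 < Fintype.card G := Fintype.card_pos
  rw [Nat.card_eq_fintype_card, Nat.card_eq_fintype_card, Fintype.card_subtype_compl, Fintype.card_subtype_eq]
  omega

/-- Let H be a finite group whose commuting graph (vertices the non-identity elements, two joined when they commute) is isomorphic to that of the Mathieu group M_11: there is a bijection between the non-identity elements of H and of M_11 under which two elements commute exactly when their images do. Then H ≅ M_11. -/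
theorem result {H : Type*} [Group H] [Finite H]
    (f : {h : H // h ≠ 1} ≃ {g : ↥Cfsg.Spor.M11 // g ≠ 1})
    (hf : ∀ x y : {h : H // h ≠ 1}, (x : H) * y = y * x ↔ ((f x) : ↥Cfsg.Spor.M11) * (f y) = (f y) * (f x)) :
    Nonempty (H ≃* ↥Cfsg.Spor.M11) := by
  have h : Nat.card H = 7920 := by rw [c1, Nat.card_congr f, ← c1, CfsgH8.Pg.cM]
  haveI := CfsgH8.Pg.sM
  haveI := Cfsg.Agent.S2490.result h ⟨{11}, ⟨11, rfl, by norm_num, by rw [h]; norm_num⟩,
    ⟨2, by simp, by norm_num, by rw [h]; norm_num⟩, by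
      rintro _ rfl b hb - pb - - ⟨g, hg⟩
      have g1 : g ≠ 1 := by
        rintro rfl
        have := pb.one_lt
        rw [orderOf_one] at hg
        omega
      have h1 := Subgroup.orderOf_dvd_natCard (Subgroup.centralizer {g}) (Subgroup.mem_centralizer_singleton_iff.2 rfl)
      rw [hg, cc ⟨g, g1⟩, Nat.card_congr (Equiv.subtypeEquiv (q := fun y => (f ⟨g, g1⟩).1 * y.1 = y.1 * (f ⟨g, g1⟩).1) f
        (hf ⟨g, g1⟩)), ← cc] at h1
      exact CfsgH8.Pg.c11 CfsgH8.Pg.cM (f ⟨g, g1⟩).2 (Dvd.dvd.trans (Dvd.intro _ rfl) h1) pb hb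
        (Dvd.dvd.trans (Dvd.intro_left _ rfl) h1)⟩
  exact CfsgH8.M11.uniq h CfsgH8.Pg.cM

end Cfsg.Agent.S3413
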