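import Cfsg.Statements.S3493
import Cfsg.Agent.H9.Ons
import Cfsg.Agent.H2.FT

set_option autoImplicit false
open Cfsg

namespace Cfsg.Agent.S3493

open Subgroup in
theorem real {T : Type*} [Group T] [Finite T] [IsSimpleGroup T] (hT : ¬ IsMulCommutative T) :
    ∃ t u : T, u * t * u⁻¹ = t⁻¹ ∧ t⁻¹ ≠ t := by
  by_contra! h
  have cm : ∀ u v : T, u * u = 1 → v * v = 1 → u * v = v * u := fun u v a b => by
    have a' : u⁻¹ = u := inv_eq_of_mul_eq_one_right a
    have b' : v⁻¹ = v := inv_eq_of_mul_eq_one_right b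
    have := h (u * v) u (by rw [← mul_assoc, a, one_mul, mul_inv_rev, b'])
    rw [mul_inv_rev, a', b'] at this
    exact this.symm
  let E : Subgroup T :=
    { carrier := {x | x * x = 1}
      one_mem' := one_mul 1
      mul_mem' := fun {a b} ha hb => by
        change a * b * (a * b) = 1
        rw [mul_assoc, ← mul_assoc b, cm b a hb ha, mul_assoc, (hb : b * b = 1), mul_one, (ha : a * a = 1)]
      inv_mem' := fun {a} ha => by
        change a⁻¹ * a⁻¹ = 1
        rw [← mul_inv_rev, (ha : a * a = 1), inv_one] }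
  have n : E.Normal := ⟨fun x hx g => by
    change g * x * g⁻¹ * (g * x * g⁻¹) = 1
    rw [conj_mul, (hx : x * x = 1)]; simp⟩
  rcases n.eq_bot_or_eq_top with e | e
  · refine hT ⟨⟨IsSimpleGroup.comm_iff_isSolvable.2 (CfsgH2.ft (Nat.not_even_iff_odd.1 fun z => ?_))⟩⟩
    obtain ⟨u, hu⟩ := exists_prime_orderOf_dvd_card' 2 z.two_dvd
    have : u ∈ E := by change u * u = 1; rw [← sq, ← hu, pow_orderOf_eq_one]
    rw [e, mem_bot] at this
    simp [this] at hu
  · exact hT ⟨⟨fun a b => cm a b (e.ge (mem_top a)) (e.ge (mem_top b))⟩⟩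

/-- An extremely primitive permutation group is of affine type or almost simple. Let a finite group G act faithfully and primitively on a finite set Ω with at least two points, in such a way that every point stabilizer acts primitively on each of its own orbits in Ω (an orbit of size one counts as primitive). Then either G has a non-trivial abelian normal subgroup whose elements other than the identity fix no point (affine type), or G has a non-abelian simple normal subgroup with trivial centralizer (almost simple). -/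
theorem result {G : Type*} [Group G] [Finite G] {Ω : Type*} [Fintype Ω] [MulAction G Ω] [FaithfulSMul G Ω] (hΩ : 2 ≤ Fintype.card Ω) (hprim : MulAction.IsPreprimitive G Ω) (hep : ∀ (α : Ω) (ω : Ω), MulAction.IsPreprimitive (MulAction.stabilizer G α) (MulAction.orbit (MulAction.stabilizer G α) ω)) :
    (∃ N : Subgroup G, N.Normal ∧ N ≠ ⊥ ∧ IsMulCommutative N ∧ ∀ ω : Ω, MulAction.stabilizer N ω = ⊥) ∨ (∃ T : Subgroup G, T.Normal ∧ IsSimpleGroup T ∧ ¬ IsMulCommutative T ∧ Subgroup.centralizer (T : Set G) = ⊥) := by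
  open Subgroup MulAction Function CfsgScott in
  classical
  haveI : Nontrivial Ω := Fintype.one_lt_card_iff_nontrivial.1 hΩ
  obtain ⟨x0, hx0⟩ := CfsgH1.exists_derangement G Ω
  obtain ⟨a⟩ : Nonempty Ω := inferInstance
  haveI : Nontrivial G := ⟨⟨x0, 1, fun e => hx0 a (by rw [e, one_smul])⟩⟩
  obtain ⟨N, nN, hN, hmin⟩ := CfsgH1.exists_minimal_normal (G := G)
  by_cases hnab : IsMulCommutative N
  · exact Or.inl ⟨N, nN, hN, hnab, fun c => eq_bot_iff.2 fun n hn =>
      mem_bot.2 (Subtype.ext (reg hprim N hN (fun u hu => congrArg Subtype.val (hnab.1.1 n ⟨u, hu⟩)) c hn))⟩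
  by_cases hnas : IsSimpleGroup N ∧ centralizer (N : Set G) = ⊥
  · exact Or.inr ⟨N, nN, hnas.1, hnab, hnas.2⟩
  exfalso
  have tN : ∀ b c : Ω, ∃ u ∈ N, u • b = c := fun b c =>
    let ⟨u, hu⟩ := (ntr hprim N hN).exists_smul_eq b c; ⟨u, u.2, hu⟩
  obtain ⟨T, _, m, hT, hm, ⟨e⟩⟩ := Cfsg.Agent.S0721.result N hN hmin
  have hab : ¬ IsMulCommutative T := fun h => hnab ⟨⟨fun x y => e.injective (by
    rw [map_mul, map_mul]; exact funext fun i => h.1.1 _ _)⟩⟩
  haveI : Nonempty (Fin m) := ⟨⟨0, hm⟩⟩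
  haveI : Finite (Fin m → T) := Finite.of_equiv _ e.toEquiv
  haveI : Finite T := Finite.of_surjective (fun x : Fin m → T => x ⟨0, hm⟩) fun t => ⟨fun _ => t, rfl⟩
  let φ : G → (Fin m → T) ≃* (Fin m → T) := fun k => e.symm.trans ((MulAut.conjNormal k).trans e)
  have hφ : ∀ k n, φ k (e n) = e (MulAut.conjNormal k n) := fun k n => by simp [φ]
  have hco := IsPreprimitive.isCoatom_stabilizer_of_isPreprimitive G a
  set K := stabilizer G a with hK
  have S2 : ∀ X ≤ N, K ⊓ N ≤ X → K ≤ normalizer (X : Set G) → X = K ⊓ N ∨ X = N := by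
    intro X hX hKX hinv
    by_cases hXK : X ≤ K
    · exact Or.inl (le_antisymm (le_inf hXK hX) hKX)
    refine Or.inr (le_antisymm hX fun n hn => ?_)
    have hmem : n ∈ ((K ⊔ X : Subgroup G) : Set G) := by rw [hco.2 _ (left_lt_sup.2 hXK)]; trivial
    rw [coe_mul_of_left_le_normalizer_right K X hinv] at hmem
    obtain ⟨k, hk, x, hx, rfl⟩ := hmem
    exact X.mul_mem (hKX ⟨hk, (mul_mem_cancel_right (hX hx)).1 hn⟩) hx
  have hNK : ¬ N ≤ K := fun h => by
    obtain ⟨b, hb⟩ := exists_ne a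
    obtain ⟨u, hu, rfl⟩ := tN a b
    exact hb (h hu)
  have htop : K ⊔ N = ⊤ := hco.2 _ (left_lt_sup.2 hNK)
  let D : Subgroup (Fin m → T) := (K.subgroupOf N).comap e.symm.toMonoidHom
  have hD : ∀ n : N, e n ∈ D ↔ (n : G) ∈ K := fun n => by
    simp [D, mem_subgroupOf]
  let X : Subgroup (Fin m → T) → Subgroup G := fun E => (E.comap e.toMonoidHom).map N.subtype
  have hX : ∀ E (n : N), (n : G) ∈ X E ↔ e n ∈ E := fun E n =>
    ⟨fun ⟨l, a, b⟩ => (Subtype.ext b : l = n) ▸ a, fun h => ⟨n, h, rfl⟩⟩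
  have XN : ∀ E, X E ≤ N := fun E => map_subtype_le _
  have Xn : ∀ E (L : Subgroup G), (∀ k ∈ L, ∀ x ∈ E, φ k x ∈ E) → L ≤ normalizer (X E : Set G) := by
    intro E L h
    have A : ∀ k ∈ L, ∀ x ∈ X E, k * x * k⁻¹ ∈ X E := fun k hk x hx => by
      have := h k hk _ ((hX E ⟨x, XN E hx⟩).1 hx)
      rw [hφ] at this
      exact (hX E _).2 this
    exact fun k hk => mem_normalizer_iff.2 fun x => ⟨A k hk x, fun b => by
      simpa [mul_assoc] using A k⁻¹ (inv_mem hk) _ b⟩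
  have Xt : ∀ E, X E = N → E = ⊤ := fun E h => eq_top_iff.2 fun x _ => by
    obtain ⟨n, rfl⟩ := e.surjective x
    exact (hX E n).1 (h.ge n.2)
  have hM : ∀ (ω : Ω) (Y : Subgroup G), (∀ k ∈ K, k • ω = ω → k ∈ Y) → ∀ y ∈ K, y ∈ Y → y • ω ≠ ω → K ≤ Y := by
    intro ω Y h y y1 y2 y3
    haveI := hep a ω
    haveI : Nontrivial (orbit K ω) := ⟨⟨⟨_, mem_orbit ω (⟨y, y1⟩ : K)⟩, ⟨ω, mem_orbit_self ω⟩,
      fun e => y3 (congrArg Subtype.val e)⟩⟩
    have co := IsPreprimitive.isCoatom_stabilizer_of_isPreprimitive K (⟨ω, mem_orbit_self ω⟩ : orbit K ω)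
    exact subgroupOf_eq_top.1 (co.2 (Y.subgroupOf K) (lt_of_le_of_ne
      (fun k hk => h k k.2 (congrArg Subtype.val hk)) fun e => y3 (congrArg Subtype.val
        (e.ge (show (⟨y, y1⟩ : K) ∈ Y.subgroupOf K from y2)))))
  let pt : (Fin m → T) → Ω := fun x => (e.symm x : G) • a
  have pe : ∀ x y, pt x = pt y ↔ x⁻¹ * y ∈ D := fun x y => by
    obtain ⟨n, rfl⟩ := e.surjective x
    obtain ⟨l, rfl⟩ := e.surjective y
    rw [← map_inv, ← map_mul, hD, mem_stabilizer_iff]
    simp only [pt, e.symm_apply_apply, coe_mul, coe_inv, mul_smul, inv_smul_eq_iff]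
    exact eq_comm
  have kp : ∀ k ∈ K, ∀ x, k • pt x = pt (φ k x) := fun k hk x => by
    obtain ⟨n, rfl⟩ := e.surjective x
    have hk' : k⁻¹ • a = a := inv_mem hk
    simp only [pt, hφ, e.symm_apply_apply, MulAut.conjNormal_apply, mul_smul, hk']
  have φm : ∀ k l x, φ (k * l) x = φ k (φ l x) := fun k l x => by simp [φ]
  have φ1 : ∀ x, φ 1 x = x := fun x => by simp [φ]
  have φi : ∀ y x, φ (e.symm y : G) x = y * x * y⁻¹ := fun y x => by
    obtain ⟨n, rfl⟩ := e.surjective x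
    obtain ⟨l, rfl⟩ := e.surjective y
    rw [e.symm_apply_apply, hφ, ← map_inv, ← map_mul, ← map_mul]
    exact congrArg e (Subtype.ext (by simp))
  have sc : ∀ (i : Fin m) (y : Fin m → T) (t : T), y * Pi.mulSingle i t * y⁻¹ = Pi.mulSingle i (y i * t * (y i)⁻¹) := by
    intro i y t
    ext l; by_cases c : l = i
    · subst c; simp
    · simp [c]
  have scm : ∀ (i : Fin m) (y : Fin m → T) (t : T), y i = 1 → y * Pi.mulSingle i t = Pi.mulSingle i t * y := by
    intro i y t h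
    rw [← mul_inv_eq_iff_eq_mul, sc, h]; simp
  have fin : ∀ i : Fin m, (∀ x y : T, pt (Pi.mulSingle i x) = pt (Pi.mulSingle i y) → x = y) →
      (∀ g : T, ∃ d ∈ K, ∀ x, φ d (Pi.mulSingle i x) = Pi.mulSingle i (g * x * g⁻¹)) →
      (∀ k ∈ K, ∀ t, k • pt (Pi.mulSingle i t) = pt (Pi.mulSingle i t) →
        k • pt (Pi.mulSingle i t⁻¹) = pt (Pi.mulSingle i t⁻¹)) → False := by
    intro i h1 h2 h3
    obtain ⟨t, u, t1, t2⟩ := real hab
    obtain ⟨ω, hω⟩ : ∃ ω, ω = pt (Pi.mulSingle i t) := ⟨_, rfl⟩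
    obtain ⟨ω', hω'⟩ : ∃ ω, ω = pt (Pi.mulSingle i t⁻¹) := ⟨_, rfl⟩
    let Y : Subgroup G :=
      { carrier := {g | (g • ω = ω ∧ g • ω' = ω') ∨ (g • ω = ω' ∧ g • ω' = ω)}
        one_mem' := Or.inl ⟨one_smul _ _, one_smul _ _⟩
        mul_mem' := by
          rintro x y (⟨a, b⟩ | ⟨a, b⟩) (⟨c, d⟩ | ⟨c, d⟩) <;> simp [mul_smul, a, b, c, d]
        inv_mem' := by
          rintro x (⟨a, b⟩ | ⟨a, b⟩)
          · exact Or.inl ⟨inv_smul_eq_iff.2 a.symm, inv_smul_eq_iff.2 b.symm⟩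
          · exact Or.inr ⟨inv_smul_eq_iff.2 b.symm, inv_smul_eq_iff.2 a.symm⟩ }
    obtain ⟨d, d1, d2⟩ := h2 u
    have e1 : d • ω = ω' := by rw [hω, hω', kp d d1, d2, t1]
    have e2 : d • ω' = ω := by rw [hω, hω', kp d d1, d2, ← conj_inv, t1, inv_inv]
    have KY := hM ω Y (fun k hk h => Or.inl ⟨h, by rw [hω'] ; exact h3 k hk t (hω ▸ h)⟩) d d1 (Or.inr ⟨e1, e2⟩)
      (fun z => t2 (h1 _ _ (by rw [← hω, ← hω', ← e1, z])))
    have n : (zpowers t).Normal := ⟨by
      rintro _ ⟨j, rfl⟩ g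
      obtain ⟨d, d1, d2⟩ := h2 g
      rw [← conj_zpow]
      refine zpow_mem ?_ j
      rcases KY d1 with ⟨z, -⟩ | ⟨z, -⟩
      · rw [hω, kp d d1, d2] at z; rw [h1 _ _ z]; exact mem_zpowers t
      · rw [hω, hω', kp d d1, d2] at z; rw [h1 _ _ z]; exact inv_mem (mem_zpowers t)⟩
    rcases n.eq_bot_or_eq_top with z | z
    · exact t2 (by rw [zpowers_eq_bot.1 z, inv_one])
    · refine hab ⟨⟨fun x y => ?_⟩⟩
      obtain ⟨j, rfl⟩ := z.ge (mem_top x)
      obtain ⟨l, rfl⟩ := z.ge (mem_top y)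
      exact zpow_mul_comm t j l
  by_cases hC : centralizer (N : Set G) = ⊥
  swap
  · have D0 : ∀ x y, pt x = pt y → x = y := fun x y h => by
      have := (pe x y).1 h
      rw [← e.apply_symm_apply (x⁻¹ * y), hD] at this
      have := reg hprim _ hC (fun u hu => hu _ (e.symm (x⁻¹ * y)).2) a this
      exact inv_mul_eq_one.1 ((map_eq_one_iff _ e.symm.injective).1 (Subtype.ext this))
    refine fin ⟨0, hm⟩ (fun x y h => Pi.mulSingle_injective (M := fun _ => T) _ (D0 _ _ h)) (fun g => ?_)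
      fun k hk t h => ?_
    · obtain ⟨c, hc⟩ := (ntr hprim _ hC).exists_smul_eq (pt fun _ => g) a
      refine ⟨c * e.symm fun _ => g, (mul_smul _ _ _).trans hc, fun x => ?_⟩
      rw [φm, φi, sc]
      obtain ⟨n, hn⟩ := e.surjective (Pi.mulSingle ⟨0, hm⟩ (g * x * g⁻¹))
      rw [← hn, hφ]
      exact congrArg e (Subtype.ext (by rw [MulAut.conjNormal_apply, ← c.2 n n.2]; simp))
    · rw [kp k hk] at h ⊢
      rw [Pi.mulSingle_inv, map_inv, D0 _ _ h]
  haveI : Nontrivial (Fin m) := by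
    by_contra z
    haveI := not_nontrivial_iff_subsingleton.1 z
    haveI : Unique (Fin m) := uniqueOfSubsingleton ⟨0, hm⟩
    exact hnas ⟨(e.trans (MulEquiv.funUnique _ _)).isSimpleGroup, hC⟩
  choose σ s1 s2 using fun k => perm' hab (φ k)
  have sz : ∀ k i (t : T) l, σ k i ≠ l → φ k (Pi.mulSingle i t) l = 1 := fun k i t l h => by
    obtain ⟨l, rfl⟩ := (σ k).surjective l
    have : l ≠ i := fun z => h (by rw [z])
    exact (s1 k l _).1 (by simp [this])
  have hmax : ∀ E, D ≤ E → (∀ α ∈ φ '' K, ∀ x ∈ E, α x ∈ E) → E = D ∨ E = ⊤ :=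
    fun E h1 h2 => (S2 (X E) (XN E) (fun n hn => (hX E ⟨n, hn.2⟩).2 (h1 ((hD ⟨n, hn.2⟩).2 hn.1)))
      (Xn E K fun k hk => h2 _ ⟨k, hk, rfl⟩)).imp (fun h => le_antisymm (fun x hx => by
        obtain ⟨n, rfl⟩ := e.surjective x
        exact (hD n).2 (h.le ((hX E n).2 hx)).1) h1) (Xt E)
  have hm2 : ∀ M : Subgroup (Fin m → T), M.Normal → (∀ α ∈ φ '' K, ∀ x ∈ M, α x ∈ M) → M = ⊥ ∨ M = ⊤ :=
    fun M h1 h2 => (hmin (X M) (normalizer_eq_top_iff.1 (eq_top_iff.2 (htop.ge.trans (sup_le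
      (Xn M K fun k hk => h2 _ ⟨k, hk, rfl⟩) (Xn M N fun k hk x hx => by
        obtain ⟨n, rfl⟩ := e.surjective x
        have : MulAut.conjNormal k n = ⟨k, hk⟩ * n * (⟨k, hk⟩ : N)⁻¹ := Subtype.ext (by simp)
        rw [hφ, this, map_mul, map_mul, map_inv]
        exact h1.conj_mem _ hx _))))) (XN M)).imp (fun h => eq_bot_iff.2 fun x hx => by
        obtain ⟨n, rfl⟩ := e.surjective x
        have : n = 1 := Subtype.ext (mem_bot.1 (h.le ((hX M n).2 hx)))
        simp [this]) (Xt M)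
  obtain ⟨t0, ht0⟩ := exists_ne (1 : T)
  obtain ⟨i0⟩ : Nonempty (Fin m) := inferInstance
  rcases CfsgScott.main hab (D := D) (φ '' K) (by
      rintro _ ⟨k, hk, rfl⟩ x
      obtain ⟨n, rfl⟩ := e.surjective x
      rw [hφ, hD, hD, MulAut.conjNormal_apply]
      exact ⟨fun h => by simpa [mul_assoc] using mul_mem (mul_mem (inv_mem hk) h) hk,
        fun h => mul_mem (mul_mem hk h) (inv_mem hk)⟩)
    (fun h => hNK fun n hn => (hD ⟨n, hn⟩).1 (h ▸ mem_top _)) hmax hm2 with ⟨L, a1, a2⟩ | ⟨ψ, k, c, a1, a2, a3⟩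
  · let Y : Fin m → Subgroup G := fun i =>
      { carrier := {k | ∀ x, x i = 1 ↔ φ k x i = 1}
        one_mem' := fun x => by rw [φ1]
        mul_mem' := fun {k l} hk hl x => by rw [φm]; exact (hl x).trans (hk _)
        inv_mem' := fun {k} hk x => by rw [hk (φ k⁻¹ x), ← φm, mul_inv_cancel, φ1] }
    have Y1 : ∀ i k, σ k i = i → k ∈ Y i := fun i k h x => by have := s1 k i x; rwa [h] at this
    have Y2 : ∀ i, ¬ K ≤ Y i := fun i h => by
      obtain ⟨j, hj⟩ := exists_ne i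
      rcases hm2 (LL ⊤ {i}) ⟨fun l hl u => ⟨trivial, fun j h => by simp [hl.2 j h]⟩⟩ (by
        rintro _ ⟨k, hk, rfl⟩ x hx
        exact ⟨trivial, fun l hl => by rw [hl]; exact (h hk x).1 (hx.2 i rfl)⟩) with z | z
      · have : (Pi.mulSingle j t0 : Fin m → T) ∈ LL ⊤ {i} := ⟨trivial, fun l hl => by
          rw [hl]; simp [hj.symm]⟩
        rw [z, mem_bot] at this
        exact ht0 (by simpa using congrFun this j)
      · exact ht0 ((z.ge (mem_top fun _ => t0)).2 i rfl)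
    have Y3 : ∀ i t, t ∉ L i → ∀ k ∈ K, k ∈ Y i → (φ k (Pi.mulSingle i t))⁻¹ * Pi.mulSingle i t ∈ D := by
      intro i t ht k hk h
      rw [← pe, ← kp k hk]
      by_contra z
      refine Y2 i (hM _ (Y i) (fun l hl w => Y1 i l (by_contra fun v => ht ?_)) k hk h z)
      rw [kp l hl, pe] at w
      simpa [sz l i t i v] using (a2 _).1 w i
    have L0 : ∀ i, L i = ⊥ := fun i => (Normal.eq_bot_or_eq_top ⟨fun l hl g => by
      by_cases z : g ∈ L i
      · exact mul_mem (mul_mem z hl) (inv_mem z)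
      have := Y3 i g⁻¹ (fun w => z ((inv_mem_iff).1 w)) (e.symm (Pi.mulSingle i l)) ((hD _).1 (by
        rw [e.apply_symm_apply, a2]
        intro j; by_cases c : j = i
        · subst c; simpa using hl
        · simp [c, one_mem])) (fun x => by rw [φi]; simp)
      have := inv_mem (mul_mem (inv_mem hl) ((a2 _).1 this i))
      rw [φi] at this
      simpa [mul_assoc] using this⟩).resolve_right (a1 i)
    have D0 : ∀ x ∈ D, x = 1 := fun x hx => funext fun i => mem_bot.1 (L0 i ▸ (a2 x).1 hx i)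
    have cm : ∀ r ∈ K, φ r (Pi.mulSingle i0 t0) * Pi.mulSingle i0 t0 =
        Pi.mulSingle i0 t0 * φ r (Pi.mulSingle i0 t0) := fun r hr => by
      by_cases z : σ r i0 = i0
      · rw [inv_mul_eq_one.1 (D0 _ (Y3 i0 t0 (by rw [L0]; exact ht0) r hr (Y1 _ _ z)))]
      · exact scm _ _ _ (sz r i0 t0 i0 z)
    rcases hmax (centralizer ((fun k => φ k (Pi.mulSingle i0 t0)) '' K)) (fun x hx => by
      rw [D0 x hx]; exact one_mem _) (by
        rintro _ ⟨r, hr, rfl⟩ x hx _ ⟨k, hk, rfl⟩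
        have := congrArg (φ r) (hx _ ⟨r⁻¹ * k, mul_mem (inv_mem hr) hk, rfl⟩)
        rwa [map_mul, map_mul, ← φm, mul_inv_cancel_left] at this) with z | z
    · have := congrFun (D0 (Pi.mulSingle i0 t0) (z.le (by
        rintro _ ⟨k, hk, rfl⟩
        exact cm k hk))) i0
      exact ht0 (by simpa using this)
    · exact ht0 (hz hab fun s => by
        simpa [φ1] using (congrFun (z.ge (mem_top fun _ => s) _ ⟨1, one_mem _, rfl⟩) i0).symm)
  · haveI : Nontrivial {i // c i = c i0} := Finite.one_lt_card_iff_nontrivial.1 (by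
      haveI : Nonempty {i // c i = c i0} := ⟨⟨i0, rfl⟩⟩
      have := a2 (c i0)
      have := Nat.card_pos (α := {i // c i = c i0})
      omega)
    obtain ⟨⟨j, hj⟩, hj'⟩ := exists_ne (⟨i0, rfl⟩ : {i // c i = c i0})
    have ji : j ≠ i0 := fun z => hj' (Subtype.ext z)
    have A : ∀ x ∈ D, x j = 1 → x i0 = 1 := fun x hx h =>
      (ψ i0).injective ((((a3 _).1 hx j i0 hj).symm.trans (by simp [h])).trans (map_one _).symm)
    refine fin i0 (fun x y h => ?_) (fun g => ?_) fun k hk t h => ?_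
    · simpa [inv_mul_eq_one] using A _ ((pe _ _).1 h) (by simp [ji])
    · refine ⟨e.symm fun l => (ψ l).symm (ψ i0 g), (hD _).1 (by
        rw [e.apply_symm_apply, a3]; simp), fun x => by rw [φi, sc]; simp⟩
    · rw [kp k hk, pe] at h ⊢
      rw [Pi.mulSingle_inv, map_inv, inv_inv]
      by_cases z : σ k i0 = i0
      · have : φ k (Pi.mulSingle i0 t) = Pi.mulSingle i0 t := funext fun l => by
          by_cases w : l = i0
          · rw [w]; exact inv_mul_eq_one.1 (A _ h (by simp [ji, sz k i0 t j (z.trans_ne ji.symm)]))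
          · simp [w, sz k i0 t l (z.trans_ne (Ne.symm w))]
        rw [this, mul_inv_cancel]; exact one_mem _
      · have := inv_mem h
        rwa [mul_inv_rev, inv_inv, ← Pi.mulSingle_inv, ← scm _ _ _ (sz k i0 t i0 z), Pi.mulSingle_inv] at this

end Cfsg.Agent.S3493
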