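import Cfsg.Statements.S3496
import Mathlib
import Cfsg.Agent.H9.XP
import Cfsg.Agent.S0547
import Cfsg.Agent.H3.FC
import Cfsg.Agent.H8.Zsig

set_option autoImplicit false
open Cfsg

namespace Cfsg.Agent.S3496

/-- The soluble extremely primitive groups. Let a finite solvable group G act faithfully and primitively on a finite set Ω with p ^ d points (p prime), with non-trivial point stabilizers each acting primitively on every one of its orbits. Then there is a prime q such that every orbit of a point stabilizer G_α other than {α} has exactly q points, q divides p ^ d − 1 but no p ^ i − 1 with 0 < i < d, and G_α has a normal subgroup T of order q with G_α generated by T and one further element and the order of G_α dividing q·d (so G_α is cyclic of order q, or an extension of T by a cyclic group of order dividing d). -/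
theorem result {G : Type*} [Group G] [Finite G] {Ω : Type*} [Fintype Ω] [MulAction G Ω] [FaithfulSMul G Ω] [Group.IsSolvable G] (p d : ℕ) (hp : p.Prime) (hcard : Fintype.card Ω = p ^ d)
    (hprim : MulAction.IsPreprimitive G Ω) (hH : ∀ α : Ω, MulAction.stabilizer G α ≠ ⊥) (hep : ∀ (α : Ω) (ω : Ω), MulAction.IsPreprimitive (MulAction.stabilizer G α) (MulAction.orbit (MulAction.stabilizer G α) ω)) (α : Ω) :
    ∃ q : ℕ, q.Prime ∧ (∀ ω : Ω, ω ≠ α → Nat.card (MulAction.orbit (MulAction.stabilizer G α) ω) = q) ∧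
      q ∣ p ^ d - 1 ∧ (∀ i : ℕ, 0 < i → i < d → ¬ q ∣ p ^ i - 1) ∧
      ∃ T : Subgroup G, T ≤ MulAction.stabilizer G α ∧ MulAction.stabilizer G α ≤ Subgroup.normalizer (T : Set G) ∧ Nat.card T = q ∧
        (∃ h : G, MulAction.stabilizer G α = T ⊔ Subgroup.zpowers h) ∧ Nat.card (MulAction.stabilizer G α) ∣ q * d := by
  open Subgroup CfsgH9 in
  open MulAction in open scoped IsMulCommutative commutatorElement in
  haveI := Fact.mk hp
  haveI : Nonempty Ω := ⟨α⟩
  have T0 : Fit (stabilizer G α) ≠ ⊥ := Fit_ne_bot_of_solvable inferInstance (hH α)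
  have h0 : fittingSubgroup (stabilizer G α) ≠ ⊥ := fun e => T0 (by rw [Fit, e, Subgroup.map_bot])
  obtain ⟨M, _, M0, -, mn⟩ := CfsgH8.exists_minimal_normal_le (⊤ : Subgroup G)
    (fun e => hH α (eq_bot_iff.2 (le_top.trans e.le)))
  obtain ⟨tr, rg, _, _, -, -, c1, c2⟩ := Cfsg.Agent.S0547.result hprim M M0 mn
  have cM : Nat.card M = p ^ d := by rw [c2, ← c1, Nat.card_eq_fintype_card, hcard]
  have ab : ⁅M, M⁆ = ⊥ := by
    obtain ⟨A, a0, l, c, n⟩ := exists_abelian_of_solvable (H := M) inferInstance M0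
    rwa [(mn A (normal_of_top_le (le_normalizer_of_normal.trans n)) l).resolve_left a0] at c
  haveI cm : IsMulCommutative M := CfsgH2.isMulComm_iff.2 (comm_bot_iff_forall.1 ab)
  obtain ⟨r, hr, ex⟩ := CfsgH8.elementary_of_minimal_normal_comm M M0 mn cm
  have ir := (Cfsg.Agent.S3495.result hprim hH hep M cm r hr ex tr rg α _ T0 (Fit_le _)
    (le_normalizer_Fit le_normalizer)).2
  have fa : ∀ g ∈ stabilizer G α, g ∈ centralizer (M : Set G) → g = 1 := fun g h1 h2 =>
    prim_free Ω M M0 h2 h1
  obtain ⟨ω, h⟩ := xp_exists hH α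
  haveI := xp_faithful hprim hH hep h
  haveI := hep α ω
  haveI : Nonempty (orbit (stabilizer G α) ω) := ⟨⟨ω, mem_orbit_self ω⟩⟩
  obtain ⟨cF, -, ⟨q, hq, eq⟩, -⟩ := prim_fit (orbit (stabilizer G α) ω) h0
  haveI := Fact.mk hq
  haveI := fittingSubgroup_normal (G := stabilizer G α)
  obtain ⟨a, ha, l⟩ := exists_cyclic_of_irreducible (A := Fit (stabilizer G α)) (V := M)
    ((comm_bot_iff.2 (CfsgH2.le_cent_of_comm (inferInstanceAs (IsMulCommutative (map _ _))) le_rfl)).le.trans
      bot_le) le_normalizer_of_normal ab ir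
  have eT : Fit (stabilizer G α) = zpowers a := le_antisymm (l.trans (sup_le (fun x hx =>
    fa x (Fit_le _ hx.1) hx.2 ▸ one_mem _) le_rfl)) (zpowers_le.2 ha)
  have a1 : a ≠ 1 := fun e => T0 (by rw [eT, e, zpowers_one_eq_bot])
  have aq : a ^ q = 1 := by
    obtain ⟨b, hb, rfl⟩ := ha
    exact congrArg Subtype.val (eq b hb)
  have cT : Nat.card (Fit (stabilizer G α)) = q := by
    rw [eT, Nat.card_zpowers, orderOf_eq_prime aq a1]
  have cF' : Nat.card (fittingSubgroup (stabilizer G α)) = q := (card_map_of_injective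
    (subtype_injective _)).symm.trans cT
  have d0 : d ≠ 0 := fun e => M0 (card_eq_one.1 (by rw [cM, e, pow_zero]))
  have od : d = orderOf (p : ZMod q) := Nat.pow_right_injective hp.two_le (cM.symm.trans
    (CfsgMC.card_irr hp cm (cM ▸ dvd_pow_self p d0) (le_normalizer_of_normal (mem_top a))
      (fun k => a1 (fa a (Fit_le _ ha) k)) (aq ▸ one_mem _) fun W l n => ir W l (eT ▸ zpowers_le.2 n)))
  have co := (xp_fit hprim hH hep h0 h).1.trans cF'
  obtain ⟨R, _, φ, hφ, cy, cd⟩ : ∃ (R : Type) (_ : Group R) (φ : stabilizer (stabilizer G α) ω →* R),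
      Function.Injective φ ∧ IsCyclic R ∧ Nat.card R = d := by
    letI := cjAct M
    haveI : Nontrivial (Additive M) := (nontrivial_iff_ne_bot M).2 M0
    obtain ⟨K, _, _, e, he⟩ := CfsgH8.Hu.semilin (G := stabilizer G α) (V := Additive M) cF fun W i => by
      refine (ir ((AddSubgroup.toSubgroup' W).map M.subtype) (map_subtype_le _)
        (le_normalizer_iff_cj.2 ?_)).imp (fun k => ?_) fun k => ?_
      · rintro _ ⟨g, hg, rfl⟩ _ ⟨_, ⟨w, hw, rfl⟩, rfl⟩
        exact ⟨_, i g hg _ hw, rfl⟩
      · exact eq_bot_iff.2 fun w hw => Subtype.ext (k.le ⟨_, hw, rfl⟩)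
      · refine eq_top_iff.2 fun w _ => ?_
        obtain ⟨u, hu, e⟩ := k.ge w.toMul.2
        obtain rfl : u = w := Subtype.ext e
        exact hu
    have cK : Nat.card K = p ^ d := (Nat.card_congr e.toEquiv).symm.trans cM
    haveI : CharP K p := charP_of_card_eq_prime_pow (Nat.card_eq_fintype_card.symm.trans cK)
    obtain ⟨m, rfl⟩ := tr.exists_smul_eq α ω
    have x0 : e (.ofMul m) ≠ 0 := fun k => h (by
      rw [show m = 1 from e.injective (k.trans (map_zero e).symm), one_smul])
    have : ∀ g : stabilizer (stabilizer G α) (m • α), ∃ σ : K ≃+* K, ∀ y,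
        e (g.1 • e.symm (e (.ofMul m) * y)) = e (.ofMul m) * σ y := fun g => by
      obtain ⟨b, σ, k⟩ := he g
      have f : g.1 • Additive.ofMul m = .ofMul m := by
        have : m⁻¹ * MulAut.conjNormal g.1.1 m ∈ stabilizer M α := by
          rw [mem_stabilizer_iff, mul_smul, inv_smul_eq_iff]
          show (g.1.1 * m * g.1.1⁻¹) • α = _
          rw [mul_smul, mul_smul, mem_stabilizer_iff.1 (inv_mem g.1.2)]
          exact g.2
        rw [rg, mem_bot, inv_mul_eq_one] at this
        exact this.symm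
      exact ⟨σ, fun y => by rw [k, e.apply_symm_apply, map_mul, ← mul_assoc, ← k, f]⟩
    choose σ hσ using this
    refine ⟨K ≃+* K, inferInstance, MonoidHom.mk' σ fun g k => RingEquiv.ext fun y =>
      mul_left_cancel₀ x0 ?_, (injective_iff_map_eq_one _).2 fun g k => Subtype.ext (Subtype.ext
        (fa _ g.1.2 fun x hx => ?_)), CfsgRO.cyc_aut, CfsgRO.card_aut cK⟩
    · rw [← hσ, RingAut.mul_apply, ← hσ, ← hσ, e.symm_apply_apply, ← mul_smul]; rfl
    · have := hσ g ((e (.ofMul m))⁻¹ * e (.ofMul ⟨x, hx⟩))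
      rw [show σ g = 1 from k, RingAut.one_apply, mul_inv_cancel_left₀ x0, e.symm_apply_apply] at this
      exact (mul_inv_eq_iff_eq_mul.1 (congrArg Subtype.val (e.injective this) :)).symm
  haveI := isCyclic_of_injective φ hφ
  have cC := cd ▸ card_dvd_of_injective φ hφ
  have cH : Nat.card (stabilizer G α) = q * Nat.card (stabilizer (stabilizer G α) ω) := by
    rw [← co, ← (stabilizer (stabilizer G α) ω).index_mul_card, index_stabilizer]; rfl
  obtain ⟨c, hc⟩ := (isCyclic_iff_exists_zpowers_eq_top (α := stabilizer (stabilizer G α) ω)).1 inferInstance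
  have zc : zpowers c.1 = stabilizer (stabilizer G α) ω := by
    have := congrArg (map (stabilizer (stabilizer G α) ω).subtype) hc
    rwa [MonoidHom.map_zpowers, ← MonoidHom.range_eq_map, range_subtype] at this
  have top : fittingSubgroup (stabilizer G α) ⊔ zpowers c.1 = ⊤ := by
    refine eq_top_of_card_eq _ ?_
    have := card_sup_mul_card_inf' (A := fittingSubgroup (stabilizer G α)) (B := zpowers c.1)
      le_normalizer_of_normal
    rwa [show fittingSubgroup (stabilizer G α) ⊓ zpowers c.1 = ⊥ from eq_bot_iff.2 fun x hx =>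
      (xp_fit hprim hH hep h0 h).2 x hx.1 (zc.le hx.2), card_bot, mul_one, zc, cF', ← cH, ← zc] at this
  refine ⟨q, hq, fun ω h => (xp_fit hprim hH hep h0 h).1.trans cF', hcard ▸ cF' ▸ xp_dvd hprim hH hep h0,
    fun i i0 l k => (Nat.le_of_dvd i0 (od ▸ (CfsgH8.dvd_iff_ord hp.pos).1 k)).not_gt l, _, Fit_le _,
    le_normalizer_Fit le_normalizer, cT, ⟨c.1.1, ?_⟩, cH ▸ Nat.mul_dvd_mul_left q cC⟩
  have := congrArg (map (stabilizer G α).subtype) top
  rw [Subgroup.map_sup, MonoidHom.map_zpowers, ← MonoidHom.range_eq_map, range_subtype] at this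
  exact this.symm

end Cfsg.Agent.S3496
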