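import Cfsg.Statements.S3497
import Mathlib
import Cfsg.Agent.H9.XP

set_option autoImplicit false
open Cfsg

namespace Cfsg.Agent.S3497

/-- Restrictions on the point stabilizer of an extremely primitive group. Let a finite group G act faithfully and primitively on a finite set Ω with point stabilizers H = G_α whose order is neither 1 nor a prime, each acting primitively on every one of its orbits. Then H has trivial center, the Fitting subgroup F(H) is an elementary abelian p-group for some prime p, and if F(H) ≠ 1 has order p ^ e then p ^ e divides the number of points minus one and H / F(H) embeds in GL_e(p) (there is a homomorphism from H to GL_e(p) with kernel exactly F(H)). -/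
theorem result {G : Type*} [Group G] [Finite G] {Ω : Type*} [Fintype Ω] [MulAction G Ω] [FaithfulSMul G Ω] (hprim : MulAction.IsPreprimitive G Ω) (hep : ∀ (α : Ω) (ω : Ω), MulAction.IsPreprimitive (MulAction.stabilizer G α) (MulAction.orbit (MulAction.stabilizer G α) ω)) (α : Ω)
    (hH1 : MulAction.stabilizer G α ≠ ⊥) (hHp : ¬ (Nat.card (MulAction.stabilizer G α)).Prime) :
    Subgroup.center (MulAction.stabilizer G α) = ⊥ ∧
    IsMulCommutative (Cfsg.fittingSubgroup (MulAction.stabilizer G α)) ∧
    ∃ p e : ℕ, p.Prime ∧ Nat.card (Cfsg.fittingSubgroup (MulAction.stabilizer G α)) = p ^ e ∧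
      (∀ x ∈ Cfsg.fittingSubgroup (MulAction.stabilizer G α), x ^ p = 1) ∧
      (Cfsg.fittingSubgroup (MulAction.stabilizer G α) ≠ ⊥ →
        p ^ e ∣ Fintype.card Ω - 1 ∧
        ∃ φ : MulAction.stabilizer G α →* GL (Fin e) (ZMod p), φ.ker = Cfsg.fittingSubgroup (MulAction.stabilizer G α)) := by
  open Subgroup CfsgH9 in
  open MulAction in
  have hH : ∀ β : Ω, stabilizer G β ≠ ⊥ := fun β => by
    obtain ⟨g, rfl⟩ := hprim.exists_smul_eq α β
    rw [stabilizer_smul_eq_stabilizer_map_conj]; exact mt cj_eq_bot.1 hH1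
  obtain ⟨ω, h⟩ := xp_exists hH α
  haveI := xp_faithful hprim hH hep h
  haveI := hep α ω
  haveI : Nonempty (orbit (stabilizer G α) ω) := ⟨⟨ω, mem_orbit_self ω⟩⟩
  refine ⟨prim_center (orbit (stabilizer G α) ω) hHp, ?_⟩
  by_cases h0 : fittingSubgroup (stabilizer G α) = ⊥
  · rw [h0]
    exact ⟨inferInstance, 2, 0, Nat.prime_two, card_bot, fun x hx => by rw [mem_bot.1 hx, one_pow],
      fun k => (k rfl).elim⟩
  obtain ⟨a, b, ⟨p, hp, c⟩, -⟩ := prim_fit (orbit (stabilizer G α) ω) h0
  haveI := Fact.mk hp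
  haveI := fittingSubgroup_normal (G := stabilizer G α)
  obtain ⟨e, he⟩ := (CfsgH2.isPGroup_of_exp c).exists_card_eq
  obtain ⟨φ, k⟩ := exists_gl_hom _ c he
  exact ⟨a, p, e, hp, he, c, fun _ => ⟨he ▸ xp_dvd hprim hH hep h0, φ,
    k.trans (le_antisymm b (CfsgH2.le_cent_of_comm a le_rfl))⟩⟩

end Cfsg.Agent.S3497
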