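import Cfsg.Statements.S3501
import Cfsg.Agent.S0721
import Cfsg.Agent.H9.Scott
import Cfsg.Agent.H1.Misc1
import Cfsg.Agent.H1.Basic

set_option autoImplicit false
open Cfsg

namespace Cfsg.Agent.S3501

/-- Let a finite group G act faithfully and primitively on a finite set Ω with at least two points, and suppose G is not almost simple (it has no non-abelian simple normal subgroup with trivial centralizer). Then the derangements of G form a single conjugacy class if and only if G is sharply 2-transitive (2-transitive, and no non-identity element fixes two points). -/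
theorem result {G : Type*} [Group G] [Finite G] {Ω : Type*} [Fintype Ω] [MulAction G Ω] [FaithfulSMul G Ω] (hΩ : 2 ≤ Fintype.card Ω) (hprim : MulAction.IsPreprimitive G Ω) (hnas : ¬ ∃ T : Subgroup G, T.Normal ∧ IsSimpleGroup T ∧ ¬ IsMulCommutative T ∧ Subgroup.centralizer (T : Set G) = ⊥) :
    Nat.card {c : ConjClasses G // ∃ g : G, ConjClasses.mk g = c ∧ ∀ ω : Ω, g • ω ≠ ω} = 1 ↔ (MulAction.IsMultiplyPretransitive G Ω 2 ∧ ∀ g : G, g ≠ 1 → ∀ a b : Ω, a ≠ b → g • a = a → g • b ≠ b) := by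
  open Subgroup MulAction Function in
  classical
  haveI : Nontrivial Ω := Fintype.one_lt_card_iff_nontrivial.1 hΩ
  obtain ⟨x0, hx0⟩ := CfsgH1.exists_derangement G Ω
  obtain ⟨a⟩ : Nonempty Ω := inferInstance
  have key : Nat.card {c : ConjClasses G // ∃ g : G, ConjClasses.mk g = c ∧ ∀ ω : Ω, g • ω ≠ ω} = 1 ↔
      ∀ x y : G, (∀ ω : Ω, x • ω ≠ ω) → (∀ ω : Ω, y • ω ≠ ω) → IsConj x y := by
    rw [Nat.card_eq_one_iff_unique]
    refine ⟨fun h x y hx hy => ConjClasses.mk_eq_mk_iff_isConj.1 (congrArg Subtype.val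
      (h.1.elim ⟨_, x, rfl, hx⟩ ⟨_, y, rfl, hy⟩)), fun h => ⟨⟨?_⟩, ⟨⟨_, x0, rfl, hx0⟩⟩⟩⟩
    rintro ⟨_, x, rfl, hx⟩ ⟨_, y, rfl, hy⟩
    exact Subtype.ext (ConjClasses.mk_eq_mk_iff_isConj.2 (h x y hx hy))
  rw [key, is_two_pretransitive_iff]
  refine ⟨fun H => ?_, fun ⟨h2, hs⟩ x y hx hy => ?_⟩
  swap
  · have uq : ∀ x y : G, (∀ ω : Ω, x • ω ≠ ω) → (∀ ω : Ω, y • ω ≠ ω) → x • a = y • a → x = y := by
      intro x y hx hy e
      by_contra ne
      have hb : x • a ≠ a := hx a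
      have : ∀ c : Ω, ∃ g : G, g • a = x • a ∧ (c = a → g = x) ∧ (c = x • a → g = y) ∧
          (c ≠ a → c ≠ x • a → g • c = c) := fun c => by
        by_cases c1 : c = a
        · exact ⟨x, rfl, fun _ => rfl, fun h => (hb (h.symm.trans c1)).elim, fun h => (h c1).elim⟩
        by_cases c2 : c = x • a
        · exact ⟨y, e.symm, fun h => (c1 h).elim, fun _ => rfl, fun _ h => (h c2).elim⟩
        obtain ⟨g, g1, g2⟩ := h2 (Ne.symm c1) (Ne.symm c2)
        exact ⟨g, g1, fun h => (c1 h).elim, fun h => (c2 h).elim, fun _ _ => g2⟩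
      choose F f1 f2 f3 f4 using this
      have inj : Injective fun c => F c • x • a := fun c d h => by
        have e1 : F c = F d := by
          by_contra z
          exact hs ((F d)⁻¹ * F c) (fun w => z (inv_mul_eq_one.1 w).symm) a (x • a) hb.symm
            (by rw [mul_smul, f1, inv_smul_eq_iff, f1]) (by rw [mul_smul, inv_smul_eq_iff]; exact h)
        by_contra z
        by_cases c1 : c = a
        · by_cases d2 : d = x • a
          · exact ne ((f2 c c1).symm.trans (e1.trans (f3 d d2)))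
          · exact hx d (by rw [← f2 c c1, e1]; exact f4 d (fun w => z (c1.trans w.symm)) d2)
        by_cases c2 : c = x • a
        · by_cases d1 : d = a
          · exact ne ((f2 d d1).symm.trans (e1.symm.trans (f3 c c2)))
          · exact hy d (by rw [← f3 c c2, e1]; exact f4 d d1 fun w => z (c2.trans w.symm))
        by_cases d1 : d = a
        · exact hx c (by rw [← f2 d d1, ← e1]; exact f4 c c1 c2)
        by_cases d2 : d = x • a
        · exact hy c (by rw [← f3 d d2, ← e1]; exact f4 c c1 c2)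
        exact hs (F c) (fun w => hb (by rw [← f1 c, w, one_smul])) c d z (f4 c c1 c2) (e1 ▸ f4 d d1 d2)
      obtain ⟨c, hc⟩ := Finite.injective_iff_surjective.1 inj (x • a)
      exact hb (smul_left_cancel (F c) (hc.trans (f1 c).symm))
    obtain ⟨g, g1, g2⟩ := h2 (hx a).symm (hy a).symm
    refine isConj_iff.2 ⟨g, uq _ _ (fun ω h => hx (g⁻¹ • ω) ?_) hy ?_⟩
    · rw [mul_smul, mul_smul, ← eq_inv_smul_iff] at h; exact h
    · rw [mul_smul, mul_smul, (inv_smul_eq_iff.2 g1.symm : g⁻¹ • a = a), g2]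
  have x1 : x0 ≠ 1 := fun e => hx0 a (by rw [e, one_smul])
  haveI : Nontrivial G := ⟨⟨_, _, x1⟩⟩
  have ntr : ∀ M : Subgroup G, M.Normal → M ≠ ⊥ → IsPretransitive M Ω := fun M _ h =>
    hprim.isQuasiPreprimitive.isPretransitive_of_normal fun e => h (eq_bot_iff.2 fun x hx =>
      mem_bot.2 (eq_of_smul_eq_smul (α := Ω) fun ω => by
        rw [one_smul]; exact (e ▸ Set.mem_univ ω : ω ∈ fixedPoints M Ω) ⟨x, hx⟩))
  have hD0 : ∀ M : Subgroup G, M.Normal → M ≠ ⊥ → ∀ x : G, (∀ ω : Ω, x • ω ≠ ω) → x ∈ M := by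
    intro M n h x hx
    haveI := ntr M n h
    obtain ⟨y, hy⟩ := CfsgH1.exists_derangement M Ω
    obtain ⟨c, rfl⟩ := isConj_iff.1 (H y x hy hx)
    exact n.conj_mem _ y.2 c
  obtain ⟨N, nN, hN, hmin⟩ := CfsgH1.exists_minimal_normal (G := G)
  have tN : ∀ b c : Ω, ∃ u ∈ N, u • b = c := fun b c =>
    let ⟨u, hu⟩ := (ntr N nN hN).exists_smul_eq b c; ⟨u, u.2, hu⟩
  by_cases hnab : IsMulCommutative N
  · have cm : ∀ u ∈ N, ∀ v ∈ N, u * v = v * u := fun u hu v hv =>
      congrArg Subtype.val (hnab.1.1 ⟨u, hu⟩ ⟨v, hv⟩)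
    have reg : ∀ n ∈ N, ∀ c : Ω, n • c = c → n = 1 := fun n hn c h =>
      eq_of_smul_eq_smul (α := Ω) fun ω => by
        obtain ⟨u, hu, rfl⟩ := tN c ω
        rw [one_smul, ← mul_smul, cm n hn u hu, mul_smul, h]
    refine ⟨fun {a b c d} h1 h2 => ?_, fun g hg a b hab h1 h2 => ?_⟩
    · obtain ⟨u, hu, rfl⟩ := tN a b
      obtain ⟨v, hv, rfl⟩ := tN c d
      obtain ⟨g, rfl⟩ := isConj_iff.1 (H u v (fun ω h => h1 (by rw [reg u hu ω h, one_smul]))
        fun ω h => h2 (by rw [reg v hv ω h, one_smul]))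
      obtain ⟨w, hw, rfl⟩ := tN (g • a) c
      refine ⟨w * g, mul_smul _ _ _, ?_⟩
      rw [← mul_smul (g * u * g⁻¹), cm _ hv w hw]
      simp [mul_smul]
    · have : ∀ n : N, ∃ c : Ω, (n : G) • g • c = c := fun n => by
        by_contra! z
        have := hD0 N nN hN (n * g) fun ω => by rw [mul_smul]; exact z ω
        exact hg (reg g ((mul_mem_cancel_left n.2).1 this) a h1)
      choose f hf using this
      have inj : Injective f := fun n n' e => Subtype.ext (inv_mul_eq_one.1 (reg ((n : G)⁻¹ * n')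
        (mul_mem (inv_mem n.2) n'.2) (g • f n) (by rw [mul_smul, inv_smul_eq_iff, hf, e, hf])))
      have bij : Bijective fun u : N => (u : G) • a := ⟨fun n n' e => Subtype.ext (inv_mul_eq_one.1
        (reg ((n : G)⁻¹ * n') (mul_mem (inv_mem n.2) n'.2) a (by
          rw [mul_smul, inv_smul_eq_iff]; exact e.symm))), fun c => let ⟨u, hu, h⟩ := tN a c; ⟨⟨u, hu⟩, h⟩⟩
      have su := (Finite.injective_iff_surjective_of_equiv (Equiv.ofBijective _ bij)).1 inj
      obtain ⟨n, rfl⟩ := su a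
      obtain ⟨n', rfl⟩ := su b
      have e1 := reg n n.2 _ (by have := hf n; rwa [h1] at this)
      have e2 := reg n' n'.2 _ (by have := hf n'; rwa [h2] at this)
      exact hab (congrArg f (Subtype.ext (e1.trans e2.symm)))
  exfalso
  have hC : centralizer (N : Set G) = ⊥ := by
    by_contra z
    rcases hmin (centralizer (N : Set G) ⊓ N) inferInstance inf_le_right with e | e
    · exact x1 (mem_bot.1 (e.le ⟨hD0 _ inferInstance z _ hx0, hD0 _ nN hN _ hx0⟩))
    · exact hnab ⟨⟨fun u v => Subtype.ext ((e.ge v.2).1 u u.2)⟩⟩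
  obtain ⟨T, _, m, hT, hm, ⟨e⟩⟩ := Cfsg.Agent.S0721.result N hN hmin
  have hab : ¬ IsMulCommutative T := fun h => hnab ⟨⟨fun x y => e.injective (by
    rw [map_mul, map_mul]; exact funext fun i => h.1.1 _ _)⟩⟩
  haveI : Nonempty (Fin m) := ⟨⟨0, hm⟩⟩
  obtain ⟨i0, j0, ij⟩ : ∃ i j : Fin m, i ≠ j := by
    by_contra! z
    haveI : Unique (Fin m) := ⟨⟨⟨0, hm⟩⟩, fun _ => z _ _⟩
    exact hnas ⟨N, nN, (e.trans (MulEquiv.funUnique _ _)).isSimpleGroup, hnab, hC⟩
  haveI : Finite (Fin m → T) := Finite.of_equiv _ e.toEquiv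
  haveI : Finite T := Finite.of_surjective (fun x : Fin m → T => x i0) fun t => ⟨fun _ => t, rfl⟩
  have hco := IsPreprimitive.isCoatom_stabilizer_of_isPreprimitive G a
  set K := stabilizer G a with hK
  have S2 : ∀ X ≤ N, K ⊓ N ≤ X → K ≤ normalizer (X : Set G) → X = K ⊓ N ∨ X = N := by
    intro X hX hKX hinv
    by_cases hXK : X ≤ K
    · exact Or.inl (le_antisymm (le_inf hXK hX) hKX)
    refine Or.inr (le_antisymm hX fun n hn => ?_)
    have hmem : n ∈ ((K ⊔ X : Subgroup G) : Set G) := by rw [hco.2 _ (left_lt_sup.2 hXK)]; trivial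
    rw [coe_mul_of_left_le_normalizer_right K X hinv] at hmem
    obtain ⟨k, hk, x, hx, rfl⟩ := hmem
    exact X.mul_mem (hKX ⟨hk, (mul_mem_cancel_right (hX hx)).1 hn⟩) hx
  have hNK : ¬ N ≤ K := fun h => hx0 a (h (hD0 N nN hN _ hx0))
  have htop : K ⊔ N = ⊤ := hco.2 _ (left_lt_sup.2 hNK)
  let D : Subgroup (Fin m → T) := (K.subgroupOf N).comap e.symm.toMonoidHom
  have hD : ∀ n : N, e n ∈ D ↔ (n : G) ∈ K := fun n => by
    simp [D, mem_subgroupOf]
  let φ : G → (Fin m → T) ≃* (Fin m → T) := fun k => e.symm.trans ((MulAut.conjNormal k).trans e)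
  have hφ : ∀ k n, φ k (e n) = e (MulAut.conjNormal k n) := fun k n => by simp [φ]
  let X : Subgroup (Fin m → T) → Subgroup G := fun E => (E.comap e.toMonoidHom).map N.subtype
  have hX : ∀ E (n : N), (n : G) ∈ X E ↔ e n ∈ E := fun E n =>
    ⟨fun ⟨l, a, b⟩ => (Subtype.ext b : l = n) ▸ a, fun h => ⟨n, h, rfl⟩⟩
  have XN : ∀ E, X E ≤ N := fun E => map_subtype_le _
  have Xn : ∀ E (L : Subgroup G), (∀ k ∈ L, ∀ x ∈ E, φ k x ∈ E) → L ≤ normalizer (X E : Set G) := by
    intro E L h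
    have A : ∀ k ∈ L, ∀ x ∈ X E, k * x * k⁻¹ ∈ X E := fun k hk x hx => by
      have := h k hk _ ((hX E ⟨x, XN E hx⟩).1 hx)
      rw [hφ] at this
      exact (hX E _).2 this
    exact fun k hk => mem_normalizer_iff.2 fun x => ⟨A k hk x, fun b => by
      simpa [mul_assoc] using A k⁻¹ (inv_mem hk) _ b⟩
  have Xt : ∀ E, X E = N → E = ⊤ := fun E h => eq_top_iff.2 fun x _ => by
    obtain ⟨n, rfl⟩ := e.surjective x
    exact (hX E n).1 (h.ge n.2)
  have der : ∀ n : N, (∀ y, y⁻¹ * e n * y ∉ D) → ∀ ω : Ω, (n : G) • ω ≠ ω := fun n h ω z => by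
    obtain ⟨u, hu, rfl⟩ := tN a ω
    refine h (e ⟨u, hu⟩) ?_
    rw [← map_inv, ← map_mul, ← map_mul, hD, mem_stabilizer_iff]
    simp [mul_smul, z]
  have cj : ∀ x x', (∀ y, y⁻¹ * x * y ∉ D) → (∀ y, y⁻¹ * x' * y ∉ D) → ∃ k, φ k x = x' := by
    intro x x' h h'
    obtain ⟨n, rfl⟩ := e.surjective x
    obtain ⟨n', rfl⟩ := e.surjective x'
    obtain ⟨k, hk⟩ := isConj_iff.1 (H _ _ (der n h) (der n' h'))
    exact ⟨k, by rw [hφ]; exact congrArg e (Subtype.ext hk)⟩
  rcases CfsgScott.main hab (D := D) (φ '' K) (by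
      rintro _ ⟨k, hk, rfl⟩ x
      obtain ⟨n, rfl⟩ := e.surjective x
      rw [hφ, hD, hD, MulAut.conjNormal_apply]
      exact ⟨fun h => by simpa [mul_assoc] using mul_mem (mul_mem (inv_mem hk) h) hk,
        fun h => mul_mem (mul_mem hk h) (inv_mem hk)⟩)
    (fun h => hNK fun n hn => (hD ⟨n, hn⟩).1 (h ▸ mem_top _))
    (fun E h1 h2 => (S2 (X E) (XN E) (fun n hn => (hX E ⟨n, hn.2⟩).2 (h1 ((hD ⟨n, hn.2⟩).2 hn.1)))
      (Xn E K fun k hk => h2 _ ⟨k, hk, rfl⟩)).imp (fun h => le_antisymm (fun x hx => by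
        obtain ⟨n, rfl⟩ := e.surjective x
        exact (hD n).2 (h.le ((hX E n).2 hx)).1) h1) (Xt E))
    (fun M h1 h2 => (hmin (X M) (normalizer_eq_top_iff.1 (eq_top_iff.2 (htop.ge.trans (sup_le
      (Xn M K fun k hk => h2 _ ⟨k, hk, rfl⟩) (Xn M N fun k hk x hx => by
        obtain ⟨n, rfl⟩ := e.surjective x
        have : MulAut.conjNormal k n = ⟨k, hk⟩ * n * (⟨k, hk⟩ : N)⁻¹ := Subtype.ext (by simp)
        rw [hφ, this, map_mul, map_mul, map_inv]
        exact h1.conj_mem _ hx _))))) (XN M)).imp (fun h => eq_bot_iff.2 fun x hx => by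
        obtain ⟨n, rfl⟩ := e.surjective x
        have : n = 1 := Subtype.ext (mem_bot.1 (h.le ((hX M n).2 hx)))
        simp [this]) (Xt M)) with ⟨L, a1, a2⟩ | ⟨ψ, k, c, a1, a2, a3⟩
  · have : ∀ i, ∃ t : T, ∀ y, y⁻¹ * t * y ∉ L i := fun i => by
      haveI : Nontrivial (T ⧸ L i) := Finite.one_lt_card_iff_nontrivial.1 (one_lt_index_of_ne_top (a1 i))
      obtain ⟨t, ht⟩ := CfsgH1.exists_derangement T (T ⧸ L i)
      refine ⟨t, fun y hy => ht (y : T ⧸ L i) (QuotientGroup.eq.2 ?_).symm⟩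
      simpa [mul_assoc] using hy
    choose t ht using this
    obtain ⟨k, hk⟩ := cj (Pi.mulSingle i0 (t i0)) t (fun y hy => ht i0 (y i0) (by
      simpa using (a2 _).1 hy i0)) fun y hy => ht i0 (y i0) ((a2 _).1 hy i0)
    obtain ⟨σ, s1, -⟩ := CfsgScott.perm' hab (φ k)
    have := (s1 j0 (Pi.mulSingle i0 (t i0))).1 (by simp [ij.symm])
    rw [hk] at this
    exact ht (σ j0) 1 (by simp [this, one_mem])
  · haveI : Nontrivial {i // c i = c i0} := Finite.one_lt_card_iff_nontrivial.1 (by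
      haveI : Nonempty {i // c i = c i0} := ⟨⟨i0, rfl⟩⟩
      have := a2 (c i0)
      have := Nat.card_pos (α := {i // c i = c i0})
      omega)
    obtain ⟨⟨j, hj⟩, hj'⟩ := exists_ne (⟨i0, rfl⟩ : {i // c i = c i0})
    have ji : j ≠ i0 := fun z => hj' (Subtype.ext z)
    have A : ∀ t : T, t ≠ 1 → ∀ y, y⁻¹ * Pi.mulSingle i0 t * y ∉ D := fun t ht y hy => ht (by
      have := (ψ i0).injective ((((a3 _).1 hy j i0 hj).symm.trans (by simp [ji])).trans (map_one _).symm)
      simpa [mul_assoc, inv_mul_eq_one] using this)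
    have O : ∀ t : T, orderOf (Pi.mulSingle i0 t : Fin m → T) = orderOf t := fun t =>
      orderOf_injective (MonoidHom.mulSingle (fun _ => T) i0) (Pi.mulSingle_injective (M := fun _ => T) i0) t
    obtain ⟨p, hp, hp'⟩ := Nat.exists_prime_and_dvd (Finite.one_lt_card (α := T)).ne'
    haveI := Fact.mk hp
    obtain ⟨s, hs⟩ := exists_prime_orderOf_dvd_card' p hp'
    have : IsPGroup p T := fun t => ⟨1, by
      by_cases z : t = 1
      · simp [z]
      obtain ⟨k, hk⟩ := cj _ _ (A s fun w => hp.ne_one (by rw [← hs, w, orderOf_one])) (A t z)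
      rw [pow_one, ← hs, ← O, ← (φ k).orderOf_eq, hk, O, pow_orderOf_eq_one]⟩
    haveI := this.center_nontrivial
    obtain ⟨⟨z, z1⟩, z2⟩ := exists_ne (1 : center T)
    exact z2 (Subtype.ext (CfsgScott.hz hab (mem_center_iff.1 z1)))

end Cfsg.Agent.S3501
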