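import Cfsg.Statements.S3520
import Cfsg.Agent.H9.Ons

set_option autoImplicit false
open Cfsg

namespace Cfsg.Agent.S3520

/-- Let a finite group G act faithfully and primitively on a finite set Ω with at least two points, suppose G is not almost simple (no non-abelian simple normal subgroup with trivial centralizer), and suppose the derangements of G form exactly two conjugacy classes. Then either Ω has 3 points and G has order 3; or G has a non-trivial abelian normal subgroup N acting regularly, every non-identity element of G fixes at most one point (so, when n > 3, G is a Frobenius group with kernel N), the number n of points is odd and a point stabilizer has order (n − 1)/2; or G is 2-transitive with a non-trivial abelian regular normal subgroup and some non-identity element fixes at least two points (a non-Frobenius 2-transitive affine group). -/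
theorem result {G : Type*} [Group G] [Finite G] {Ω : Type*} [Fintype Ω] [MulAction G Ω] [FaithfulSMul G Ω] (hΩ : 2 ≤ Fintype.card Ω) (hprim : MulAction.IsPreprimitive G Ω) (hnas : ¬ ∃ T : Subgroup G, T.Normal ∧ IsSimpleGroup T ∧ ¬ IsMulCommutative T ∧ Subgroup.centralizer (T : Set G) = ⊥)
    (hκ : Nat.card {c : ConjClasses G // ∃ g : G, ConjClasses.mk g = c ∧ ∀ ω : Ω, g • ω ≠ ω} = 2) (α : Ω) :
    (Fintype.card Ω = 3 ∧ Nat.card G = 3) ∨
    ((∃ N : Subgroup G, N.Normal ∧ N ≠ ⊥ ∧ IsMulCommutative N ∧ ∀ ω : Ω, MulAction.stabilizer N ω = ⊥) ∧ (∀ g : G, g ≠ 1 → Nat.card (MulAction.fixedBy Ω g) ≤ 1) ∧ ¬ 2 ∣ Fintype.card Ω ∧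
        2 * Nat.card (MulAction.stabilizer G α) = Fintype.card Ω - 1) ∨
    ((∃ N : Subgroup G, N.Normal ∧ N ≠ ⊥ ∧ IsMulCommutative N ∧ ∀ ω : Ω, MulAction.stabilizer N ω = ⊥) ∧ MulAction.IsMultiplyPretransitive G Ω 2 ∧ ∃ g : G, g ≠ 1 ∧ 2 ≤ Nat.card (MulAction.fixedBy Ω g)) := by
  open Subgroup MulAction Function CfsgScott in
  classical
  haveI : Nontrivial Ω := Fintype.one_lt_card_iff_nontrivial.1 hΩ
  obtain ⟨⟨_, x1, rfl, h1⟩, ⟨_, x2, rfl, h2⟩, ne, hu⟩ := Nat.card_eq_two_iff.1 hκ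
  have n12 : ¬ IsConj x1 x2 := fun h => ne (Subtype.ext (ConjClasses.mk_eq_mk_iff_isConj.2 h))
  have H : ∀ y : G, (∀ ω : Ω, y • ω ≠ ω) → IsConj x1 y ∨ IsConj x2 y := fun y hy => by
    have := hu ▸ Set.mem_univ (⟨_, y, rfl, hy⟩ :
      {c : ConjClasses G // ∃ g : G, ConjClasses.mk g = c ∧ ∀ ω : Ω, g • ω ≠ ω})
    exact this.imp (fun h => (ConjClasses.mk_eq_mk_iff_isConj.1 (congrArg Subtype.val h)).symm)
      fun h => (ConjClasses.mk_eq_mk_iff_isConj.1 (congrArg Subtype.val h)).symm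
  have H3 : ∀ x y z : G, (∀ ω : Ω, x • ω ≠ ω) → (∀ ω : Ω, y • ω ≠ ω) → (∀ ω : Ω, z • ω ≠ ω) →
      ¬ IsConj x z → ¬ IsConj y z → IsConj x y := fun x y z a b c d e => by
    rcases H x a with a | a <;> rcases H y b with b | b <;> rcases H z c with c | c <;>
      first | exact a.symm.trans b | exact (d (a.symm.trans c)).elim | exact (e (b.symm.trans c)).elim
  haveI : Nontrivial G := ⟨⟨x1, 1, fun e => h1 α (by rw [e, one_smul])⟩⟩
  obtain ⟨N, nN, hN, hmin⟩ := CfsgH1.exists_minimal_normal (G := G)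
  by_cases hnab : IsMulCommutative N
  swap
  · obtain ⟨T, _, _, d, hT, hab, d1, -, d2⟩ := ons hprim N hN hmin hnab fun h => hnas ⟨N, nN, h.1, hnab, h.2⟩
    obtain ⟨r, r1, -⟩ := third hab Nat.prime_two Nat.prime_two
    obtain ⟨s, s1, s2, -⟩ := third hab r1 r1
    obtain ⟨t, t1, t2, t3⟩ := third hab r1 s1
    have o : ∀ t : T, (orderOf t).Prime → t ≠ 1 := fun t h e => h.ne_one (by rw [e, orderOf_one])
    exact (s2 (d2 _ _ (H3 _ _ _ (d1 s (o s s1)) (d1 r (o r r1)) (d1 t (o t t1))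
      (fun h => t3 (d2 _ _ h).symm) fun h => t2 (d2 _ _ h).symm))).elim
  have tN : ∀ b c : Ω, ∃ u ∈ N, u • b = c := fun b c =>
    let ⟨u, hu⟩ := (ntr hprim N hN).exists_smul_eq b c; ⟨u, u.2, hu⟩
  have cm : ∀ u ∈ N, ∀ v ∈ N, u * v = v * u := fun u hu v hv =>
    congrArg Subtype.val (hnab.1.1 ⟨u, hu⟩ ⟨v, hv⟩)
  have rg : ∀ n ∈ N, ∀ c : Ω, n • c = c → n = 1 := fun n hn c h => reg hprim N hN (cm n hn) c h
  have rg' : ∀ n ∈ N, ∀ n' ∈ N, ∀ c : Ω, n • c = n' • c → n = n' := fun n hn n' hn' c h =>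
    inv_mul_eq_one.1 (rg (n⁻¹ * n') (mul_mem (inv_mem hn) hn') c (by rw [mul_smul, inv_smul_eq_iff, h]))
  have aff : ∃ N : Subgroup G, N.Normal ∧ N ≠ ⊥ ∧ IsMulCommutative N ∧ ∀ ω : Ω, stabilizer N ω = ⊥ :=
    ⟨N, nN, hN, hnab, fun c => eq_bot_iff.2 fun n hn => mem_bot.2 (Subtype.ext (rg n n.2 c hn))⟩
  have bij : Bijective fun u : N => (u : G) • α := ⟨fun n n' e => Subtype.ext (rg' _ n.2 _ n'.2 α e),
    fun c => let ⟨u, hu, h⟩ := tN α c; ⟨⟨u, hu⟩, h⟩⟩
  by_cases hF : ∀ g : G, g ≠ 1 → Nat.card (fixedBy Ω g) ≤ 1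
  · have hs : ∀ g : G, g ≠ 1 → ∀ a b : Ω, g • a = a → g • b = b → a = b := fun g hg a b ha hb =>
      congrArg Subtype.val ((Finite.card_le_one_iff_subsingleton.1 (hF g hg)).elim ⟨a, ha⟩ ⟨b, hb⟩)
    have dN : ∀ g : G, (∀ ω : Ω, g • ω ≠ ω) → g ∈ N := fun g hg => by
      by_contra z
      choose f f1 f2 using fun c : Ω => tN (g • c) c
      have inj : Injective fun c => (⟨f c, f1 c⟩ : N) := fun c d e => hs (f c * g)
        (fun w => z (by rw [eq_inv_of_mul_eq_one_right w]; exact inv_mem (f1 c))) c d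
        (by rw [mul_smul, f2]) (by rw [mul_smul, show f c = f d from congrArg Subtype.val e, f2])
      obtain ⟨c, hc⟩ := (Finite.injective_iff_surjective_of_equiv (Equiv.ofBijective _ bij).symm).1 inj 1
      have := f2 c
      rw [show f c = 1 from congrArg Subtype.val hc, one_smul] at this
      exact hg c this
    let x : Bool → G := fun i => if i then x1 else x2
    have xd : ∀ i (ω : Ω), x i • ω ≠ ω := fun i => by cases i; exacts [h2, h1]
    have xc : ∀ i j, IsConj (x i) (x j) → i = j := fun i j h => by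
      cases i <;> cases j
      exacts [rfl, (n12 h.symm).elim, (n12 h).elim, rfl]
    have ke : ∀ i (k : stabilizer G α), ((k : G) * x i * (k : G)⁻¹) • α = (k : G) • x i • α := fun i k => by
      rw [mul_smul, mul_smul, (inv_mem k.2 : (k : G)⁻¹ • α = α)]
    let F : Option (Bool × stabilizer G α) → Ω := fun o => o.elim α fun y => (y.2 : G) • x y.1 • α
    have F1 : ∀ i (k : stabilizer G α), (k : G) • x i • α ≠ α := fun i k e =>
      xd i α (smul_left_cancel (k : G) (e.trans (k.2 : (k : G) • α = α).symm))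
    have hb : Bijective F := by
      refine ⟨?_, fun c => ?_⟩
      · rintro (_ | ⟨i, k⟩) (_ | ⟨j, l⟩) e
        · rfl
        · exact (F1 j l e.symm).elim
        · exact (F1 i k e).elim
        change (k : G) • x i • α = (l : G) • x j • α at e
        have e1 := rg' _ (nN.conj_mem _ (dN _ (xd i)) k) _ (nN.conj_mem _ (dN _ (xd j)) l) α
          (by rw [ke, ke, e])
        obtain rfl := xc i j ((isConj_iff.2 ⟨_, e1⟩).trans (isConj_iff.2 ⟨_, rfl⟩).symm)
        have : k = l := by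
          by_contra z
          exact xd i α (hs ((l : G)⁻¹ * k) (fun w => z (Subtype.ext (inv_mul_eq_one.1 w).symm)) _ _
            (by rw [mul_smul, e, inv_smul_smul]) (mul_mem (inv_mem l.2) k.2))
        rw [this]
      · by_cases z : c = α
        · exact ⟨none, z.symm⟩
        obtain ⟨u, hu, rfl⟩ := tN α c
        obtain ⟨i, hi⟩ : ∃ i, IsConj (x i) u :=
          (H u fun ω h => z (by rw [rg u hu ω h, one_smul])).elim (fun h => ⟨true, h⟩) fun h => ⟨false, h⟩
        obtain ⟨g, rfl⟩ := isConj_iff.1 hi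
        obtain ⟨w, hw, e⟩ := tN (g • α) α
        refine ⟨some (i, ⟨w * g, (mul_smul _ _ _).trans e⟩), (ke i _).symm.trans ?_⟩
        have : w * g * x i * (w * g)⁻¹ = g * x i * g⁻¹ := by
          rw [mul_inv_rev, ← mul_assoc, mul_inv_eq_iff_eq_mul, cm _ hu w hw]; group
        exact congrArg (· • α) this
    have := Nat.card_eq_of_bijective F hb
    rw [Finite.card_option, Nat.card_prod, Nat.card_eq_fintype_card (α := Bool), Fintype.card_bool,
      Nat.card_eq_fintype_card (α := Ω)] at this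
    exact Or.inr (Or.inl ⟨aff, hF, by omega, by omega⟩)
  push Not at hF
  obtain ⟨g, hg, hF⟩ := hF
  refine Or.inr (Or.inr ⟨aff, ?_, g, hg, hF⟩)
  obtain ⟨⟨a, ha⟩, ⟨b, hb⟩, hab⟩ := Finite.one_lt_card_iff_nontrivial.1 hF
  obtain ⟨n, hn⟩ : ∃ n : N, ∀ c : Ω, (n : G) • g • c ≠ c := by
    by_contra! z
    choose f hf using z
    have inj : Injective f := fun n n' e => Subtype.ext (rg' _ n.2 _ n'.2 (g • f n) (by rw [hf, e, hf]))
    have su := (Finite.injective_iff_surjective_of_equiv (Equiv.ofBijective _ bij)).1 inj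
    obtain ⟨n, rfl⟩ := su a
    obtain ⟨n', rfl⟩ := su b
    have e1 := rg n n.2 _ (by have := hf n; rwa [(ha : g • f n = f n)] at this)
    have e2 := rg n' n'.2 _ (by have := hf n'; rwa [(hb : g • f n' = f n')] at this)
    exact hab (Subtype.ext (congrArg f (Subtype.ext (e1.trans e2.symm))))
  have nc : ∀ u ∈ N, ¬ IsConj u (n * g) := fun u hu h => by
    obtain ⟨c, hc⟩ := isConj_iff.1 h
    exact hg (rg g ((mul_mem_cancel_left n.2).1 (hc ▸ nN.conj_mem u hu c)) a ha)
  rw [is_two_pretransitive_iff]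
  intro a b c d h1 h2
  obtain ⟨u, hu, rfl⟩ := tN a b
  obtain ⟨v, hv, rfl⟩ := tN c d
  obtain ⟨k, rfl⟩ := isConj_iff.1 (H3 u v (n * g) (fun ω h => h1 (by rw [rg u hu ω h, one_smul]))
    (fun ω h => h2 (by rw [rg v hv ω h, one_smul])) (fun ω => by rw [mul_smul]; exact hn ω) (nc u hu) (nc v hv))
  obtain ⟨w, hw, rfl⟩ := tN (k • a) c
  refine ⟨w * k, mul_smul _ _ _, ?_⟩
  rw [← mul_smul (k * u * k⁻¹), cm _ hv w hw]
  simp [mul_smul]

end Cfsg.Agent.S3520
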