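import Mathlib
import Cfsg.Statements.S3554

set_option autoImplicit false
open Cfsg

namespace Cfsg.Agent.S3554


/-- Let G act faithfully and transitively on a finite set and suppose G has a non-trivial cyclic normal subgroup. Then some element of G of prime order fixes no point. -/
theorem result {G Ω : Type*} [Group G] [Finite G] [MulAction G Ω] [FaithfulSMul G Ω] [Finite Ω]
    (htrans : MulAction.IsPretransitive G Ω) (C : Subgroup G) (hC : C.Normal) (hC1 : C ≠ ⊥) (hcyc : IsCyclic ↥C) :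
    ∃ g : G, (orderOf g).Prime ∧ ∀ ω : Ω, g • ω ≠ ω := by
  obtain ⟨p, hp, hpd⟩ := Nat.exists_prime_and_dvd
    (show Nat.card C ≠ 1 from fun h => hC1 (Subgroup.eq_bot_of_card_eq _ h))
  have := Fact.mk hp
  obtain ⟨x, hx⟩ := exists_prime_orderOf_dvd_card' (G := C) p hpd
  refine ⟨x, by rw [Subgroup.orderOf_coe, hx]; exact hp, fun ω hω => ?_⟩
  have hchar : (Subgroup.zpowers x).Characteristic := by
    rw [Subgroup.characteristic_iff_map_le]
    intro φ
    obtain ⟨y, hy⟩ := IsCyclic.exists_generator (α := C)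
    obtain ⟨m, hm⟩ := hy (φ y)
    obtain ⟨j, hj⟩ := hy x
    rw [MonoidHom.map_zpowers, Subgroup.zpowers_le]
    refine ⟨m, ?_⟩
    have hm' : y ^ m = φ y := hm
    have hj' : y ^ j = x := hj
    show x ^ m = φ x
    rw [← hj', map_zpow, ← hm', ← zpow_mul, ← zpow_mul, mul_comm]
  have hn : ((Subgroup.zpowers x).map C.subtype).Normal := inferInstance
  have : (x : G) = 1 := by
    apply eq_of_smul_eq_smul (α := Ω)
    intro b
    obtain ⟨g, rfl⟩ := htrans.exists_smul_eq ω b
    have h1 := hn.conj_mem x ⟨x, Subgroup.mem_zpowers x, rfl⟩ g⁻¹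
    rw [MonoidHom.map_zpowers] at h1
    obtain ⟨k, hk⟩ := h1
    have h2 : ((x : G) ^ k) • ω = ω := MulAction.fixedBy_subset_fixedBy_zpow Ω (x : G) k hω
    have hk' : (x : G) ^ k = g⁻¹ * x * g⁻¹⁻¹ := hk
    rw [hk', mul_smul, mul_smul, inv_smul_eq_iff, inv_inv] at h2
    rw [h2, one_smul]
  rw [show x = 1 from Subtype.ext this, orderOf_one] at hx
  exact hp.one_lt.ne hx

end Cfsg.Agent.S3554
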