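import Cfsg.Statements.S3555
import Cfsg.Agent.H3.Hv1
import Cfsg.Agent.H1.Frob
import Cfsg.Agent.H8.Basic

set_option autoImplicit false
open Cfsg

namespace Cfsg.Agent.S3555
open MulAction Subgroup CfsgH2 Finset
theorem cm {G : Type*} [Group G] (x y : G) (h1 : x ^ 2 = 1) (h2 : y ^ 2 = 1) (h3 : (x * y) ^ 2 = 1) :
    x * y = y * x := by
  rw [sq] at h1 h2 h3
  calc x * y = x * (x * y * (x * y)) * y := by rw [h3, mul_one]
    _ = (x * x) * (y * x) * (y * y) := by group
    _ = _ := by rw [h1, h2, one_mul, mul_one]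

/-- Let G act faithfully and transitively on a finite set and suppose every element of G fixing no point is an involution. Then either G is an elementary abelian 2-group, or G is a Frobenius group whose Frobenius kernel is an elementary abelian 2-group: G has a Frobenius complement H, and the elements lying in no conjugate of H, together with the identity, pairwise commute and square to the identity. -/
theorem result {G Ω : Type*} [Group G] [Finite G] [MulAction G Ω] [FaithfulSMul G Ω] [Finite Ω]
    (htrans : MulAction.IsPretransitive G Ω) (hinv : ∀ g : G, (∀ ω : Ω, g • ω ≠ ω) → orderOf g = 2) :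
    (IsMulCommutative G ∧ ∀ g : G, g ^ 2 = 1) ∨
    (∃ H : Subgroup G, Cfsg.IsFrobeniusComplement H ∧
      (∀ x ∈ Cfsg.frobeniusKernel H, x ^ 2 = 1) ∧
      ∀ x ∈ Cfsg.frobeniusKernel H, ∀ y ∈ Cfsg.frobeniusKernel H, x * y = y * x) := by
  classical
  have := Fintype.ofFinite G
  have := Fintype.ofFinite Ω
  rcases isEmpty_or_nonempty Ω with h | h
  · have := hinv 1 fun a => h.elim a
    simp at this
  let Δ : Finset G := univ.filter fun g => ∀ ω : Ω, g • ω ≠ ω
  let π : G → ℤ := fun g => (univ.filter fun a : Ω => g • a = a).card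
  have πe : ∀ g, π g = Nat.card (fixedBy Ω g) := fun g => by
    rw [Nat.card_eq_fintype_card, Fintype.card_subtype]; rfl
  have sq : ∀ d ∈ Δ, d * d = 1 := fun d hd => by
    rw [← sq, ← hinv d (mem_filter.1 hd).2, pow_orderOf_eq_one]
  have h1 : ∀ a : Ω, Δ.card ≤ ∑ b ∈ univ.erase a, (univ.filter fun g : G => g • a = a ∧ g • b = b).card := fun a => by
    rw [card_eq_sum_card_fiberwise (t := univ.erase a) (f := fun g => g • a) fun g hg => by
      simpa using (mem_filter.1 hg).2 a]
    refine sum_le_sum fun b _ => ?_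
    rcases (Δ.filter fun g => g • a = b).eq_empty_or_nonempty with e | ⟨d, hd⟩
    · simp [e]
    obtain ⟨d1, rfl⟩ := mem_filter.1 hd
    refine card_le_card_of_injOn (d * ·) (fun x hx => ?_) fun x _ y _ e => mul_left_cancel e
    obtain ⟨x1, x2⟩ := mem_filter.1 hx
    refine mem_filter.2 ⟨mem_univ _, by rw [mul_smul, x2, ← mul_smul, sq d d1, one_smul], ?_⟩
    rw [mul_smul, ← x2, ← mul_smul x x, sq x x1, one_smul, x2]
  have h2 : (Fintype.card Ω : ℤ) * Δ.card ≤ ∑ g, π g * (π g - 1) := by
    have := sum_le_sum fun a (_ : a ∈ univ) => h1 a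
    simp only [card_filter] at this
    rw [sum_const, card_univ, smul_eq_mul, sum_congr rfl fun a _ => sum_comm, sum_comm] at this
    refine (show ((_ : ℕ) : ℤ) ≤ (_ : ℕ) by exact_mod_cast this).trans_eq ?_
    push_cast
    refine sum_congr rfl fun g _ => ?_
    rw [← nsmul_eq_mul, ← sum_const, sum_filter]
    refine sum_congr rfl fun a _ => ?_
    split_ifs with c
    · simp only [c, true_and, sum_boole, π]
      rw [← card_erase_add_one (s := univ.filter fun a : Ω => g • a = a) (a := a) (by simpa using c), filter_erase]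
      simp
    · simp [c]
  have h3 : ∑ g, π g = ∑ g : G, 1 := by
    simp only [πe]
    rw [sum_const, card_univ, ← Nat.card_eq_fintype_card, ← CfsgH8.sum_card_fixedBy_of_transitive (Ω := Ω)]
    simp
  have h4 : ∑ g, (π g - 1) * (π g - Fintype.card Ω) = ∑ g, π g * (π g - 1) := by
    have : ∀ g, (π g - 1) * (π g - Fintype.card Ω) = π g * (π g - 1) - Fintype.card Ω * (π g - 1) := fun g => by ring
    simp only [this, sum_sub_distrib, ← mul_sum, h3, sub_self, mul_zero, sub_zero]
  have np : ∀ g ∈ univ.filter fun g : G => ¬ ∀ ω : Ω, g • ω ≠ ω, (π g - 1) * (π g - Fintype.card Ω) ≤ 0 :=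
    fun g hg => by
      have := (mem_filter.1 hg).2
      push Not at this
      obtain ⟨a, ha⟩ := this
      have : 0 < (univ.filter fun a : Ω => g • a = a).card := card_pos.2 ⟨a, by simpa using ha⟩
      have := card_le_univ (univ.filter fun a : Ω => g • a = a)
      exact mul_nonpos_of_nonneg_of_nonpos (by simp only [π]; omega) (by simp only [π]; omega)
  rw [← sum_filter_add_sum_filter_not _ (fun g : G => ∀ ω : Ω, g • ω ≠ ω),
    sum_congr (s₁ := Δ) rfl (g := fun _ => (Fintype.card Ω : ℤ)) fun g hg => by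
      have : π g = 0 := by simpa [π, filter_eq_empty_iff] using (mem_filter.1 hg).2
      rw [this]; ring, sum_const, nsmul_eq_mul] at h4
  have h5 := (sum_eq_zero_iff_of_nonpos np).1 (le_antisymm (sum_nonpos np) (by linarith))
  have key : ∀ (g : G) (a b : Ω), a ≠ b → g • a = a → g • b = b → g = 1 := fun g a b ab ha hb => by
    have := h5 g (by simpa using ⟨a, ha⟩)
    have c : 1 < (univ.filter fun a : Ω => g • a = a).card :=
      one_lt_card.2 ⟨a, by simpa using ha, b, by simpa using hb, ab⟩
    have e : (univ.filter fun a : Ω => g • a = a) = univ := eq_univ_of_card _ (by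
      rcases mul_eq_zero.1 this with e | e <;> simp only [π] at e <;> omega)
    exact eq_of_smul_eq_smul (α := Ω) fun c => by
      have : c ∈ univ.filter fun a : Ω => g • a = a := by rw [e]; exact mem_univ c
      rw [one_smul]; exact (mem_filter.1 this).2
  obtain ⟨a⟩ := h
  have st : ∀ (g x : G), x ∈ (stabilizer G a).map (cj g) ↔ x • g • a = g • a := fun g x => by
    rw [mem_map_cj, mem_stabilizer_iff, mul_smul, mul_smul, inv_smul_eq_iff]
  have dr : ∀ x : G, (∀ g : G, x • g • a ≠ g • a) → x ^ 2 = 1 := fun x hx => by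
    rw [← hinv x fun b => by obtain ⟨g, rfl⟩ := exists_smul_eq G a b; exact hx g, pow_orderOf_eq_one]
  by_cases h0 : stabilizer G a = ⊥
  · have : ∀ g : G, g ^ 2 = 1 := fun x => by
      by_contra h
      refine h (dr x fun g e => h ?_)
      have := (st g x).2 e
      rw [h0, Subgroup.map_bot, mem_bot] at this
      rw [this, one_pow]
    exact .inl ⟨⟨⟨fun x y => cm x y (this x) (this y) (this _)⟩⟩, this⟩
  have hF : Cfsg.IsFrobeniusComplement (stabilizer G a) := ⟨h0, fun e => h0 (eq_bot_iff.2 fun x _ =>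
      eq_of_smul_eq_smul (α := Ω) fun b => by
        obtain ⟨g, rfl⟩ := exists_smul_eq G a b
        rw [one_smul]; exact (st g x).1 (by rw [e, map_cj_eq_top.2 rfl]; trivial)),
    fun g hg => eq_bot_iff.2 fun x hx => key x a (g • a) (Ne.symm hg) hx.1 ((st g x).1 hx.2)⟩
  have h6 : ∀ x ∈ Cfsg.frobeniusKernel (stabilizer G a), x ^ 2 = 1 := by
    rintro x (rfl | hx)
    · exact one_pow 2
    · exact dr x fun g e => hx g ((st g x).2 e)
  refine .inr ⟨_, hF, h6, fun x hx y hy => ?_⟩
  obtain ⟨K, hK⟩ := CfsgH1.exists_frob hF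
  rw [hK.kernel_eq] at h6 hx hy
  exact cm x y (h6 x hx) (h6 y hy) (h6 _ (K.mul_mem hx hy))


end Cfsg.Agent.S3555
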