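import Cfsg.Statements.S3556
import Cfsg.Agent.H9.Ons

set_option autoImplicit false
open Cfsg

namespace Cfsg.Agent.S3556

/-- Let G act faithfully and primitively on a finite set with at least two points, and suppose that for some fixed prime p every element of G fixing no point has order a power of p. Then G is of affine type (it has a regular normal subgroup that is an elementary abelian r-group for some prime r) or almost simple (it has a non-abelian simple normal subgroup with trivial centralizer). -/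
theorem result {G Ω : Type*} [Group G] [Finite G] [MulAction G Ω] [FaithfulSMul G Ω] [Finite Ω]
    (hprim : MulAction.IsPreprimitive G Ω) (hΩ : 2 ≤ Nat.card Ω) (p : ℕ) (hp : p.Prime)
    (hder : ∀ g : G, (∀ ω : Ω, g • ω ≠ ω) → ∃ k : ℕ, orderOf g = p ^ k) :
    (∃ (N : Subgroup G) (r : ℕ), r.Prime ∧ N.Normal ∧ Cfsg.IsElementaryAbelian r N ∧
      MulAction.IsPretransitive N Ω ∧ ∀ a : Ω, MulAction.stabilizer N a = ⊥) ∨
    (∃ T : Subgroup G, T.Normal ∧ IsSimpleGroup ↥T ∧ ¬ IsMulCommutative ↥T ∧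
      Subgroup.centralizer (T : Set G) = ⊥) := by
  open Subgroup MulAction Function CfsgScott in
  haveI : Nontrivial Ω := Finite.one_lt_card_iff_nontrivial.1 hΩ
  obtain ⟨x0, hx0⟩ := CfsgH1.exists_derangement G Ω
  obtain ⟨a⟩ : Nonempty Ω := inferInstance
  haveI : Nontrivial G := ⟨⟨x0, 1, fun e => hx0 a (by rw [e, one_smul])⟩⟩
  obtain ⟨N, nN, hN, hmin⟩ := CfsgH1.exists_minimal_normal (G := G)
  by_cases hnab : IsMulCommutative N
  · haveI : Group.IsSolvable N := Group.isSolvable_of_comm hnab.1.1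
    obtain ⟨-, r, h1, h2⟩ := CfsgH1.minimal_normal_solvable_elementary N hN hmin
    refine Or.inl ⟨N, r, h1, nN, ⟨hnab, ?_⟩, ntr hprim N hN, fun c => eq_bot_iff.2 fun n hn =>
      mem_bot.2 (Subtype.ext (reg hprim N hN (fun u hu => congrArg Subtype.val (hnab.1.1 n ⟨u, hu⟩)) c hn))⟩
    first | exact h2 | exact h2.2 | exact fun x hx => congrArg Subtype.val (h2 ⟨x, hx⟩)
  by_cases h : IsSimpleGroup N ∧ centralizer (N : Set G) = ⊥
  · exact Or.inr ⟨N, nN, h.1, hnab, h.2⟩
  obtain ⟨T, _, _, d, hT, hab, d1, d2, -⟩ := ons hprim N hN hmin hnab h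
  obtain ⟨t, t1, t2, -⟩ := third hab hp hp
  obtain ⟨k, hk⟩ := hder (d t) (d1 t fun e => t1.ne_one (by rw [e, orderOf_one]))
  exact (t2 ((Nat.prime_dvd_prime_iff_eq t1 hp).1 (t1.dvd_of_dvd_pow (hk ▸ d2 t)))).elim

end Cfsg.Agent.S3556
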