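import Cfsg.Statements.S3626
import Cfsg.Agent.H6.Af1
import Cfsg.Agent.H6.Sx6
import Cfsg.Agent.S1159

set_option autoImplicit false
open Cfsg

namespace Cfsg.Agent.S3626

set_option linter.unusedSectionVars false
open CfsgH6 CfsgH8 Matrix Polynomial
open scoped MatrixGroups

section
variable {K : Type*} [Field K]

theorem cm (g h : SL(2, K)) : (g * h).1 = g.1 * h.1 := rfl
theorem cp (g : SL(2, K)) (t : ℕ) : (g ^ t).1 = g.1 ^ t := Matrix.SpecialLinearGroup.coe_pow g t
theorem ci (g : SL(2, K)) : g.1 * g⁻¹.1 = 1 := by rw [← cm, mul_inv_cancel]; rfl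
theorem ci' (g : SL(2, K)) : g⁻¹.1 * g.1 = 1 := by rw [← cm, inv_mul_cancel]; rfl

theorem ch2 (g : SL(2, K)) : g.1 * g.1 = g.1.trace • g.1 - 1 := by
  have := g.2
  rw [det_fin_two] at this
  ext i j
  fin_cases i <;> fin_cases j <;> simp [mul_apply, trace_fin_two, Fin.sum_univ_two] <;>
    first | ring1 | linear_combination -this

theorem sq_one (h2 : (2 : K) ≠ 0) {g : SL(2, K)} (h : g ^ 2 = 1) : g = 1 ∨ g = -1 := by
  have h1 := ch2 g
  have h3 : g.1 * g.1 = 1 := by simpa [sq] using congrArg Subtype.val h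
  rw [h3, eq_sub_iff_add_eq] at h1
  have e := fun i j => congrFun (congrFun h1 i) j
  have a := e 0 0
  have b := e 0 1
  have c := e 1 0
  have d := e 1 1
  simp at a b c d
  have t : g.1.trace ≠ 0 := fun k => h2 (by rw [k] at a; linear_combination a)
  have b := b.resolve_left t
  have c := c.resolve_left t
  have d : g.1 0 0 = g.1 1 1 := mul_left_cancel₀ t (a.symm.trans d)
  have := g.2
  rw [det_fin_two, b, ← d, zero_mul, sub_zero, mul_self_eq_one_iff] at this
  refine this.imp (fun k => ?_) fun k => ?_ <;> ext i j <;> fin_cases i <;> fin_cases j <;>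
    simp [b, c, ← d, k]

theorem cls [Finite K] (g : SL(2, K)) (h : g.1.trace ^ 2 ≠ 4) :
    g ^ (Nat.card K - 1) = 1 ∨ g ^ (Nat.card K + 1) = 1 := by
  set P : K[X] := X ^ 2 - C g.1.trace * X + 1 with hP
  have key : ∀ N, P ∣ X ^ N - 1 → g ^ N = 1 := fun N ⟨Q, e⟩ => by
    have := congrArg (aeval g.1) e
    rw [map_mul, show aeval g.1 P = 0 by
      simp [hP, sq, ch2, Algebra.smul_def], zero_mul] at this
    exact Subtype.ext (by simpa [sub_eq_zero] using this)
  have m : P.Monic := by rw [hP]; monicity!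
  have d : P.natDegree = 2 := by rw [hP]; compute_degree!
  by_cases hi : Irreducible P
  · rcases Sx.id_self hi m (by simp [hP]) (by
      have : Sx.D (RingHom.id K) P = P := by
        simp only [Sx.D, Polynomial.map_id, reverse, d]
        rw [hP, reflect_add, reflect_sub, ← pow_one (X : K[X]), ← pow_mul, reflect_C_mul_X_pow, reflect_monomial,
          reflect_one]
        simp
        ring
      rw [this]) with ⟨e, -, k⟩ | ⟨a, k1, k2⟩
    · rw [k, natDegree_X_sub_C] at d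
      omega
    · obtain rfl : a = 1 := by omega
      exact Or.inr (key _ (pow_one (Nat.card K) ▸ Sx.root_dvd k2))
  · rw [m.irreducible_iff_roots_eq_zero_of_degree_le_three (by omega) (by omega)] at hi
    obtain ⟨a, ha⟩ := Multiset.exists_mem_of_ne_zero hi
    have ha : a ^ 2 - g.1.trace * a + 1 = 0 := by simpa [hP] using isRoot_of_mem_roots ha
    have a0 : a ≠ 0 := by rintro rfl; simp at ha
    have t : g.1.trace = a + a⁻¹ := by field_simp; linear_combination -ha
    have := Fintype.ofFinite K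
    have r : ∀ b : K, b ≠ 0 → X - C b ∣ X ^ (Nat.card K - 1) - 1 := fun b hb => dvd_iff_isRoot.2 (by
      simp [FiniteField.pow_card_sub_one_eq_one b hb])
    refine Or.inl (key _ ?_)
    have : P = (X - C a) * (X - C a⁻¹) := by
      rw [hP, t, ← C_1, ← mul_inv_cancel₀ a0, C_add, C_mul]; ring
    rw [this]
    refine (isCoprime_X_sub_C_of_isUnit_sub (Ne.isUnit fun e => h ?_)).mul_dvd (r a a0) (r _ (inv_ne_zero a0))
    rw [t]
    linear_combination (a - a⁻¹) * e + 4 * mul_inv_cancel₀ a0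

variable [CharP K 3]

/-- the twisting map -/
def tw : SL(2, K) →* SL(2, K) := SpecialLinearGroup.map (frobenius K 3)

/-- the twisted tensor module -/
def rho : ℤˣ × SL(2, K) →* Module.End K (Matrix (Fin 2) (Fin 2) K) where
  toFun x := ((x.1 : ℤ) : K) • (LinearMap.mulLeft K x.2.1 ∘ₗ LinearMap.mulRight K (tw x.2)⁻¹.1)
  map_one' := LinearMap.ext fun A => by simp
  map_mul' x y := LinearMap.ext fun A => by
    simp [mul_assoc, smul_smul, mul_comm]

theorem rho_apply (x : ℤˣ × SL(2, K)) (A : Matrix (Fin 2) (Fin 2) K) :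
    rho x A = ((x.1 : ℤ) : K) • (x.2.1 * (A * (tw x.2)⁻¹.1)) := rfl

theorem two_ne : (2 : K) ≠ 0 := fun h => by
  have := (CharP.cast_eq_zero_iff K 3 2).1 h
  omega

theorem rho_one {x : ℤˣ × SL(2, K)} : rho x = 1 ↔ x.1 = 1 ∧ x.2 ^ 2 = 1 := by
  obtain ⟨e, g⟩ := x
  refine ⟨fun h => ?_, fun h => ?_⟩
  · have k : ∀ A, ((e : ℤ) : K) • (g.1 * A) = A * (tw g).1 := fun A => by
      have := LinearMap.congr_fun h (A * (tw g).1)
      rwa [rho_apply, mul_assoc, ci, mul_one] at this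
    have a := fun i j => congrFun (congrFun (k !![1, 0; 0, 0]) i) j
    have b := fun i j => congrFun (congrFun (k !![0, 1; 0, 0]) i) j
    have c := fun i j => congrFun (congrFun (k !![0, 0; 0, 1]) i) j
    have a1 := a 0 0
    have a2 := a 1 0
    have b1 := b 0 1
    have c1 := c 0 1
    have c2 := c 1 1
    have d := g.2
    have e0 : ((e : ℤ) : K) ≠ 0 := by rcases Int.units_eq_one_or e with rfl | rfl <;> simp
    simp [mul_apply, Fin.sum_univ_two, tw, frobenius_def, e0] at a1 a2 b1 c1 c2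
    rw [det_fin_two, a2, mul_zero, sub_zero] at d
    have d1 : g.1 0 0 = g.1 1 1 := mul_left_cancel₀ e0 (b1.trans c2.symm)
    rw [← d1] at d
    refine ⟨?_, Subtype.ext ?_⟩
    · rcases Int.units_eq_one_or e with rfl | rfl
      · rfl
      · refine absurd ?_ (two_ne (K := K))
        simp at a1
        linear_combination (-g.1 0 0) * a1 - (g.1 0 0 * g.1 0 0 + 2) * d
    · ext i j
      fin_cases i <;> fin_cases j <;> simp [sq, mul_apply, Fin.sum_univ_two, a2, c1, ← d1, d]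
  · obtain ⟨rfl, h⟩ := h
    refine LinearMap.ext fun A => ?_
    rcases sq_one two_ne h with rfl | rfl
    · simp [rho_apply]
    · have : tw (-1 : SL(2, K)) = -1 := by
        ext i j
        fin_cases i <;> fin_cases j <;> simp [tw]
      simp [rho_apply, this]

theorem rho_fix {x : ℤˣ × SL(2, K)} {A : Matrix (Fin 2) (Fin 2) K} (h : rho x A = A) (h0 : A ≠ 0) :
    x.2.1.trace = 0 ∨ x.2.1.trace ^ 2 = ((x.1 : ℤ) : K) := by
  obtain ⟨e, g⟩ := x
  have k : ((e : ℤ) : K) • (g.1 * A) = A * (tw g).1 := by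
    have := congrArg (· * (tw g).1) h
    simpa only [rho_apply, smul_mul_assoc, mul_assoc, ci', mul_one] using this
  have e2 : ((e : ℤ) : K) * (e : ℤ) = 1 := by rcases Int.units_eq_one_or e with rfl | rfl <;> simp
  have t : (tw g).1.trace = g.1.trace ^ 3 := by
    simp [tw, trace_fin_two, frobenius_def, add_pow_char]
  have k2 : g.1 * g.1 * A = A * ((tw g).1 * (tw g).1) := by
    rw [← mul_assoc A, ← k, smul_mul_assoc, mul_assoc g.1 A, ← k, mul_smul_comm, smul_smul, e2, one_smul,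
      mul_assoc]
  rw [ch2, ch2, sub_mul, mul_sub, one_mul, mul_one, sub_left_inj, smul_mul_assoc, mul_smul_comm, ← k, t,
    smul_smul, ← sub_eq_zero, ← sub_smul, smul_eq_zero] at k2
  have k3 := k2.resolve_right fun z => h0 (by
    simpa only [← mul_assoc, ci', one_mul, mul_zero] using congrArg (g⁻¹.1 * ·) z)
  refine (em _).imp id fun z => mul_left_cancel₀ z ?_
  linear_combination (-((e : ℤ) : K)) * k3 - g.1.trace ^ 3 * e2

/-- the acting group -/
abbrev Gm (K : Type*) [Field K] [CharP K 3] := (rho (K := K)).toHomUnits.range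

theorem gm_pow (x : ℤˣ × SL(2, K)) (t : ℕ) :
    (⟨_, x, rfl⟩ : Gm K) ^ t = 1 ↔ x.1 ^ t = 1 ∧ x.2 ^ (t * 2) = 1 := by
  rw [pow_mul, ← Prod.pow_fst, ← Prod.pow_snd, ← rho_one, Subtype.ext_iff, Units.ext_iff, map_pow]
  rfl

theorem ex3 (A : Matrix (Fin 2) (Fin 2) K) : 3 • A = 0 := by
  ext i j
  simp [show (3 : K) = 0 from CharP.cast_eq_zero K 3]

theorem cube_eq {g : SL(2, K)} (h : g.1.trace ^ 2 = 1) : g ^ 6 = 1 := by
  have h3 : (3 : K) = 0 := CharP.cast_eq_zero K 3
  have : g.1 ^ 3 = (-g.1.trace) • 1 := by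
    rw [pow_succ, sq, ch2, sub_mul, smul_mul_assoc, ch2, smul_sub, smul_smul, ← sq, h]
    simp
  refine Subtype.ext ?_
  rw [cp, show 6 = 3 * 2 from rfl, pow_mul, this]
  simp [_root_.smul_pow, h]

theorem upper [Finite K] (hq : Nat.card K % 4 = 3) (x : Aff (Gm K) (Matrix (Fin 2) (Fin 2) K)) :
    x ^ 6 = 1 ∨ x ^ 9 = 1 ∨ x ^ (Nat.card K - 1) = 1 ∨ x ^ ((Nat.card K + 1) / 2) = 1 := by
  obtain ⟨v, _, ⟨e, g⟩, rfl⟩ := x
  have e2 : ∀ t, 2 ∣ t → e ^ t = 1 := by
    rintro _ ⟨t, rfl⟩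
    rw [pow_mul, Int.units_sq, one_pow]
  by_cases h : ∀ A, rho (e, g) A = A → A = 0
  · by_cases k : g.1.trace ^ 2 = 4
    · refine Or.inl (Aff.pow_of_fpf ((gm_pow _ _).2 ⟨e2 _ (by omega), ?_⟩) h)
      rw [pow_mul, cube_eq (k.trans (by linear_combination CharP.cast_eq_zero K 3)), one_pow]
    · refine Or.inr (Or.inr ((cls g k).imp (fun k => Aff.pow_of_fpf ((gm_pow _ _).2
        ⟨e2 _ (by omega), ?_⟩) h) fun k => Aff.pow_of_fpf ((gm_pow _ _).2 ⟨e2 _ (by omega), ?_⟩) h))
      · rw [pow_mul, k, one_pow]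
      · rwa [Nat.div_mul_cancel (by omega)]
  · push Not at h
    obtain ⟨A, h, h0⟩ := h
    rcases rho_fix h h0 with k | k
    · refine Or.inl (Aff.pow_mul_eq_one (k := 2) (l := 3) ex3 ((gm_pow _ _).2 ⟨e2 _ dvd_rfl, Subtype.ext ?_⟩))
      have := ch2 g
      rw [k] at this
      rw [cp, pow_mul, sq g.1, this]
      simp
    · rcases Int.units_eq_one_or e with rfl | rfl
      · exact Or.inr (Or.inl (Aff.pow_mul_eq_one (k := 3) (l := 3) ex3 ((gm_pow _ _).2
          ⟨one_pow _, cube_eq (k.trans (by simp))⟩)))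
      · have := Fintype.ofFinite K
        rw [Nat.card_eq_fintype_card] at hq
        exact absurd hq (FiniteField.isSquare_neg_one_iff.1
          ⟨g.1.trace, by simpa [sq, eq_comm] using k⟩)

/-- a unipotent element -/
def uu : SL(2, K) := ⟨!![1, 1; 0, 1], by simp⟩

theorem uu_pow (t : ℕ) : ((uu : SL(2, K)) ^ t).1 = !![1, (t : K); 0, 1] := by
  induction t with
  | zero => simp [one_fin_two]
  | succ t ih => rw [pow_succ, cm, ih]; simp [uu, add_comm]

theorem uu_dvd {t : ℕ} (h : (uu : SL(2, K)) ^ (t * 2) = 1) : 3 ∣ t := by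
  have := congrFun (congrFun ((uu_pow _).symm.trans (congrArg Subtype.val h)) 0) 1
  simp [two_ne] at this
  exact (CharP.cast_eq_zero_iff K 3 t).1 this

theorem lower [Finite K] (hq : Nat.card K % 4 = 3) {d : ℕ}
    (h : d ∣ 6 ∨ d ∣ 9 ∨ d ∣ Nat.card K - 1 ∨ d ∣ (Nat.card K + 1) / 2) :
    d ∈ Set.range (orderOf : Aff (Gm K) (Matrix (Fin 2) (Fin 2) K) → ℕ) := by
  have : Finite (Gm K) := Finite.of_surjective _ (MonoidHom.rangeRestrict_surjective _)
  have key : ∀ (x : ℤˣ × SL(2, K)) m, (∀ t, x.1 ^ t = 1 → x.2 ^ (t * 2) = 1 → m ∣ t) → d ∣ m →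
      d ∈ Set.range (orderOf : Aff (Gm K) (Matrix (Fin 2) (Fin 2) K) → ℕ) := fun x m k1 k2 => by
    have := (gm_pow x _).1 (pow_orderOf_eq_one _)
    exact Sx.exists_ord (w := .inr ⟨_, x, rfl⟩) (k2.trans (by rw [Aff.orderOf_inr]; exact k1 _ this.1 this.2))
  have ev : ∀ t, (-1 : ℤˣ) ^ t = 1 → 2 ∣ t := fun t k =>
    ((neg_one_pow_eq_one_iff_even (by decide)).1 k).two_dvd
  rcases h with h | h | h | h
  · exact key (-1, uu) 6 (fun t a b => by have := ev t a; have := uu_dvd b; omega) h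
  · refine Sx.exists_ord (w := ⟨.ofAdd !![0, 0; 1, 0], ⟨_, (1, uu), rfl⟩⟩)
      (h.trans (orderOf_eq_prime_pow (p := 3) (n := 1) (fun k => ?_) ?_).symm.dvd)
    · have := congrFun (congrFun ((Af.pow_iff _ _).1 k).2 0) 1
      have r : ∀ A : Matrix (Fin 2) (Fin 2) K, (⟨_, (1, uu), rfl⟩ : Gm K) • A = rho (1, uu) A := fun _ => rfl
      simp only [Finset.sum_range_succ, pow_succ, mul_smul, r, rho_apply, pow_zero, one_mul, one_smul,
        Finset.range_zero, Finset.sum_empty] at this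
      have e0 : (uu : SL(2, K)).1 = !![1, 1; 0, 1] := rfl
      have e1 : (tw (uu : SL(2, K))).1 = (uu : SL(2, K)).1.map (frobenius K 3) := rfl
      have e : ((tw (uu : SL(2, K)))⁻¹).1 = !![1, -1; 0, 1] := by
        rw [Matrix.SpecialLinearGroup.coe_inv, e1, e0, adjugate_fin_two]
        simp
      rw [e, e0] at this
      simp at this
      exact two_ne (K := K) (by linear_combination -this - CharP.cast_eq_zero K 3)
    · exact Aff.pow_mul_eq_one (k := 3) (l := 3) ex3 ((gm_pow _ _).2 ⟨one_pow _, cube_eq (by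
        simp only [uu, trace_fin_two_of]; linear_combination CharP.cast_eq_zero K 3)⟩)
  · have := Fintype.ofFinite K
    obtain ⟨l, hl⟩ := IsCyclic.exists_ofOrder_eq_natCard (α := Kˣ)
    rw [Nat.card_units] at hl
    refine key (-1, ⟨diagonal ![(l : K), l⁻¹], by simp⟩) _ (fun t a b => ?_) h
    have := congrFun (congrFun ((cp _ _).symm.trans (congrArg Subtype.val b)) 0) 0
    simp [diagonal_pow] at this
    obtain ⟨c, hc⟩ := hl ▸ orderOf_dvd_of_pow_eq_one (Units.ext (by simpa using this) : l ^ (t * 2) = 1)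
    obtain ⟨s, rfl⟩ := ev t a
    obtain ⟨j, hj⟩ : ∃ j, Nat.card K - 1 = 2 * (2 * j + 1) := ⟨Nat.card K / 4, by omega⟩
    rw [hj] at hc ⊢
    exact Nat.mul_dvd_mul_left 2 ((Nat.coprime_two_right.2 ⟨j, rfl⟩).dvd_of_dvd_mul_right
      ⟨c, by linarith⟩)
  · obtain ⟨L, _, _, _, a, h1, h2, h3⟩ := Sx.lin_torus (F := K) two_pos
    obtain ⟨θ, M⟩ := Sx.mod_SL (F := K) 2
    obtain ⟨g, k, -⟩ := M.ex (Sx.ex_zero a h1) fun _ => h3
    refine key (1, g) _ (fun t _ b => ?_) h
    have := (k (t * 2) 1).1 (by rw [← map_pow, b, map_one, one_smul])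
    obtain ⟨c, hc⟩ := h2 ▸ orderOf_dvd_of_pow_eq_one (this.trans (map_one _))
    simp [Finset.sum_range_succ] at hc
    obtain ⟨j, hj⟩ : ∃ j, Nat.card K + 1 = 2 * j := ⟨(Nat.card K + 1) / 2, by omega⟩
    exact ⟨c, by rw [hj] at hc ⊢; simp; linarith⟩

end

/-- Let R be the small Ree group over the field with q = 3^(2m+1) ≥ 27 elements. Then there are finite groups of arbitrarily large order with exactly the same set of element orders as R × R × R. -/
theorem result {K : Type*} [Field K] [Fintype K] {m : ℕ} (hm : 1 ≤ m) (hK : Fintype.card K = 3 ^ (2 * m + 1)) (N : ℕ) :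
    ∃ (H : Type) (_ : Group H) (_ : Fintype H), N < Fintype.card H ∧
      Set.range (orderOf : H → ℕ) = Set.range (orderOf : ↥(Cfsg.Lie.twistedG2 K (3 ^ m)) × ↥(Cfsg.Lie.twistedG2 K (3 ^ m)) × ↥(Cfsg.Lie.twistedG2 K (3 ^ m)) → ℕ) := by
  have : CharP K 3 := by
    obtain ⟨p, hc⟩ := CharP.exists K
    obtain ⟨n, hp, hn⟩ := FiniteField.card K p
    obtain rfl : p = 3 := (Nat.prime_dvd_prime_iff_eq hp Nat.prime_three).1 (hp.dvd_of_dvd_pow
      (hK ▸ hn ▸ dvd_pow_self p n.ne_zero))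
    exact hc
  have hq : Nat.card K = 3 ^ (2 * m + 1) := Nat.card_eq_fintype_card.trans hK
  have h4 : Nat.card K % 4 = 3 := by rw [hq, pow_succ, pow_mul, Nat.mul_mod, Nat.pow_mod]; simp
  have : Finite (Gm K) := Finite.of_surjective _ (MonoidHom.rangeRestrict_surjective _)
  have s := S1159.result hm hK
  obtain ⟨H, _, _, h1, h2⟩ := Af.big (G := Gm K) (V := Matrix (Fin 2) (Fin 2) K) Nat.prime_three ex3 N
  have : Finite (Cfsg.Lie.twistedG2 K (3 ^ m)) := inferInstance
  obtain ⟨H', _, _, k1, k2⟩ := Af.small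
    (Cfsg.Lie.twistedG2 K (3 ^ m) × Cfsg.Lie.twistedG2 K (3 ^ m) × H)
  refine ⟨H', inferInstance, inferInstance, ?_, k2.trans (Af.cube (e := 3 ^ (2 * m + 1) - 3 ^ (m + 1) + 1)
    (f := 3 ^ (2 * m + 1) + 3 ^ (m + 1) + 1) ?_ (fun a => ?_) fun d hd => (s d).2 (by tauto))⟩
  · rw [k1]
    rw [← Nat.card_eq_fintype_card] at h1
    exact h1.trans_le
      (Nat.card_le_card_of_surjective (fun x => x.2.2) fun x => ⟨(1, 1, x), rfl⟩)
  · rw [h2]
    rintro _ ⟨x, rfl⟩
    have := upper h4 x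
    simp only [← orderOf_dvd_iff_pow_eq_one, hq] at this
    exact (s _).2 (by tauto)
  · rw [h2]
    have := lower h4 (d := orderOf a)
    rw [hq] at this
    have := (s _).1 ⟨a, rfl⟩
    tauto

end Cfsg.Agent.S3626
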