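import Cfsg.Statements.S3634
import Cfsg.Agent.H3.Hv1
import Cfsg.Agent.H3.Mz

set_option autoImplicit false
open Cfsg

namespace Cfsg.Agent.S3634
open Subgroup CfsgH2 CfsgH1 CfsgMz

/-- Let G be a finite group with normal subgroups K ≤ M, and let p, q, r be distinct primes with p dividing the order of K, q dividing the order of M/K and r dividing the order of G/M. Then p, q, r are not pairwise non-adjacent in the prime graph of G: G has an element of order pq, pr or qr. -/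
theorem result {G : Type*} [Group G] [Finite G] (K M : Subgroup G) [K.Normal] [M.Normal] (hKM : K ≤ M)
    (p q r : ℕ) (hp : p.Prime) (hq : q.Prime) (hr : r.Prime) (hpq : p ≠ q) (hpr : p ≠ r) (hqr : q ≠ r)
    (hpK : p ∣ Nat.card ↥K) (hqM : q ∣ Nat.card ↥M / Nat.card ↥K) (hrG : r ∣ Nat.card G / Nat.card ↥M) :
    (∃ x : G, orderOf x = p * q) ∨ (∃ x : G, orderOf x = p * r) ∨ (∃ x : G, orderOf x = q * r) := by
  haveI := Fact.mk hp
  haveI := Fact.mk hq
  have cm : ∀ {a b : G} {m n : ℕ}, m.Prime → n.Prime → m ≠ n → orderOf a = m → orderOf b = n → a * b = b * a →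
      ∃ x : G, orderOf x = m * n := fun h1 h2 h3 h4 h5 h6 =>
    ⟨_, by rw [Commute.orderOf_mul_eq_mul_orderOf_of_coprime h6 (by
      rw [h4, h5]; exact (Nat.coprime_primes h1 h2).2 h3), h4, h5]⟩
  obtain ⟨P, hP⟩ := exists_syl p K
  have d1 : q ∣ o[M ⊓ N[P]] := by
    rw [← CfsgH2.card_mul_relIndex hKM, Nat.mul_div_cancel_left _ Nat.card_pos,
      ← hP.frattini_sup hKM le_normalizer_of_normal, sup_comm, relIndex_sup_of_norm le_normalizer_of_normal] at hqM
    exact hqM.trans (relIndex_dvd_card _ _)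
  obtain ⟨Q, hQ⟩ := exists_syl q (M ⊓ N[P])
  have d2 : r ∣ o[N[P] ⊓ N[Q]] := by
    have e1 : N[P] ⊔ M = ⊤ := eq_top_iff.2 ((hP.frattini_sup le_top le_normalizer_of_normal).ge.trans
      (sup_le (hKM.trans le_sup_right) (inf_le_right.trans le_sup_left)))
    have e2 := hQ.frattini_sup (M := N[P]) inf_le_right (le_norm_inf le_normalizer_of_normal le_normalizer)
    have e3 : (N[P] ⊓ N[Q]) ⊔ M = ⊤ := eq_top_iff.2 (e1.ge.trans (sup_le (e2.ge.trans
      (sup_le (inf_le_left.trans le_sup_right) le_sup_left)) le_sup_right))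
    rw [← M.card_mul_index, Nat.mul_div_cancel_left _ Nat.card_pos, ← relIndex_top_right, ← e3,
      relIndex_sup_of_norm le_normalizer_of_normal] at hrG
    exact hrG.trans (relIndex_dvd_card _ _)
  obtain ⟨x, hx, ox⟩ := exists_prime_order_mem hr d2
  have z0 : Z[Q] ≠ ⊥ := nil_center_ne_bot (nil_of_pg hQ.pg) (hQ.ne_bot d1)
  have zp : PG[q, Z[Q]] := hQ.pg.to_le inf_le_left
  have xn : x ∈ N[Z[Q]] := norm_le_norm_center hx.2
  by_contra hcon
  push Not at hcon
  obtain ⟨c1, c2, c3⟩ := hcon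
  have F : Frob P (Z[Q] ⊔ zpowers x) (P ⊔ (Z[Q] ⊔ zpowers x)) := by
    refine ⟨sup_le (inf_le_left.trans (hQ.le.trans inf_le_right)) (zpowers_le.2 hx.1), rfl, hP.ne_bot hpK,
      fun e => z0 (le_bot_iff.1 (e ▸ le_sup_left)), fun e he e1 => ?_⟩
    by_contra h
    obtain ⟨y, hy, oy⟩ := exists_prime_order_mem hp (dvd_card_of_pgroup (hP.pg.to_le inf_le_left) h)
    have sp := Nat.minFac_prime (n := orderOf e) (by simpa using e1)
    obtain ⟨w, hw, ow⟩ := exists_prime_order_mem (H := zpowers e) sp (by rw [Nat.card_zpowers]; exact Nat.minFac_dvd _)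
    have c : y * w = w * y := (mem_cent_iff.1 (cent_zpowers e ▸ hy.2) w hw).symm
    obtain ⟨j, hj⟩ := zp.exists_card_eq
    have d := ((Nat.minFac_dvd _).trans (orderOf_dvd_of_mem he)).trans
      (card_sup_zpowers_dvd (n := r) xn (by rw [← ox, pow_orderOf_eq_one]; exact one_mem _))
    rw [hj] at d
    rcases (Nat.Prime.dvd_mul sp).1 d with d | d
    · obtain ⟨g, hg⟩ := cm hp hq hpq oy (ow.trans ((Nat.prime_dvd_prime_iff_eq sp hq).1 (sp.dvd_of_dvd_pow d))) c
      exact c1 g hg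
    · obtain ⟨g, hg⟩ := cm hp hr hpr oy (ow.trans ((Nat.prime_dvd_prime_iff_eq sp hr).1 d)) c
      exact c2 g hg
  have := F.mem_cent_of_prime (A := Z[Q]) (mem_sup_right (mem_zpowers x)) (ox ▸ hr) le_sup_left
    (isMulComm_cent_inf Q) xn (ox ▸ (coprime_of_pgroup zp fun h => hqr ((Nat.prime_dvd_prime_iff_eq hq hr).1 h)).symm)
  obtain ⟨y, hy, oy⟩ := exists_prime_order_mem hq (dvd_card_of_pgroup zp z0)
  obtain ⟨g, hg⟩ := cm hq hr hqr oy ox (this y hy)
  exact c3 g hg


end Cfsg.Agent.S3634
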