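import Cfsg.Statements.S3633
import Cfsg.Agent.H3.Hv1
import Cfsg.Agent.S3634
import Cfsg.Agent.H2.BG0

set_option autoImplicit false
open Cfsg

namespace Cfsg.Agent.S3633
open Subgroup CfsgH2

/-- Let G be a finite group and ρ a set of at least three prime divisors of the order of G that are pairwise non-adjacent in the prime graph (no element of order rs for distinct r, s ∈ ρ). Then at most one prime of ρ divides the order of any given solvable normal subgroup of G; in particular G is not solvable. -/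
theorem result {G : Type*} [Group G] [Finite G] (ρ : Finset ℕ) (hρ : 3 ≤ ρ.card) (hc : ((∀ r ∈ ρ, r.Prime ∧ r ∣ Nat.card G) ∧ (∀ r ∈ ρ, ∀ s ∈ ρ, r ≠ s → ¬ ∃ x : G, orderOf x = r * s)))
    (K : Subgroup G) [K.Normal] (hK : Group.IsSolvable ↥K) :
    (∀ r ∈ ρ, ∀ s ∈ ρ, r ∣ Nat.card ↥K → s ∣ Nat.card ↥K → r = s) ∧ ¬ Group.IsSolvable G := by
  have key : ∀ (K : Subgroup G) [K.Normal], Sol[K] → ∀ r ∈ ρ, ∀ s ∈ ρ, r ∣ o[K] → s ∣ o[K] → r = s := by
    intro K _ hK
    by_contra h
    obtain ⟨M, MK, ⟨Mn, M1⟩, M2⟩ := exists_minimal_le (fun M : Subgroup G => M.Normal ∧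
      ¬ ∀ r ∈ ρ, ∀ s ∈ ρ, r ∣ o[M] → s ∣ o[M] → r = s) (H := K) ⟨inferInstance, h⟩
    push Not at M1
    obtain ⟨r, hr, s, hs, r1, s1, rs⟩ := M1
    have M0 : ⊥ < M := bot_lt_iff_ne_bot.2 fun e => (hc.1 r hr).1.one_lt.ne' (by simpa [e] using r1)
    obtain ⟨L, -, ⟨Ln, LM⟩, L2⟩ := exists_maximal_ge (fun L : Subgroup G => L.Normal ∧ L < M) ⟨inferInstance, M0⟩
    have L1 : ∀ r ∈ ρ, ∀ s ∈ ρ, r ∣ o[L] → s ∣ o[L] → r = s := by
      by_contra h; exact LM.ne (M2 L ⟨Ln, h⟩ LM.le)
    obtain ⟨u, hu, V, V1, V0, Vn, Ve, -⟩ := exists_min_norm (N := M.map (QuotientGroup.mk' L)) (M := ⊤) (by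
        haveI : Sol[M] := Group.isSolvable_of_isSolvable_injective (inclusion_injective MK)
        exact Group.isSolvable_of_surjective (MonoidHom.subgroupMap_surjective _ _))
      (fun e => LM.not_ge (by rwa [Subgroup.map_eq_bot_iff, QuotientGroup.ker_mk'] at e))
      (top_le_norm_iff.2 (Mn.map _ (QuotientGroup.mk'_surjective L)))
    have e : V.comap (QuotientGroup.mk' L) = M := by
      by_contra h
      have := L2 _ ⟨(top_le_norm_iff.1 Vn).comap _, lt_of_le_of_ne ((comap_mono V1).trans_eq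
        (comap_map_eq_self (by rw [QuotientGroup.ker_mk']; exact LM.le))) h⟩
        ((QuotientGroup.ker_mk' L).ge.trans (ker_le_comap _ _))
      exact V0 (by rw [← map_comap_eq_self_of_surjective (QuotientGroup.mk'_surjective L) V, this,
        QuotientGroup.map_mk'_self])
    obtain ⟨j, hj⟩ := (isPGroup_of_exp Ve.2).exists_card_eq
    have e2 : o[M] = o[L] * u ^ j := by
      have := relIndex_ker M (QuotientGroup.mk' L)
      rw [QuotientGroup.ker_mk'] at this
      rw [← card_mul_relIndex LM.le, this, ← e, map_comap_eq_self_of_surjective (QuotientGroup.mk'_surjective L), hj]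
    have d : ∀ t ∈ ρ, t ∣ o[M] → t ∣ o[L] ∨ t = u := fun t ht h =>
      ((hc.1 t ht).1.dvd_mul.1 (e2 ▸ h)).imp_right fun h =>
        (Nat.prime_dvd_prime_iff_eq (hc.1 t ht).1 hu.out).1 ((hc.1 t ht).1.dvd_of_dvd_pow h)
    have fin : ∀ r ∈ ρ, u ∈ ρ → r ≠ u → r ∣ o[L] → ¬ u ∣ o[L] → u ∣ o[M] → False := fun r hr hu' ru h1 h2 h3 => by
      obtain ⟨t, ht, t1⟩ := Finset.exists_mem_notMem_of_card_lt_card (s := {r, u}) (t := ρ)
        (Finset.card_le_two.trans_lt hρ)
      simp only [Finset.mem_insert, Finset.mem_singleton, not_or] at t1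
      have t2 : ¬ t ∣ o[M] := fun h => (d t ht h).elim (fun h => t1.1 (L1 t ht r hr h h1)) t1.2
      rcases Cfsg.Agent.S3634.result L M LM.le r u t (hc.1 r hr).1 hu.out (hc.1 t ht).1 ru (Ne.symm t1.1)
        (Ne.symm t1.2) h1 (by
          rw [e2, Nat.mul_div_cancel_left _ Nat.card_pos]; exact (hu.out.dvd_mul.1 (e2 ▸ h3)).resolve_left h2) (by
          have := (hc.1 t ht).2
          rw [← M.card_mul_index] at this ⊢
          rw [Nat.mul_div_cancel_left _ Nat.card_pos]
          exact ((hc.1 t ht).1.dvd_mul.1 this).resolve_left t2) with h | h | h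
      exacts [hc.2 r hr u hu' ru h, hc.2 r hr t ht (Ne.symm t1.1) h, hc.2 u hu' t ht (Ne.symm t1.2) h]
    rcases d r hr r1 with a | rfl <;> rcases d s hs s1 with b | b
    · exact rs (L1 r hr s hs a b)
    · subst b; exact fin r hr hs rs a (fun b => rs (L1 r hr s hs a b)) s1
    · exact fin s hs hr rs.symm b (fun a => rs (L1 r hr s hs a b)) r1
    · exact rs b.symm
  refine ⟨key K hK, fun h => ?_⟩
  obtain ⟨r, hr, s, hs, rs⟩ := Finset.one_lt_card.1 (show 1 < ρ.card by omega)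
  exact rs (key ⊤ inferInstance r hr s hs (card_top (G := G) ▸ (hc.1 r hr).2) (card_top (G := G) ▸ (hc.1 s hs).2))


end Cfsg.Agent.S3633
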