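import Mathlib
import Cfsg.Statements.S3680
import Cfsg.Agent.S0721

set_option autoImplicit false
open Cfsg

namespace Cfsg.Agent.S3680

open MulAction

def sumE (T : Type) [Group T] (m : ℕ) : (Fin m → T) × (Fin m → T) ≃* (Fin (m + m) → T) :=
  (MulEquiv.symm { Equiv.sumArrowEquivProdArrow (Fin m) (Fin m) T with
      map_mul' := fun x y => by ext <;> simp }).trans (MulEquiv.arrowCongr finSumFinEquiv (MulEquiv.refl T))

theorem semireg {G Ω : Type*} [Group G] [MulAction G Ω] [FaithfulSMul G Ω] (M : Subgroup G)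
    (hM : IsPretransitive M Ω) (c : G) (hc : ∀ m ∈ M, c * m = m * c) (a : Ω) (h : c • a = a) : c = 1 := by
  refine FaithfulSMul.eq_of_smul_eq_smul (α := Ω) fun b => ?_
  obtain ⟨m, rfl⟩ := hM.exists_smul_eq a b
  change c • (m : G) • a = 1 • (m : G) • a
  rw [one_smul, ← mul_smul, hc m m.2, mul_smul, h]

/-- The socle of a finite primitive permutation group. Let a finite group G act faithfully and primitively on a set Ω, and let N be the subgroup generated by the minimal normal subgroups of G. Then either N is an elementary abelian p-group for some prime p and acts regularly on Ω (transitively with trivial point stabilizers), or N is isomorphic to a direct product of m ≥ 1 copies of a non-abelian simple group. -/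
theorem result {G Ω : Type*} [Group G] [Finite G] [MulAction G Ω] [FaithfulSMul G Ω] [Finite Ω]
    (hprim : MulAction.IsPreprimitive G Ω) (N : Subgroup G)
    (hN : N = sSup {V : Subgroup G | V.Normal ∧ V ≠ ⊥ ∧ ∀ M : Subgroup G, M.Normal → M ≤ V → M = ⊥ ∨ M = V}) :
    (∃ p : ℕ, p.Prime ∧ IsMulCommutative N ∧ (∀ x : N, x ^ p = 1) ∧
      MulAction.IsPretransitive N Ω ∧ ∀ ω : Ω, MulAction.stabilizer N ω = ⊥) ∨
    (∃ (T : Type) (_ : Group T) (m : ℕ), 1 ≤ m ∧ IsSimpleGroup T ∧ ¬ IsMulCommutative T ∧ Nonempty (N ≃* (Fin m → T))) := by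
  classical
  have htr : ∀ M : Subgroup G, M.Normal → M ≠ ⊥ → IsPretransitive M Ω := by
    intro M hM hb
    refine IsQuasiPreprimitive.isPretransitive_of_normal (G := G) fun h => hb ?_
    rw [eq_bot_iff]
    intro g hg
    rw [Subgroup.mem_bot]
    refine FaithfulSMul.eq_of_smul_eq_smul (α := Ω) fun b => ?_
    have : b ∈ fixedPoints M Ω := h ▸ Set.mem_univ b
    rw [one_smul]
    exact this ⟨g, hg⟩
  set S := {V : Subgroup G | V.Normal ∧ V ≠ ⊥ ∧ ∀ M : Subgroup G, M.Normal → M ≤ V → M = ⊥ ∨ M = V} with hS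
  rcases subsingleton_or_nontrivial G with hG | hG
  · left
    refine ⟨2, Nat.prime_two, ⟨⟨fun x y => Subsingleton.elim _ _⟩⟩, fun x => Subsingleton.elim _ _, ⟨fun x y => ?_⟩, fun ω => Subsingleton.elim _ _⟩
    obtain ⟨g, hg⟩ := hprim.toIsPretransitive.exists_smul_eq x y
    exact ⟨1, by rw [← hg, Subsingleton.elim g 1]; simp⟩
  obtain ⟨M, hM⟩ : ∃ M, M ∈ S := by
    obtain ⟨M, hM, hmin⟩ := Set.Finite.exists_minimal (s := {V : Subgroup G | V.Normal ∧ V ≠ ⊥}) (Set.toFinite _) ⟨⊤, inferInstance, top_ne_bot⟩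
    refine ⟨M, hM.1, hM.2, fun L hL hLM => ?_⟩
    by_cases h : L = ⊥
    · exact Or.inl h
    · exact Or.inr (le_antisymm hLM (hmin ⟨hL, h⟩ hLM))
  have hcomm : ∀ A ∈ S, ∀ B ∈ S, A ≠ B → ∀ a ∈ A, ∀ b ∈ B, a * b = b * a := by
    intro A hA B hB hne a ha b hb
    haveI := hA.1
    haveI := hB.1
    have hd : Disjoint A B := by
      rw [disjoint_iff]
      rcases hA.2.2 (A ⊓ B) inferInstance inf_le_left with h | h
      · exact h
      · rcases hB.2.2 A hA.1 (h ▸ inf_le_right) with h' | h'
        · exact absurd h' hA.2.1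
        · exact absurd h' hne
    exact (Subgroup.commute_of_normal_of_disjoint A B hA.1 hB.1 hd a b ha hb).eq
  haveI := hM.1
  obtain ⟨T, _, m, hT, hm, ⟨e⟩⟩ := Cfsg.Agent.S0721.result M hM.2.1 hM.2.2
  have hMt := htr M hM.1 hM.2.1
  obtain ⟨a⟩ : Nonempty Ω := by
    by_contra h
    rw [not_nonempty_iff] at h
    obtain ⟨x, y, hxy⟩ := exists_pair_ne G
    exact hxy (FaithfulSMul.eq_of_smul_eq_smul (α := Ω) fun b => h.elim b)
  have hTM : IsMulCommutative T → ∀ x ∈ M, ∀ y ∈ M, x * y = y * x := by
    intro h x hx y hy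
    have : (⟨x, hx⟩ : M) * ⟨y, hy⟩ = ⟨y, hy⟩ * ⟨x, hx⟩ := by
      apply e.injective
      rw [map_mul, map_mul]
      ext i
      exact h.is_comm.comm _ _
    exact congrArg Subtype.val this
  by_cases hU : ∀ L ∈ S, L = M
  · have hNM : N = M := by
      rw [hN]
      exact le_antisymm (sSup_le fun L hL => (hU L hL).le) (le_sSup hM)
    subst hNM
    by_cases hc : IsMulCommutative T
    · left
      haveI : Finite (Fin m → T) := Finite.of_equiv _ e.toEquiv
      haveI : Finite T := Finite.of_injective (fun (t : T) (_ : Fin m) => t) fun x y h => congrFun h ⟨0, hm⟩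
      letI : CommGroup T := { (inferInstance : Group T) with mul_comm := hc.is_comm.comm }
      have hp : (Nat.card T).Prime := IsSimpleGroup.prime_card
      refine ⟨Nat.card T, hp, ⟨⟨fun x y => Subtype.ext (hTM hc _ x.2 _ y.2)⟩⟩, fun x => ?_, hMt, fun ω => ?_⟩
      · apply e.injective
        rw [map_pow, map_one]
        ext i
        exact pow_card_eq_one'
      · rw [eq_bot_iff]
        intro x hx
        rw [Subgroup.mem_bot]
        exact Subtype.ext (semireg N hMt x (fun y hy => hTM hc _ x.2 _ hy) ω hx)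
    · exact Or.inr ⟨T, inferInstance, m, hm, hT, hc, ⟨e⟩⟩
  · push Not at hU
    obtain ⟨L, hL, hLM⟩ := hU
    have hLt := htr L hL.1 hL.2.1
    have hC : ∀ c : G, (∀ x ∈ M, c * x = x * c) → c ∈ L := by
      intro c hc
      obtain ⟨l, hl⟩ := hLt.exists_smul_eq a (c • a)
      have h1 : (l : G)⁻¹ * c = 1 := by
        refine semireg M hMt _ (fun x hx => ?_) a ?_
        · rw [mul_assoc, hc x hx, ← mul_assoc, hcomm L hL M hM hLM _ (inv_mem l.2) x hx, mul_assoc]
        · rw [mul_smul, ← hl]
          exact inv_smul_smul (l : G) a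
      rw [inv_mul_eq_one] at h1
      exact h1 ▸ l.2
    have hNM : N = M ⊔ L := by
      rw [hN]
      refine le_antisymm (sSup_le fun K hK => ?_) (sup_le (le_sSup hM) (le_sSup hL))
      by_cases h : K = M
      · exact h ▸ le_sup_left
      · exact le_trans (fun c hc => hC c (hcomm K hK M hM h c hc)) le_sup_right
    have hnc : ¬ IsMulCommutative T := by
      intro h
      have h1 : M ≤ L := fun c hc => hC c (hTM h c hc)
      rcases hL.2.2 M hM.1 h1 with h2 | h2
      · exact hM.2.1 h2
      · exact hLM h2.symm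
    have key : ∀ A ∈ S, ∀ B ∈ S, A ≠ B → ∃ f : A →* B, Function.Injective f := by
      intro A hA B hB hne
      have hAt := htr A hA.1 hA.2.1
      have hBt := htr B hB.1 hB.2.1
      choose f hf using fun x : A => hBt.exists_smul_eq a ((x : G)⁻¹ • a)
      have hf' : ∀ x : A, (f x : G) • a = (x : G)⁻¹ • a := hf
      have hu : ∀ y z : B, (y : G) • a = (z : G) • a → y = z := by
        intro y z h
        have : (z : G)⁻¹ * y = 1 := semireg A hAt _ (fun x hx => hcomm B hB A hA hne.symm _ (mul_mem (inv_mem z.2) y.2) x hx) a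
          (by rw [mul_smul, h, inv_smul_smul])
        rw [inv_mul_eq_one] at this
        exact Subtype.ext this.symm
      refine ⟨MonoidHom.mk' f fun x y => hu _ _ ?_, ?_⟩
      · rw [hf', Subgroup.coe_mul, Subgroup.coe_mul, mul_smul, hf', mul_inv_rev, mul_smul, ← hf' x,
          ← mul_smul, ← mul_smul, hcomm A hA B hB hne _ (inv_mem y.2) _ (f x).2]
      · rw [injective_iff_map_eq_one]
        intro x hx
        have h1 := hf' x
        change f x = 1 at hx
        rw [hx, Subgroup.coe_one, one_smul, eq_inv_smul_iff] at h1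
        exact Subtype.ext (semireg B hBt _ (fun y hy => hcomm A hA B hB hne _ x.2 y hy) a h1)
    obtain ⟨f1, hf1⟩ := key M hM L hL hLM.symm
    obtain ⟨f2, hf2⟩ := key L hL M hM hLM
    have hb : Function.Bijective f2 := by
      rw [Nat.bijective_iff_injective_and_card]
      exact ⟨hf2, le_antisymm (Nat.card_le_card_of_injective _ hf2) (Nat.card_le_card_of_injective _ hf1)⟩
    let e2 : L ≃* M := MulEquiv.ofBijective f2 hb
    let φ := MonoidHom.noncommCoprod M.subtype L.subtype fun x y => hcomm M hM L hL hLM.symm _ x.2 _ y.2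
    have hφ : Function.Injective φ := by
      refine (MonoidHom.noncommCoprod_injective _ _ _).2 ⟨M.subtype_injective, L.subtype_injective, ?_⟩
      rw [Subgroup.range_subtype, Subgroup.range_subtype, disjoint_iff]
      haveI := hL.1
      rcases hM.2.2 (M ⊓ L) inferInstance inf_le_left with h | h
      · exact h
      · rcases hL.2.2 M hM.1 (h ▸ inf_le_right) with h' | h'
        · exact absurd h' hM.2.1
        · exact absurd h'.symm hLM
    have hr : φ.range = N := by
      refine (MonoidHom.noncommCoprod_range _ _ _).trans ?_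
      rw [Subgroup.range_subtype, Subgroup.range_subtype, hNM]
    refine Or.inr ⟨T, inferInstance, m + m, by omega, hT, hnc, ⟨?_⟩⟩
    exact (MulEquiv.subgroupCongr hr.symm).trans ((MonoidHom.ofInjective hφ).symm.trans
      ((MulEquiv.prodCongr e (e2.trans e)).trans (sumE T m)))

end Cfsg.Agent.S3680
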