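import Cfsg.Statements.S3701
import Mathlib
import Cfsg.Agent.L0.V3b

set_option autoImplicit false
open Cfsg

namespace Cfsg.Agent.S3701

open CfsgL0 Subgroup

/-- Let H₀ ≤ Sym(9) be generated by the 3-cycles (1 2 3), (4 5 6), (7 8 9) and the involutions (1 2)(4 5), (1 2)(7 8) (a group of order 108, elementary abelian of order 27 extended by a four-group). Let G be a finite group with a subgroup H ≅ H₀, and T ≤ H of order 27 (a Sylow 3-subgroup of H) with N_G(T) = H and C_G(t) ≤ H for every t ≠ 1 in T. Then G = H. -/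
theorem result {G : Type*} [Group G] [Finite G] (H : Subgroup G)
    (hH : Nonempty (↥H ≃* ↥(Subgroup.closure ({Equiv.swap (0 : Fin 9) 1 * Equiv.swap 1 2, Equiv.swap (3 : Fin 9) 4 * Equiv.swap 4 5, Equiv.swap (6 : Fin 9) 7 * Equiv.swap 7 8,
        Equiv.swap (0 : Fin 9) 1 * Equiv.swap 3 4, Equiv.swap (0 : Fin 9) 1 * Equiv.swap 6 7} : Set (Equiv.Perm (Fin 9))))))
    (T : Subgroup G) (hTH : T ≤ H) (hT : Nat.card T = 27) (hN : Subgroup.normalizer (T : Set G) = H)
    (hC : ∀ t ∈ T, t ≠ 1 → Subgroup.centralizer ({t} : Set G) ≤ H) : H = ⊤ := by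
  obtain ⟨e⟩ := hH
  have : Fact (Nat.Prime 3) := ⟨by norm_num⟩
  let f := H.subtype.comp e.symm.toMonoidHom
  have inj : Function.Injective f := Subtype.val_injective.comp e.symm.injective
  have rg : H = map f ⊤ := by
    rw [← map_map, ← MonoidHom.range_eq_map, MonoidHom.range_eq_top.2 e.symm.surjective, ← MonoidHom.range_eq_map, range_subtype]
  rw [← closure_closure_coe_preimage, MonoidHom.map_closure] at rg
  refine ti3_108 (a := f ⟨Equiv.swap 0 1 * Equiv.swap 1 2, subset_closure (by simp)⟩)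
    (b := f ⟨Equiv.swap 3 4 * Equiv.swap 4 5, subset_closure (by simp)⟩)
    (c := f ⟨Equiv.swap 6 7 * Equiv.swap 7 8, subset_closure (by simp)⟩)
    (s := f ⟨Equiv.swap 0 1 * Equiv.swap 3 4, subset_closure (by simp)⟩)
    (r := f ⟨Equiv.swap 0 1 * Equiv.swap 6 7, subset_closure (by simp)⟩) (rg.trans ?_) ?_ ?_ ?_ ?_ ?_ ?_ ?_ ?_ ?_ ?_ ?_ ?_
    ?_ ?_ ?_ hTH hT hN hC
  · rw [← Set.image_singleton (f := f), ← Set.image_insert_eq, ← Set.image_insert_eq, ← Set.image_insert_eq, ← Set.image_insert_eq]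
    congr 2
    ext ⟨x, hx⟩
    simp only [Set.mem_preimage, Set.mem_insert_iff, Set.mem_singleton_iff, Subtype.mk.injEq]
  iterate 3 rw [orderOf_injective f inj, orderOf_mk]; exact orderOf_eq_prime (by decide) (by decide)
  iterate 3 exact Commute.map (Subtype.ext (by decide)) f
  iterate 6 simp only [← map_inv, ← map_mul]; exact congrArg f (Subtype.ext (by decide))
  iterate 2 rw [← map_mul, ← map_one f]; exact congrArg f (Subtype.ext (by decide))
  simp only [← map_mul]; exact congrArg f (Subtype.ext (by decide))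

end Cfsg.Agent.S3701
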