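import Cfsg.Statements.S3716
import Mathlib
import Cfsg.Agent.L0.D8d

set_option autoImplicit false
open Cfsg

namespace Cfsg.Agent.S3716

open CfsgL0 Subgroup CfsgH2 CfsgH3 Cfsg

/-- Let G be a finite group with an elementary abelian Sylow 3-subgroup M of order 9 which is self-centralizing (C_G(M) = M), let N = N_G(M), and suppose C_G(g) ≤ N for every nonidentity g ∈ M. If the Sylow 2-subgroups of N are dihedral of order 8, then G is not simple. -/
theorem result {G : Type*} [Group G] [Finite G] (M : Sylow 3 G) (hM9 : Nat.card ↥(M : Subgroup G) = 9)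
    (hMel : ∀ m ∈ (M : Subgroup G), m ^ 3 = 1)
    (hCM : Subgroup.centralizer ((M : Subgroup G) : Set G) = (M : Subgroup G))
    (N : Subgroup G) (hN : N = Subgroup.normalizer ((M : Subgroup G) : Set G))
    (hCg : ∀ g ∈ (M : Subgroup G), g ≠ 1 → Subgroup.centralizer ({g} : Set G) ≤ N)
    (hS : ∀ S : Sylow 2 ↥N, Nonempty (↥(S : Subgroup ↥N) ≃* DihedralGroup 4)) :
    ¬ IsSimpleGroup G := by
  intro hs
  have := Fintype.ofFinite G
  have : Fact (Nat.Prime 3) := ⟨by norm_num⟩
  subst hN
  have h : TI3 (M : Subgroup G) := ⟨syl_top M, hMel, hCM, hCg⟩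
  obtain ⟨S⟩ := (inferInstance : Nonempty (Sylow 2 (normalizer ((M : Subgroup G) : Set G))))
  obtain ⟨e⟩ := hS S
  obtain ⟨f, inj, rg, mT⟩ := d8_hom' h hM9 S e
  obtain ⟨χ, h1, h2⟩ := d8_core h f inj rg mT
  have := χ.2.isCharacter.charKer_normal
  rcases this.eq_bot_or_eq_top with e | e
  · have := e.le (χ.2.isCharacter.mem_charKer.2 ((h2 0).trans (by simp [dL, h1])))
    exact absurd (inj (this.trans (map_one f).symm)) (by decide)
  · have := (h2 2).symm.trans (χ.2.isCharacter.mem_charKer.1 (e.ge (mem_top _)))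
    exact absurd (Int.cast_injective (α := ℂ) (this.trans (h1.trans Int.cast_one.symm))) (by decide)

end Cfsg.Agent.S3716
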