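import Cfsg.Statements.S3805
import Mathlib
import Cfsg.Agent.L0.V3b

set_option autoImplicit false
open Cfsg

namespace Cfsg.Agent.S3805

open CfsgL0 Subgroup CfsgH2

/-- Let G be a finite group whose Sylow 3-subgroup T is elementary abelian of order 9 and self-centralizing, with N_G(T)/T a Klein four-group, and suppose that the centralizer of every nonidentity element of T lies in N_G(T). Then T is normal in G. -/
theorem result {G : Type*} [Group G] [Finite G]
    (T : Sylow 3 G) (hT : Cfsg.IsElementaryAbelian 3 (T : Subgroup G)) (hcard : Nat.card T = 9)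
    (hC : Subgroup.centralizer ((T : Subgroup G) : Set G) = T)
    [hn : ((T : Subgroup G).subgroupOf (Subgroup.normalizer ((T : Subgroup G) : Set G))).Normal]
    (hK : IsKleinFour (↥(Subgroup.normalizer ((T : Subgroup G) : Set G)) ⧸
      (T : Subgroup G).subgroupOf (Subgroup.normalizer ((T : Subgroup G) : Set G))))
    (hloc : ∀ t ∈ (T : Subgroup G), t ≠ 1 →
      Subgroup.centralizer ({t} : Set G) ≤ Subgroup.normalizer ((T : Subgroup G) : Set G)) :
    Subgroup.normalizer ((T : Subgroup G) : Set G) = ⊤ := by
  have : Fact (Nat.Prime 3) := ⟨by norm_num⟩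
  refine TI3.four' ⟨syl_top T, fun x hx => ?_, hC, hloc⟩ ?_ fun n hx => ?_
  · exact hT.2 x hx
  · rw [hC]; exact hK.card_four
  · have := (QuotientGroup.eq_one_iff (N := (T : Subgroup G).subgroupOf (normalizer ((T : Subgroup G) : Set G))) (⟨n, hx⟩ * ⟨n, hx⟩)).1
      (by rw [QuotientGroup.mk_mul]; exact IsKleinFour.mul_self _)
    exact this

end Cfsg.Agent.S3805
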