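import Cfsg.Statements.S3806
import Cfsg.Agent.H5.Unif

set_option autoImplicit false
open Cfsg

namespace Cfsg.Agent.S3806

open CfsgH5.Unif CfsgH2 CfsgL0 Subgroup in
theorem sec {S : Type*} [Group S] {p k : ℕ} (h : Cfsg.SectionalPRankLE p k S) (H N : Subgroup S) [N.Normal]
    (hc : ⁅H, H⁆ ≤ N) (hp : ∀ x ∈ H, x ^ p ∈ N) : N.relIndex H ≤ p ^ k := by
  have := h H (N.subgroupOf H) ⊤ ⟨⟨fun a b => ?_⟩⟩ fun a _ => ?_
  · rwa [card_top] at this
  · obtain ⟨x, hx⟩ := QuotientGroup.mk'_surjective _ a.1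
    obtain ⟨y, hy⟩ := QuotientGroup.mk'_surjective _ b.1
    apply Subtype.ext
    change a.1 * b.1 = b.1 * a.1
    rw [← hx, ← hy, ← commutatorElement_eq_one_iff_mul_comm, ← map_commutatorElement, QuotientGroup.mk'_apply,
      QuotientGroup.eq_one_iff, mem_subgroupOf]
    exact hc (commutator_mem_commutator x.2 y.2)
  · obtain ⟨x, rfl⟩ := QuotientGroup.mk'_surjective _ a
    rw [← map_pow, QuotientGroup.mk'_apply, QuotientGroup.eq_one_iff, mem_subgroupOf]
    exact hp x x.2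

/-- Let p be a prime and S a finite p-group of order pⁿ (n ≥ 2) of maximal nilpotency class n − 1 whose sectional p-rank is exactly k (every section has p-rank at most k, and some section has p-rank k). If p ≥ k + 2 then the order of S is at most p^(2k). -/
theorem result {S : Type*} [Group S] [Finite S] (p : ℕ) [Fact p.Prime] (hS : IsPGroup p S) [Group.IsNilpotent S]
    (n : ℕ) (hn : 2 ≤ n) (hcard : Nat.card S = p ^ n) (hmax : Group.nilpotencyClass S = n - 1)
    (k : ℕ) (hk : 1 ≤ k) (hsr : Cfsg.SectionalPRankLE p k S ∧ ¬ Cfsg.SectionalPRankLE p (k - 1) S)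
    (hpk : k + 2 ≤ p) : Nat.card S ≤ p ^ (2 * k) := by
  open CfsgH5.Unif CfsgH2 CfsgL0 Subgroup in
  have hp : p.Prime := Fact.out
  rw [hcard]
  refine Nat.pow_le_pow_right hp.pos ?_
  by_contra hlt
  have h : (⊤ : Subgroup S).lowerCentralSeries (n - 2) ≠ ⊥ := fun e => by
    have := Subgroup.lowerCentralSeries_eq_bot_iff_nilpotencyClass_le.1 e
    omega
  obtain ⟨m, rfl⟩ : ∃ m, n = m + 3 := ⟨n - 3, by omega⟩
  obtain ⟨hx, -, hc⟩ := CfsgH5.Unif.card_Γ hcard h
  rcases Nat.lt_or_eq_of_le hk with k1 | rfl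
  · obtain ⟨j, rfl⟩ : ∃ j, k = j + 2 := ⟨k - 2, by omega⟩
    obtain ⟨u, hu⟩ := hx.exists_mu (CfsgH5.Unif.ne_of_le (by omega) h)
    have h0 : CfsgH5.Unif.Γ S (j + 1) ≠ ⊥ := CfsgH5.Unif.ne_of_le (by omega) h
    obtain ⟨x, x1, x2⟩ := hu.exists_lev h0
    have a := sec hsr.1 (CfsgH5.Unif.Γ S (j + 1)) (CfsgH5.Unif.Γ S (2 * j + 3 + 1))
      (CfsgL0.comm_self_le (hu.step (by omega) x1 x2) ((CfsgL0.lcs_comm_le _ _ _).trans (CfsgH5.Unif.anti (by omega))))
      fun y hy => CfsgH5.Unif.anti (by omega) (hu.pw_mem (by omega) hy).1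
    have e := CfsgH2.card_mul_relIndex (CfsgH5.Unif.anti (G := S) (by omega : j + 1 ≤ 2 * j + 3 + 1))
    rw [hc j (by omega), hc (2 * j + 3) (by omega),
      show m + 1 - j = m + 1 - (2 * j + 3) + (j + 3) by omega, pow_add p (m + 1 - (2 * j + 3))] at e
    rw [Nat.eq_of_mul_eq_mul_left (pow_pos hp.pos _) e, Nat.pow_le_pow_iff_right hp.one_lt] at a
    omega
  · have a := sec hsr.1 ⊤ (CfsgH5.Unif.Γ S 1) le_rfl fun y _ => by
      by_contra e
      have c : Nat.card (S ⧸ CfsgH5.Unif.Γ S 1) = p ^ 2 := hx.i1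
      obtain ⟨i, hi, e1⟩ := (Nat.dvd_prime_pow hp).1 (c ▸ _root_.orderOf_dvd_natCard (QuotientGroup.mk' (CfsgH5.Unif.Γ S 1) y))
      have i2 : i = 2 := by
        by_contra k
        apply e
        rw [← QuotientGroup.eq_one_iff, ← QuotientGroup.mk'_apply, map_pow, ← orderOf_dvd_iff_pow_eq_one, e1]
        exact (pow_dvd_pow p (by omega : i ≤ 1)).trans (pow_one p).dvd
      have t : Subgroup.zpowers (QuotientGroup.mk' (CfsgH5.Unif.Γ S 1) y) = ⊤ :=
        Subgroup.eq_top_of_card_eq _ (by rw [Nat.card_zpowers, e1, i2, c])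
      have : Subgroup.zpowers y = ⊤ := CfsgH2.eq_of_le_phi_sup le_top (le_trans (fun z _ => by
        obtain ⟨j, e⟩ := Subgroup.mem_zpowers_iff.1 (t.ge (Subgroup.mem_top (QuotientGroup.mk' _ z)))
        obtain ⟨w, hw, e⟩ := (QuotientGroup.mk'_eq_mk' _).1 ((map_zpow _ y j).trans e)
        rw [← e, sup_comm]; exact Subgroup.mul_mem_sup (Subgroup.zpow_mem_zpowers y j) hw)
          (sup_le_sup_right (CfsgH2.comm_le_phi hx.pg.isNilpotent) _))
      exact hx.ne (CfsgH2.comm_self_eq_bot_iff.2 (show IsMulCommutative (⊤ : Subgroup S) from this ▸ inferInstance))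
    rw [Subgroup.relIndex_top_right, hx.i1, Nat.pow_le_pow_iff_right hp.one_lt] at a
    omega

end Cfsg.Agent.S3806
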