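import Cfsg.Statements.S3807
import Mathlib
import Cfsg.Agent.L0.Cnt
import Cfsg.Agent.H1.Misc1

set_option autoImplicit false
open Cfsg

namespace Cfsg.Agent.S3807

open Cfsg Subgroup CfsgH2 CfsgL0

/-- Let S be a non-abelian finite p-group with an abelian subgroup A of index p. Then [S : Z(S)] = p·#[S,S], and either [S,S] has order p, S/Z(S) is elementary abelian of order p², and S has exactly p + 1 abelian subgroups of index p; or [S,S] has order at least p² and A is the only abelian subgroup of index p in S. -/
theorem result {S : Type*} [Group S] [Finite S] (p : ℕ) [Fact p.Prime] (hS : IsPGroup p S) (hna : ¬ IsMulCommutative S)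
    (A : Subgroup S) (hA : IsMulCommutative ↥A) (hAi : A.index = p) :
    (Subgroup.center S).index = p * Nat.card (commutator S) ∧
      ((Nat.card (commutator S) = p ∧ Cfsg.IsElementaryAbelian p (⊤ : Subgroup (S ⧸ Subgroup.center S)) ∧
          Nat.card (S ⧸ Subgroup.center S) = p ^ 2 ∧
          Nat.card {B : Subgroup S // IsMulCommutative ↥B ∧ B.index = p} = p + 1) ∨
        (p ^ 2 ≤ Nat.card (commutator S) ∧ ∀ B : Subgroup S, IsMulCommutative ↥B → B.index = p → B = A)) := by
  rename_i hp
  have hT : IsPGroup p (⊤ : Subgroup S) := hS.to_subgroup _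
  have hna' : ¬ IsMulCommutative (⊤ : Subgroup S) := fun h => hna (isMulComm_top_iff.1 h)
  have key : ∀ B : Subgroup S, IsMulCommutative B → B.index = p →
      center S ≤ B ∧ (center S).index = p * Nat.card (commutator S) := fun B hB hi => by
    have h1 : (B.relIndex ⊤).Prime := by rw [relIndex_top_right, hi]; exact hp.out
    have := CfsgH1.center_of_abelian_index hB le_top (le_norm_of_relIndex_prime hT le_top h1) h1 hna'
    rwa [center_top, relIndex_top_right, relIndex_top_right, hi] at this
  have hZ := (key A hA hAi).2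
  refine ⟨hZ, ?_⟩
  obtain ⟨k, hk⟩ := exists_card_eq_pow (hS.to_subgroup (commutator S))
  have k0 : k ≠ 0 := by
    rintro rfl
    rw [pow_zero, card_eq_one] at hk
    exact hna' (comm_self_eq_bot_iff.1 hk)
  by_cases k1 : k = 1
  · left
    rw [k1, pow_one] at hk
    have hc : Nat.card (S ⧸ center S) = p ^ 2 := by rw [pow_two, ← index_eq_card, hZ, hk]
    have hnc : ¬ IsCyclic (⊤ : Subgroup (S ⧸ center S)) := fun h => hna' <|
      isMulComm_of_cyclic_map (QuotientGroup.mk' (center S)) (by rwa [map_mk_top])
        (by rw [QuotientGroup.ker_mk', cent_top]; exact inf_le_right)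
    have he := (elem_or_cyclic_of_card_sq (card_top.trans hc)).resolve_left hnc
    refine ⟨hk, he, hc, ?_⟩
    have h1 := card_sub_prime (G := S ⧸ center S) hp.out
    have h2 : Nat.card {x : S ⧸ center S // orderOf x = p} = p ^ 2 - 1 := by
      have := Fintype.ofFinite (S ⧸ center S)
      classical
      have e : Nat.card {x : S ⧸ center S // ¬ x = 1} = p ^ 2 - 1 := by
        rw [Nat.card_eq_fintype_card, Fintype.card_subtype_compl, ← Nat.card_eq_fintype_card, hc]; simp
      rw [← e]
      refine Nat.card_congr (Equiv.subtypeEquivRight fun x => ⟨fun h x1 => ?_, fun h => ?_⟩)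
      · rw [x1, orderOf_one] at h; exact hp.out.one_lt.ne h
      · exact orderOf_eq_of_pow hp.out (he.2 x (mem_top x)) h
    have h3 : Nat.card {H : Subgroup (S ⧸ center S) // Nat.card H = p} = p + 1 := by
      rw [h2, show p ^ 2 - 1 = (p + 1) * (p - 1) by rw [← Nat.sq_sub_sq, one_pow]] at h1
      exact (Nat.eq_of_mul_eq_mul_right (Nat.sub_pos_of_lt hp.out.one_lt) h1).symm
    rw [← h3]
    have hidx : ∀ H : Subgroup (S ⧸ center S), H.index = p ↔ Nat.card H = p := fun H => by
      have := H.card_mul_index
      rw [hc, pow_two] at this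
      exact ⟨fun h => Nat.eq_of_mul_eq_mul_right hp.out.pos (h ▸ this),
        fun h => Nat.eq_of_mul_eq_mul_left hp.out.pos (h ▸ this)⟩
    refine Nat.card_congr
      { toFun := fun B => ⟨B.1.map (QuotientGroup.mk' _), (hidx _).1 ?_⟩
        invFun := fun H => ⟨H.1.comap (QuotientGroup.mk' _), ?_, ?_⟩
        left_inv := fun B => Subtype.ext ?_
        right_inv := fun H => Subtype.ext (map_comap_mk _ _) }
    · rw [index_map_eq _ (QuotientGroup.mk'_surjective _)
        (by rw [QuotientGroup.ker_mk']; exact (key _ B.2.1 B.2.2).1), B.2.2]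
    · refine isMulComm_of_cyclic_map (QuotientGroup.mk' (center S)) ?_ ?_
      · rw [map_comap_mk]; exact isCyclic_of_card_prime hp.out H.2
      · rw [QuotientGroup.ker_mk']; exact inf_le_right.trans (cent_top.ge.trans (cent_anti le_top))
    · rw [index_comap_of_surjective _ (QuotientGroup.mk'_surjective _), hidx, H.2]
    · exact (comap_map_mk _ _).trans (sup_eq_left.2 (key _ B.2.1 B.2.2).1)
  · right
    have h2 : p ^ 2 ≤ Nat.card (commutator S) := hk ▸ Nat.pow_le_pow_right hp.out.pos (by omega)
    refine ⟨h2, fun B hB hi => ?_⟩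
    by_contra hne
    have hA' : (A.relIndex ⊤).Prime := by rw [relIndex_top_right, hAi]; exact hp.out
    have hs : A ⊔ B = ⊤ := by
      refine (eq_or_eq_of_relIndex_prime hA' le_sup_left le_top).resolve_left fun h => hne ?_
      refine eq_of_le_of_card_le (le_sup_right.trans h.le) ?_
      have h1 := A.card_mul_index
      have h2 := B.card_mul_index
      rw [hAi] at h1; rw [hi, ← h1] at h2
      exact (Nat.eq_of_mul_eq_mul_right hp.out.pos h2).ge
    have h3 : A ⊓ B ≤ center S := by
      rw [← cent_top, ← hs, cent_sup]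
      exact inf_le_inf (le_cent_self hA) (le_cent_self hB)
    have h4 := (Nat.le_of_dvd (Nat.pos_of_ne_zero FiniteIndex.index_ne_zero) (index_dvd_of_le h3)).trans
      index_inf_le
    rw [hZ, hAi, hi] at h4
    have := Nat.le_of_mul_le_mul_left h4 hp.out.pos
    have := hp.out.one_lt
    nlinarith

end Cfsg.Agent.S3807
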