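import Cfsg.Statements.S3808
import Cfsg.Agent.H1.Misc1

set_option autoImplicit false
open Cfsg

namespace Cfsg.Agent.S3808

/-- Let S be a finite p-group with an extraspecial subgroup Q of index p. Then either Z(S) = Z(Q), or S = Q·Z(S) and Z(S) has order p². -/
theorem result {S : Type*} [Group S] [Finite S] (p : ℕ) [Fact p.Prime] (hS : IsPGroup p S) (Q : Subgroup S) (hQ : Cfsg.IsExtraspecial p ↥Q) (hQi : Q.index = p) :
    Subgroup.center S = (Subgroup.center ↥Q).map Q.subtype ∨
      (Q ⊔ Subgroup.center S = ⊤ ∧ Nat.card (Subgroup.center S) = p ^ 2) := by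
  open Pointwise Subgroup CfsgH1 in
  open CfsgH2 hiding card_inf_mul_relIndex card_lt_of_lt card_lt_of_ne_top card_map_mul_card_inf_ker card_mul_relIndex card_subgroupOf card_sup_dvd card_sup_mul_card_inf exists_card_prime_le isNilpotent_map isNilpotent_of_le isPGroup_pCore isSolvable_map isSolvable_of_le le_pCore le_pPrimeCore relIndex_map_dvd in
  open scoped CfsgH2 in
  open scoped commutatorElement in
  · obtain ⟨h, -⟩ := extraspecial_iff.1 hQ
    have hp : (Q.relIndex ⊤).Prime := by rw [relIndex_top_right, hQi]; exact Fact.out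
    have n := le_norm_of_relIndex_prime (isPGroup_top_iff.2 hS) le_top hp
    have h1 : Z[Q] ≤ center S := by
      rw [← cent_top]
      exact le_centralizer_iff.1 (le_cent_of_card_prime (isPGroup_top_iff.2 hS) (n.trans norm_le_norm_center) h.cardZ)
    have h2 : Q ⊓ center S = Z[Q] := le_antisymm (inf_le_inf_left _ (center_le_centralizer _)) (le_inf inf_le_left h1)
    rw [map_center_subtype]
    rcases eq_or_eq_of_relIndex_prime hp (le_sup_left : Q ≤ Q ⊔ center S) le_top with e | e
    · exact .inl (by rw [← h2, inf_eq_right.2 (sup_eq_left.1 e)])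
    · refine .inr ⟨e, ?_⟩
      have := CfsgH2.card_sup_mul_card_inf (H := Q) (K := center S) le_normalizer_of_normal
      rw [e, h2, h.cardZ, card_top, ← Q.card_mul_index, hQi, mul_assoc, ← sq] at this
      exact (Nat.eq_of_mul_eq_mul_left (card_pos' Q) this).symm

end Cfsg.Agent.S3808
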