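import Cfsg.Statements.S3809
import Cfsg.Agent.H1.Misc1

set_option autoImplicit false
open Cfsg

namespace Cfsg.Agent.S3809

/-- Let S be a finite p-group with an extraspecial subgroup of index p. Then S has order p^(2+2n) for some n ≥ 1, derived length at most 3, and exponent dividing p³. -/
theorem result {S : Type*} [Group S] [Finite S] (p : ℕ) [Fact p.Prime] (hS : IsPGroup p S) (Q : Subgroup S) (hQ : Cfsg.IsExtraspecial p ↥Q) (hQi : Q.index = p) :
    (∃ n : ℕ, 1 ≤ n ∧ Nat.card S = p ^ (2 + 2 * n)) ∧ derivedSeries S 3 = ⊥ ∧ ∀ x : S, x ^ (p ^ 3) = 1 := by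
  open Pointwise Subgroup CfsgH1 in
  open CfsgH2 hiding card_inf_mul_relIndex card_lt_of_lt card_lt_of_ne_top card_map_mul_card_inf_ker card_mul_relIndex card_subgroupOf card_sup_dvd card_sup_mul_card_inf exists_card_prime_le isNilpotent_map isNilpotent_of_le isPGroup_pCore isSolvable_map isSolvable_of_le le_pCore le_pPrimeCore relIndex_map_dvd in
  open scoped CfsgH2 in
  open scoped commutatorElement in
  · obtain ⟨h, hna⟩ := extraspecial_iff.1 hQ
    have hp : (Q.relIndex ⊤).Prime := by rw [relIndex_top_right, hQi]; exact Fact.out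
    have n := le_norm_of_relIndex_prime (isPGroup_top_iff.2 hS) le_top hp
    obtain ⟨m, hm⟩ := h.card_eq
    have h1 := commutator_le_of_relIndex_prime n hp
    refine ⟨⟨m, Nat.pos_of_ne_zero ?_, by rw [← Q.card_mul_index, hQi, hm]; ring⟩, ?_, fun x => ?_⟩
    · rintro rfl
      exact hna (isMulComm_of_card_dvd_sq (p := p) (hm ▸ pow_dvd_pow _ (by omega)))
    · exact comm_self_eq_bot_iff.2 (isMulComm_of_le (isMulComm_cent_inf Q) ((commutator_mono h1 h1).trans h.der))
    · have h2 := pow_relIndex_mem' n (mem_top x)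
      rw [relIndex_top_right, hQi] at h2
      have h3 := orderOf_dvd_of_mem (h.pow_mem h2)
      rw [h.cardZ, orderOf_dvd_iff_pow_eq_one, ← pow_mul, ← pow_mul] at h3
      rw [← h3]; congr 1; ring

end Cfsg.Agent.S3809
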