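import Cfsg.Statements.S3810
import Cfsg.Agent.H1.Misc1

set_option autoImplicit false
open Cfsg

namespace Cfsg.Agent.S3810

/-- Let S be a finite p-group with an extraspecial subgroup of index p. Then S has an abelian subgroup of index p if and only if S has order p⁴. -/
theorem result {S : Type*} [Group S] [Finite S] (p : ℕ) [Fact p.Prime] (hS : IsPGroup p S) (Q : Subgroup S) (hQ : Cfsg.IsExtraspecial p ↥Q) (hQi : Q.index = p) :
    (∃ A : Subgroup S, IsMulCommutative ↥A ∧ A.index = p) ↔ Nat.card S = p ^ 4 := by
  open Pointwise Subgroup CfsgH1 in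
  open CfsgH2 hiding card_inf_mul_relIndex card_lt_of_lt card_lt_of_ne_top card_map_mul_card_inf_ker card_mul_relIndex card_subgroupOf card_sup_dvd card_sup_mul_card_inf exists_card_prime_le isNilpotent_map isNilpotent_of_le isPGroup_pCore isSolvable_map isSolvable_of_le le_pCore le_pPrimeCore relIndex_map_dvd in
  open scoped CfsgH2 in
  open scoped commutatorElement in
  · obtain ⟨h, hna⟩ := extraspecial_iff.1 hQ
    have hp := (Fact.out : p.Prime)
    have hT := isPGroup_top_iff.2 hS
    refine ⟨fun ⟨A, hA, hi⟩ => ?_, fun hc => ?_⟩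
    · have n := le_norm_of_relIndex_prime hT (le_top : A ≤ ⊤) (by rwa [relIndex_top_right, hi])
      haveI := normal_of_top_le_norm n
      have h1 : (A ⊓ Q).relIndex Q = p := by
        rw [inf_relIndex_right]
        exact ((Nat.dvd_prime hp).1 (hi ▸ relIndex_dvd_index_of_normal A Q)).resolve_left fun e =>
          hna (isMulComm_of_le hA (relIndex_eq_one.1 e))
      have := (center_of_abelian_index (isMulComm_of_le hA inf_le_left) inf_le_right
        (le_norm_inf le_normalizer_of_normal le_normalizer) (h1 ▸ hp) hna).2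
      rw [← Q.card_mul_index, ← CfsgH2.card_mul_relIndex (inf_le_left : Z[Q] ≤ Q), this, h1, h.der_eq hna, h.cardZ, hQi]
      ring
    · obtain ⟨A, -, hA⟩ := exists_scn_ge hT bot_le le_normalizer_of_normal inferInstance
      refine ⟨A, scn_comm hA, ?_⟩
      obtain ⟨k, hk, e⟩ := (Nat.dvd_prime_pow hp).1 (hc ▸ card_subgroup_dvd_card A)
      have h1 : ¬ k ≤ 2 := fun h1 => by
        have := card_le_cube_of_scn hT hA (e ▸ pow_dvd_pow _ h1)
        rw [card_top, hc, Nat.pow_dvd_pow_iff_le_right hp.one_lt] at this
        omega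
      have h2 : k ≠ 4 := by
        rintro rfl
        exact hna (isMulComm_of_le (scn_comm hA) (le_top.trans (eq_top_of_card_eq _ (e.trans hc.symm)).ge))
      obtain rfl : k = 3 := by omega
      have := A.card_mul_index
      rw [e, hc, pow_succ p 3] at this
      exact Nat.eq_of_mul_eq_mul_left (pow_pos hp.pos _) this

end Cfsg.Agent.S3810
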