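import Cfsg.Statements.S3811
import Cfsg.Agent.H2.Pq4

set_option autoImplicit false
open Cfsg

namespace Cfsg.Agent.S3811
open CfsgH2
section
open Subgroup Function
open scoped commutatorElement

universe u
variable {p : ℕ} [hp : Fact p.Prime]

theorem qt_lcs {G : Type*} [Group G] {P Z : Subgroup G} (h : P ≤ N[Z]) (j : ℕ) :
    qt Z (P.lowerCentralSeries j) = (qt Z P).lowerCentralSeries j := by
  induction j with
  | zero => rfl
  | succ j ih => rw [Subgroup.lowerCentralSeries_succ, Subgroup.lowerCentralSeries_succ,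
      qt_commutator ((P.lowerCentralSeries_le_self j).trans h) h, ih]

theorem le_of_step {G : Type*} [Group G] [Finite G] {P A L : Subgroup G} (hP : PG[p, P])
    (h : A.relIndex (P ⊓ N[A]) = p) (a : A < L) (b : L ≤ P) : P ⊓ N[A] ≤ L := by
  have e := lt_inf_norm (hP.to_le b).isNilpotent a
  rw [← (eq_or_eq_of_relIndex_prime (h ▸ hp.out) e.le (inf_le_inf_right _ b)).resolve_left e.ne']
  exact inf_le_left

theorem aux (i : ℕ) : ∀ (G : Type u) [Group G] [Finite G] (P E K : Subgroup G), PG[p, P] → Ab[E] → P ⊓ C[E] ≤ E →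
    E.relIndex (P ⊓ N[E]) = p → E ≤ K → K < P → E.relIndex K = p ^ i →
      K.relIndex (P ⊓ N[K]) = p ∧ K.lowerCentralSeries (i + 1) = ⊥ ∧ K.lowerCentralSeries i ≠ ⊥ ∧
      ⁅P ⊓ N[E], P ⊓ N[E]⁆ ≤ C[K] ∧ ∀ L, E ≤ L → L ≤ P → K ≤ L ∨ L ≤ K := by
  induction i using Nat.strong_induction_on with | _ i ih
  intro G _ _ P E K hP hE hC hN h1 h2 h3
  have dE : ⁅P ⊓ N[E], P ⊓ N[E]⁆ ≤ E := commutator_le_of_relIndex_prime inf_le_right (hN ▸ hp.out)
  rcases i with _ | i
  · obtain rfl : E = K := le_antisymm h1 (relIndex_eq_one.1 h3)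
    refine ⟨hN, comm_self_eq_bot_iff.2 hE, fun e => h2.not_ge (le_trans (le_inf le_rfl ?_) hC),
      dE.trans (le_cent_self hE), fun L a _ => .inl a⟩
    rw [show E = ⊥ from e, cent_bot]; exact le_top
  have pK := hP.to_le h2.le
  have EK : E < K := h1.lt_of_ne fun e => by
    rw [e, relIndex_self] at h3; exact (Nat.one_lt_pow i.succ_ne_zero hp.out.one_lt).ne h3
  obtain ⟨A, a1, a2, a3, a4⟩ := exists_maximal_sub pK EK
  have AK : A < K := a2.lt_of_ne fun e => hp.out.ne_one (by rw [← a4, e, relIndex_self])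
  have a5 : E.relIndex A = p ^ i := Nat.eq_of_mul_eq_mul_right hp.out.pos (by
    rw [← pow_succ, ← h3, ← relIndex_mul_relIndex _ _ _ a1 a2, a4])
  obtain ⟨b1, -, -, b2, b3⟩ := ih i i.lt_succ_self G P E A hP hE hC hN a1 (AK.trans h2) a5
  have eK : P ⊓ N[A] = K := le_antisymm (le_of_step hP b1 AK h2.le) (le_inf h2.le a3)
  have N1 : P ⊓ N[E] ≤ K := le_of_step hP hN EK h2.le
  obtain ⟨g, ⟨g1, g2⟩, g3⟩ := SetLike.exists_of_lt (lt_inf_norm hP.isNilpotent h2)
  replace g2 : g ∈ N[K] := g2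
  set B := A.map (cj g) with hB
  have B1 : B ≤ K := map_cj_le_of_norm a2 g2
  have B2 : B.relIndex K = p := by rw [← map_cj_eq g2, relIndex_map_cj, a4]
  have B3 : K ≤ N[B] := le_norm_of_relIndex_prime pK B1 (B2 ▸ hp.out)
  have BA : ¬ A ≤ B := fun e => g3 (eK ▸ ⟨g1, map_cj_eq_iff.1 (eq_of_le_of_card_le e (card_map_cj g A).le).symm⟩)
  have EB : ¬ E ≤ B := fun e => (b3 B e (B1.trans h2.le)).elim BA fun c =>
    BA (eq_of_le_of_card_le c (card_map_cj g A).ge).ge
  have mx : ∀ X ≤ K, ¬ X ≤ B → B ⊔ X = K := fun X a b =>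
    (eq_or_eq_of_relIndex_prime (B2 ▸ hp.out) le_sup_left (sup_le B1 a)).resolve_left fun e => b (le_sup_right.trans e.le)
  have eZ : Z[B] = Z[A].map (cj g) := by rw [map_cj_inf, centralizer_map_cj]
  have c1 : ⁅P ⊓ N[E], P ⊓ N[E]⁆ ≤ Z[B] := by
    by_cases c : Z[B] ≤ E
    · have e : Z[B] ≤ Z[A] := le_inf (c.trans a1) (le_trans (by
        rw [← mx E h1 EB, cent_sup]; exact le_inf inf_le_right (c.trans (le_cent_self hE))) (cent_anti a2))
      rw [eq_of_le_of_card_le e (by rw [eZ, card_map_cj])]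
      exact le_inf (dE.trans a1) b2
    have nZ : K ≤ N[Z[B]] := B3.trans norm_le_norm_center
    have l := le_of_step hP hN (left_lt_sup.2 c) (sup_le (h1.trans h2.le) (inf_le_left.trans (B1.trans h2.le)))
    rw [← inf_eq_right.2 l, sup_inf_of_norm (.inl (h1.trans nZ)) (le_inf (h1.trans h2.le) le_normalizer)]
    exact der_sup_le (h1.trans nZ) (inf_le_left.trans le_normalizer) ((comm_self_eq_bot_iff.2 hE).le.trans bot_le)
      (commutator_self_le.trans inf_le_left) ((commutator_mono le_rfl inf_le_left).trans (comm_le_right (h1.trans nZ)))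
  have c2 : ⁅P ⊓ N[E], P ⊓ N[E]⁆ ≤ C[K] := by
    rw [← mx A a2 BA, cent_sup]; exact le_inf (c1.trans inf_le_right) b2
  have c3 : ∀ L, E ≤ L → L ≤ P → K ≤ L ∨ L ≤ K := fun L a b => by
    rcases b3 L a b with c | c
    · rcases c.eq_or_lt with rfl | c
      · exact .inr a2
      · exact .inl (eK ▸ le_of_step hP b1 c b)
    · exact .inr (c.trans a2)
  have zE : Z[K] ≤ E := (inf_le_inf h2.le (cent_anti h1)).trans hC
  have EN : E ≤ P ⊓ N[E] := le_inf (h1.trans h2.le) le_normalizer
  have nP : P ⊓ N[K] ≤ N[Z[K]] := inf_le_right.trans norm_le_norm_center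
  have KP : K ≤ P ⊓ N[K] := le_inf h2.le le_normalizer
  have nK := KP.trans nP
  have q1 : qt Z[K] (P ⊓ N[K]) ⊓ C[qt Z[K] (P ⊓ N[E])] ≤ qt Z[K] (P ⊓ N[E]) := by
    obtain ⟨X, x1, x2, x3⟩ := exists_qt_eq_le (inf_le_left : qt Z[K] (P ⊓ N[K]) ⊓ C[qt Z[K] (P ⊓ N[E])] ≤ _)
    have := (qt_le_cent_iff x2 (N1.trans nK)).1 (x3.le.trans inf_le_right)
    rw [← x3]
    exact qt_mono (le_inf (x1.trans inf_le_left) (le_norm_of_comm_le ((commutator_comm _ _).le.trans
      ((commutator_mono le_rfl EN).trans this)) zE))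
  have q2 : qt Z[K] K < qt Z[K] (P ⊓ N[K]) :=
    (qt_lt_qt nK nP inf_le_left (inf_le_left.trans KP)).2 (lt_inf_norm hP.isNilpotent h2 |>.trans_eq rfl)
  rcases i with _ | i
  · obtain rfl : E = A := le_antisymm a1 (relIndex_eq_one.1 a5)
    rw [eK] at q1 c2
    refine ⟨le_antisymm ?_ (Nat.le_of_dvd (relIndex_pos _ _) (dvd_relIndex_of_not_le (hP.to_le inf_le_left)
      fun e => g3 (e ⟨g1, g2⟩))), comm_eq_bot_iff.2 c2, fun e => EK.not_ge ((le_inf h2.le
        (le_cent_of_comm (comm_self_eq_bot_iff.1 e) h1)).trans hC), eK ▸ c2, c3⟩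
    obtain ⟨a, ha⟩ := exists_relIndex_eq_pow pK Z[K]
    have e1 := relIndex_cent_le_pow (isPGroup_qt (K := Z[K]) (hP.to_le (inf_le_left : P ⊓ N[K] ≤ P))) a (qt Z[K] K)
      (qt_le_norm inf_le_right) ((card_qt nK).trans ha)
    have e2 : E ⊓ B ≤ Z[K] := le_inf (inf_le_left.trans h1) (by
      rw [← mx E h1 EB, cent_sup]
      exact le_inf (inf_le_right.trans (le_cent_self ((inj_isMulComm (cj_injective g)).2 hE))) (inf_le_left.trans (le_cent_self hE)))
    have e3 := (Nat.le_of_dvd (relIndex_pos _ _) (relIndex_dvd_of_le_left K e2)).trans (relIndex_inf_le (K := B))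
    rw [ha, a4, B2, ← sq, Nat.pow_le_pow_iff_right hp.out.one_lt] at e3
    rw [← relIndex_qt nP inf_le_left]
    refine (Nat.le_of_dvd (relIndex_pos _ _) (relIndex_dvd_of_le_left _ q1)).trans ?_
    rw [inf_relIndex_left]
    refine e1.trans ?_
    interval_cases a <;> simp [hp.out.one_le]
  have e1 : (P ⊓ N[E]).relIndex K = p ^ (i + 1) := Nat.eq_of_mul_eq_mul_left hp.out.pos (by
    rw [← pow_succ', ← h3, ← relIndex_mul_relIndex _ _ _ EN N1, hN])
  have NK : P ⊓ N[E] < K := N1.lt_of_ne fun e => by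
    rw [e, relIndex_self] at e1; exact (Nat.one_lt_pow i.succ_ne_zero hp.out.one_lt).ne e1
  have e2 := (ih 1 (by omega) G P E _ hP hE hC hN EN (NK.trans h2) (hN.trans (pow_one p).symm)).1
  have e3 := le_of_step hP e2 NK h2.le
  obtain ⟨d1, d2, d3, -⟩ := ih (i + 1) (by omega) _ _ _ _ (isPGroup_qt (hP.to_le inf_le_left))
    ((isMulComm_qt_iff (N1.trans nK)).2 (le_inf (dE.trans h1) c2)) q1 (by
      rw [← qt_inf_norm (N1.trans nK) (zE.trans EN), relIndex_qt (inf_le_left.trans nP) (zE.trans EN), inf_right_comm,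
        inf_eq_left.2 (e3.trans le_normalizer), e2]) (qt_mono N1) q2 ((relIndex_qt nK (zE.trans EN)).trans e1)
  rw [inf_eq_left.2 (qt_le_norm inf_le_right), relIndex_qt nP inf_le_left] at d1
  rw [← qt_lcs nK, qt_eq_bot ((K.lowerCentralSeries_le_self _).trans nK)] at d2
  rw [Ne, ← qt_lcs nK, qt_eq_bot ((K.lowerCentralSeries_le_self _).trans nK)] at d3
  exact ⟨d1, comm_eq_bot_iff.2 (d2.trans inf_le_right),
    fun e => d3 (le_inf (K.lowerCentralSeries_le_self _) (comm_eq_bot_iff.1 e)), c2, c3⟩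

end

/-- Let P be a finite p-group and E an abelian subgroup of P that contains its centralizer, has index p in its normalizer, and has index at least p² in P. Then the subgroups of P containing E are totally ordered by inclusion, each proper one has index p in its normalizer (so they form the normalizer tower of E, with all steps of index p), and the i-th member of the tower above E has nilpotency class i + 1 whenever it is a proper subgroup of P. -/
theorem result {P : Type*} [Group P] [Finite P] (p : ℕ) [Fact p.Prime] (hP : IsPGroup p P)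
    (E : Subgroup P) (hEab : IsMulCommutative ↥E) (hC : Subgroup.centralizer (E : Set P) ≤ E)
    (hN : (E.subgroupOf (Subgroup.normalizer (E : Set P))).index = p) (hidx : p ^ 2 ≤ E.index) :
    (∀ K L : Subgroup P, E ≤ K → E ≤ L → K ≤ L ∨ L ≤ K) ∧
      (∀ K : Subgroup P, E ≤ K → K ≠ ⊤ → (K.subgroupOf (Subgroup.normalizer (K : Set P))).index = p) ∧
      ∀ (i : ℕ) (K : Subgroup P) [Group.IsNilpotent ↥K], E ≤ K → K ≠ ⊤ → K.index * p ^ i = E.index →
        Group.nilpotencyClass ↥K = i + 1 := by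
  open Subgroup Function in open scoped commutatorElement in
  · have pT := hP.to_subgroup ⊤
    have h := fun i K a b c => aux i P ⊤ E K pT hEab (inf_le_right.trans hC) (by rw [top_inf_eq]; exact hN) a
      (lt_top_iff_ne_top.2 b) c
    refine ⟨fun K L a b => ?_, fun K a b => ?_, fun i K _ a b c => ?_⟩
    · by_cases c : K = ⊤
      · exact .inr (c ▸ le_top)
      obtain ⟨i, hi⟩ := exists_relIndex_eq_pow (hP.to_subgroup K) E
      exact (h i K a c hi).2.2.2.2 L b le_top
    · obtain ⟨i, hi⟩ := exists_relIndex_eq_pow (hP.to_subgroup K) E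
      have := (h i K a b hi).1
      rwa [top_inf_eq] at this
    · obtain ⟨-, d1, d2, -⟩ := h i K a b (Nat.eq_of_mul_eq_mul_right (index_pos K) (by
        rw [relIndex_mul_index a, ← c, mul_comm]))
      rw [← top_subtype_lowerCentralSeries, map_eq_bot_iff_of_injective _ (subtype_injective _),
        Subgroup.lowerCentralSeries_eq_bot_iff_nilpotencyClass_le] at d1
      rw [Ne, ← top_subtype_lowerCentralSeries, map_eq_bot_iff_of_injective _ (subtype_injective _),
        Subgroup.lowerCentralSeries_eq_bot_iff_nilpotencyClass_le] at d2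
      omega

end Cfsg.Agent.S3811
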