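import Cfsg.Statements.S3835
import Cfsg.Agent.H1.Sn4
import Cfsg.Agent.L0.Qd
import Cfsg.Agent.H5.SLBasic

set_option autoImplicit false
open Cfsg

namespace Cfsg.Agent.S3835

section
open CfsgH1 CfsgH1.Sn Equiv Equiv.Perm MulAction
open scoped commutatorElement

open CfsgL0 Matrix in
theorem no_qd {n p : ℕ} [Fact p.Prime] (h : n < p ^ 2) (K : Type) [Group K] [Finite K] [MulAction K (Fin n)]
    [FaithfulSMul K (Fin n)] (f : K →* qd p) (hf : Function.Surjective f) : False := by
  obtain ⟨j, i, π, q⟩ := exists_isQd (MulEquiv.refl (qd p))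
  obtain ⟨Q, hQ⟩ := (q.syl (p := p)).pg.exists_le_sylow
  obtain ⟨P, rfl⟩ := Sylow.mapSurjective_surjective hf p Q
  obtain ⟨a, ha, e1⟩ := hQ (show i (CfsgL0.uT 1) ∈ _ from mem_uH.2 ⟨1, (q.sec _).symm⟩)
  obtain ⟨b, hb, e2⟩ := hQ (show j (.ofAdd ![0, 1]) ∈ _ from Subgroup.mem_comap.2 (q.π_j _ ▸ one_mem _))
  have h1 := congrArg (fun x : P => f x) (ab_of_lt (α := Fin n) P.2 (by simpa) ⟨a, ha⟩ ⟨b, hb⟩)
  simp only [Subgroup.coe_mul, map_mul, e1, e2] at h1
  have h2 := q.cj (CfsgL0.uT 1) ![0, 1]
  rw [h1, mul_inv_cancel_right] at h2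
  simpa [CfsgL0.uT_coe] using congrFun (Multiplicative.ofAdd.injective (q.inj h2)) 0

open CfsgL0 Matrix in
/-- The affine action on the plane. -/
noncomputable def act (F : Type) [Field F] : MulAction (QD F) (Fin 2 → F) where
  smul x w := x.left.toAdd + x.right.1 *ᵥ w
  one_smul w := by show (0 : Fin 2 → F) + (1 : Matrix _ _ F) *ᵥ w = w; simp
  mul_smul x y w := by
    show x.left.toAdd + x.right.1 *ᵥ y.left.toAdd + (x.right.1 * y.right.1) *ᵥ w = _ + x.right.1 *ᵥ (_ + y.right.1 *ᵥ w)
    rw [mulVec_add, mulVec_mulVec, add_assoc]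

end

/-- Let p be an odd prime and n a natural number. The alternating group of degree n has a subgroup isomorphic to Qd(p) (the natural semidirect product of an elementary abelian group of order p² by SL₂(p)) if and only if n ≥ p²; and if n < p² then Qd(p) is not even involved in it. -/
theorem result {p : ℕ} [Fact p.Prime] (hp : p ≠ 2) (n : ℕ) : ((∃ H : Subgroup (alternatingGroup (Fin n)), Nonempty (↥H ≃* ↥(Cfsg.qd p))) ↔ p ^ 2 ≤ n) ∧ (n < p ^ 2 → ¬ Cfsg.Involves ↥(Cfsg.qd p) ↥(alternatingGroup (Fin n))) := by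
  open CfsgH1 CfsgH1.Sn Equiv Equiv.Perm MulAction in
  open scoped commutatorElement in
  · have hp' : p.Prime := Fact.out
    refine ⟨⟨fun ⟨H, ⟨e⟩⟩ => not_lt.1 fun h => no_qd h H e.toMonoidHom e.surjective, fun h => ?_⟩, fun h ⟨K, R, _, ⟨e⟩⟩ =>
      no_qd h K (e.toMonoidHom.comp (QuotientGroup.mk' _)) (e.surjective.comp (QuotientGroup.mk'_surjective _))⟩
    obtain ⟨ι⟩ : Nonempty ((Fin 2 → ZMod p) ↪ Fin n) := Function.Embedding.nonempty_of_card_le (by simpa)
    let := act (ZMod p)
    let φ := (viaEmbeddingHom ι).comp (toPermHom (CfsgL0.QD (ZMod p)) (Fin 2 → ZMod p))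
    have h1 : Function.Injective φ := (viaEmbeddingHom_injective ι).comp fun x y e => by
      have e1 : ∀ w, x.left.toAdd + x.right.1.mulVec w = y.left.toAdd + y.right.1.mulVec w := Equiv.ext_iff.1 e
      have e2 : x.left.toAdd = y.left.toAdd := by simpa using e1 0
      exact SemidirectProduct.ext (Multiplicative.toAdd.injective e2) (Subtype.ext (Matrix.mulVec_injective
        (funext fun w => add_left_cancel (e2 ▸ e1 w))))
    have ho := hp'.eq_two_or_odd'.resolve_left hp
    have h2 : ∀ x, φ x ∈ alternatingGroup (Fin n) := fun x => by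
      rw [← x.inl_left_mul_inr_right, map_mul]
      refine mul_mem (mem_alt_of_odd ho ?_) ?_
      · rw [← map_pow, ← map_pow, show x.left ^ p = 1 from Multiplicative.toAdd.injective (by ext; simp), map_one, map_one]
      · refine (CfsgH5.SL_eq_top_of_transvections ((alternatingGroup _).comap (φ.comp SemidirectProduct.inr))
          fun i j hij c => mem_alt_of_odd ho ?_).ge (Subgroup.mem_top x.right)
        have : ∀ k : ℕ, Matrix.SpecialLinearGroup.transvection hij c ^ k = .transvection hij (k * c) := fun k => by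
          induction k with
          | zero => simp
          | succ k ih => rw [pow_succ, ih, ← Matrix.SpecialLinearGroup.transvection_add]; simp [add_mul]
        rw [← map_pow, this]; simp
    exact ⟨_, ⟨(MonoidHom.ofInjective (f := φ.codRestrict _ h2) fun a b e => h1 (congrArg Subtype.val e)).symm.trans CfsgL0.qdE⟩⟩

end Cfsg.Agent.S3835
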