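import Cfsg.Statements.S3864
import Mathlib
import Cfsg.Agent.L0.MC2

set_option autoImplicit false
open Cfsg

namespace Cfsg.Agent.S3864

open Cfsg Subgroup CfsgH2 CfsgL0

/-- Let G be a finite group whose Sylow 2-subgroups are dihedral of order 2 ^ n with n ≥ 3, and count the conjugacy classes of involutions of G. Then exactly one of the following holds: there is one class of involutions and no normal subgroup of index 2; there are two classes of involutions, a normal subgroup of index 2 and none of index 4; there are three classes of involutions and G has a normal 2-complement. -/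
theorem result {G : Type*} [Group G] [Finite G] (P : Sylow 2 G) (n : ℕ) (hn : 3 ≤ n) (hdih : Nonempty (↥(P : Subgroup G) ≃* DihedralGroup (2 ^ (n - 1)))) : (Nat.card {C : ConjClasses G // ∃ g : G, ConjClasses.mk g = C ∧ orderOf g = 2} = 1 ∧ ∀ N : Subgroup G, N.Normal → N.index ≠ 2) ∨ (Nat.card {C : ConjClasses G // ∃ g : G, ConjClasses.mk g = C ∧ orderOf g = 2} = 2 ∧ (∃ N : Subgroup G, N.Normal ∧ N.index = 2) ∧ ∀ N : Subgroup G, N.Normal → N.index ≠ 4) ∨ (Nat.card {C : ConjClasses G // ∃ g : G, ConjClasses.mk g = C ∧ orderOf g = 2} = 3 ∧ Cfsg.HasNormalPComplement 2 G) := by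
  obtain ⟨e⟩ := hdih
  have s := syl_top P
  have h2 : 2 ^ 2 ≤ 2 ^ (n - 1) := Nat.pow_le_pow_right two_pos (by omega)
  obtain hk | ⟨a, b, m, h⟩ := dh_of s.pg (by omega) e
  · have := hk.1
    rw [Nat.card_congr e.toEquiv, DihedralGroup.nat_card] at this
    omega
  simp only [and_comm (a := ConjClasses.mk _ = _)]
  have oz := mc_ord_z h.toMC
  have ob := h.ord2 h.bmem h.nmem
  have oc := h.ord2 (mc_ab h.toMC).1 (mc_ab h.toMC).2
  have i1 := mc_fz_iff h.toMC ob
  have i2 := mc_fz_iff h.toMC oc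
  have n4 : (piRes {2} (⊤ : Subgroup G)).index = 2 → (∃ N : Subgroup G, N.Normal ∧ N.index = 2) ∧
      ∀ N : Subgroup G, N.Normal → N.index ≠ 4 := fun e => ⟨⟨_, normal_of_top_le_norm le_norm_piRes, e⟩, fun N hN e' => by
    have := index_dvd_of_le (piRes_le_of (π := {2}) (M := ⊤) (K := N) le_normalizer_of_normal
      (by rw [relIndex_top_right, e']; exact (PiN.of_prime (π := {2}) Nat.prime_two rfl).pow 2))
    rw [e, e'] at this; omega⟩
  by_cases f1 : Fz a b <;> by_cases f2 : Fz a (a * b)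
  · exact .inl ⟨cc_one oz fun t ht => (h.all2 s t ht).elim id fun e => e.elim (i1.1 f1).trans (i2.1 f2).trans,
      fun N _ => no_index_two s (mc_foc_both h.toMC h.nq f1 f2) N⟩
  · exact .inr (.inl ⟨cc_two oz oc (mt i2.2 f2) fun t ht => (h.all2 s t ht).elim .inl fun e => e.imp_left (i1.1 f1).trans,
      n4 (mc_foc_one h.toMC h.nq s h.bmem h.nmem (mc_ab h.toMC).1 (mc_ab h.toMC).2
        (fun v hv v1 => mc_out_cases h.toMC hv v1) f1 f2).2⟩)
  · exact .inr (.inl ⟨cc_two oz ob (mt i1.2 f1) fun t ht => (h.all2 s t ht).elim .inl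
      fun e => e.symm.imp_left (i2.1 f2).trans,
      n4 (mc_foc_one h.toMC h.nq s (mc_ab h.toMC).1 (mc_ab h.toMC).2 h.bmem h.nmem
        (fun v hv v1 => (mc_out_cases h.toMC hv v1).symm) f2 f1).2⟩)
  · exact .inr (.inr ⟨cc_three oz ob oc (mt i1.2 f1) (mt i2.2 f2) (mc_not_conj h.toMC h.nq s f1) (h.all2 s),
      npc_top_iff.2 (mc_foc_none h.toMC h.nq s f1 f2)⟩)

end Cfsg.Agent.S3864
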