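import Cfsg.Statements.S3870
import Cfsg.Agent.H1.Misc1

set_option autoImplicit false
open Cfsg

namespace Cfsg.Agent.S3870

/-- Let G be a finite simple group whose Sylow p-subgroups are not normal but such that every proper subgroup of G has a normal Sylow p-subgroup. Then any two distinct Sylow p-subgroups of G intersect trivially, and for every Sylow p-subgroup P the normalizer of every non-identity subgroup of P lies in the normalizer of P. -/
theorem result {G : Type*} [Group G] [Finite G] [IsSimpleGroup G] {p : ℕ} [Fact p.Prime]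
    (hnc : ¬ Cfsg.IsPClosed p G) (hsub : ∀ H : Subgroup G, H ≠ ⊤ → Cfsg.IsPClosed p ↥H) :
    (∀ P Q : Sylow p G, P ≠ Q → (P : Subgroup G) ⊓ (Q : Subgroup G) = ⊥) ∧
      ∀ (P : Sylow p G) (R : Subgroup G), R ≤ P → R ≠ ⊥ →
        Subgroup.normalizer (R : Set G) ≤ Subgroup.normalizer ((P : Subgroup G) : Set G) := by
  open Pointwise Subgroup CfsgH1 in
  open CfsgH2 hiding card_inf_mul_relIndex card_lt_of_lt card_lt_of_ne_top card_map_mul_card_inf_ker card_mul_relIndex card_subgroupOf card_sup_dvd card_sup_mul_card_inf exists_card_prime_le isNilpotent_map isNilpotent_of_le isPGroup_pCore isSolvable_map isSolvable_of_le le_pCore le_pPrimeCore relIndex_map_dvd in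
  open scoped CfsgH2 in
  open scoped commutatorElement in
  · have key : ∀ P Q : Subgroup G, Syl p P ⊤ → Syl p Q ⊤ → P ⊓ Q ≠ ⊥ → P = Q := fun P Q hP hQ =>
      syl_ti_of_local (fun D _ h0 hD => pclosed_iff.1 (hsub _ fun e => by
        haveI := normal_of_top_le_norm (e.ge.trans inf_le_right)
        obtain rfl := (IsSimpleGroup.eq_bot_or_eq_top_of_normal D this).resolve_left h0
        exact hnc (pclosed_top_iff.2 fun S hS => by rw [hS.eq_of_pgroup hD]; exact le_normalizer))) hP hQ
    refine ⟨fun P Q h => by_contra fun e => h (Sylow.ext (key _ _ (syl_top P) (syl_top Q) e)),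
      fun P R h1 h0 g hg => map_cj_eq_iff.1 (key _ _ ((syl_top P).map_cj_mem (mem_top g)) (syl_top P) fun e =>
        h0 (le_bot_iff.1 ((le_inf ((map_cj_eq hg).ge.trans (map_mono h1)) h1).trans e.le)))⟩

end Cfsg.Agent.S3870
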