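import Cfsg.Statements.S3872
import Cfsg.Agent.H2.Pq4

set_option autoImplicit false
open Cfsg

namespace Cfsg.Agent.S3872
open CfsgH2
section
open Subgroup Function
open scoped commutatorElement

theorem aux {G : Type*} [Group G] {p : ℕ} (h : ∃ H : Subgroup G, (H : Set G) = {g : G | g ^ p = 1}) {x y : G}
    (hx : x ^ p = 1) (hy : y ^ p = 1) (e : closure {x, y} = ⊤) (g : G) : g ^ p = 1 := by
  obtain ⟨H, hH⟩ := h
  have m : ∀ z, z ∈ H ↔ z ^ p = 1 := fun z => Set.ext_iff.1 hH z
  exact (m g).1 ((e.ge.trans (CfsgL0.g2_le ((m x).2 hx) ((m y).2 hy))) trivial)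

end

/-- Say that a finite group is p-exponent closed when its elements of order dividing p form a subgroup. Let G be a finite p-group that is not p-exponent closed, but all of whose proper subgroups and proper quotients are. Then G is generated by two elements, has nilpotency class at least p, has exponent p², has cyclic center, and has order at least p^(p+1). -/
theorem result {G : Type*} [Group G] [Finite G] {p : ℕ} [Fact p.Prime] (hG : IsPGroup p G)
    (hnc : ¬ (∃ H : Subgroup G, (H : Set G) = {g : G | g ^ p = 1})) (hsub : ∀ K : Subgroup G, K ≠ ⊤ → (∃ H : Subgroup ↥K, (H : Set ↥K) = {g : ↥K | g ^ p = 1}))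
    (hquo : ∀ (N : Subgroup G) [N.Normal], N ≠ ⊥ → (∃ H : Subgroup (G ⧸ N), (H : Set (G ⧸ N)) = {g : (G ⧸ N) | g ^ p = 1})) :
    (∃ x y : G, Subgroup.closure ({x, y} : Set G) = ⊤) ∧ (⊤ : Subgroup G).lowerCentralSeries (p - 1) ≠ ⊥ ∧
      Monoid.exponent G = p ^ 2 ∧ IsCyclic ↥(Subgroup.center G) ∧ p ^ (p + 1) ≤ Nat.card G := by
  open Subgroup Function in open scoped commutatorElement in
  · open CfsgL0 CfsgBG in
    have hp : p.Prime := Fact.out
    obtain ⟨x, y, hx, hy, h⟩ : ∃ x y : G, x ^ p = 1 ∧ y ^ p = 1 ∧ (x * y) ^ p ≠ 1 := by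
      by_contra c
      push Not at c
      exact hnc ⟨⟨⟨⟨{g | g ^ p = 1}, fun a b => c _ _ a b⟩, one_pow p⟩, fun a => by simpa using a⟩, rfl⟩
    have e : g2 x y = ⊤ := by
      by_contra c
      obtain ⟨H, hH⟩ := hsub _ c
      have m : ∀ z, z ∈ H ↔ z ^ p = 1 := fun z => Set.ext_iff.1 hH z
      exact h (congrArg Subtype.val ((m _).1 (mul_mem ((m ⟨x, mem_g2l⟩).2 (Subtype.ext hx)) ((m ⟨y, mem_g2r⟩).2 (Subtype.ext hy)))))
    have pT := hG.to_subgroup ⊤
    have q : ∀ X : Subgroup G, X ≤ C[(⊤ : Subgroup G)] → X ≠ ⊥ → ∀ g : G, g ^ p ∈ X := fun X a b g => by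
      haveI := normal_of_top_le_norm (le_norm_of_le_cent (le_centralizer_iff.1 a))
      rw [← QuotientGroup.eq_one_iff, QuotientGroup.mk_pow]
      refine aux (hquo X b) (x := x) (y := y) (by rw [← QuotientGroup.mk_pow, hx]; rfl) (by rw [← QuotientGroup.mk_pow, hy]; rfl) ?_ _
      exact (map_g2 (QuotientGroup.mk' X)).symm.trans (by rw [e, map_top_of_surjective _ (QuotientGroup.mk'_surjective X)])
    have l : (⊤ : Subgroup G).lowerCentralSeries (p - 1) ≠ ⊥ := fun c =>
      h ((rg_of_class hp c).om1 pT _ (mul_mem (mem_omegaOne trivial hx) (mem_omegaOne trivial hy)))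
    obtain ⟨X, -, x2, x3⟩ := exists_central_card_p pT le_normalizer (dvd_card_of_pgroup pT fun c =>
      h (mem_bot.1 (c ▸ mem_top _)))
    have x0 := ne_bot_of_card_prime (x3 ▸ hp)
    have ex : ∀ g : G, g ^ p ^ 2 = 1 := fun g => by
      rw [sq, pow_mul]; exact (elem_of_card_prime hp x3).2 _ (q X x2 x0 g)
    refine ⟨⟨x, y, e⟩, l, Nat.eq_prime_pow_of_dvd_least_prime_pow hp (fun c => h ?_)
      (Monoid.exponent_dvd_of_forall_pow_eq_one ex), ?_, ?_⟩
    · rw [pow_one] at c
      exact pow_eq_one_of_dvd (Monoid.pow_exponent_eq_one _) c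
    · rw [← center_top]
      refine isCyclic_of_comm_of_prk (pT.to_le inf_le_left) (isMulComm_cent_inf _) (prk_le_of fun E a b => ?_)
      rw [pow_one, ← x3]
      refine card_le_of_le fun z hz => ?_
      by_contra c
      have z1 : z ≠ 1 := fun d => c (d ▸ one_mem X)
      have := inf_eq_bot_of_not_le (card_zpowers_eq hp (b.2 z hz) z1 ▸ hp) (mt zpowers_le.1 c)
      exact h (mem_bot.1 (this ▸ mem_inf.2 ⟨q _ (zpowers_le.2 (a hz).2) (zpowers_ne_bot.2 z1) _, q X x2 x0 _⟩))
    · obtain ⟨n, hn⟩ := exists_card_eq_pow pT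
      obtain ⟨k, hk⟩ := Nat.exists_eq_add_of_le' hp.two_le
      have := le_of_lcs_ne_bot (k := k) pT hn (by rwa [show k + 1 = p - 1 by omega])
      rw [← card_top, hn]
      exact Nat.pow_le_pow_right hp.pos (by omega)

end Cfsg.Agent.S3872
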