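import Cfsg.Statements.S3875
import Cfsg.Agent.H1.QB2
import Cfsg.Agent.H2.BG0
import Cfsg.Agent.S0999
import Cfsg.Agent.H8.Dick3
import Cfsg.Agent.H1.Cores

set_option autoImplicit false
open Cfsg

namespace Cfsg.Agent.S3875

section
open Subgroup CfsgH2
open CfsgH1 hiding card_inf_mul_relIndex card_lt_of_lt card_lt_of_ne_top card_map_mul_card_inf_ker card_mul_relIndex card_subgroupOf card_sup_dvd card_sup_mul_card_inf coprime_le_sup_cent exists_card_prime_le isNilpotent_map isNilpotent_of_le isPGroup_pCore isSolvable_map isSolvable_of_le le_pCore le_pPrimeCore relIndex_map_dvd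
open scoped CfsgH1
open scoped commutatorElement

theorem closed_of_syl {p : ℕ} [Fact p.Prime] {H : Type*} [Group H] [Finite H] {P : Subgroup H} (hP : Syl p P ⊤)
    (h : P.Normal) : Cfsg.IsPClosed p H := fun Q => by
  rw [hP.eq_of_norm (syl_top Q) le_normalizer_of_normal]; exact h

theorem norm_of_closed {p : ℕ} [Fact p.Prime] {H : Type*} [Group H] [Finite H] {P M : Subgroup H} (hP : Syl p P M)
    (h : Cfsg.IsPClosed p M) : M ≤ N[P] := by
  obtain ⟨Q, rfl⟩ := hP.exists_sub
  haveI := h Q
  exact le_norm_map_subtype _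

theorem lower (p : ℕ) [hp : Fact p.Prime] (m : ℕ) (hleast : ∀ k : ℕ, IsPrimePow k → k % p = 1 → m ≤ k) (n : ℕ) :
    ∀ (H : Type) [Group H] [Finite H], Nat.card H = n → n < min (p * m) (p * (p ^ 2 - 1) / 2) →
      Cfsg.IsPClosed p H := by
  induction n using Nat.strong_induction_on with
  | _ n ih =>
  intro H _ _ hn hlt
  obtain ⟨P, hP⟩ := exists_syl p (⊤ : Subgroup H)
  refine closed_of_syl hP ?_
  by_contra hN
  have sub : ∀ M : Subgroup H, M ≠ ⊤ → ∀ R, Syl p R M → M ≤ N[R] := fun M hM R hR => by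
    have : Nat.card M < n := by
      rw [← hn, ← card_top (G := H)]; exact card_lt_of_lt (lt_top_iff_ne_top.2 hM)
    exact norm_of_closed hR (ih _ this M rfl (this.trans hlt))
  have quo : ∀ (K : Subgroup H) [K.Normal], K ≠ ⊥ → (P ⊔ K).Normal := fun K _ hK => by
    have : Nat.card (H ⧸ K) < n := by
      have h1 := K.index_mul_card
      have h2 : 1 < Nat.card K := (one_lt_card_iff_ne_bot _).2 hK
      have h3 : 0 < K.index := Nat.pos_of_ne_zero index_ne_zero_of_finite
      rw [← index_eq_card, ← hn]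
      nlinarith
    have h1 := hP.map (QuotientGroup.mk' K)
    rw [map_top_of_surjective _ (QuotientGroup.mk'_surjective K)] at h1
    obtain ⟨Q, hQ⟩ := h1.exists_top
    have := (hQ ▸ ih _ this (H ⧸ K) rfl (this.trans hlt) Q : (P.map (QuotientGroup.mk' K)).Normal).comap
      (QuotientGroup.mk' K)
    rwa [comap_map_eq, QuotientGroup.ker_mk'] at this
  have P0 : P ≠ ⊥ := by rintro rfl; exact hN inferInstance
  have pd : p ∣ Nat.card P := dvd_card_of_pgroup hP.pg P0
  by_cases hs : IsSimpleGroup H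
  · have nc : ¬ IsCyclic H := fun c => hN ⟨fun a ha g => by
      rwa [c.commutative.is_comm.comm g a, mul_inv_cancel_right]⟩
    have h2 := hp.out.two_le
    have h3 : n < p * (p ^ 2 - 1) / 2 := hlt.trans_le (min_le_right _ _)
    have h4 : 2 * n < p * (p ^ 2 - 1) := by omega
    have h5 : p * (p ^ 2 - 1) ≤ p ^ 3 := (Nat.mul_le_mul_left p (Nat.sub_le _ _)).trans_eq (by ring)
    rcases Cfsg.Agent.S0999.result nc p hp.out (pd.trans (card_subgroup_dvd_card P)) (by omega) with
      ⟨F, _, _, c, -, ⟨e⟩⟩ | ⟨k, F, _, _, c, e1, l, ⟨e⟩⟩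
    · have := CfsgH8.card_PSL2 (F := F)
      rw [← Nat.card_congr e.toEquiv, hn, c] at this
      have h6 : Nat.gcd 2 (p - 1) ≤ 2 := Nat.gcd_le_left _ two_pos
      nlinarith
    · have := CfsgH8.card_PSL2 (F := F)
      have k0 : k ≠ 0 := by rintro rfl; omega
      have o : Nat.gcd 2 (2 ^ k - 1) = 1 := Nat.coprime_two_left.2
        (Nat.Even.sub_odd Nat.one_le_two_pow ((Nat.even_pow' k0).2 even_two) odd_one)
      rw [← Nat.card_congr e.toEquiv, hn, c, o, one_mul] at this
      have k2 : 4 ≤ 2 ^ k := by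
        obtain ⟨j, hj⟩ : Even (2 ^ k) := (Nat.even_pow' k0).2 even_two
        omega
      rw [e1, this] at h4
      generalize 2 ^ k = t at *
      obtain ⟨s, rfl⟩ := Nat.exists_eq_add_of_le k2
      have a1 : (4 + s) ^ 2 - 1 = s ^ 2 + 8 * s + 15 := by
        rw [Nat.sub_eq_iff_eq_add (by nlinarith)]; ring
      have a2 : (4 + s + 1) ^ 2 - 1 = s ^ 2 + 10 * s + 24 := by
        rw [Nat.sub_eq_iff_eq_add (by nlinarith)]; ring
      rw [a1, a2] at h4
      nlinarith [Nat.zero_le (s ^ 3), Nat.zero_le (s ^ 2)]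
  haveI : Nontrivial H := by
    by_contra h
    rw [not_nontrivial_iff_subsingleton] at h
    exact P0 (Subsingleton.elim _ _)
  obtain ⟨K, nK, k0, k1⟩ : ∃ K : Subgroup H, K.Normal ∧ K ≠ ⊥ ∧ K ≠ ⊤ := by
    by_contra h
    push Not at h
    exact hs ⟨fun K nK => or_iff_not_imp_left.2 (h K nK)⟩
  have hK : ¬ p ∣ Nat.card K := fun d => by
    have h1 := hP.inf_norm (K := K) le_top le_normalizer_of_normal
    haveI : (P ⊓ K).Normal := top_le_norm_iff.1 ((top_le_norm_iff.2 nK).trans (h1.norm_le_of_norm (sub K k1 _ h1)))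
    have := quo (P ⊓ K) (h1.ne_bot d)
    rw [sup_of_le_left inf_le_left] at this
    exact hN this
  have nm : ∀ M : Subgroup H, P ≤ M → M.Normal → M = ⊤ := fun M l nM => by
    by_contra h
    have h1 := hP.mono l le_top
    exact hN (top_le_norm_iff.1 ((top_le_norm_iff.2 nM).trans (h1.norm_le_of_norm (sub M h _ h1))))
  have e1 := nm _ le_sup_left (quo K k0)
  haveI := hP.pg.isNilpotent
  obtain ⟨q, hq, Q, s, n1, n2⟩ : ∃ q : ℕ, q.Prime ∧ ∃ Q : Subgroup H, IsPGroup q Q ∧ P ≤ N[Q] ∧ ¬ Q ≤ N[P] := by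
    by_contra h
    push Not at h
    refine hN (top_le_norm_iff.1 (e1.ge.trans (sup_le le_normalizer ?_)))
    rw [← relIndex_eq_one]
    by_contra h1
    obtain ⟨q, hq, d⟩ := Nat.exists_prime_and_dvd h1
    haveI := Fact.mk hq
    obtain ⟨Q, s, n1⟩ := exists_inv_syl q (A := P) (K := K) le_normalizer_of_normal (coprime_of_pgroup hP.pg hK)
      (.inl inferInstance)
    rw [← inf_relIndex_right] at d
    exact s.not_dvd_of_le (le_inf (h q hq Q s.pg n1) s.le) d
  haveI := Fact.mk hq
  have e2 : P ⊔ Q = ⊤ := by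
    by_contra h
    exact n2 (le_sup_right.trans (sub _ h _ (hP.mono le_sup_left le_top)))
  obtain ⟨S, rfl⟩ := hP.exists_top
  obtain ⟨j, hj⟩ := IsPGroup.iff_card.1 s
  have d1 : (S : Subgroup H).index ∣ q ^ j := by
    rw [← hj, ← relIndex_top_right, ← e2]
    refine Nat.dvd_of_mul_dvd_mul_left (Nat.card_pos (α := (S : Subgroup H))) ?_
    rw [card_mul_relIndex le_sup_left]
    exact card_sup_dvd (.inl n1)
  have d2 := S.card_dvd_index
  obtain ⟨i, -, hi⟩ := (Nat.dvd_prime_pow hq).1 (d2.trans d1)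
  have i0 : i ≠ 0 := by
    rintro rfl
    haveI : Subsingleton (Sylow p H) := (Nat.card_eq_one_iff_unique.1 hi).1
    exact hN (Sylow.normal_of_subsingleton S)
  have h1 := hleast _ (hi ▸ (hq.isPrimePow.pow i0 : IsPrimePow (q ^ i)))
    (Eq.trans (card_sylow_modEq_one p H) (Nat.mod_eq_of_lt hp.out.one_lt))
  have h2 := Nat.le_of_dvd (Nat.pos_of_ne_zero index_ne_zero_of_finite) d2
  have h3 := Nat.le_of_dvd Nat.card_pos pd
  have h4 := (S : Subgroup H).card_mul_index
  have h5 : n < p * m := hlt.trans_le (min_le_left _ _)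
  exact absurd h5 (not_lt.2 (hn ▸ h4 ▸ Nat.mul_le_mul h3 (h1.trans h2)))

theorem ex_aff (p : ℕ) [hp : Fact p.Prime] (m : ℕ) (hm : IsPrimePow m) (hm1 : m % p = 1) :
    ∃ (H : Type) (_ : Group H) (_ : Finite H), Nat.card H = p * m ∧ ¬ Cfsg.IsPClosed p H := by
  obtain ⟨l, k, hl, k0, rfl⟩ := (isPrimePow_nat_iff _).1 hm
  haveI := Fact.mk hl
  let F := GaloisField l k
  have cF : Nat.card F = l ^ k := GaloisField.card l k k0.ne'
  obtain ⟨u, hu⟩ := exists_prime_orderOf_dvd_card' (G := Fˣ) p (by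
    rw [Nat.card_units, cF]
    exact (Nat.modEq_iff_dvd' (Nat.one_le_pow _ _ hl.pos)).1
      (show 1 % p = l ^ k % p by rw [hm1, Nat.mod_eq_of_lt hp.out.one_lt]))
  let φ : zpowers u →* MulAut (Multiplicative F) := MonoidHom.mk'
    (fun a => AddEquiv.toMultiplicative (DistribMulAction.toAddEquiv F a.1)) fun a b => by
      ext x; exact mul_smul a.1 b.1 x.toAdd
  let H := Multiplicative F ⋊[φ] zpowers u
  haveI : Finite H := Finite.of_equiv _ SemidirectProduct.equivProd.symm
  have cH : Nat.card H = p * l ^ k := by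
    rw [SemidirectProduct.card, Nat.card_zpowers, hu, mul_comm]
    exact congrArg _ cF
  refine ⟨H, inferInstance, inferInstance, cH, fun h => ?_⟩
  let R : Subgroup H := (SemidirectProduct.inr : zpowers u →* H).range
  have cR : Nat.card R = p := by
    rw [← Nat.card_congr (MonoidHom.ofInjective SemidirectProduct.inr_injective).toEquiv, Nat.card_zpowers, hu]
  have hR : Syl p R ⊤ := ⟨le_top, IsPGroup.of_card (n := 1) (by rw [cR, pow_one]), by
    have := R.card_mul_index
    rw [cR, cH] at this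
    rw [relIndex_top_right, Nat.eq_of_mul_eq_mul_left hp.out.pos this]
    intro d
    rw [Nat.mod_eq_zero_of_dvd d] at hm1
    exact zero_ne_one hm1⟩
  obtain ⟨S, hS⟩ := hR.exists_top
  have := h S
  rw [hS] at this
  obtain ⟨g, hg⟩ := this.conj_mem _ ⟨⟨u, mem_zpowers u⟩, rfl⟩ (SemidirectProduct.inl (Multiplicative.ofAdd 1))
  have h1 : (0 : F) = 1 + -(u : F) := by
    have := congrArg (fun x : H => x.left.toAdd) hg
    rw [← map_inv] at this
    simpa [H, φ, Units.smul_def] using this
  have : u = 1 := Units.ext (by rw [Units.val_one]; linear_combination h1)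
  rw [this, orderOf_one] at hu
  exact hp.out.one_lt.ne hu

end

/-- Let p be an odd prime and let m be the least prime power congruent to 1 modulo p. Then the least order of a finite group whose Sylow p-subgroups are not normal is the smaller of p · m and p(p² − 1)/2: every finite group whose Sylow p-subgroups are not normal has at least that order, and some group of exactly that order has non-normal Sylow p-subgroups. -/
theorem result (p : ℕ) [Fact p.Prime] (hp : p ≠ 2) (m : ℕ) (hm : IsPrimePow m) (hm1 : m % p = 1)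
    (hleast : ∀ k : ℕ, IsPrimePow k → k % p = 1 → m ≤ k) :
    (∀ (H : Type) [Group H] [Finite H], ¬ Cfsg.IsPClosed p H → min (p * m) (p * (p ^ 2 - 1) / 2) ≤ Nat.card H) ∧
      ∃ (H : Type) (_ : Group H) (_ : Finite H), Nat.card H = min (p * m) (p * (p ^ 2 - 1) / 2) ∧ ¬ Cfsg.IsPClosed p H := by
  open Subgroup CfsgH2 in
  open CfsgH1 hiding card_inf_mul_relIndex card_lt_of_lt card_lt_of_ne_top card_map_mul_card_inf_ker card_mul_relIndex card_subgroupOf card_sup_dvd card_sup_mul_card_inf coprime_le_sup_cent exists_card_prime_le isNilpotent_map isNilpotent_of_le isPGroup_pCore isSolvable_map isSolvable_of_le le_pCore le_pPrimeCore relIndex_map_dvd in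
  open scoped CfsgH1 in
  open scoped commutatorElement in
  · have hp' : p.Prime := Fact.out
    refine ⟨fun H _ _ h => not_lt.1 fun l => h (lower p m hleast _ H rfl l), ?_⟩
    rcases le_or_gt (p * m) (p * (p ^ 2 - 1) / 2) with h | h
    · rw [min_eq_left h]; exact ex_aff p m hm hm1
    rw [min_eq_right h.le]
    have h2 := hp'.two_le
    have h4 : 4 ≤ p := by
      by_contra h3
      obtain rfl : p = 3 := by omega
      have := hleast 4 (by simpa using Nat.prime_two.isPrimePow.pow two_ne_zero) rfl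
      omega
    have c : Fintype.card (ZMod p) = p := ZMod.card p
    have h5 := CfsgH8.card_PSL2 (F := ZMod p)
    have o : Nat.gcd 2 (p - 1) = 2 := Nat.gcd_eq_left (by
      obtain ⟨k, hk⟩ := hp'.odd_of_ne_two hp
      omega)
    rw [c, o] at h5
    haveI := CfsgH8.simple_PSL2 (F := ZMod p) (c.symm ▸ h4)
    refine ⟨Matrix.ProjectiveSpecialLinearGroup (Fin 2) (ZMod p), inferInstance, inferInstance, by omega, fun hc => ?_⟩
    obtain ⟨S⟩ : Nonempty (Sylow p (Matrix.ProjectiveSpecialLinearGroup (Fin 2) (ZMod p))) := inferInstance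
    have nd : ¬ p ∣ p ^ 2 - 1 := fun d => by
      have := (Nat.dvd_sub_iff_right (Nat.one_le_pow _ _ hp'.pos) (dvd_pow_self p two_ne_zero)).1 d
      exact hp'.not_dvd_one this
    rcases (hc S).eq_bot_or_eq_top with e | e
    · have := S.not_dvd_index
      rw [e, index_bot] at this
      exact this (((Nat.coprime_primes hp' Nat.prime_two).2 hp).dvd_of_dvd_mul_left (h5 ▸ dvd_mul_right _ _))
    · obtain ⟨k, hk⟩ := IsPGroup.iff_card.1 S.2
      rw [show S.toSubgroup = ⊤ from e, card_top] at hk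
      rw [hk] at h5
      rcases k with _ | _ | k
      · have : p ∣ 2 := by simpa using (h5 ▸ dvd_mul_right _ _ : p ∣ 2 * p ^ 0)
        exact hp ((Nat.prime_dvd_prime_iff_eq hp' Nat.prime_two).1 this)
      · have : p ^ 2 - 1 = 2 := Nat.eq_of_mul_eq_mul_left hp'.pos (by rw [← h5]; ring)
        have : 16 ≤ p ^ 2 := by nlinarith
        omega
      · exact nd ⟨2 * p ^ k, Nat.eq_of_mul_eq_mul_left hp'.pos (by rw [← h5]; ring)⟩

end Cfsg.Agent.S3875
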