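import Cfsg.Statements.S3878
import Cfsg.Agent.H1.Sn4
import Cfsg.Agent.H8.Jordan

set_option autoImplicit false
open Cfsg

namespace Cfsg.Agent.S3878

section
open CfsgH1 CfsgH1.Sn Equiv Equiv.Perm MulAction
open scoped commutatorElement

theorem conj_le {G : Type*} [Group G] [Finite G] {s : ℕ} (hs : s.Prime) {H Q : Subgroup G} (h : ¬ s ∣ H.index) (hQ : IsPGroup s Q) :
    ∃ g : G, ∀ x ∈ Q, g⁻¹ * x * g ∈ H := by
  have := Fact.mk hs
  obtain ⟨y, hy⟩ := hQ.nonempty_fixed_point_of_prime_not_dvd_card (G ⧸ H) h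
  obtain ⟨g, rfl⟩ := QuotientGroup.mk_surjective y
  exact ⟨g, fun x hx => by simpa [mul_assoc] using QuotientGroup.eq.1 (hy ⟨x, hx⟩).symm⟩

theorem cyc {n s k : ℕ} (hs : s.Prime) {H : Subgroup (Perm (Fin n))} (h : ¬ s ∣ H.index) (hk : k ≠ 0) (hn : s ^ k ≤ n) :
    ∃ g ∈ H, g.IsCycle ∧ g.support.card = s ^ k := by
  obtain ⟨x, hx⟩ := (exists_with_cycleType_iff (Fin n) (m := {s ^ k})).2 (by simpa using ⟨hn, Nat.one_lt_pow hk hs.one_lt⟩)
  obtain ⟨g, hg⟩ := conj_le hs h (Q := Subgroup.zpowers x) (.of_card (n := k) (by rw [Nat.card_zpowers, ← lcm_cycleType, hx]; simp))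
  have h1 : (g⁻¹ * x * g).cycleType = {s ^ k} := by simpa using (cycleType_conj (τ := g⁻¹)).trans hx
  exact ⟨_, hg x (Subgroup.mem_zpowers x), card_cycleType_eq_one.1 (by simp [h1]), by simp [← sum_cycleType, h1]⟩

open Pointwise in
theorem alt_le {p q j : ℕ} (hp : p.Prime) (hq : q.Prime) (h : p < q) (hj : p + 3 ≤ q ^ j) {n : ℕ}
    (hn : n = p ^ (Nat.log p (q ^ j) + 1)) (H : Subgroup (Perm (Fin n))) (h1 : ¬ p ∣ H.index) (h2 : ¬ q ∣ H.index) :
    alternatingGroup (Fin n) ≤ H := by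
  have := Fact.mk hp
  have := Fact.mk hq
  have e1 : q ^ j < n := hn ▸ Nat.lt_pow_succ_log_self hp.one_lt _
  have e2 := Nat.pow_log_le_self p (x := q ^ j) (by omega)
  obtain ⟨a, a1, a2, a3⟩ := cyc hp h1 (Nat.succ_ne_zero _) hn.ge
  obtain ⟨b, b1, b2, b3⟩ := cyc hq h2 (k := j) (by rintro rfl; simp at hj) e1.le
  obtain ⟨c, c1, c2, c3⟩ := cyc hp h1 one_ne_zero (by rw [pow_one]; omega)
  have e3 : IsPretransitive H (Fin n) := ⟨fun x y => by
    have : a.support = Finset.univ := Finset.eq_univ_of_card _ (by simp [a3, ← hn])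
    obtain ⟨i, hi⟩ := a2.exists_pow_eq (mem_support.1 (this ▸ Finset.mem_univ x)) (mem_support.1 (this ▸ Finset.mem_univ y))
    exact ⟨⟨_, pow_mem a1 i⟩, hi⟩⟩
  obtain ⟨x, hx⟩ := b2.nonempty_support
  refine CfsgH8.alternatingGroup_le_of_prime_cycle H (IsPreprimitive.of_isTrivialBlock_base x fun {B} hB0 hB => ?_) hp
    (by simp; omega) c2 (by simpa using c3) c1
  obtain ⟨i, hi, e4⟩ := (Nat.dvd_prime_pow hp).1 (show B.ncard ∣ p ^ (Nat.log p (q ^ j) + 1) by
    simpa [← hn] using hB.ncard_dvd_card ⟨x, hB0⟩)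
  rcases hi.eq_or_lt with rfl | hi
  · exact Or.inr (Set.eq_univ_iff_ncard _ |>.2 (by simp [e4, ← hn]))
  rcases i.eq_zero_or_pos with rfl | hi0
  · exact Or.inl (Set.ncard_le_one_iff_subsingleton.1 e4.le)
  exfalso
  by_cases h3 : B ⊆ b.support
  · let S : Subgroup H := Subgroup.zpowers ⟨b, b1⟩ ⊓ stabilizer H B
    have h4 : IsPGroup q S := (IsPGroup.of_card (n := j) (by
      rw [Nat.card_zpowers, ← Subgroup.orderOf_coe, b2.orderOf, b3])).to_inf_left
    have h5 : orbit S x = B := by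
      refine Set.ext fun y => ⟨?_, fun hy => ?_⟩
      · rintro ⟨g, rfl⟩
        exact (mem_stabilizer_iff.1 g.2.2) ▸ Set.smul_mem_smul_set hB0
      · obtain ⟨k, hk⟩ := b2.exists_pow_eq (mem_support.1 hx) (mem_support.1 (h3 hy))
        exact ⟨⟨⟨b, b1⟩ ^ k, Subgroup.npow_mem_zpowers _ k, hB.smul_eq_of_mem hB0 (show (b ^ k) x ∈ B from hk ▸ hy)⟩, hk⟩
    obtain ⟨k, hk⟩ := h4.card_orbit x
    rw [h5, Nat.card_coe_set_eq, e4] at hk
    exact h.ne ((Nat.prime_dvd_prime_iff_eq hp hq).1 (hp.dvd_of_dvd_pow (hk ▸ dvd_pow_self p hi0.ne')))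
  · obtain ⟨y, hy, h4⟩ := Set.not_subset.1 h3
    have h5 : (⟨b, b1⟩ : H) ∈ stabilizer H B := hB.smul_eq_of_mem hy (show b y ∈ B by rwa [notMem_support.1 h4])
    have h6 : (b.support : Set (Fin n)) ⊂ B := ⟨fun z hz => by
      obtain ⟨k, hk⟩ := b2.exists_pow_eq (mem_support.1 hx) (mem_support.1 hz)
      exact hk ▸ (mem_stabilizer_iff.1 (pow_mem h5 k)) ▸ Set.smul_mem_smul_set hB0, h3⟩
    have := Set.ncard_lt_ncard h6
    rw [Set.ncard_coe_finset, b3, e4] at this
    exact this.not_ge ((pow_le_pow_right₀ hp.one_le (by omega)).trans e2)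

end

/-- For a set of primes π the following are equivalent: every finite group has a Hall π-subgroup; in every finite group the maximal π-subgroups are pairwise conjugate; π contains at most one prime or contains every prime. -/
theorem result (π : Set ℕ) :
    ((∀ (G : Type) [Group G] [Finite G], Cfsg.IsEPiGroup π G) ↔
      ((∀ p q : ℕ, p.Prime → q.Prime → p ∈ π → q ∈ π → p = q) ∨ ∀ p : ℕ, p.Prime → p ∈ π)) ∧
    ((∀ (G : Type) [Group G] [Finite G], Cfsg.IsDPiGroup π G) ↔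
      ((∀ p q : ℕ, p.Prime → q.Prime → p ∈ π → q ∈ π → p = q) ∨ ∀ p : ℕ, p.Prime → p ∈ π)) := by
  open CfsgH1 CfsgH1.Sn Equiv Equiv.Perm MulAction in
  open scoped commutatorElement in
  · have h1 : (∀ (G : Type) [Group G] [Finite G], IsEPiGroup π G) →
        (∀ p q : ℕ, p.Prime → q.Prime → p ∈ π → q ∈ π → p = q) ∨ ∀ p : ℕ, p.Prime → p ∈ π := fun h => by
      by_contra! ⟨⟨p, q, hp, hq, a1, a2, a3⟩, r, hr, a4⟩
      wlog e : p < q generalizing p q
      · exact this q p hq hp a2 a1 a3.symm (by omega)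
      obtain ⟨H, b1, b2⟩ := h (Perm (Fin (p ^ (Nat.log p (q ^ (p + r + 3)) + 1))))
      have e1 : p + r + 3 < q ^ (p + r + 3) := Nat.lt_pow_self hq.one_lt
      have e2 := Nat.lt_pow_succ_log_self hp.one_lt (q ^ (p + r + 3))
      refine a4 (b1 r hr (Dvd.dvd.trans ?_ (Subgroup.card_dvd_of_le (alt_le hp hq e (by omega) rfl H (b2 p hp a1) (b2 q hq a2)))))
      have e3 := (Nat.factorial_mul_factorial_dvd_factorial_add 2 r).trans (Nat.factorial_dvd_factorial (show 2 + r ≤ _ by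
        exact le_trans (by omega) e2.le))
      exact (Nat.dvd_factorial hr.pos le_rfl).trans (Nat.dvd_of_mul_dvd_mul_left two_pos
        (e3.trans (two_mul_card_alt (by omega)).symm.dvd))
    have h2 : (∀ (G : Type) [Group G] [Finite G], IsDPiGroup π G) → ∀ (G : Type) [Group G] [Finite G], IsEPiGroup π G :=
      fun h G _ _ => by
        obtain ⟨H, -, hH⟩ := Finite.exists_le_maximal (p := IsPiSubgroup π) (a := (⊥ : Subgroup G)) fun p hp e => by simp [hp.ne_one] at e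
        refine ⟨H, hH.1, fun p hp a b => ?_⟩
        have := Fact.mk hp
        obtain ⟨P⟩ : Nonempty (Sylow p G) := inferInstance
        obtain ⟨K, c, hK⟩ := Finite.exists_le_maximal (p := IsPiSubgroup π) (a := (P : Subgroup G)) fun q hq e => by
          obtain ⟨k, hk⟩ := P.2.exists_card_eq
          rwa [(Nat.prime_dvd_prime_iff_eq hq hp).1 (hq.dvd_of_dvd_pow (hk ▸ e))]
        obtain ⟨g, rfl⟩ := h G H K hH hK
        exact P.not_dvd_index (b.trans ((Subgroup.index_map_equiv H (MulAut.conj g)).symm.dvd.trans (Subgroup.index_dvd_of_le c)))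
    have h3 : ((∀ p q : ℕ, p.Prime → q.Prime → p ∈ π → q ∈ π → p = q) ∨ ∀ p : ℕ, p.Prime → p ∈ π) →
        ∀ (G : Type) [Group G] [Finite G], IsDPiGroup π G := fun h G _ _ H K hH hK => by
      rcases h with h | h
      · by_cases e : ∃ p, p.Prime ∧ p ∈ π
        · obtain ⟨p, hp, e⟩ := e
          have := Fact.mk hp
          have key : ∀ H : Subgroup G, IsPiSubgroup π H ↔ IsPGroup p H := fun H => ⟨fun a => IsPGroup.iff_card.2
            ⟨_, Nat.eq_prime_pow_of_unique_prime_dvd Nat.card_pos.ne' fun {d} hd b => h d p hd hp (a d hd b) e⟩, fun a q hq b => by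
              obtain ⟨k, hk⟩ := a.exists_card_eq
              rwa [(Nat.prime_dvd_prime_iff_eq hq hp).1 (hq.dvd_of_dvd_pow (hk ▸ b))]⟩
          obtain ⟨g, hg⟩ := exists_smul_eq G (⟨H, (key H).1 hH.1, fun a b => (hH.eq_of_le ((key _).2 a) b).symm⟩ : Sylow p G)
            ⟨K, (key K).1 hK.1, fun a b => (hK.eq_of_le ((key _).2 a) b).symm⟩
          exact ⟨g, (congrArg Sylow.toSubgroup hg).symm⟩
        · have key : ∀ H : Subgroup G, IsPiSubgroup π H → H = ⊥ := fun H a => Subgroup.card_eq_one.1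
            (Nat.eq_one_iff_not_exists_prime_dvd.2 fun p hp b => e ⟨p, hp, a p hp b⟩)
          exact ⟨1, by simp [key H hH.1, key K hK.1]⟩
      · exact ⟨1, by simp [hH.eq_of_le (fun p hp _ => h p hp) le_top, hK.eq_of_le (fun p hp _ => h p hp) le_top]⟩
    exact ⟨⟨h1, fun h => h2 (h3 h)⟩, fun h => h1 (h2 h), h3⟩

end Cfsg.Agent.S3878
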