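import Cfsg.Statements.S3889
import Cfsg.Agent.H1.Misc1

set_option autoImplicit false
open Cfsg

namespace Cfsg.Agent.S3889

/-- A finite abelian group that is the union of a family of proper subgroups any two of which intersect trivially is elementary abelian: its exponent is a prime. -/
theorem result {G : Type*} [CommGroup G] [Finite G] (𝓑 : Set (Subgroup G)) (hprop : ∀ B ∈ 𝓑, B ≠ ⊤)
    (hcov : ∀ g : G, ∃ B ∈ 𝓑, g ∈ B) (hdisj : ∀ B ∈ 𝓑, ∀ C ∈ 𝓑, B ≠ C → B ⊓ C = ⊥) :
    (Monoid.exponent G).Prime := by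
  open Pointwise Subgroup CfsgH1 in
  open CfsgH2 hiding card_inf_mul_relIndex card_lt_of_lt card_lt_of_ne_top card_map_mul_card_inf_ker card_mul_relIndex card_subgroupOf card_sup_dvd card_sup_mul_card_inf exists_card_prime_le isNilpotent_map isNilpotent_of_le isPGroup_pCore isSolvable_map isSolvable_of_le le_pCore le_pPrimeCore relIndex_map_dvd in
  open scoped CfsgH2 in
  open scoped commutatorElement in
  · obtain ⟨B, hB, -⟩ := hcov 1
    haveI : Nontrivial G := not_subsingleton_iff_nontrivial.1 fun h => hprop B hB (Subsingleton.elim _ _)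
    obtain ⟨p, hp, hd⟩ := exists_prime_dvd_card (top_ne_bot : (⊤ : Subgroup G) ≠ ⊥)
    obtain ⟨x, -, hx⟩ := exists_prime_order_mem hp hd
    have x1 : x ≠ 1 := fun e => hp.ne_one (by simp [← hx, e])
    obtain ⟨B, hB, hxB⟩ := hcov x
    have key : ⊤ ≤ (powMonoidHom p : G →* G).ker := le_of_forall_not_mem (A := B)
      (fun h => hprop B hB (top_le_iff.1 h)) fun y _ hy => by
        obtain ⟨D, hD, h1⟩ := hcov y
        obtain ⟨E, hE, h2⟩ := hcov (x * y)
        have : D ≠ E := by
          rintro rfl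
          exact x1 (mem_bot.1 ((hdisj B hB D hD fun e => hy (e ▸ h1)).le ⟨hxB, (D.mul_mem_cancel_right h1).1 h2⟩))
        refine mem_bot.1 ((hdisj D hD E hE this).le ⟨pow_mem h1 p, ?_⟩)
        have := pow_mem h2 p
        rwa [mul_pow, ← hx, pow_orderOf_eq_one, one_mul, hx] at this
    rwa [Nat.dvd_antisymm (Monoid.exponent_dvd_of_forall_pow_eq_one fun g => key (mem_top g))
      (hx ▸ Monoid.order_dvd_exponent x)]

end Cfsg.Agent.S3889
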