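import Cfsg.Statements.S3890
import Cfsg.Agent.H2.Pq5

set_option autoImplicit false
open Cfsg

namespace Cfsg.Agent.S3890
open CfsgH2

/-- A cover of a group is a finite set of proper subgroups whose union is the whole group; it is minimal when no cover has fewer members, and nilpotent when all its members are nilpotent. Let G be a finite group with trivial center admitting a nilpotent minimal cover 𝓐, and let P be an abelian Sylow p-subgroup of G that is not normal. Then either P is elementary abelian of order greater than p, or P is a Sylow p-subgroup of some member A of 𝓐, the normalizer N of P is a maximal subgroup of G, N meets each of its conjugates by elements outside N in a subgroup of order prime to p, and the centralizer of P equals A. -/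
theorem result {G : Type*} [Group G] [Finite G] (hZ : Subgroup.center G = ⊥) (𝓐 : Finset (Subgroup G))
    (h𝓐 : ((∀ A ∈ 𝓐, A ≠ ⊤) ∧ (∀ g : G, ∃ A ∈ 𝓐, g ∈ A)) ∧ (∀ 𝓑 : Finset (Subgroup G), (∀ A ∈ 𝓑, A ≠ ⊤) ∧ (∀ g : G, ∃ A ∈ 𝓑, g ∈ A) → 𝓐.card ≤ 𝓑.card) ∧ (∀ A ∈ 𝓐, Group.IsNilpotent ↥A)) {p : ℕ} [Fact p.Prime] (P : Sylow p G) (hab : IsMulCommutative ↥(P : Subgroup G))
    (hnn : ¬ (P : Subgroup G).Normal) :
    (Cfsg.IsElementaryAbelian p (P : Subgroup G) ∧ p < Nat.card ↥(P : Subgroup G)) ∨
    (∃ A ∈ 𝓐, (P : Subgroup G) ≤ A ∧ ¬ p ∣ ((P : Subgroup G).subgroupOf A).index ∧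
      IsCoatom (Subgroup.normalizer ((P : Subgroup G) : Set G)) ∧
      (∀ g : G, g ∉ Subgroup.normalizer ((P : Subgroup G) : Set G) →
        ¬ p ∣ Nat.card ↥(Subgroup.normalizer ((P : Subgroup G) : Set G) ⊓
          (Subgroup.normalizer ((P : Subgroup G) : Set G)).map (MulAut.conj g).toMonoidHom)) ∧
      Subgroup.centralizer ((P : Subgroup G) : Set G) = A) := by
  open Subgroup Function in open scoped commutatorElement in
  · have h := ncov_of hZ h𝓐
    have h0 : (P : Subgroup G) ≠ ⊥ := fun e => hnn (e ▸ inferInstance)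
    have n : N[(P : Subgroup G)] ≠ ⊤ := fun e => hnn (normal_of_top_le_norm e.ge)
    have s := syl_top P
    refine or_iff_not_imp_left.2 fun h1 => ?_
    have hP : IsCyclic (P : Subgroup G) ∨ (IsMulCommutative (P : Subgroup G) ∧ ¬ IsElementaryAbelian p (P : Subgroup G)) := by
      refine or_iff_not_imp_right.2 fun c => isCyclic_of_card_dvd_prime (p := p) ?_
      have := CfsgBG.relIndex_dvd_of_le (Y := ⊥) s.pg (by
        rw [relIndex_bot_left]; exact not_lt.1 fun d => h1 ⟨not_not.1 fun e => c ⟨hab, e⟩, d⟩)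
      rwa [relIndex_bot_left] at this
    obtain ⟨k1, k⟩ := h.le_norm s h0 hP
    refine ⟨_, h.cent s h0 hP, le_cent_self hab, (s.mono (le_cent_self hab) le_top).nd, ⟨n, fun M a => ?_⟩, fun g hg d => hg ?_, rfl⟩
    · by_contra c
      exact a.not_ge (k M c ((cent_le_norm _).trans a.le))
    obtain ⟨w, hw, e⟩ := exists_prime_order_mem Fact.out d
    have e1 : w ^ p ^ 1 = 1 := by rw [pow_one, ← e, pow_orderOf_eq_one]
    have s1 := s.mono le_normalizer le_top
    have w1 := s1.mem_of_norm le_rfl hw.1 e1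
    refine (k1 g).2 (h.uniq s hab (k1 g).1 (h.cent s h0 hP) (isPGroup_zpowers e1) (fun f => (Fact.out : p.Prime).ne_one
      (by rw [← e, f, orderOf_one])) (map_mono (le_cent_self hab) ((s1.map_cj g).mem_of_norm
        (normalizer_map_cj g _).ge hw.2 e1)) (le_cent_self hab w1))

end Cfsg.Agent.S3890
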