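import Cfsg.Statements.S3891
import Cfsg.Agent.H2.Pq5

set_option autoImplicit false
open Cfsg

namespace Cfsg.Agent.S3891
open CfsgH2

/-- A cover of a group is a finite set of proper subgroups whose union is the whole group; it is minimal when no cover has fewer members, and nilpotent when all its members are nilpotent. Let G be a finite group with trivial center admitting a nilpotent minimal cover, and let P be a non-normal Sylow p-subgroup of G that is cyclic, or abelian but not elementary abelian. Then the centralizer of P is nilpotent and the normalizer of P is the unique maximal subgroup of G containing the centralizer of P. -/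
theorem result {G : Type*} [Group G] [Finite G] (hZ : Subgroup.center G = ⊥) (𝓐 : Finset (Subgroup G))
    (h𝓐 : ((∀ A ∈ 𝓐, A ≠ ⊤) ∧ (∀ g : G, ∃ A ∈ 𝓐, g ∈ A)) ∧ (∀ 𝓑 : Finset (Subgroup G), (∀ A ∈ 𝓑, A ≠ ⊤) ∧ (∀ g : G, ∃ A ∈ 𝓑, g ∈ A) → 𝓐.card ≤ 𝓑.card) ∧ (∀ A ∈ 𝓐, Group.IsNilpotent ↥A)) {p : ℕ} [Fact p.Prime] (P : Sylow p G)
    (hP : IsCyclic ↥(P : Subgroup G) ∨ (IsMulCommutative ↥(P : Subgroup G) ∧ ¬ Cfsg.IsElementaryAbelian p (P : Subgroup G)))
    (hnn : ¬ (P : Subgroup G).Normal) :
    Group.IsNilpotent ↥(Subgroup.centralizer ((P : Subgroup G) : Set G)) ∧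
      IsCoatom (Subgroup.normalizer ((P : Subgroup G) : Set G)) ∧
      ∀ M : Subgroup G, IsCoatom M → Subgroup.centralizer ((P : Subgroup G) : Set G) ≤ M →
        M = Subgroup.normalizer ((P : Subgroup G) : Set G) := by
  open Subgroup Function in open scoped commutatorElement in
  · have h := ncov_of hZ h𝓐
    have h0 : (P : Subgroup G) ≠ ⊥ := fun e => hnn (e ▸ inferInstance)
    have n : N[(P : Subgroup G)] ≠ ⊤ := fun e => hnn (normal_of_top_le_norm e.ge)
    obtain ⟨-, k⟩ := h.le_norm (syl_top P) h0 hP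
    refine ⟨h.nil _ (h.cent (syl_top P) h0 hP), ⟨n, fun M a => ?_⟩, fun M a b => ((a.le_iff.1 (k M a.1 b)).resolve_left n).symm⟩
    by_contra c
    exact a.not_ge (k M c ((cent_le_norm _).trans a.le))

end Cfsg.Agent.S3891
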