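import Cfsg.Statements.S3892
import Cfsg.Agent.H1.Sn3
import Cfsg.Agent.H1.Fitting

set_option autoImplicit false
open Cfsg

namespace Cfsg.Agent.S3892

section
open CfsgH1 CfsgH1.Sn Equiv Equiv.Perm MulAction Pointwise
open scoped commutatorElement

theorem cent_of_nil {G : Type*} [Group G] [Finite G] {p : ℕ} (hp : p.Prime) (h : ¬ p ^ 2 ∣ Nat.card G) {x : G}
    (hx : orderOf x = p) {A : Subgroup G} (hA : Group.IsNilpotent A) (h1 : x ∈ A) : A ≤ Subgroup.centralizer {x} := by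
  have := Fact.mk hp
  have h2 : Nat.card (Subgroup.zpowers (⟨x, h1⟩ : A)) = p := by rw [Nat.card_zpowers, ← Subgroup.orderOf_coe, hx]
  obtain ⟨P, hP⟩ := (IsPGroup.of_card (n := 1) (h2.trans (pow_one p).symm)).exists_le_sylow
  obtain ⟨k, hk⟩ := IsPGroup.iff_card.1 P.2
  have h3 : k ≤ 1 := not_lt.1 fun e => h (((pow_dvd_pow p e).trans (hk ▸ Subgroup.card_subgroup_dvd_card _)).trans
    A.card_subgroup_dvd_card)
  have h4 := Subgroup.eq_of_le_of_card_ge hP (by rw [h2, hk]; simpa using Nat.pow_le_pow_right hp.pos h3)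
  have h5 : (Subgroup.zpowers (⟨x, h1⟩ : A)).Normal := h4 ▸ inferInstance
  obtain ⟨z, hz⟩ := Subgroup.ne_bot_iff_exists_ne_one.1 (inf_centralizer_ne_bot_of_isNilpotent (L := ⊤) le_top
    (Subgroup.normalizer_eq_top (Subgroup.zpowers (⟨x, h1⟩ : A))).ge fun e => hp.one_lt.ne' (by rw [← h2, e, Subgroup.card_bot]))
  obtain ⟨j, hj⟩ := mem_zpowers_of_prime_card h2 (g := ⟨z, z.2.1⟩) (g' := ⟨_, Subgroup.mem_zpowers _⟩)
    fun e => hz (Subtype.ext (Subtype.mk.inj e))
  intro g hg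
  have h6 : Commute (⟨g, hg⟩ : A) z := z.2.2 _ trivial
  exact Subgroup.mem_centralizer_singleton_iff.2 (congrArg Subtype.val
    (show Commute (⟨g, hg⟩ : A) ⟨x, h1⟩ from (show (z : A) ^ j = ⟨x, h1⟩ from congrArg Subtype.val hj) ▸ h6.zpow_right j).eq)

theorem no_cover {G : Type*} [Group G] [Finite G] {p : ℕ} (hp : p.Prime) (h : ¬ p ^ 2 ∣ Nat.card G) {x y : G}
    (hx : orderOf x = p) (hy : orderOf y = p) (hxy : x * y ≠ y * x) {M : Subgroup G} (hM : M ≠ ⊤)
    (h1 : ∀ g, g * x = x * g → g ∈ M) (h2 : ∀ g, g * y = y * g → g ∈ M) :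
    ¬ ∃ 𝓐 : Finset (Subgroup G), ((∀ A ∈ 𝓐, A ≠ ⊤) ∧ (∀ g : G, ∃ A ∈ 𝓐, g ∈ A)) ∧ (∀ 𝓑 : Finset (Subgroup G),
      (∀ A ∈ 𝓑, A ≠ ⊤) ∧ (∀ g : G, ∃ A ∈ 𝓑, g ∈ A) → 𝓐.card ≤ 𝓑.card) ∧ (∀ A ∈ 𝓐, Group.IsNilpotent ↥A) := by
  classical
  rintro ⟨𝓐, ⟨h3, h4⟩, h5, h6⟩
  obtain ⟨A, hA, ha⟩ := h4 x
  obtain ⟨B, hB, hb⟩ := h4 y
  have e1 := fun g (hg : g ∈ A) => Subgroup.mem_centralizer_singleton_iff.1 (cent_of_nil hp h hx (h6 A hA) ha hg)
  have e2 := fun g (hg : g ∈ B) => Subgroup.mem_centralizer_singleton_iff.1 (cent_of_nil hp h hy (h6 B hB) hb hg)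
  have e3 : B ∈ 𝓐.erase A := Finset.mem_erase.2 ⟨fun e => hxy (e1 y (e ▸ hb)).symm, hB⟩
  have := h5 (insert M ((𝓐.erase A).erase B)) ⟨fun C hC => (Finset.mem_insert.1 hC).elim (· ▸ hM)
    fun e => h3 C (Finset.mem_of_mem_erase (Finset.mem_of_mem_erase e)), fun g => by
      obtain ⟨C, hC, hg⟩ := h4 g
      by_cases e : C = A ∨ C = B
      · exact ⟨M, by simp, e.elim (fun e => h1 g (e1 g (e ▸ hg))) fun e => h2 g (e2 g (e ▸ hg))⟩
      · exact ⟨C, by simp; tauto, hg⟩⟩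
  have := Finset.card_insert_le M ((𝓐.erase A).erase B)
  have := Finset.card_erase_lt_of_mem e3
  have := Finset.card_erase_lt_of_mem hA
  omega

theorem big {n : ℕ} (hn : 6 ≤ n) : ∃ p, p.Prime ∧ ¬ p ^ 2 ∣ n.factorial ∧ ∃ x y t : alternatingGroup (Fin n), orderOf x = p ∧
    orderOf y = p ∧ x * y ≠ y * x ∧ ∃ S : Set (Fin n), t.1 • S ≠ S ∧ (∀ g : Perm (Fin n), g * x = x * g → g • S = S) ∧
      ∀ g : Perm (Fin n), g * y = y * g → g • S = S := by
  obtain ⟨p, hp, h1, h2⟩ := Nat.exists_prime_lt_and_le_two_mul (n / 2) (by omega)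
  have h3 := hp.eq_two_or_odd'.resolve_left (by omega)
  obtain ⟨k, rfl⟩ := id h3
  refine ⟨_, hp, fun h => ?_, ?_⟩
  · have := (hp.pow_dvd_iff_le_factorization n.factorial_ne_zero).1 h
    rw [Nat.factorization_factorial hp (b := 2) (Nat.log_lt_of_lt_pow (by omega) (by
      nlinarith [show n < 2 * (2 * k + 1) by omega, show 2 ≤ 2 * k + 1 by omega]))] at this
    have h7 : n / (2 * k + 1) < 2 := (Nat.div_lt_iff_lt_mul hp.pos).2 (by omega)
    simp at this
    omega
  obtain ⟨x, hx⟩ := exists_alt (α := Fin n) {2 * k + 1} (by simp; omega) (by simp; omega) (by simpa using h3.add_one)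
  have ho : orderOf x.1 = 2 * k + 1 := by rw [← lcm_cycleType, hx]; simp
  have hs : x.1.support.card = 2 * k + 1 := by rw [← sum_cycleType, hx]; simp
  obtain ⟨a, ha⟩ := Finset.card_pos.1 (show 0 < x.1.support.card by omega)
  obtain ⟨b, -, hb⟩ := Finset.exists_mem_notMem_of_card_lt_card (show x.1.support.card < Finset.univ.card by simp; omega)
  obtain ⟨t, ht, h4⟩ := alt_ext (T := {a}) (by simp; omega) (swap a b)
  have h5 : ∀ j, j < 5 → (x.1 ^ j) a = a → j = 0 := fun j hj e =>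
    Nat.eq_zero_of_dvd_of_lt (ho ▸ orderOf_dvd_of_pow_eq_one (((card_cycleType_eq_one.1 (by simp [hx])).pow_eq_one_iff'
      (mem_support.1 ha)).2 e)) (by omega)
  have h6 : ∀ (u g : Perm (Fin n)), g * u = u * g → g • (u.support : Set (Fin n)) = u.support := fun u g e => by
    have := support_conj (σ := g) (τ := u)
    rw [e, mul_inv_cancel_right] at this
    conv_rhs => rw [this]
    simp [← Set.image_smul]
  have h7 : (swap a (x.1 a) * x.1 * (swap a (x.1 a))⁻¹).support = x.1.support := by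
    ext c
    rw [support_conj, Finset.mem_map_equiv, symm_swap, swap_apply_def]
    split_ifs with e1 e2
    · simp only [e1, ha, apply_mem_support]
    · simp only [e2, ha, apply_mem_support]
    · rfl
  refine ⟨x, ⟨swap a (x.1 a) * x.1 * (swap a (x.1 a))⁻¹, Subgroup.Normal.conj_mem inferInstance _ x.2 _⟩, ⟨t, ht⟩,
    by rw [← Subgroup.orderOf_coe, ho], by rw [← Subgroup.orderOf_coe, ← ho]; exact (MulAut.conj _).orderOf_eq _, fun e => ?_,
    x.1.support, fun e => hb ?_, h6 _, fun g e => h7 ▸ h6 _ g e⟩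
  · have := Equiv.ext_iff.1 (congrArg Subtype.val e) a
    have h1 := mt (h5 1 (by norm_num)) (by norm_num)
    have h2 := mt (h5 2 (by norm_num)) (by norm_num)
    have h3 := mt (h5 3 (by norm_num)) (by norm_num)
    have := x.1.injective
    simp [pow_succ] at *
    grind
  · have := e ▸ Set.smul_mem_smul_set (a := t) (Finset.mem_coe.2 ha)
    rwa [Perm.smul_def, h4 a (by simp), swap_apply_left] at this

end

/-- A cover of a group is a finite set of proper subgroups whose union is the whole group; it is minimal when no cover has fewer members, and nilpotent when all its members are nilpotent. The alternating groups of degree at least 5 and the symmetric groups of degree at least 4 have no nilpotent minimal cover. -/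
theorem result (n : ℕ) :
    (5 ≤ n → ¬ ∃ 𝓐 : Finset (Subgroup ↥(alternatingGroup (Fin n))), ((∀ A ∈ 𝓐, A ≠ ⊤) ∧ (∀ g : ↥(alternatingGroup (Fin n)), ∃ A ∈ 𝓐, g ∈ A)) ∧ (∀ 𝓑 : Finset (Subgroup ↥(alternatingGroup (Fin n))), (∀ A ∈ 𝓑, A ≠ ⊤) ∧ (∀ g : ↥(alternatingGroup (Fin n)), ∃ A ∈ 𝓑, g ∈ A) → 𝓐.card ≤ 𝓑.card) ∧ (∀ A ∈ 𝓐, Group.IsNilpotent ↥A)) ∧
    (4 ≤ n → ¬ ∃ 𝓐 : Finset (Subgroup (Equiv.Perm (Fin n))), ((∀ A ∈ 𝓐, A ≠ ⊤) ∧ (∀ g : (Equiv.Perm (Fin n)), ∃ A ∈ 𝓐, g ∈ A)) ∧ (∀ 𝓑 : Finset (Subgroup (Equiv.Perm (Fin n))), (∀ A ∈ 𝓑, A ≠ ⊤) ∧ (∀ g : (Equiv.Perm (Fin n)), ∃ A ∈ 𝓑, g ∈ A) → 𝓐.card ≤ 𝓑.card) ∧ (∀ A ∈ 𝓐, Group.IsNilpotent ↥A)) := by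
  open CfsgH1 CfsgH1.Sn Equiv Equiv.Perm MulAction Pointwise in
  open scoped commutatorElement in
  · have alt : ∀ {m : ℕ}, 2 ≤ m → alternatingGroup (Fin m) ≠ ⊤ := fun {m} h e => by
      have := Fin.nontrivial_iff_two_le.2 h
      simpa [e] using alternatingGroup.index_eq_two (α := Fin m)
    have : Fact (Nat.Prime 3) := ⟨Nat.prime_three⟩
    have : Fact (Nat.Prime 5) := ⟨Nat.prime_five⟩
    refine ⟨fun h => ?_, fun h => ?_⟩
    · rcases h.eq_or_lt with rfl | h
      · refine no_cover Nat.prime_three (by rw [nat_card_alternatingGroup]; simp; decide)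
          (x := ⟨swap 0 1 * swap 1 2, mem_alternatingGroup.2 (by decide)⟩) (y := ⟨swap 0 1 * swap 1 3, mem_alternatingGroup.2 (by decide)⟩)
          (orderOf_eq_prime (by decide) (by decide)) (orderOf_eq_prime (by decide) (by decide)) (by decide)
          (M := stabilizer _ (4 : Fin 5)) (fun e => absurd (e ▸ Subgroup.mem_top _ : (⟨swap 0 1 * swap 1 4,
            mem_alternatingGroup.2 (by decide)⟩ : alternatingGroup (Fin 5)) ∈ stabilizer _ (4 : Fin 5)) (by decide))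
          (fun g e => (by decide +kernel : ∀ g : Perm (Fin 5), sign g = 1 → g * (swap 0 1 * swap 1 2) = swap 0 1 * swap 1 2 * g →
            g 4 = 4) g.1 g.2 (congrArg Subtype.val e))
          fun g e => (by decide +kernel : ∀ g : Perm (Fin 5), sign g = 1 → g * (swap 0 1 * swap 1 3) = swap 0 1 * swap 1 3 * g →
            g 4 = 4) g.1 g.2 (congrArg Subtype.val e)
      · obtain ⟨p, h1, h2, x, y, t, h3, h4, h5, S, h6, h7, h8⟩ := big h
        exact no_cover h1 (fun e => h2 (e.trans (Dvd.intro_left _ (two_mul_card_alt (by omega))))) h3 h4 h5 (M := stabilizer _ S)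
          (fun e => h6 (e ▸ Subgroup.mem_top t : t ∈ stabilizer _ S)) (fun g e => h7 g (congrArg Subtype.val e))
          fun g e => h8 g (congrArg Subtype.val e)
    · rcases h.eq_or_lt with rfl | h
      · exact no_cover Nat.prime_three (by rw [Nat.card_perm]; simp; decide) (x := swap 0 1 * swap 1 2) (y := swap 0 1 * swap 1 3)
          (orderOf_eq_prime (by decide) (by decide)) (orderOf_eq_prime (by decide) (by decide)) (by decide) (alt (by norm_num))
          (by simp only [mem_alternatingGroup]; decide +kernel) (by simp only [mem_alternatingGroup]; decide +kernel)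
      rcases (Nat.succ_le_of_lt h).eq_or_lt with rfl | h
      · exact no_cover Nat.prime_five (by rw [Nat.card_perm]; simp; decide) (x := swap 0 1 * swap 1 2 * swap 2 3 * swap 3 4)
          (y := swap 0 1 * swap 1 2 * swap 2 4 * swap 4 3)
          (orderOf_eq_prime (by decide) (by decide)) (orderOf_eq_prime (by decide) (by decide)) (by decide) (alt (by norm_num))
          (by simp only [mem_alternatingGroup]; decide +kernel) (by simp only [mem_alternatingGroup]; decide +kernel)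
      · obtain ⟨p, h1, h2, x, y, t, h3, h4, h5, S, h6, h7, h8⟩ := big h
        exact no_cover h1 (by rwa [Nat.card_perm, Nat.card_fin]) (x := x.1) (y := y.1) (by simpa) (by simpa)
          (fun e => h5 (Subtype.ext e)) (M := stabilizer _ S) (fun e => h6 (e ▸ Subgroup.mem_top t.1 : t.1 ∈ stabilizer _ S)) h7 h8

end Cfsg.Agent.S3892
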