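import Mathlib
import Cfsg.Statements.S3893
import Cfsg.Agent.H8.Sz8

set_option autoImplicit false
open Cfsg

namespace Cfsg.Agent.S3893

open CfsgH8.SzG CfsgH8 MulAction Subgroup

/-- A cover of a group is a finite set of proper subgroups whose union is the whole group; it is minimal when no cover has fewer members, and nilpotent when all its members are nilpotent. The Suzuki groups Sz(q), q = 2^(2m+1) with m ≥ 1, have no nilpotent minimal cover. -/
theorem result {F : Type*} [Field F] [Fintype F] (m : ℕ) (hm : 1 ≤ m) (hF : Fintype.card F = 2 ^ (2 * m + 1)) :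
    ¬ ∃ 𝓐 : Finset (Subgroup ↥(Cfsg.Lie.Sz F (2 ^ (m + 1)))), ((∀ A ∈ 𝓐, A ≠ ⊤) ∧ (∀ g : ↥(Cfsg.Lie.Sz F (2 ^ (m + 1))), ∃ A ∈ 𝓐, g ∈ A)) ∧ (∀ 𝓑 : Finset (Subgroup ↥(Cfsg.Lie.Sz F (2 ^ (m + 1)))), (∀ A ∈ 𝓑, A ≠ ⊤) ∧ (∀ g : ↥(Cfsg.Lie.Sz F (2 ^ (m + 1))), ∃ A ∈ 𝓑, g ∈ A) → 𝓐.card ≤ 𝓑.card) ∧ (∀ A ∈ 𝓐, Group.IsNilpotent ↥A) := by
  haveI : CfsgH8.SzG.SzF F m := ⟨hm, hF⟩
  classical
  rintro ⟨𝓐, ⟨h1, h2⟩, h3, h4⟩
  let e := lieEquiv F m
  obtain ⟨t, ht⟩ := exists_unit_ne_one (F := F) (m := m)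
  have ht' : d m t ≠ 1 := fun h0 => ht (d_inj (h0.trans d_one.symm))
  have hu : u m (0 : F) 1 ≠ 1 := by simp [u_eq_one]
  obtain ⟨A, hA, hA'⟩ := h2 (e (d m t))
  obtain ⟨C, hC, hC'⟩ := h2 (e (u m 0 1))
  have hn : ∀ X ∈ 𝓐, Group.IsNilpotent (X.comap e.toMonoidHom) := fun X hX =>
    haveI := h4 X hX
    Group.nilpotent_of_mulEquiv (G := X) (e.subgroupMap (X.comap e.toMonoidHom) |>.trans
      (MulEquiv.subgroupCongr (Subgroup.map_comap_eq_self_of_surjective e.surjective X))).symm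
  have hAD := nil_le_cc (hn A hA) cc_D (x := d m t) hA' (d_mem t) ht'
  have hCU := nil_le_U (hn C hC) (x := u m 0 1) hC' (u_mem 0 1) hu
  have hAC : A ≠ C := by
    rintro rfl
    have : d m t ∈ U F m ⊓ D F m := ⟨hCU hA', d_mem t⟩
    rw [U_inf_D] at this
    exact ht' this
  have := h3 (insert ((B F m).comap e.symm.toMonoidHom) ((𝓐.erase A).erase C)) ⟨?_, ?_⟩
  · have h5 := Finset.card_insert_le ((B F m).comap e.symm.toMonoidHom) ((𝓐.erase A).erase C)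
    have h6 : C ∈ 𝓐.erase A := Finset.mem_erase.2 ⟨hAC.symm, hC⟩
    rw [Finset.card_erase_of_mem h6, Finset.card_erase_of_mem hA] at h5
    have := Finset.card_pos.2 ⟨_, h6⟩
    rw [Finset.card_erase_of_mem hA] at this
    omega
  · intro X hX
    rcases Finset.mem_insert.1 hX with rfl | hX
    · intro h0
      have : e (w F m) ∈ (B F m).comap e.symm.toMonoidHom := h0 ▸ mem_top _
      exact w_not_mem_B (F := F) (m := m) (by simpa using this)
    · exact h1 X (Finset.mem_of_mem_erase (Finset.mem_of_mem_erase hX))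
  · intro g
    obtain ⟨X, hX, hg⟩ := h2 g
    by_cases h5 : X = A
    · subst h5
      exact ⟨_, Finset.mem_insert_self _ _, D_le_B (hAD (by simpa using hg))⟩
    by_cases h6 : X = C
    · subst h6
      exact ⟨_, Finset.mem_insert_self _ _, U_le_B (hCU (by simpa using hg))⟩
    exact ⟨X, Finset.mem_insert_of_mem (Finset.mem_erase.2 ⟨h6, Finset.mem_erase.2 ⟨h5, hX⟩⟩), hg⟩

end Cfsg.Agent.S3893
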