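import Cfsg.Statements.S3900
import Mathlib
import Cfsg.Agent.H4.Quo
import Cfsg.Agent.H2.BG11
import Cfsg.Agent.H2.FT
import Cfsg.Agent.H4.ZS2
import Cfsg.Agent.S0200
import Cfsg.Agent.H1.CT3
import Cfsg.Agent.H1.Schmidt
import Cfsg.Agent.L0.WR2

set_option autoImplicit false
open Cfsg

namespace Cfsg.Agent.S3900

section
open Subgroup CfsgH2
open scoped commutatorElement

open scoped commutatorElement
universe u
section
variable {G : Type u} [Group G] {k : ℕ} {H K N Q : Subgroup G} {x g b : G}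

def Val (H : Subgroup G) : ℕ → G → Prop
  | 0, x => x ∈ H
  | k + 1, x => ∃ y z, Val H k y ∧ z ∈ H ∧ x = ⁅y, z⁆

theorem val_iff : ∀ {k : ℕ} {x : G}, Val ⊤ k x ↔ ∃ f : Fin (k + 1) → G,
    x = ((List.ofFn f).tail).foldl (fun a b => a * b * a⁻¹ * b⁻¹) (f 0)
  | 0, x => ⟨fun _ => ⟨fun _ => x, by simp⟩, fun _ => mem_top x⟩
  | k + 1, x => by
    have e : ∀ f : Fin (k + 2) → G, ((List.ofFn f).tail).foldl (fun a b => a * b * a⁻¹ * b⁻¹) (f 0) =
        ⁅((List.ofFn fun i : Fin (k + 1) => f i.castSucc).tail).foldl (fun a b => a * b * a⁻¹ * b⁻¹) (f (Fin.castSucc 0)),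
          f (Fin.last _)⁆ := fun f => by
      rw [List.ofFn_succ_last, List.tail_append_of_ne_nil (by simp), List.foldl_append]; rfl
    constructor
    · rintro ⟨y, z, hy, -, rfl⟩
      obtain ⟨f, rfl⟩ := val_iff.1 hy
      exact ⟨Fin.snoc f z, by rw [e]; simp only [Fin.snoc_castSucc, Fin.snoc_last]⟩
    · rintro ⟨f, rfl⟩
      exact ⟨_, _, val_iff.2 ⟨fun i => f i.castSucc, rfl⟩, mem_top _, e f⟩

theorem Val.lcs : ∀ {k : ℕ} {x : G}, Val H k x → x ∈ H.lowerCentralSeries k
  | 0, _, h => h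
  | _ + 1, _, ⟨_, _, h, hz, e⟩ => e ▸ commutator_mem_commutator h.lcs hz

theorem Val.mem (h : Val H k x) : x ∈ H := H.lowerCentralSeries_antitone (Nat.zero_le k) h.lcs

theorem Val.map {G' : Type u} [Group G'] (f : G →* G') {H' : Subgroup G'} (l : ∀ x ∈ H, f x ∈ H') :
    ∀ {k : ℕ} {x : G}, Val H k x → Val H' k (f x)
  | 0, x, h => l x h
  | _ + 1, _, ⟨y, z, h, hz, e⟩ => ⟨f y, f z, h.map f l, l z hz, e ▸ map_commutatorElement f y z⟩

theorem Val.top (h : Val H k x) : Val ⊤ k x := h.map (MonoidHom.id G) fun _ _ => mem_top _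

theorem Val.conj (h : Val H k x) (hg : g ∈ H) : Val H k (g * x * g⁻¹) :=
  h.map (MulAut.conj g).toMonoidHom fun _ hx => mul_mem (mul_mem hg hx) (inv_mem hg)

theorem Val.pred : ∀ {k : ℕ} {x : G}, Val H (k + 1) x → Val H k x
  | 0, _, h => h.mem
  | _ + 1, _, ⟨y, z, h, hz, e⟩ => ⟨y, z, h.pred, hz, e⟩

theorem gen0 : ∀ k, H.lowerCentralSeries k ≤ closure {x | Val H k x}
  | 0 => fun _ h => subset_closure h
  | k + 1 => by
    refine (commutator_mono (gen0 k) le_rfl).trans (commutator_le.2 fun y hy z hz => ?_)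
    have n : ∀ g ∈ H, ∀ u ∈ closure {x | Val H (k + 1) x}, g * u * g⁻¹ ∈ closure {x | Val H (k + 1) x} := fun g hg u hu =>
      (closure_le ((closure {x | Val H (k + 1) x}).comap (MulAut.conj g).toMonoidHom)).2
        (fun v hv => subset_closure (Val.conj hv hg)) hu
    have l : closure {x | Val H k x} ≤ H := (closure_le _).2 fun v hv => Val.mem hv
    induction hy using closure_induction with
    | mem y hy => exact subset_closure ⟨y, z, hy, hz, rfl⟩
    | one => simp
    | mul a c ha hc h1 h2 =>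
      rw [show ⁅a * c, z⁆ = a * ⁅c, z⁆ * a⁻¹ * ⁅a, z⁆ by group]; exact mul_mem (n a (l ha) _ h2) h1
    | inv a ha h1 =>
      rw [show ⁅a⁻¹, z⁆ = a⁻¹ * ⁅a, z⁆⁻¹ * a⁻¹⁻¹ by group]; exact n _ (inv_mem (l ha)) _ (inv_mem h1)

theorem gen (h : ∀ x, Val H k x → x ∈ N) : H.lowerCentralSeries k ≤ N := (gen0 k).trans ((closure_le _).2 h)

variable [Finite G] {q : ℕ} [hq : Fact q.Prime]

theorem cop (pQ : PG[q, Q]) (hb : ¬ q ∣ orderOf b) : o[zpowers b].Coprime o[Q] := by
  obtain ⟨n, hn⟩ := pQ.exists_card_eq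
  rw [hn, Nat.card_zpowers]; exact ((hq.out.coprime_iff_not_dvd.2 hb).symm).pow_right n

theorem qb (pQ : PG[q, Q]) (n : b ∈ N[Q]) (hb : ¬ q ∣ orderOf b) (h : ∀ x ∈ Q, Val ⊤ k x → x ∈ N) :
    ⁅Q, zpowers b⁆ ≤ N := by
  have n' : zpowers b ≤ N[Q] := zpowers_le.2 n
  haveI := pQ.isNilpotent
  have e := coprime_comm_comm n' (cop pQ hb) (.inr inferInstance)
  have l : ∀ j, ⁅Q, zpowers b⁆ ≤ (zpowers b ⊔ Q).lowerCentralSeries j := fun j => by
    induction j with
    | zero => exact (comm_le_left n').trans le_sup_right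
    | succ j ih => exact e ▸ commutator_mono ih le_sup_left
  refine (l (k + 1)).trans (gen fun x hx => h x ?_ hx.pred.top)
  obtain ⟨y, z, hy, hz, rfl⟩ := hx
  obtain ⟨_, ⟨i, rfl⟩, a, ha, rfl⟩ := (mem_sup_of_norm n').1 hy.mem
  obtain ⟨_, ⟨j, rfl⟩, c, hc, rfl⟩ := (mem_sup_of_norm n').1 hz
  simp only []
  rw [show ⁅b ^ i * a, b ^ j * c⁆ = b ^ i * (a * (b ^ j * (c * a⁻¹) * (b ^ j)⁻¹)) * (b ^ i)⁻¹ * (b ^ j * c⁻¹ * (b ^ j)⁻¹) by group]
  exact mul_mem (conj_mem_of_norm (zpow_mem n i) (mul_mem ha (conj_mem_of_norm (zpow_mem n j) (mul_mem hc (inv_mem ha)))))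
    (conj_mem_of_norm (zpow_mem n j) (inv_mem hc))

theorem lift {X : Type u} [Group X] [Finite X] {f : G →* X} (hf : Function.Surjective f) {R : Subgroup X} (pR : PG[q, R])
    {c : X} (n : c ∈ N[R]) (hc : ¬ q ∣ orderOf c) (h : ∀ x, PG[q, zpowers x] → Val ⊤ k x → f x ∈ R → f x = 1) : c ∈ C[R] := by
  obtain ⟨Q, hQ⟩ := exists_syl (p := q) (R.comap f)
  have e : Q.map f = R := by
    have := hQ.map f
    rw [map_comap_eq_self_of_surjective hf] at this
    exact this.eq_of_pgroup pR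
  obtain ⟨g, rfl⟩ := hf c
  obtain ⟨l, hl, m, hm, rfl⟩ := hQ.frattini (g := g) (mem_norm_of_conj fun u hu => by
    simpa using conj_mem_of_norm n (mem_comap.1 hu))
  obtain ⟨v, hv, ev⟩ : f l ∈ Q.map f := e ▸ hl
  obtain ⟨⟨b, nb⟩, hb, eb⟩ := CfsgH4.exists_reg_lift (p := q) (f.comp N[Q].subtype).rangeRestrict_surjective
    (g := ⟨f (l * m), ⟨v * m, mul_mem (le_normalizer hv) hm⟩, by simp [ev]⟩) (by rwa [← orderOf_coe])
  have eb' : f b = f (l * m) := congrArg Subtype.val eb
  have := map_mono (f := f) (qb (N := f.ker) hQ.pg nb (by rwa [← orderOf_coe] at hb) fun x hx hv =>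
    h x (hQ.pg.to_le (zpowers_le.2 hx)) hv (hQ.le hx))
  rw [map_commutator, e, MonoidHom.map_zpowers, eb', (Subgroup.map_eq_bot_iff _).2 le_rfl, le_bot_iff, comm_eq_bot_iff,
    le_centralizer_iff] at this
  exact this (mem_zpowers _)

theorem ndvd [N.Normal] (h : ∀ x, PG[q, zpowers x] → Val ⊤ k x → x ∈ N) :
    ¬ q ∣ o[(⊤ : Subgroup (G ⧸ N)).lowerCentralSeries k] := by
  have c : NPC q (⊤ : Subgroup (G ⧸ N)) := frobenius_npc fun R _ pR _ c _ n hc => lift (QuotientGroup.mk'_surjective N) pR n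
    (hq.out.coprime_iff_not_dvd.1 hc.symm) fun x px hx _ => (QuotientGroup.eq_one_iff x).2 (h x px hx)
  obtain ⟨P, hP⟩ := exists_syl (p := q) (⊤ : Subgroup G)
  have s := hP.map (QuotientGroup.mk' N)
  rw [map_mk_top, ← c.Opp_eq] at s
  have e := s.Opp_eq
  rw [c.Opp_eq, ← pPrimeCore_eq'] at e
  have z : (P.map (QuotientGroup.mk' N)).lowerCentralSeries k = ⊥ := by
    rw [← map_lowerCentralSeries, map_mk_eq_bot]
    exact gen fun x hx => h x (hP.pg.to_le (zpowers_le.2 hx.mem)) hx.top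
  have : (⊤ : Subgroup (G ⧸ N)).lowerCentralSeries k ≤ pPrimeCore q _ := by
    rw [← map_mk_eq_bot, map_lowerCentralSeries, ← e, Subgroup.map_sup, (map_mk_eq_bot _).2 le_rfl, bot_sup_eq,
      ← map_lowerCentralSeries, z, Subgroup.map_bot]
  exact fun d => not_dvd_pPrimeCore (d.trans (card_dvd_of_le this))

def PA (k : ℕ) (G : Type u) [Group G] : Prop :=
  ∀ x : G, Val ⊤ k x → ∀ g : G, (orderOf ⁅x, g⁆).Coprime (orderOf x) → ⁅x, g⁆ = 1

omit hq in
theorem PA.cent (A : PA k G) (hx : Val ⊤ k x) (n : x ∈ N[K]) (c : o[K].Coprime o[zpowers x]) : x ∈ C[K] := fun g hg =>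
  (commutatorElement_eq_one_iff_mul_comm.1 (A x hx g (by
    rw [Nat.card_zpowers] at c
    exact c.coprime_dvd_left (K.orderOf_dvd_natCard (mul_mem (conj_mem_of_norm n hg) (inv_mem hg)))))).symm

theorem pcop {r : ℕ} [hr : Fact r.Prime] (ne : r ≠ q) (pK : PG[r, K]) (pQ : PG[q, Q]) : o[K].Coprime o[Q] :=
  IsPGroup.coprime_card_of_ne r q ne K Q pK pQ

theorem sol_case (A : PA k G) (hs : Group.IsSolvable G) (px : PG[q, zpowers x]) (hx : Val ⊤ k x) :
    x ∈ F[(⊤ : Subgroup G)] := by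
  haveI : (Opp q (⊤ : Subgroup G)).Normal := normal_of_top_le_norm le_norm_Opp
  set W := Opp q (⊤ : Subgroup G)
  let π := QuotientGroup.mk' W
  obtain ⟨T, hT⟩ := exists_syl (p := q) W
  have hf : Function.Surjective (π.comp N[T].subtype) := fun c => by
    obtain ⟨g, rfl⟩ := QuotientGroup.mk'_surjective W c
    obtain ⟨w, hw, n, hn, rfl⟩ := hT.frattini (g := g) (le_normalizer_of_normal (mem_top g))
    exact ⟨⟨n, hn⟩, by rw [map_mul, show QuotientGroup.mk' W w = 1 from (QuotientGroup.eq_one_iff w).2 hw, one_mul]; rfl⟩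
  have px' : PG[q, zpowers (π x)] := MonoidHom.map_zpowers π x ▸ px.map π
  have o0 : O[{q}, (⊤ : Subgroup (G ⧸ W))] = ⊥ := by
    haveI : O[{q}, (⊤ : Subgroup (G ⧸ W))].Normal := normal_of_top_le_norm le_norm_piCoreOf
    have : O[{q}, (⊤ : Subgroup (G ⧸ W))].comap π ≤ W := le_Opp le_top le_normalizer_of_normal
      (NPC.of_piRes_npc (npc_Opp.mono ((closure_le _).2 fun g hg => by
        obtain ⟨j, hj⟩ := pgroup_pow_eq_one isPGroup_piCoreOf (mem_comap.1 hg.1)
        exact (QuotientGroup.eq_one_iff g).1 (orderOf_eq_one_iff.1 (Nat.eq_one_of_dvd_coprimes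
          (((piN_compl_singleton' hq.out).1 hg.2).pow_right j) (orderOf_map_dvd π g) (orderOf_dvd_of_pow_eq_one hj))))))
    rw [← map_comap_eq_self_of_surjective (QuotientGroup.mk'_surjective W) O[{q}, ⊤], map_mk_eq_bot]
    exact this
  have c : F[(⊤ : Subgroup (G ⧸ W))] ≤ C[zpowers (π x)] := fit_le_cent_of_cores (p := q) (o0 ▸ bot_le) fun r _ ne =>
    le_centralizer_iff.1 (zpowers_le.2 (lift (k := k) (q := r) hf isPGroup_piCoreOf (le_norm_piCoreOf (mem_top _)) (fun d => by
      obtain ⟨j, hj⟩ := px'.exists_card_eq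
      rw [← Nat.card_zpowers, hj] at d
      exact ne ((Nat.prime_dvd_prime_iff_eq Fact.out hq.out).1 ((Fact.out : r.Prime).dvd_of_dvd_pow d)))
      fun y py hy _ => (QuotientGroup.eq_one_iff _).2 (hT.cent_le_Opp inferInstance ⟨mem_top _,
        A.cent (hy.map N[T].subtype fun _ _ => mem_top _) y.2
          (pcop ne.symm hT.pg (MonoidHom.map_zpowers N[T].subtype y ▸ py.map _))⟩)))
  have m : zpowers (π x) ≤ O[{q}ᶜ, (⊤ : Subgroup (G ⧸ W))] :=
    ((le_inf le_top (le_centralizer_iff.1 c)).trans (cent_fit_le inferInstance)).trans (fit_le_of_cores fun r _ _ => by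
      by_cases e : r = q
      · subst e; exact o0 ▸ bot_le
      · exact piCoreOf_mono (Set.singleton_subset_iff.2 e))
  have xW : x ∈ W := by
    obtain ⟨j, hj⟩ := px'.exists_card_eq
    have d := card_dvd_of_le m
    rw [hj] at d
    rcases j with _ | j
    · exact (QuotientGroup.eq_one_iff x).1 (zpowers_eq_bot.1 (card_eq_one.1 hj))
    · exact absurd ((dvd_pow_self q j.succ_ne_zero).trans d) not_dvd_piCoreOf
  have xY : x ∈ C[O[{q}ᶜ, (⊤ : Subgroup G)]] := A.cent hx (le_norm_piCoreOf (mem_top x)) (by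
    obtain ⟨j, hj⟩ := px.exists_card_eq
    rw [hj]; exact ((hq.out.coprime_iff_not_dvd.2 not_dvd_piCoreOf).symm).pow_right j)
  have n0 : ⊤ ≤ N[W ⊓ C[O[{q}ᶜ, (⊤ : Subgroup G)]]] :=
    le_norm_inf le_norm_Opp (le_norm_piCoreOf.trans (norm_le_norm_cent _))
  obtain ⟨U, hU, l⟩ := exists_syl_ge px (zpowers_le.2 (mem_inf.2 ⟨xW, xY⟩))
  have n1 : W ⊓ C[O[{q}ᶜ, (⊤ : Subgroup G)]] ≤ N[U] := ((npc_Opp.mono inf_le_left).sup_eq hU).ge.trans
    (sup_le (le_norm_of_le_cent ((piCoreOf_le_of_norm le_top n0).trans (le_centralizer_iff.1 (hU.le.trans inf_le_right))))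
      le_normalizer)
  exact fit_le_of_norm le_top n0 (le_fit hU.le n1 hU.pg.isNilpotent (l (mem_zpowers x)))

omit hq in
theorem lcs_le [N.Normal] (h : ∀ (q : ℕ) [Fact q.Prime], ∀ x, PG[q, zpowers x] → Val ⊤ k x → x ∈ N) :
    (⊤ : Subgroup G).lowerCentralSeries k ≤ N := by
  rw [← map_mk_eq_bot, map_lowerCentralSeries, map_mk_top, ← card_eq_one]
  exact Nat.eq_one_iff_not_exists_prime_dvd.2 fun q hq => by haveI := Fact.mk hq; exact ndvd (h q)

omit hq [Finite G] in
theorem lcs_top (pf : commutator G = ⊤) [N.Normal] : ∀ n, (⊤ : Subgroup (G ⧸ N)).lowerCentralSeries n = ⊤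
  | 0 => rfl
  | n + 1 => by
    rw [Subgroup.lowerCentralSeries_succ, lcs_top pf n, ← map_mk_top N, ← map_commutator]
    exact congrArg _ pf

omit hq in
theorem perf_case (A : PA k G) (pf : commutator G = ⊤) : Group.IsSolvable G := by
  have c1 : F[(⊤ : Subgroup G)] ≤ center G := fit_le_of_cores fun p _ _ => by
    haveI : C[O[{p}, (⊤ : Subgroup G)]].Normal := normal_of_top_le_norm (le_norm_piCoreOf.trans (norm_le_norm_cent _))
    have pg : IsPGroup p (G ⧸ C[O[{p}, (⊤ : Subgroup G)]]) := IsPGroup.of_card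
      (Nat.eq_prime_pow_of_unique_prime_dvd Nat.card_pos.ne' fun {r} hr d => by_contra fun ne => by
        haveI := Fact.mk hr
        refine ndvd (k := k) (q := r) (N := C[O[{p}, (⊤ : Subgroup G)]]) (fun x px hx =>
          A.cent hx (le_norm_piCoreOf (mem_top x)) (pcop (Ne.symm ne) isPGroup_piCoreOf px)) ?_
        rwa [lcs_top pf, card_top])
    obtain ⟨n, hn⟩ := Subgroup.nilpotent_iff_lowerCentralSeries.1 pg.isNilpotent
    rw [lcs_top pf, ← map_mk_top, map_mk_eq_bot] at hn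
    exact fun v hv => mem_center_iff.2 fun g => (hn (mem_top g) v hv).symm
  have sz : ∀ (Y : Type u) [Group Y], Sol[center Y] := fun Y _ =>
    isSolvable_of_comm fun a b => Subtype.ext (mem_center_iff.1 b.2 a)
  haveI := sz G
  let π := QuotientGroup.mk' (center G)
  have hf := QuotientGroup.mk'_surjective (center G)
  have c3 : ∀ M : Subgroup (G ⧸ center G), M.Normal → Sol[M] → M = ⊥ := fun M _ hM => by
    have s : Sol[M.comap π] := solvable_of_ker_le_range (inclusion (show center G ≤ M.comap π from fun v hv =>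
      mem_comap.2 (by rw [show π v = 1 from (QuotientGroup.eq_one_iff v).2 hv]; exact one_mem M))) (π.subgroupComap M) fun v hv =>
        ⟨⟨v, (QuotientGroup.eq_one_iff _).1 (congrArg Subtype.val hv)⟩, rfl⟩
    have l : F[M.comap π] ≤ center G := (fit_le_of_norm le_top le_normalizer_of_normal).trans c1
    rw [← map_comap_eq_self_of_surjective hf M, map_mk_eq_bot]
    exact ((le_inf le_rfl fun g _ v hv => (mem_center_iff.1 (l hv) g).symm).trans (cent_fit_le s)).trans l
  by_contra ns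
  have d : 2 ∣ Nat.card (G ⧸ center G) := by_contra fun d => by
    haveI := ft_of_not_dvd d
    exact ns (solvable_of_ker_le_range (center G).subtype π (by simp [π]))
  have hyp : ∀ V : Subgroup (G ⧸ center G), PG[2, V] → (∀ v ∈ V, v ^ 2 = 1) → ∀ c ∈ N[V], Odd (orderOf c) → c ∈ C[V] :=
    fun V pV e c n o => lift (k := k) (q := 2) hf pV n o.not_two_dvd_nat fun y py hy hv => by_contra fun y1 => by
      obtain ⟨a, a1, oa, ea⟩ := S0200.result (π y) (orderOf_eq_prime (e _ hv) y1) fun M _ pM m => by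
        haveI := pM.isNilpotent
        exact y1 (mem_bot.1 (c3 M inferInstance inferInstance ▸ m))
      obtain ⟨u, ou, rfl⟩ := CfsgH4.exists_reg_lift (p := 2) hf oa.not_two_dvd_nat
      have z : y * u * y⁻¹ * u ∈ center G := (QuotientGroup.eq_one_iff _).1 (show π _ = 1 by
        rw [map_mul, map_mul, map_mul, map_inv, ea, inv_mul_cancel])
      have cm : Commute (y * u * y⁻¹) u⁻¹ := by
        have := mem_center_iff.1 z u
        rw [← mul_assoc, mul_left_inj] at this
        exact Commute.inv_right this.symm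
      obtain ⟨j, hj⟩ := py.exists_card_eq
      have := A y hy u (by
        rw [← Nat.card_zpowers y, hj]
        refine Nat.Coprime.pow_right j (Nat.Coprime.coprime_dvd_left cm.orderOf_mul_dvd_mul_orderOf ?_)
        rw [orderOf_conj', orderOf_inv]
        have := ((Nat.Prime.coprime_iff_not_dvd Nat.prime_two).2 ou).symm
        exact Nat.Coprime.mul_left this this)
      rw [commutatorElement_eq_one_iff_mul_comm] at this
      rw [← map_mul, this, map_mul, mul_inv_cancel_right, eq_inv_iff_mul_eq_one, ← pow_two] at ea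
      exact a1 (orderOf_eq_one_iff.1 (Nat.eq_one_of_dvd_coprimes (Nat.coprime_two_right.2 oa) dvd_rfl
        (orderOf_dvd_of_pow_eq_one ea)))
  obtain ⟨S, hS⟩ := exists_syl (p := 2) (⊤ : Subgroup (G ⧸ center G))
  obtain ⟨z, hz, oz, zc⟩ := CfsgH1.pz hS.pg (hS.ne_bot (by rwa [card_top]))
  have key : ∀ U g, AlpChain S 2 U g → z ∈ U → g⁻¹ * z * g = z := by
    intro U g hc
    induction hc with
    | nil U => simp
    | cons U Q x g _ s1 _ hx hl _ ih =>
      intro hU
      have zV : z ∈ omegaOne 2 Z[S ⊓ Q] := mem_omegaOne ⟨hl hU, fun v hv => CfsgH1.m1.1 (zc hv.1)⟩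
        (oz ▸ pow_orderOf_eq_one z)
      obtain ⟨s, hs, e⟩ := CfsgL0.conj_eq_of_odd' (D := omegaOne 2 Z[S ⊓ Q]) s1 (fun c hc o => hyp _
        (hS.pg.to_le (omegaOne_le.trans (inf_le_left.trans inf_le_left))) (elem_omegaOne inferInstance).2 c
        (norm_le_norm_omegaOne (norm_le_norm_center hc)) o) (inv_mem hx)
      have e1 : x⁻¹ * z * x⁻¹⁻¹ = z := by rw [e z zV, CfsgH1.m1.1 (zc hs.1), mul_inv_cancel_right]
      have := ih (e1 ▸ conj_mem_map_cj hU)
      rw [mul_inv_rev, show g⁻¹ * x⁻¹ * z * (x * g) = g⁻¹ * (x⁻¹ * z * x⁻¹⁻¹) * g by group, e1, this]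
  have zs := CfsgH4.zstar_two hS hz fun g hg => by
    simpa using key _ _ (CfsgH2.alperin hS _ (zpowers z) rfl g⁻¹ (zpowers_le.2 hz)
      (by rw [inv_inv, MonoidHom.map_zpowers]; exact zpowers_le.2 hg)) (mem_zpowers z)
  have o1 := c3 (pPrimeCore 2 _) inferInstance (ft_of_not_dvd not_dvd_pPrimeCore)
  have : z ∈ center _ := mem_center_iff.2 fun g => by
    have := zs g
    rwa [o1, mem_bot, mul_inv_eq_one, mul_inv_eq_iff_eq_mul] at this
  rw [c3 (center _) inferInstance (sz _), mem_bot] at this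
  rw [this, orderOf_one] at oz
  omega
end

theorem solv (k n : ℕ) : ∀ (G : Type u) [Group G] [Finite G], Nat.card G = n → PA k G → Group.IsSolvable G := by
  induction n using Nat.strong_induction_on with
  | _ n ih =>
    intro G _ _ e A
    by_cases pf : commutator G = ⊤
    · exact perf_case A pf
    · haveI := ih _ (e ▸ (card_top (G := G) ▸ card_lt_of_lt (lt_top_iff_ne_top.2 pf))) (commutator G) rfl fun x hx g c =>
        Subtype.ext (A x (hx.map (commutator G).subtype fun _ _ => mem_top _) g (by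
          rw [← orderOf_coe, ← orderOf_coe] at c; exact c))
      exact solvable_of_ker_le_range (commutator G).subtype Abelianization.of (by simp [Abelianization.ker_of])

end

/-- A criterion of Baumslag–Wiegold type for a term of the lower central series. Let G be a finite group and k ≥ 0; call an element a left-normed commutator value of length k + 1 when it has the form [[…[x₀, x₁], …], x_k] with k + 1 entries (for k = 0, any element), where [a, b] = aba⁻¹b⁻¹. Then the (k+1)-st term γ_{k+1}(G) of the lower central series (γ₁(G) = G) is nilpotent if and only if for every two such values x, y of coprime orders, either every prime dividing o(x)·o(y) divides o(xy), or o(x)·o(y) ≤ o(xy). -/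
theorem result {G : Type*} [Group G] [Finite G] (k : ℕ) :
    Group.IsNilpotent ↥((⊤ : Subgroup G).lowerCentralSeries k) ↔
      ∀ x y : G, (∃ f : Fin (k + 1) → G, x = ((List.ofFn f).tail).foldl (fun a b => a * b * a⁻¹ * b⁻¹) (f 0)) → (∃ f : Fin (k + 1) → G, y = ((List.ofFn f).tail).foldl (fun a b => a * b * a⁻¹ * b⁻¹) (f 0)) → (orderOf x).Coprime (orderOf y) →
        (∀ r : ℕ, r.Prime → r ∣ orderOf x * orderOf y → r ∣ orderOf (x * y)) ∨ orderOf x * orderOf y ≤ orderOf (x * y) := by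
  open Subgroup CfsgH2 in
  open scoped commutatorElement in
  · constructor
    · intro h x y hx hy c
      have cm : Commute x y := CfsgH1.commute_of_coprime_of_nilpotent h (val_iff.2 hx).lcs (val_iff.2 hy).lcs c
      exact .inr (cm.orderOf_mul_eq_mul_orderOf_of_coprime c).ge
    · intro h
      have A : PA k G := fun x hx g c => by
        have e : ⁅x, g⁆ * (g * x * g⁻¹) = x := by group
        have := h _ _ (val_iff.1 (Val.pred ⟨x, g, hx, mem_top g, rfl⟩)) (val_iff.1 (hx.conj (mem_top g)))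
          (by rwa [orderOf_conj'])
        rw [e, orderOf_conj'] at this
        rw [← orderOf_eq_one_iff]
        rcases this with t | t
        · exact Nat.eq_one_iff_not_exists_prime_dvd.2 fun r hr d =>
            hr.one_lt.ne' (Nat.eq_one_of_dvd_coprimes c d (t r hr (d.mul_right _)))
        · have p1 := orderOf_pos x
          have p2 := orderOf_pos ⁅x, g⁆
          nlinarith
      have hs := solv k _ G rfl A
      haveI : F[(⊤ : Subgroup G)].Normal := normal_of_top_le_norm le_norm_fit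
      have l := lcs_le (k := k) (N := F[(⊤ : Subgroup G)]) fun q _ x px hx => sol_case A hs px hx
      haveI : Nil[F[(⊤ : Subgroup G)]] := fit_nil
      exact nilpotent_of_mulEquiv (subgroupOfEquivOfLe l)

end Cfsg.Agent.S3900
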