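import Cfsg.Statements.S3903
import Mathlib
import Cfsg.Agent.H1.CT3
import Cfsg.Agent.S4039
import Cfsg.Agent.S4040

set_option autoImplicit false
open Cfsg

namespace Cfsg.Agent.S3903

/-- Let N be a proper normal subgroup of the finite group G such that every element x of G outside N has prime power order and has centralizer C_G(x) a maximal subgroup of G. Then N is solvable. -/
theorem result {G : Type*} [Group G] [Finite G] (N : Subgroup G) [N.Normal] (hN : N ≠ ⊤)
    (h : ∀ x : G, x ∉ N → IsPrimePow (orderOf x) ∧ IsCoatom (Subgroup.centralizer ({x} : Set G))) : Group.IsSolvable ↥N := by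
  open Subgroup CfsgH2 in
  open CfsgH1 hiding card_inf_mul_relIndex card_lt_of_lt card_lt_of_ne_top card_map_mul_card_inf_ker card_mul_relIndex card_subgroupOf card_sup_dvd card_sup_mul_card_inf coprime_le_sup_cent exists_card_prime_le isNilpotent_map isNilpotent_of_le isPGroup_pCore isSolvable_map isSolvable_of_le le_pCore le_pPrimeCore relIndex_map_dvd in
  open scoped CfsgH1 in
  open scoped commutatorElement in
  · classical
    by_contra ns
    have nG : ¬ Group.IsSolvable G := fun _ => ns inferInstance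
    have pg : ∀ x, x ∉ N → PG[2, C1[x]] := fun x hx => by
      obtain ⟨p, k, hp, hk, e⟩ := (isPrimePow_nat_iff _).1 (h x hx).1
      haveI := Fact.mk hp
      have px : Pe p x := ⟨k, by rw [e, pow_orderOf_eq_one]⟩
      have pp : PG[p, C1[x]] := IsPGroup.of_card (Nat.eq_prime_pow_of_unique_prime_dvd Nat.card_pos.ne' fun {r} hr d => by
        by_contra ne
        haveI := Fact.mk hr
        obtain ⟨y, hy⟩ := exists_prime_orderOf_dvd_card' (G := C1[x]) r d
        rw [← orderOf_coe] at hy
        have cm : Commute x y := (m1.1 y.2).symm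
        have cp : (orderOf x).Coprime (orderOf (y : G)) := px.cop2 (pe_of hy) ((Nat.coprime_primes hp hr).2 (Ne.symm ne))
        have o := cm.orderOf_mul_eq_mul_orderOf_of_coprime cp
        by_cases m : x * y ∈ N
        · have := N.pow_mem m (orderOf (y : G))
          rw [cm.mul_pow, pow_orderOf_eq_one, mul_one] at this
          exact hx (zpowers_le.2 this (mem_zpowers_pow_iff.2 cp.symm))
        · obtain ⟨s, j, hs, -, e'⟩ := (isPrimePow_nat_iff _).1 (h _ m).1
          rw [o, ← e, hy] at e'
          have d1 := (Nat.prime_dvd_prime_iff_eq hp hs).1 (hp.dvd_of_dvd_pow (e' ▸ (dvd_pow_self p hk.ne').mul_right r))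
          have d2 := (Nat.prime_dvd_prime_iff_eq hr hs).1 (hr.dvd_of_dvd_pow (e' ▸ dvd_mul_left r _))
          exact ne (d2.trans d1.symm))
      by_contra n2
      obtain ⟨j, hj⟩ := pp.exists_card_eq
      haveI := pp.isNilpotent
      exact nG (S4040.result C1[x] (h x hx).2 inferInstance (hj ▸ (hp.odd_of_ne_two fun e => n2 (e ▸ pp)).pow))
    have sy : ∀ x, x ∉ N → Syl 2 C1[x] ⊤ := fun x hx => by
      obtain ⟨T, hT, l⟩ := exists_syl_ge (pg x hx) le_top
      rcases (h x hx).2.le_iff.1 l with e | e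
      · haveI := (e ▸ hT.pg : PG[2, (⊤ : Subgroup G)]).isNilpotent
        exact absurd (solvable_of_surjective (f := (⊤ : Subgroup G).subtype) fun g => ⟨⟨g, mem_top g⟩, rfl⟩) nG
      · exact e ▸ hT
    obtain ⟨x, hx⟩ : ∃ x, x ∉ N := by_contra fun k => hN (eq_top_iff.2 fun g _ => by_contra fun m => k ⟨g, m⟩)
    set S := C1[x]
    have sup : S ⊔ N = ⊤ := ((h x hx).2.le_iff.1 le_sup_left).resolve_right fun e => by
      haveI := ((pg x hx).to_le (le_sup_right.trans e.le)).isNilpotent
      exact ns inferInstance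
    have c1 := card_sup_mul_card_inf (show S ≤ N[N] from le_normalizer_of_normal)
    rw [sup, card_top, ← S.index_mul_card] at c1
    have c2 : S.index * o[(S ⊓ N : Subgroup G)] = o[N] := Nat.eq_of_mul_eq_mul_left (Nat.card_pos (α := S)) (by
      rw [← c1]; ring)
    have a1 : ((N : Set G)ᶜ).ncard + o[N] = S.index * o[S] := by
      rw [S.index_mul_card, add_comm]; exact Set.ncard_add_ncard_compl (N : Set G)
    have a2 : ((S : Set G) \ N).ncard + o[(S ⊓ N : Subgroup G)] = o[S] := by
      rw [add_comm]; exact Set.ncard_inter_add_ncard_diff_eq_ncard (S : Set G) N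
    have a3 : ((N : Set G)ᶜ).ncard ≤ S.index * ((Z[S] : Set G) \ N).ncard := by
      have : (N : Set G)ᶜ ⊆ (fun t : (G ⧸ S) × G => t.1.out * t.2 * t.1.out⁻¹) '' (Set.univ ×ˢ ((Z[S] : Set G) \ N)) := by
        intro y hy
        obtain ⟨g, -, e⟩ := (sy x hx).conj (sy y hy)
        have m : ∀ u, u ∈ S ↔ g * u * g⁻¹ ∈ C1[y] := fun u => by
          rw [← e]; exact ⟨conj_mem_map_cj, fun k => by simpa [mul_assoc] using mem_map_cj.1 k⟩
        have z : g⁻¹ * y * g ∈ Z[S] := ⟨(m _).2 (by simpa [mul_assoc] using m1.2 (Commute.refl y)), fun u hu => by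
          have := m1.1 ((m u).1 hu)
          calc _ = g⁻¹ * (g * u * g⁻¹ * y) * g := by group
            _ = _ := by rw [this.eq]; group⟩
        obtain ⟨s, hs⟩ := QuotientGroup.mk_out_eq_mul S g
        refine ⟨(g, g⁻¹ * y * g), ⟨trivial, z, fun k => hy (by simpa [mul_assoc] using Normal.conj_mem inferInstance _ k g)⟩, ?_⟩
        simp only [hs]
        calc _ = g * (s * (g⁻¹ * y * g)) * (s : G)⁻¹ * g⁻¹ := by group
          _ = _ := by rw [z.2 s s.2]; group
      refine (Set.ncard_le_ncard this).trans ((Set.ncard_image_le).trans ?_)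
      rw [Set.ncard_prod, Set.ncard_univ]; rfl
    have a4 : ((S : Set G) \ N).ncard ≤ ((Z[S] : Set G) \ N).ncard :=
      Nat.le_of_mul_le_mul_left (by nlinarith) (Nat.pos_of_ne_zero (index_ne_zero_of_finite (H := S)))
    have a5 := Set.eq_of_subset_of_ncard_le (Set.diff_subset_diff_left (show (Z[S] : Set G) ⊆ S from fun _ k => k.1)) a4
    have xS : x ∈ S := m1.2 (Commute.refl x)
    have ab : Ab[S] := le_centralizer_iff_isMulCommutative.1 fun u hu => by
      by_cases m : u ∈ N
      · have k : u * x ∈ (Z[S] : Set G) \ N := a5 ▸ ⟨S.mul_mem hu xS, fun k => hx ((N.mul_mem_cancel_left m).1 k)⟩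
        have k' : x ∈ (Z[S] : Set G) \ N := a5 ▸ ⟨xS, hx⟩
        simpa using mul_mem (mem_inf.1 k.1).2 (inv_mem (mem_inf.1 k'.1).2)
      · have k : u ∈ (Z[S] : Set G) \ N := a5 ▸ ⟨hu, m⟩
        exact k.1.2
    haveI := (pg x hx).isNilpotent
    refine nG (S4039.result S (h x hx).2 inferInstance (Subgroup.lowerCentralSeries_eq_bot_iff_nilpotencyClass_le.1 ?_))
    refine le_bot_iff.1 ((Subgroup.lowerCentralSeries_antitone _ (show 1 ≤ 2 by omega)).trans (commutator_le.2 fun a _ b _ => ?_))
    exact mem_bot.2 (commutatorElement_eq_one_iff_mul_comm.2 (ab.is_comm.comm a b))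

end Cfsg.Agent.S3903
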