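import Cfsg.Statements.S4074
import Cfsg.Agent.H1.Misc1

set_option autoImplicit false
open Cfsg

namespace Cfsg.Agent.S4074

section
open Subgroup CfsgH2 DihedralGroup
open CfsgH1 hiding card_inf_mul_relIndex card_lt_of_lt card_lt_of_ne_top card_map_mul_card_inf_ker card_mul_relIndex card_subgroupOf card_sup_dvd card_sup_mul_card_inf exists_card_prime_le isNilpotent_map isNilpotent_of_le isPGroup_pCore isSolvable_map isSolvable_of_le le_pCore le_pPrimeCore relIndex_map_dvd
open scoped CfsgH1
open scoped commutatorElement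

/-- The elements whose index vanishes modulo `d`. -/
def D {n d : ℕ} (h : d ∣ n) : Subgroup (DihedralGroup n) where
  carrier := {g | ∃ i, ZMod.castHom h (ZMod d) i = 0 ∧ (g = r i ∨ g = sr i)}
  one_mem' := ⟨0, map_zero _, .inl rfl⟩
  mul_mem' := by
    rintro _ _ ⟨i, a, rfl | rfl⟩ ⟨j, b, rfl | rfl⟩
    exacts [⟨i + j, by rw [map_add, a, b, add_zero], .inl rfl⟩, ⟨j - i, by rw [map_sub, a, b, sub_zero], .inr rfl⟩,
      ⟨i + j, by rw [map_add, a, b, add_zero], .inr rfl⟩, ⟨j - i, by rw [map_sub, a, b, sub_zero], .inl rfl⟩]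
  inv_mem' := by
    rintro _ ⟨i, a, rfl | rfl⟩
    exacts [⟨-i, by rw [map_neg, a, neg_zero], .inl rfl⟩, ⟨i, a, .inr rfl⟩]

theorem r_mem {n d k : ℕ} (h : d ∣ n) : r (k : ZMod n) ∈ D h ↔ d ∣ k :=
  ⟨fun ⟨i, a, b⟩ => by
    obtain rfl : (k : ZMod n) = i := by simpa using b
    rwa [map_natCast, ZMod.natCast_eq_zero_iff] at a, fun a => ⟨_, by rwa [map_natCast, ZMod.natCast_eq_zero_iff], .inl rfl⟩⟩

theorem ncomm {n d : ℕ} (h : d ∣ n) (h2 : ¬ n ∣ d + d) : ¬ IsMulCommutative (D h) := fun e => h2 (by
  have := comm_of_isMulComm e ((r_mem h).2 dvd_rfl) ⟨0, map_zero _, .inr rfl⟩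
  rw [← ZMod.natCast_eq_zero_iff]
  simp at this
  push_cast
  linear_combination -this)

theorem refl {n : ℕ} {H : Subgroup (DihedralGroup n)} (h : ¬ H ≤ zpowers (r 1)) [NeZero n] : ∃ i, sr i ∈ H := by
  by_contra! e
  refine h fun g hg => ?_
  rcases g with i | i
  · exact ⟨i.val, by simp⟩
  · exact absurd hg (e i)

end

/-- For n > 2, every non-abelian subgroup of the dihedral group of order 2n is self-normalizing if and only if n = 4 or n is odd. -/
theorem result (n : ℕ) (hn : 2 < n) :
    (∀ H : Subgroup (DihedralGroup n), ¬ IsMulCommutative H → Subgroup.normalizer (H : Set (DihedralGroup n)) = H) ↔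
    (n = 4 ∨ Odd n) := by
  open Subgroup CfsgH2 DihedralGroup in
  open CfsgH1 hiding card_inf_mul_relIndex card_lt_of_lt card_lt_of_ne_top card_map_mul_card_inf_ker card_mul_relIndex card_subgroupOf card_sup_dvd card_sup_mul_card_inf exists_card_prime_le isNilpotent_map isNilpotent_of_le isPGroup_pCore isSolvable_map isSolvable_of_le le_pCore le_pPrimeCore relIndex_map_dvd in
  open scoped CfsgH1 in
  open scoped commutatorElement in
  · have : NeZero n := ⟨by omega⟩
    refine ⟨fun h => by_contra fun e => ?_, fun h H hH => ?_⟩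
    · obtain ⟨e1, e2⟩ := not_or.1 e
      have h2 := (Nat.not_odd_iff_even.1 e2).two_dvd
      refine absurd ((r_mem (k := 1) h2).1 ((h _ (ncomm h2 fun a => ?_)).le (mem_norm_of_conj ?_))) (by decide)
      · have := Nat.le_of_dvd (by decide) a
        interval_cases n <;> omega
      rintro _ ⟨i, a, rfl | rfl⟩
      · exact ⟨i, a, .inl (by simp)⟩
      · exact ⟨i - 1 - 1, by rw [map_sub, map_sub, a, map_one]; decide, .inr (by simp [sub_eq_add_neg])⟩
    rcases h with rfl | ⟨k, h⟩
    · obtain ⟨k, hk, e⟩ := (Nat.dvd_prime_pow Nat.prime_two (m := 3)).1 (nat_card (n := 4) ▸ H.card_subgroup_dvd_card)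
      obtain rfl := eq_top_of_card_eq H (by
        rw [e, nat_card, show k = 3 from hk.eq_of_not_lt fun a => hH (isMulComm_of_card_dvd_sq (p := 2) (e ▸ pow_dvd_pow 2 (by omega)))]; rfl)
      exact norm_top
    obtain ⟨i, hi⟩ := refl fun a => hH (isMulComm_of_le inferInstance a)
    have t : ∀ j, r j ∈ N[H] → r j ∈ H := fun j a => by
      have := pow_mem (mul_mem (conj_mem_of_norm a hi) hi) (k + 1)
      have e : ((k + 1 : ℕ) : ZMod n) * 2 = 1 := by
        have := ZMod.natCast_self n
        rw [congrArg (Nat.cast : ℕ → ZMod n) h] at this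
        push_cast at this ⊢
        linear_combination this
      convert this using 1
      simp only [inv_r, r_mul_sr, sr_mul_r, sr_mul_sr, r_pow, r.injEq]
      linear_combination -j * e
    refine le_antisymm (fun g hg => ?_) le_normalizer
    rcases g with j | j
    · exact t j hg
    · simpa using mul_mem (t _ (mul_mem hg (le_normalizer hi))) hi

end Cfsg.Agent.S4074
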