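import Cfsg.Statements.S3920
import Cfsg.Agent.H1.Misc1
import Cfsg.Agent.S4074

set_option autoImplicit false
open Cfsg

namespace Cfsg.Agent.S3920

/-- Say that a group has self-centralizing non-cyclic subgroups when every non-cyclic subgroup H satisfies C_G(H) ≤ H. For n ≥ 3, the dihedral group of order 2n has self-centralizing non-cyclic subgroups if and only if n is odd or a power of 2. -/
theorem result (n : ℕ) (hn : 3 ≤ n) : (∀ H : Subgroup (DihedralGroup n), ¬ IsCyclic ↥H → Subgroup.centralizer (H : Set (DihedralGroup n)) ≤ H) ↔ (Odd n ∨ ∃ k : ℕ, n = 2 ^ k) := by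
  open Subgroup CfsgH2 DihedralGroup Cfsg.Agent.S4074 in
  open CfsgH1 hiding card_inf_mul_relIndex card_lt_of_lt card_lt_of_ne_top card_map_mul_card_inf_ker card_mul_relIndex card_subgroupOf card_sup_dvd card_sup_mul_card_inf exists_card_prime_le isNilpotent_map isNilpotent_of_le isPGroup_pCore isSolvable_map isSolvable_of_le le_pCore le_pPrimeCore relIndex_map_dvd in
  open scoped CfsgH1 in
  open scoped commutatorElement in
  · have : NeZero n := ⟨by omega⟩
    refine ⟨fun h => ?_, fun h H hH c hc => ?_⟩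
    · obtain ⟨a, m, hm, rfl⟩ := Nat.exists_eq_two_pow_mul_odd (NeZero.ne n)
      rcases a with _ | a
      · exact .inl (by simpa)
      refine .inr ⟨a + 1, by_contra fun e => ?_⟩
      have p : 0 < 2 ^ a := by positivity
      have := (r_mem (k := 2 ^ a * m) (dvd_mul_right _ m)).1 (h _ (fun c => ncomm (dvd_mul_right _ m) (fun b => ?_) c.isMulCommutative) ?_)
      · exact hm.not_two_dvd_nat (Nat.dvd_of_mul_dvd_mul_left p this)
      · have := Nat.le_of_dvd two_pos (Nat.dvd_of_mul_dvd_mul_left (by positivity) (mul_two (2 ^ (a + 1)) ▸ b))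
        interval_cases m <;> simp_all [Nat.odd_iff]
      have z : ((2 ^ a * m : ℕ) : ZMod (2 ^ (a + 1) * m)) * 2 = 0 := by
        rw [← ZMod.natCast_self (2 ^ (a + 1) * m)]; push_cast; ring
      rintro _ ⟨i, -, rfl | rfl⟩
      · simp [add_comm]
      · simp only [sr_mul_r, r_mul_sr, sr.injEq]; linear_combination z
    obtain ⟨i, hi⟩ := S4074.refl fun a => hH (isCyclic_of_le a)
    obtain ⟨j, hj, j0⟩ : ∃ j, r j ∈ H ∧ j ≠ 0 := by
      by_contra! e
      refine hH (isCyclic_of_le (show H ≤ zpowers (sr i) from fun g hg => ?_))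
      rcases g with j | j
      · exact e j hg ▸ one_mem _
      · exact sub_eq_zero.1 (e _ (mul_mem hi hg)) ▸ mem_zpowers _
    have t : ∀ k, k + k = 0 → r k ∈ H := fun k a => by
      refine (eq_or_ne k 0).elim (· ▸ one_mem _) fun k0 => ?_
      have o : orderOf (r k) = 2 := orderOf_eq_prime (by simp [sq, a]) fun e => k0 (r.inj e)
      have z : ∀ l : ZMod n, r l ∈ zpowers (r 1) := fun l => ⟨l.val, by simp⟩
      rcases h with h | ⟨e, h⟩
      · exact absurd (o ▸ orderOf_dvd_of_mem (z k)) (by rw [Nat.card_zpowers, orderOf_r_one]; exact h.not_two_dvd_nat)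
      have q : IsPGroup 2 (zpowers (r (1 : ZMod n))) := .of_card (by rw [Nat.card_zpowers, orderOf_r_one, h])
      obtain ⟨x, x1, x2⟩ := exists_prime_order_mem Nat.prime_two (dvd_card_of_pgroup (q.to_le (zpowers_le.2 (z j))) fun e => j0 (r.inj (zpowers_eq_bot.1 e)))
      exact eq_of_orderOf_two inferInstance (zpowers_le.2 (z j) x1) (z k) x2 o ▸ zpowers_le.2 hj x1
    have := hc _ hi
    rcases c with k | k
    · exact t k (by simp at this; linear_combination this)
    · simpa using mul_mem hi (t (k - i) (by simp at this; linear_combination this))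

end Cfsg.Agent.S3920
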