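import Cfsg.Statements.S3921
import Mathlib
import Cfsg.Agent.L0.NCS2

set_option autoImplicit false
open Cfsg

namespace Cfsg.Agent.S3921

open Subgroup CfsgH2 CfsgL0

/-- Say that a group has self-centralizing non-cyclic subgroups when every non-cyclic subgroup H satisfies C_G(H) ≤ H. A non-abelian finite simple group has self-centralizing non-cyclic subgroups if and only if it is isomorphic to PSL₂(q) with q = 4, q = 9, or q a prime of the form 2^k + 1 or 2^k − 1. -/
theorem result {G : Type*} [Group G] [Finite G] [IsSimpleGroup G] (hna : ¬ IsMulCommutative G) :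
    (∀ H : Subgroup G, ¬ IsCyclic ↥H → Subgroup.centralizer (H : Set G) ≤ H) ↔ ∃ (F : Type) (_ : Field F) (_ : Fintype F),
      (Fintype.card F = 4 ∨ Fintype.card F = 9 ∨ ((Fintype.card F).Prime ∧ ∃ k : ℕ, Fintype.card F = 2 ^ k + 1 ∨ Fintype.card F = 2 ^ k - 1)) ∧
      Nonempty (G ≃* Matrix.ProjectiveSpecialLinearGroup (Fin 2) F) := by
  refine ⟨ncs_main hna, fun ⟨F, _, _, hF, ⟨e⟩⟩ H n g hg => ?_⟩
  obtain ⟨x, hx, k⟩ := ncs_psl hF (H.map e.toMonoidHom) (fun c => n ((inj_isCyclic e.injective).1 c))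
    (show e g ∈ _ from mem_centralizer_iff.2 (by
      rintro _ ⟨y, hy, rfl⟩
      simpa using congrArg e (mem_centralizer_iff.1 hg y hy)))
  exact e.injective k ▸ hx

end Cfsg.Agent.S3921
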