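import Cfsg.Statements.S4001
import Mathlib
import Cfsg.Agent.H9.Tf1
import Cfsg.Agent.S3634

set_option autoImplicit false
open Cfsg

namespace Cfsg.Agent.S4001

/-- Let G be a 2-Frobenius group: it has normal subgroups H < K with K a Frobenius group with kernel H and G/H a Frobenius group with kernel K/H. Then G is solvable; K/H has odd order coprime to the order of H and to the order of G/K (it is the image of an odd-order Hall subgroup); G/K is cyclic; and the prime graph of G has exactly two connected components, both complete: for distinct primes p, q dividing the order of G, G has an element of order pq exactly when p and q either both divide the order of K/H or both do not. -/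
theorem result {G : Type*} [Group G] [Finite G] (H K : Subgroup G) [H.Normal] [K.Normal] (hlt : H < K)
    (hK : ∃ C : Subgroup ↥K, Cfsg.IsFrobeniusComplement C ∧ Cfsg.frobeniusKernel C = (H.subgroupOf K : Set ↥K))
    (hGH : ∃ C : Subgroup (G ⧸ H), Cfsg.IsFrobeniusComplement C ∧ Cfsg.frobeniusKernel C = (K.map (QuotientGroup.mk' H) : Set (G ⧸ H))) :
    Group.IsSolvable G ∧ Odd (Nat.card (↥K ⧸ H.subgroupOf K)) ∧
      Nat.Coprime (Nat.card (↥K ⧸ H.subgroupOf K)) (Nat.card ↥H * Nat.card (G ⧸ K)) ∧ IsCyclic (G ⧸ K) ∧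
      ∀ p q : ℕ, p.Prime → q.Prime → p ≠ q → p ∣ Nat.card G → q ∣ Nat.card G →
        ((∃ g : G, orderOf g = p * q) ↔ (p ∣ Nat.card (↥K ⧸ H.subgroupOf K) ↔ q ∣ Nat.card (↥K ⧸ H.subgroupOf K))) := by
  open Subgroup Cfsg CfsgH2 Function in
  open scoped commutatorElement in
  obtain ⟨C, f1⟩ := (CfsgMC.frob_sub hlt.le).2 (hK.imp fun C h => CfsgH1.frob_top_iff.2 h)
  obtain ⟨D, f2⟩ := hGH.imp fun C h => CfsgH1.frob_top_iff.2 h
  have kf : (QuotientGroup.mk' H).ker = H := QuotientGroup.ker_mk' H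
  have sf := QuotientGroup.mk'_surjective H
  obtain ⟨od, cC, oK, cK, cD⟩ := CfsgMC.tf_main f1 (by rw [kf]; exact inf_eq_right.2 hlt.le) f2
  have e1 : Nat.card (K ⧸ H.subgroupOf K) = Nat.card C := f1.relIndex_ker
  have e2 : Nat.card (G ⧸ K) = Nat.card D := by
    rw [← f2.relIndex_ker, relIndex_top_right, K.index_map_eq sf (kf.le.trans hlt.le)]; rfl
  have nH := CfsgH3.frob_nilpotent f1
  have c1 := f1.coprime
  have c2 := f2.coprime
  rw [oK] at c2
  have oG : Nat.card G = Nat.card H * Nat.card C * Nat.card D := by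
    rw [← f1.card, ← e2]; exact K.card_mul_index.symm
  have ne : ∀ p q : ℕ, p.Prime → q.Prime → p ≠ q → p ∣ Nat.card C → ¬ q ∣ Nat.card C → ∀ g : G, orderOf g ≠ p * q :=
    fun p q hp hq pq a b g e => by
      have o1 : orderOf (g ^ q) = p := by rw [orderOf_pow_of_dvd hq.ne_zero (e ▸ dvd_mul_left _ _), e, Nat.mul_div_cancel _ hq.pos]
      have o2 : orderOf (g ^ p) = q := by rw [orderOf_pow_of_dvd hp.ne_zero (e ▸ dvd_mul_right _ _), e, Nat.mul_div_cancel_left _ hp.pos]
      have cm : Commute (g ^ p) (g ^ q) := (Commute.refl g).pow_pow _ _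
      have xH : g ^ q ∉ H := fun z => hp.one_lt.ne' (Nat.eq_one_of_dvd_coprimes c1 a (o1 ▸ orderOf_dvd_of_mem z))
      have xK := f2.mem_ker_of_coprime (mem_top (QuotientGroup.mk' H (g ^ q)))
        ((c2.symm.coprime_dvd_left a).coprime_dvd_left (o1 ▸ orderOf_map_dvd _ _))
      have xK' : g ^ q ∈ K := by
        have := mem_comap.2 xK
        rwa [comap_map_eq, kf, sup_of_le_left hlt.le] at this
      have yH : g ^ p ∉ H := fun z => hq.one_lt.ne' (by
        rw [← o2, mem_bot.1 ((f1.fpf' xK' xH).le (mem_inf.2 ⟨z, mem_centralizer_singleton_iff.2 cm⟩)), orderOf_one])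
      have yK := f2.cent_le_ker xK (fun z => xH (kf.le z)) (mem_inf.2 ⟨mem_top (QuotientGroup.mk' H (g ^ p)),
        mem_centralizer_singleton_iff.2 (cm.map _)⟩)
      haveI := Fact.mk hq
      exact b (oK ▸ orderOf_eq_prime (p := q) (by rw [← map_pow, ← o2, pow_orderOf_eq_one, map_one])
        (fun z => yH (kf.le z)) ▸ orderOf_dvd_of_mem yK)
  have mix : ∀ p q : ℕ, p.Prime → q.Prime → p ≠ q → ¬ p ∣ Nat.card C → ¬ q ∣ Nat.card C → p ∣ Nat.card H →
      q ∣ Nat.card D → ∃ g : G, orderOf g = p * q := fun p q hp hq pq a b c d => by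
    obtain ⟨r, hr, r1⟩ := Nat.exists_prime_and_dvd (fun z => f1.comp_ne (card_eq_one.1 z))
    have n1 : r ≠ p := fun z => a (z ▸ r1)
    have n2 : r ≠ q := fun z => b (z ▸ r1)
    rcases Cfsg.Agent.S3634.result H K hlt.le p r q hp hr hq n1.symm pq n2 c
      (by rw [f1.card, Nat.mul_div_cancel_left _ Nat.card_pos]; exact r1)
      (by rw [oG, ← f1.card, Nat.mul_div_cancel_left _ Nat.card_pos]; exact d) with ⟨g, z⟩ | z | ⟨g, z⟩
    · exact absurd (z.trans (mul_comm _ _)) (ne r p hr hp n1 r1 a g)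
    · exact z
    · exact absurd z (ne r q hr hq n2 r1 b g)
  rw [e1]
  refine ⟨?_, Nat.odd_iff.2 (Nat.two_dvd_ne_zero.1 od), e2 ▸ Nat.Coprime.mul_right c1 c2.symm, ?_,
    fun p q hp hq pq a b => ⟨fun ⟨g, z⟩ => ⟨fun c => by_contra fun d => ne p q hp hq pq c d g z,
      fun c => by_contra fun d => ne q p hq hp pq.symm c d g (z.trans (mul_comm _ _))⟩, fun z => ?_⟩⟩
  · haveI := isSolvable_of_nilpotent nH
    haveI : Group.IsSolvable (G ⧸ H) := isSolvable_top_iff.1 (f2.sup ▸ sup_comm D _ ▸ isSolvable_sup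
      (isSolvable_of_comm inferInstance) (isSolvable_of_comm inferInstance) f2.norm)
    exact CfsgH1.isSolvable_of_ker_of_quotient H
  · refine isCyclic_of_surjective ((QuotientGroup.map H K (MonoidHom.id G) hlt.le).comp D.subtype) fun y => ?_
    obtain ⟨y, rfl⟩ := QuotientGroup.mk'_surjective K y
    obtain ⟨_, ⟨k, k1, rfl⟩, d, d1, z⟩ := (mem_sup_of_norm' f2.norm).1 (f2.sup.ge (mem_top (QuotientGroup.mk' H y)))
    refine ⟨⟨d, d1⟩, ?_⟩
    have := congrArg (QuotientGroup.map H K (MonoidHom.id G) hlt.le) z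
    rw [map_mul, show QuotientGroup.map H K (MonoidHom.id G) hlt.le (QuotientGroup.mk' H k) = 1 from
      (QuotientGroup.eq_one_iff k).2 k1, one_mul] at this
    exact this
  have cop := (Nat.coprime_primes hp hq).2 pq
  by_cases c : p ∣ Nat.card C
  · obtain ⟨g, hg⟩ := IsCyclic.exists_ofOrder_eq_natCard (α := C)
    exact CfsgMC.ex_ord (g := (g : G)) (by rw [orderOf_coe, hg]; exact cop.mul_dvd_of_dvd_of_dvd c (z.1 c))
  have d : ¬ q ∣ Nat.card C := fun d => c (z.2 d)
  rw [oG] at a b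
  rcases (hp.dvd_mul.1 a).imp_left fun a => (hp.dvd_mul.1 a).resolve_right c with a | a <;>
  rcases (hq.dvd_mul.1 b).imp_left fun b => (hq.dvd_mul.1 b).resolve_right d with b | b
  · obtain ⟨x, x1, x2⟩ := exists_prime_order_mem hp a
    obtain ⟨y, y1, y2⟩ := exists_prime_order_mem hq b
    exact CfsgMC.ex_mul (nil_le_cent nH (zpowers_le.2 y1) (zpowers_le.2 x1) (by
      rw [Nat.card_zpowers, Nat.card_zpowers, x2, y2]; exact cop.symm) (mem_zpowers y) x (mem_zpowers x)) cop
      x2.symm.dvd y2.symm.dvd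
  · exact mix p q hp hq pq c d a b
  · exact mul_comm q p ▸ mix q p hq hp pq.symm d c b a
  · obtain ⟨g, hg⟩ := IsCyclic.exists_ofOrder_eq_natCard (α := D)
    obtain ⟨y, hy⟩ := sf g
    exact CfsgMC.ex_ord (g := y) (Dvd.dvd.trans (by
      rw [hy, orderOf_coe, hg]; exact cop.mul_dvd_of_dvd_of_dvd a b) (orderOf_map_dvd (QuotientGroup.mk' H) y))

end Cfsg.Agent.S4001
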