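import Cfsg.Statements.S4002
import Mathlib
import Cfsg.Agent.S3633
import Cfsg.Agent.H9.Tb8

set_option autoImplicit false
open Cfsg

namespace Cfsg.Agent.S4002

section
open Subgroup Cfsg CfsgH2 Function CfsgCP CfsgTB
open scoped commutatorElement

theorem aux {G : Type*} [Group G] [Finite G] {n : ℕ} (h : Set.range (orderOf : G → ℕ) = {k : ℕ | 1 ≤ k ∧ k ≤ n})
    {a b c : ℕ} (ha : a.Prime) (hb : b.Prime) (hc : c.Prime) (h1 : a < b) (h2 : b < c) (h3 : c ≤ n)
    (h4 : n < a * b) : ¬ Group.IsSolvable G := by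
  have k : ∀ r, r.Prime → r ≤ n → r ∣ Nat.card G := fun r x y =>
    let ⟨g, e⟩ := h.ge ⟨x.pos, y⟩; e ▸ orderOf_dvd_natCard g
  refine (Cfsg.Agent.S3633.result {a, b, c} (by rw [Finset.card_eq_three.2 ⟨a, b, c, h1.ne, (h1.trans h2).ne,
    h2.ne, rfl⟩]) ⟨?_, fun r x s y z w => ?_⟩ ⊥ inferInstance).2
  · simp only [Finset.mem_insert, Finset.mem_singleton]
    rintro r (rfl | rfl | rfl)
    exacts [⟨ha, k _ ha (by omega)⟩, ⟨hb, k _ hb (by omega)⟩, ⟨hc, k _ hc h3⟩]
  have := (h.le w).2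
  simp only [Finset.mem_insert, Finset.mem_singleton] at x y
  rcases x with rfl | rfl | rfl <;> rcases y with rfl | rfl | rfl <;> first | exact z rfl | nlinarith

end

/-- If the set of element orders of a finite group G is {1, 2, …, n} with n ≥ 7, then G is not solvable. -/
theorem result {G : Type*} [Group G] [Finite G] (n : ℕ) (hn : 7 ≤ n) (h : Set.range (orderOf : G → ℕ) = {k : ℕ | 1 ≤ k ∧ k ≤ n}) : ¬ Group.IsSolvable G := by
  open Subgroup Cfsg CfsgH2 Function CfsgCP CfsgTB in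
  open scoped commutatorElement in
  by_cases a : n < 15
  · exact aux h Nat.prime_three Nat.prime_five Nat.prime_seven (by decide) (by decide) hn a
  by_cases b : n < 35
  · exact aux h Nat.prime_five Nat.prime_seven Nat.prime_eleven (by decide) (by decide) (by omega) b
  obtain ⟨p, p1, p2, p3⟩ := Nat.exists_prime_lt_and_le_two_mul (n / 8) (by omega)
  obtain ⟨q, q1, q2, q3⟩ := Nat.exists_prime_lt_and_le_two_mul (2 * (n / 8)) (by omega)
  obtain ⟨r, r1, r2, r3⟩ := Nat.exists_prime_lt_and_le_two_mul (4 * (n / 8)) (by omega)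
  refine aux h p1 q1 r1 (by omega) (by omega) (by omega) ?_
  have : 4 ≤ n / 8 := by omega
  have : n < 8 * (n / 8) + 8 := by omega
  nlinarith [Nat.mul_le_mul p2 q2]

end Cfsg.Agent.S4002
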