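import Cfsg.Statements.S4015
import Cfsg.Agent.H5.Wr6

set_option autoImplicit false
open Cfsg

namespace Cfsg.Agent.S4015

open CfsgH5 CfsgH5.Wr Module

/-- Let p be an odd prime, F a finite field with q elements where p does not divide q, and e the multiplicative order of q modulo p. Let n ≥ e and write w = ⌊n/e⌋ and k = ⌊log_p w⌋. Then a Sylow p-subgroup of GL(n, F) has derived length exactly k + 1: its (k+1)-st derived subgroup is trivial and its k-th is not. -/
theorem result (p : ℕ) [Fact p.Prime] (hp : p ≠ 2) (F : Type*) [Field F] [Fintype F] (q : ℕ) (hq : Fintype.card F = q) (hpq : ¬ p ∣ q) (n : ℕ) (hn : orderOf (q : ZMod p) ≤ n) (P : Sylow p (Matrix.GeneralLinearGroup (Fin n) F)) : derivedSeries ↥(P : Subgroup (Matrix.GeneralLinearGroup (Fin n) F)) (Nat.log p (n / orderOf (q : ZMod p)) + 1) = ⊥ ∧ derivedSeries ↥(P : Subgroup (Matrix.GeneralLinearGroup (Fin n) F)) (Nat.log p (n / orderOf (q : ZMod p))) ≠ ⊥ := by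
  subst hq
  have hp' : p.Prime := Fact.out
  have h1 : 1 < Fintype.card F := Fintype.one_lt_card
  set e := orderOf (Fintype.card F : ZMod p)
  have q0 : (Fintype.card F : ZMod p) ≠ 0 := mt (ZMod.natCast_eq_zero_iff _ _).1 hpq
  have e0 : 0 < e := (isOfFinOrder_iff_pow_eq_one.2 ⟨p - 1, by have := hp'.one_lt; omega, ZMod.pow_card_sub_one_eq_one q0⟩).orderOf_pos
  have dv : ∀ i, p ∣ Fintype.card F ^ i - 1 ↔ e ∣ i := fun i => by
    rw [orderOf_dvd_iff_pow_eq_one, ← ZMod.natCast_eq_zero_iff, Nat.cast_sub (Nat.one_le_pow _ _ h1.le), sub_eq_zero]; simp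
  obtain ⟨r, hr⟩ := CharP.exists F
  have : Fact r.Prime := ⟨CharP.char_is_prime F r⟩
  have : NeZero e := ⟨e0.ne'⟩
  let E := FiniteField.Extension F r e
  have cE : Nat.card Eˣ = Fintype.card F ^ e - 1 := by
    rw [Nat.card_units, FiniteField.natCard_extension, Nat.card_eq_fintype_card]
  have rE : finrank F E = e := FiniteField.finrank_extension F r e
  obtain ⟨D⟩ : Nonempty (Sylow p Eˣ) := inferInstance
  obtain ⟨T⟩ : Nonempty (Sylow p (Equiv.Perm (Fin (n / e)))) := inferInstance
  have m0 : 1 ≤ n / e := Nat.div_pos hn e0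
  let j := glE (F := F) (V := Fin n → F) (n := n) (by simp)
  obtain ⟨φ, hφ⟩ := gl_emb (F := F) (V := Fin (n / e) → E) (U := Fin n → F) (by
    simpa [finrank_pi_fintype, rE] using Nat.div_mul_le_self n e)
  obtain ⟨ψ⟩ := syl_equiv (φ := j.toMonoidHom.comp (φ.comp (lin.comp (map ((DistribMulAction.toModuleAut F E).comp D.1.subtype)))))
    (j.injective.comp (hφ.comp (lin_inj.comp (map_inj (uH_inj.comp D.1.subtype_injective))))) (pg_K D.2 T.2) (by
      rw [← Nat.card_congr j.toEquiv, card_gl, v_K, v_syl, cE, Nat.card_eq_fintype_card, finrank_fin_fun,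
        v_go (a := padicValNat p (Fintype.card F ^ e - 1)) (b := 0) h1 hpq (fun i hi => ?_)
          (fun i hi => padicValNat.eq_zero_of_not_dvd (mt (dv i).1 hi)) e0]
      · simp
      · simpa [pow_mul] using padicValNat.pow_sub_pow (hp'.odd_of_ne_two hp) (Nat.one_lt_pow e0.ne' h1) ((dv e).2 dvd_rfl)
          (mt hp'.dvd_of_dvd_pow hpq) hi) P
  refine ⟨ds_inj (φ := ψ.symm.toMonoidHom) ψ.symm.injective (ds_K (b := 1) ?_ (S4014.result p _ m0 T).1), ?_⟩
  · rw [derivedSeries_one]; exact commutator_eq_bot _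
  have := finite_linearEquiv (F := F) (V := E)
  have h0 : DL p 0 Eˣ := ⟨D.1, D.2, fun k => by
    have := D.dvd_card_of_dvd_card (cE ▸ (dv e).2 dvd_rfl)
    rw [derivedSeries_zero] at k
    rw [← Subgroup.card_top, k, Subgroup.card_bot] at this
    exact hp'.not_dvd_one this⟩
  have := (dl_gl (F := F) (V := E) (by rw [rE]; exact e0) (h0.map uH_inj) (Nat.log p (n / e)) n (by
    rw [rE]; exact (Nat.mul_le_mul_right _ (Nat.pow_log_le_self p (by omega))).trans (Nat.div_mul_le_self n e))).map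
      (φ := j.toMonoidHom) j.injective
  rw [zero_add] at this
  exact this.syl P

end Cfsg.Agent.S4015
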