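import Cfsg.Statements.S4018
import Cfsg.Agent.H3.Hv1
import Cfsg.Agent.H3.Complete
import Cfsg.Agent.H2.Misc

set_option autoImplicit false
open Cfsg

namespace Cfsg.Agent.S4018
open Subgroup CfsgH2

theorem friend {V : Type*} [Fintype V] [DecidableEq V] (r : V → V → Prop) [DecidableRel r]
    (hs : ∀ x y, r x y → r y x) (hi : ∀ x, ¬ r x x) (d : ℕ)
    (hd : ∀ x, (Finset.univ.filter (r x)).card = d)
    (hu : ∀ x y, x ≠ y → (Finset.univ.filter (fun z => r x z ∧ r y z)).card = 1) [Nonempty V] :
    Fintype.card V = 1 ∨ Fintype.card V = 3 := by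
  have hsq : ∀ (R : Type) [CommRing R] (x y : V),
      ((Matrix.of fun a b => if r a b then (1 : R) else 0) * (Matrix.of fun a b => if r a b then (1 : R) else 0)) x y =
        if x = y then (d : R) else 1 := by
    intro R _ x y
    rw [Matrix.mul_apply]
    have : ∀ z, (Matrix.of fun a b => if r a b then (1 : R) else 0) x z *
        (Matrix.of fun a b => if r a b then (1 : R) else 0) z y = if r x z ∧ r y z then (1 : R) else 0 := by
      intro z
      simp only [Matrix.of_apply]
      by_cases h1 : r x z <;> by_cases h2 : r z y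
      · simp [h1, h2, hs _ _ h2]
      · have : ¬ r y z := fun h => h2 (hs _ _ h)
        simp [h1, h2, this]
      · simp [h1]
      · simp [h1]
    rw [Finset.sum_congr rfl fun z _ => this z, Finset.sum_boole]
    split_ifs with h
    · subst h
      simp only [and_self]
      rw [hd]
    · rw [hu x y h]; simp
  have hrow : ∀ (R : Type) [CommRing R] (x : V),
      ∑ z, (Matrix.of fun a b => if r a b then (1 : R) else 0) x z = d := by
    intro R _ x
    simp only [Matrix.of_apply]
    rw [Finset.sum_boole, hd]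
  have hcard : (Fintype.card V : ℤ) + d = d ^ 2 + 1 := by
    obtain ⟨x⟩ := ‹Nonempty V›
    have h1 : ∑ y, ((Matrix.of fun a b => if r a b then (1 : ℤ) else 0) * (Matrix.of fun a b => if r a b then (1 : ℤ) else 0)) x y = d ^ 2 := by
      simp only [Matrix.mul_apply]
      rw [Finset.sum_comm]
      simp only [← Finset.mul_sum, hrow]
      rw [← Finset.sum_mul, hrow]; ring
    simp only [hsq] at h1
    have h2 : ∑ y, (if x = y then (d : ℤ) else 1) = ∑ y, ((if x = y then (d : ℤ) - 1 else 0) + 1) :=
      Finset.sum_congr rfl fun y _ => by split_ifs <;> ring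
    rw [h2, Finset.sum_add_distrib, Finset.sum_ite_eq] at h1
    simp at h1
    linarith
  by_cases hd0 : d = 0
  · left; subst hd0; simp at hcard; exact hcard
  by_cases hd2 : d = 2
  · right; subst hd2; have : (Fintype.card V : ℤ) = 3 := by push_cast at hcard; linarith
    exact_mod_cast this
  exfalso
  obtain ⟨p, hp, hpd⟩ := Nat.exists_prime_and_dvd (n := d - 1) (by omega)
  haveI : Fact p.Prime := ⟨hp⟩
  have hd1 : (d : ZMod p) = 1 := by
    have : ((d - 1 : ℕ) : ZMod p) = 0 := (ZMod.natCast_eq_zero_iff _ _).2 hpd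
    rw [Nat.cast_sub (by omega)] at this
    simpa [sub_eq_zero] using this
  set A : Matrix V V (ZMod p) := Matrix.of fun a b => if r a b then 1 else 0 with hA
  have hJ : ∀ k, A ^ (k + 2) = Matrix.of fun _ _ => 1 := by
    intro k
    induction k with
    | zero =>
      ext x y
      rw [zero_add, pow_two, hA, hsq, hd1]; simp
    | succ k ih =>
      ext x y
      rw [show k + 1 + 2 = (k + 2) + 1 by ring, pow_succ', ih, Matrix.mul_apply]
      simp only [Matrix.of_apply, mul_one]
      have := hrow (ZMod p) x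
      rw [hd1] at this
      exact this
  have h1 := ZMod.trace_pow_card (p := p) A
  have h2 : A.trace = 0 := by
    simp [Matrix.trace, hA, hi]
  obtain ⟨k, hk⟩ : ∃ k, p = k + 2 := ⟨p - 2, by have := hp.two_le; omega⟩
  rw [h2, zero_pow hp.ne_zero] at h1
  have h3 : A ^ p = Matrix.of fun _ _ => 1 := by rw [← hJ k, ← hk]
  rw [h3] at h1
  have h4 : (Fintype.card V : ZMod p) = 0 := by simpa [Matrix.trace] using h1
  have h5 := congrArg (Int.cast : ℤ → ZMod p) hcard
  push_cast at h5
  rw [h4, hd1] at h5
  simp at h5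

theorem cjsq {G : Type*} [Group G] (g : G) {z : G} (h : z * z = 1) : g * z * g⁻¹ * (g * z * g⁻¹) = 1 := by
  rw [conj_mul, h]; simp

theorem cjsq' {G : Type*} [Group G] (g : G) {z : G} (h : z * z = 1) : g⁻¹ * z * g * (g⁻¹ * z * g) = 1 := by
  simpa using cjsq g⁻¹ h

/-- Let G be a finite group with an abelian Sylow 3-subgroup P such that the normalizer of P has order 4·#P, the centralizer C of P has order 2·#P, C meets each of its conjugates by elements outside its normalizer trivially, and every proper subgroup of G of even order has order dividing 4·#P. Then G is not simple. -/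
theorem result {G : Type*} [Group G] [Finite G]
    (P : Sylow 3 G) (hab : IsMulCommutative P)
    (hN : Nat.card (Subgroup.normalizer ((P : Subgroup G) : Set G)) = 4 * Nat.card P)
    (hC : Nat.card (Subgroup.centralizer (P : Set G)) = 2 * Nat.card P)
    (hTI : Cfsg.IsTISubset (Subgroup.centralizer (P : Set G) : Set G))
    (heven : ∀ H : Subgroup G, H ≠ ⊤ → 2 ∣ Nat.card H → Nat.card H ∣ 4 * Nat.card P) :
    ¬ IsSimpleGroup G := by
  intro hsimp
  classical
  haveI : Fact (Nat.Prime 2) := ⟨Nat.prime_two⟩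
  have hn0 : 0 < Nat.card P := Nat.card_pos
  have hnodd : ¬ 2 ∣ Nat.card P := by
    obtain ⟨k, hk⟩ := IsPGroup.iff_card.1 P.isPGroup'
    intro h
    have h' : 2 ∣ 3 ^ k := hk ▸ h
    have := Nat.prime_two.dvd_of_dvd_pow h'
    omega
  change Nat.card C[(P : Subgroup G)] = _ at hC
  change Cfsg.IsTISubset (C[(P : Subgroup G)] : Set G) at hTI
  have hPC : (P : Subgroup G) ≤ C[(P : Subgroup G)] := le_cent_of_comm hab le_rfl
  have hidx : (P : Subgroup G).relIndex C[(P : Subgroup G)] = 2 := by
    have := card_mul_relIndex hPC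
    rw [hC] at this
    exact Nat.eq_of_mul_eq_mul_left hn0 (by rw [mul_comm _ 2]; exact this)
  obtain ⟨t, htC, ht2⟩ := exists_prime_order_mem (H := C[(P : Subgroup G)]) Nat.prime_two (hC ▸ Dvd.intro _ rfl)
  have htt : t * t = 1 := by rw [← pow_two, ← ht2, pow_orderOf_eq_one]
  have ht1 : t ≠ 1 := by rintro rfl; simp at ht2
  have hinvP : ∀ z ∈ (P : Subgroup G), z * z = 1 → z = 1 := by
    intro z hz hzz
    by_contra h
    have : orderOf z = 2 := orderOf_eq_prime (by rw [pow_two, hzz]) h
    exact hnodd (this ▸ orderOf_dvd_of_mem hz)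
  have huniq : ∀ z ∈ C[(P : Subgroup G)], z * z = 1 → z ≠ 1 → z = t := by
    intro z hz hzz hz1
    have h1 : z ∉ (P : Subgroup G) := fun h => hz1 (hinvP z h hzz)
    have h2 : t ∉ (P : Subgroup G) := fun h => ht1 (hinvP t h htt)
    have h3 : z * t ∈ (P : Subgroup G) := by
      have := (mul_mem_iff_of_index_two (H := (P : Subgroup G).subgroupOf C[(P : Subgroup G)]) hidx
        (a := ⟨z, hz⟩) (b := ⟨t, htC⟩)).2 (by simp [mem_subgroupOf, h1, h2])
      exact this
    have h4 := mem_cent_iff.1 htC _ h3
    have h5 : z * t * (z * t) = 1 := by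
      rw [mul_assoc z t t, htt, mul_one] at h4
      rw [mul_assoc, ← h4, hzz]
    have := hinvP _ h3 h5
    rw [mul_eq_one_iff_eq_inv.1 this, eq_comm, eq_inv_iff_mul_eq_one, htt]
  have hNC : N[C[(P : Subgroup G)]] ≤ C1[t] := by
    intro g hg
    have := huniq _ (conj_mem_of_norm hg htC) (cjsq _ htt) (by simpa using ht1)
    rw [mem_centralizer_singleton_iff, ← mul_inv_eq_iff_eq_mul, this]
  have hG4 : 4 * Nat.card P ∣ Nat.card G := hN ▸ card_subgroup_dvd_card _
  have hG2 : Nat.card G ≠ 2 := by
    intro h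
    rw [h] at hG4
    have := Nat.le_of_dvd two_pos hG4
    omega
  have hnab : ∀ x : G, x ≠ 1 → C1[x] ≠ ⊤ := by
    intro x hx h
    have hxc : x ∈ center G := by
      rw [mem_center_iff]; intro g
      exact mem_centralizer_singleton_iff.1 (h.ge (mem_top g))
    rcases hsimp.eq_bot_or_eq_top_of_normal (center G) inferInstance with e | e
    · exact hx (by simpa [e] using hxc)
    · have h1 : C[(P : Subgroup G)] = ⊤ := by
        rw [eq_top_iff]; intro g _
        rw [mem_cent_iff]; intro h _
        exact mem_center_iff.1 (e.ge (mem_top g)) h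
      have h2 : N[(P : Subgroup G)] = ⊤ := top_le_iff.1 (h1.ge.trans (cent_le_norm _))
      rw [h1] at hC
      rw [h2, hC] at hN
      omega
  have hCt : C1[t] = N[(P : Subgroup G)] := by
    have h1 : N[(P : Subgroup G)] ≤ C1[t] := (norm_le_norm_cent _).trans hNC
    have h2 := heven _ (hnab t ht1) (ht2 ▸ orderOf_dvd_of_mem (self_mem_cent1 t))
    exact (eq_of_le_of_card_le h1 (hN ▸ Nat.le_of_dvd (by omega) h2)).symm
  have hidx2 : C[(P : Subgroup G)].relIndex C1[t] = 2 := by
    have := card_mul_relIndex (cent_le_norm (P : Subgroup G))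
    rw [hC, hN, ← hCt] at this
    exact Nat.eq_of_mul_eq_mul_left (n := 2 * Nat.card P) (by omega) (by rw [this]; ring)
  have hconj : ∀ z : G, z * z = 1 → z ≠ 1 → IsConj t z := by
    intro z hzz hz1
    obtain ⟨S, hS, htS⟩ := exists_syl_ge (p := 2) (M := ⊤) (isPGroup_zpowers (k := 1) (x := t) (by simp [pow_two, htt])) le_top
    have hSt : S ≠ ⊤ := by
      rintro rfl
      have h1 : (P : Subgroup G) = ⊥ := eq_bot_of_pgroup_of_not_dvd (p := 2) (hS.pg.to_le le_top) hnodd
      have h2 : C[(P : Subgroup G)] = ⊤ := by rw [h1, cent_bot]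
      have h3 : N[(P : Subgroup G)] = ⊤ := by rw [h1, norm_bot]
      rw [h2] at hC
      rw [h3, hC] at hN
      omega
    have hct : Nat.card (zpowers t) = 2 := by rw [Nat.card_zpowers, ht2]
    have h1 := heven S hSt (hct ▸ card_dvd_of_le htS)
    have h2 : Nat.card S ∣ 4 := (coprime_of_pgroup (p := 2) hS.pg hnodd).dvd_of_dvd_mul_right h1
    have h3 := card_mul_relIndex htS
    rw [hct] at h3
    obtain ⟨g, -, hg⟩ := hS.exists_conj_le (isPGroup_zpowers (k := 1) (x := z) (by simp [pow_two, hzz])) le_top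
    have hgz : g * z * g⁻¹ ∈ S := hg (conj_mem_map_cj (mem_zpowers z))
    have key : ∃ h : G, h * z * h⁻¹ ∈ zpowers t := by
      have h4 : (zpowers t).relIndex S ∣ 2 := by
        rw [← h3] at h2
        exact Nat.dvd_of_mul_dvd_mul_left two_pos h2
      rcases (Nat.dvd_prime Nat.prime_two).1 h4 with e | e
      · exact ⟨g, relIndex_eq_one.1 e hgz⟩
      · by_contra hcon
        push Not at hcon
        have hodd : Odd S.index := by
          have := hS.3
          rw [relIndex_top_right] at this
          exact Nat.odd_iff.2 (by omega)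
        obtain ⟨M, hM, hM2, -⟩ := thompson_transfer hodd e (u := g * z * g⁻¹) (cjsq _ hzz) hgz
          (fun k hk => hcon (k * g) (by simpa [mul_assoc] using hk))
        rcases hsimp.eq_bot_or_eq_top_of_normal M hM with e | e
        · rw [e, index_bot] at hM2; exact hG2 hM2
        · rw [e, index_top] at hM2; omega
    obtain ⟨h, hh⟩ := key
    have := huniq _ (zpowers_le.2 htC hh) (cjsq _ hzz) (by simpa using hz1)
    exact (isConj_iff.2 ⟨h, this⟩).symm
  have hVi : ∀ z : {x : G // IsConj t x}, z.1 * z.1 = 1 ∧ z.1 ≠ 1 := by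
    rintro ⟨z, hz⟩
    obtain ⟨g, rfl⟩ := isConj_iff.1 hz
    exact ⟨cjsq _ htt, by simpa using ht1⟩
  -- products of two neighbours
  have hprod : ∀ g s s' : G, s * s = 1 → s ≠ 1 → s' * s' = 1 → s' ≠ 1 → s ≠ g * t * g⁻¹ → s' ≠ g * t * g⁻¹ →
      s * (g * t * g⁻¹) = (g * t * g⁻¹) * s → s' * (g * t * g⁻¹) = (g * t * g⁻¹) * s' →
      g⁻¹ * (s * s') * g ∈ C[(P : Subgroup G)] := by
    intro g s s' h1 h2 h3 h4 h5 h6 h7 h8
    have a : ∀ s : G, s * s = 1 → s ≠ 1 → s ≠ g * t * g⁻¹ → s * (g * t * g⁻¹) = (g * t * g⁻¹) * s →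
        g⁻¹ * s * g ∈ C1[t] ∧ g⁻¹ * s * g ∉ C[(P : Subgroup G)] := by
      intro s h1 h2 h5 h7
      refine ⟨?_, fun h => h5 ?_⟩
      · rw [← mem_map_cj, ← centralizer_conj]; exact mem_centralizer_singleton_iff.2 h7
      · rw [← huniq _ h (cjsq' _ h1) (by
          intro e; apply h2; have := congrArg (fun y => g * y * g⁻¹) e; simpa [mul_assoc] using this)]
        group
    obtain ⟨a1, a2⟩ := a s h1 h2 h5 h7
    obtain ⟨b1, b2⟩ := a s' h3 h4 h6 h8
    have := (mul_mem_iff_of_index_two (H := C[(P : Subgroup G)].subgroupOf C1[t]) hidx2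
        (a := ⟨_, a1⟩) (b := ⟨_, b1⟩)).2 (iff_of_false a2 b2)
    have e : g⁻¹ * (s * s') * g = g⁻¹ * s * g * (g⁻¹ * s' * g) := by group
    rw [e]; exact this
  haveI : Fintype {x : G // IsConj t x} := Fintype.ofFinite _
  haveI : Nonempty {x : G // IsConj t x} := ⟨⟨t, IsConj.refl t⟩⟩
  have hfr := friend (V := {x : G // IsConj t x}) (fun x y => x ≠ y ∧ x.1 * y.1 = y.1 * x.1)
    (fun x y h => ⟨h.1.symm, h.2.symm⟩) (fun x h => h.1 rfl)
    (Finset.univ.filter (fun y : {x : G // IsConj t x} => (⟨t, IsConj.refl t⟩ : {x : G // IsConj t x}) ≠ y ∧ t * y.1 = y.1 * t)).card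
    (by
      rintro ⟨x, hx⟩
      obtain ⟨g, rfl⟩ := isConj_iff.1 hx
      refine Finset.card_bij' (fun y _ => ⟨g⁻¹ * y.1 * g, y.2.trans (isConj_iff.2 ⟨g⁻¹, by simp⟩)⟩)
        (fun y _ => ⟨g * y.1 * g⁻¹, y.2.trans (isConj_iff.2 ⟨g, rfl⟩)⟩) ?_ ?_ ?_ ?_
      · rintro ⟨y, hy⟩ h
        simp only [Finset.mem_filter, Finset.mem_univ, true_and, ne_eq, Subtype.mk.injEq] at h ⊢
        refine ⟨fun e => h.1 (by rw [e]; group), ?_⟩
        have := congrArg (fun w => g⁻¹ * w * g) h.2
        simpa [mul_assoc] using this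
      · rintro ⟨y, hy⟩ h
        simp only [Finset.mem_filter, Finset.mem_univ, true_and, ne_eq, Subtype.mk.injEq] at h ⊢
        refine ⟨fun e => h.1 (by simpa using e), ?_⟩
        have := congrArg (fun w => g * w * g⁻¹) h.2
        simpa [mul_assoc] using this
      · rintro ⟨y, hy⟩ _; ext; simp [mul_assoc]
      · rintro ⟨y, hy⟩ _; ext; simp [mul_assoc])
    (by
      intro s s' hne
      obtain ⟨hs2, hs1⟩ := hVi s
      obtain ⟨hs2', hs1'⟩ := hVi s'
      have hsi : s.1⁻¹ = s.1 := inv_eq_of_mul_eq_one_right hs2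
      have hsi' : s'.1⁻¹ = s'.1 := inv_eq_of_mul_eq_one_right hs2'
      have hx1 : s.1 * s'.1 ≠ 1 := by
        intro e; apply hne; ext
        rw [mul_eq_one_iff_eq_inv.1 e, hsi']
      rw [Finset.card_eq_one]
      have hex : ∃ z : {x : G // IsConj t x}, (s ≠ z ∧ s.1 * z.1 = z.1 * s.1) ∧ (s' ≠ z ∧ s'.1 * z.1 = z.1 * s'.1) := by
        set x := s.1 * s'.1 with hx
        have i1 : ∀ k : ℕ, s.1 * x ^ k * s.1⁻¹ = (x ^ k)⁻¹ := by
          intro k
          rw [← conj_pow, ← inv_pow]; congr 1
          rw [hx, mul_inv_rev, hsi', ← mul_assoc, hs2, one_mul]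
        have i2 : ∀ k : ℕ, s'.1 * x ^ k * s'.1⁻¹ = (x ^ k)⁻¹ := by
          intro k
          rw [← conj_pow, ← inv_pow]; congr 1
          rw [hx, mul_inv_rev, hsi, mul_assoc, mul_inv_cancel_right, hsi']
        by_cases h2 : 2 ∣ orderOf x
        · obtain ⟨z, hz, hz2⟩ := exists_prime_order_mem (H := zpowers x) Nat.prime_two (by rwa [Nat.card_zpowers])
          obtain ⟨k, rfl⟩ := (mem_zpowers_iff_mem_range_orderOf.1 hz |> Finset.mem_image.1)
            |>.imp fun k h => h.2
          have hzz : x ^ k * x ^ k = 1 := by rw [← pow_two, ← hz2, pow_orderOf_eq_one]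
          have hz1 : x ^ k ≠ 1 := by intro e; rw [e] at hz2; simp at hz2
          have hzi : (x ^ k)⁻¹ = x ^ k := inv_eq_of_mul_eq_one_right hzz
          have hcyc : ¬ (s.1 ∈ zpowers x ∧ s'.1 ∈ zpowers x) := by
            rintro ⟨a, b⟩
            apply hne; ext
            haveI : Fintype (zpowers x) := Fintype.ofFinite _
            have := IsCyclic.card_pow_eq_one_le (α := zpowers x) (n := 2) two_pos
            by_contra e
            have h3 : ({1, ⟨s.1, a⟩, ⟨s'.1, b⟩} : Finset (zpowers x)).card ≤ 2 := by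
              refine le_trans (Finset.card_le_card ?_) this
              intro w hw
              simp only [Finset.mem_insert, Finset.mem_singleton] at hw
              rcases hw with rfl | rfl | rfl <;> simp [Subtype.ext_iff, pow_two, hs2, hs2']
            rw [Finset.card_eq_three.2 ⟨_, _, _, by simp [Subtype.ext_iff, hs1.symm],
              by simp [Subtype.ext_iff, hs1'.symm], by simp [Subtype.ext_iff, e], rfl⟩] at h3
            omega
          refine ⟨⟨x ^ k, hconj _ hzz hz1⟩, ⟨?_, ?_⟩, ?_, ?_⟩
          · intro e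
            have e' : s.1 = x ^ k := congrArg Subtype.val e
            have m : s.1 ∈ zpowers x := e' ▸ hz
            refine hcyc ⟨m, ?_⟩
            have : s'.1 = s.1⁻¹ * x := by rw [hx]; group
            rw [this]; exact mul_mem (inv_mem m) (mem_zpowers x)
          · have := i1 k
            rw [hzi, mul_inv_eq_iff_eq_mul] at this; exact this
          · intro e
            have e' : s'.1 = x ^ k := congrArg Subtype.val e
            have m : s'.1 ∈ zpowers x := e' ▸ hz
            refine hcyc ⟨?_, m⟩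
            have : s.1 = x * s'.1⁻¹ := by rw [hx]; group
            rw [this]; exact mul_mem (mem_zpowers x) (inv_mem m)
          · have := i2 k
            rw [hzi, mul_inv_eq_iff_eq_mul] at this; exact this
        · have hD : zpowers x ⊔ zpowers s.1 ≠ ⊤ := by
            intro e
            have hn : ⊤ ≤ N[zpowers x] := by
              rw [← e]
              refine sup_le le_normalizer (zpowers_le.2 (mem_norm_zpowers ?_))
              have := i1 1
              rw [pow_one] at this
              rw [this]; exact inv_mem (mem_zpowers x)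
            rcases hsimp.eq_bot_or_eq_top_of_normal _ (normal_of_top_le_norm hn) with e | e
            · exact hx1 (zpowers_eq_bot.1 e)
            · apply hnab x hx1
              rw [eq_top_iff, ← e, zpowers_le]; exact self_mem_cent1 x
          have hs22 : orderOf s.1 = 2 := orderOf_eq_prime (by rw [pow_two, hs2]) hs1
          have h3 := heven _ hD (hs22 ▸ orderOf_dvd_of_mem (mem_sup_right (mem_zpowers s.1)))
          have h4 : orderOf x ∣ 4 * Nat.card P := (orderOf_dvd_of_mem (mem_sup_left (mem_zpowers x))).trans h3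
          have h5 : orderOf x ∣ Nat.card P := by
            refine Nat.Coprime.dvd_of_dvd_mul_left ?_ h4
            exact (Nat.Coprime.pow_right 2 ((Nat.prime_two.coprime_iff_not_dvd.2 h2).symm))
          obtain ⟨k, hk⟩ := IsPGroup.iff_card.1 P.isPGroup'
          have h6 : x ^ 3 ^ k = 1 := orderOf_dvd_iff_pow_eq_one.1 (hk ▸ h5)
          obtain ⟨g, -, hg⟩ := (syl_top P).exists_le_conj (isPGroup_zpowers h6) le_top
          have hxg : g⁻¹ * x * g ∈ (P : Subgroup G) := mem_map_cj.1 (hg (mem_zpowers x))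
          have hxg1 : g⁻¹ * x * g ≠ 1 := by
            intro e; apply hx1; have := congrArg (fun y => g * y * g⁻¹) e; simpa [mul_assoc] using this
          have a : ∀ u : G, u * x * u⁻¹ = x⁻¹ → u ≠ g * t * g⁻¹ ∧ u * (g * t * g⁻¹) = (g * t * g⁻¹) * u := by
            intro u hu
            constructor
            · intro e
              have c := mem_cent_iff.1 htC _ hxg
              have c2 : u * x * u⁻¹ = x := by
                rw [e]
                calc g * t * g⁻¹ * x * (g * t * g⁻¹)⁻¹ = g * (t * (g⁻¹ * x * g)) * t⁻¹ * g⁻¹ := by group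
                  _ = x := by rw [← c]; group
              rw [hu] at c2
              apply hxg1
              apply hinvP _ hxg
              have : x * x = 1 := by nth_rewrite 1 [← c2]; simp
              calc g⁻¹ * x * g * (g⁻¹ * x * g) = g⁻¹ * (x * x) * g := by group
                _ = 1 := by rw [this]; group
            · have m : g⁻¹ * u * g ∈ N[C[(P : Subgroup G)]] := by
                by_contra hc
                refine hxg1 (hTI _ hc _ (hPC hxg) ?_)
                have : g⁻¹ * u * g * (g⁻¹ * x * g) * (g⁻¹ * u * g)⁻¹ = (g⁻¹ * x * g)⁻¹ := by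
                  calc _ = g⁻¹ * (u * x * u⁻¹) * g := by group
                    _ = _ := by rw [hu]; group
                rw [this]; exact inv_mem (hPC hxg)
              have := hNC m
              rw [← mem_map_cj, ← centralizer_conj] at this
              exact mem_centralizer_singleton_iff.1 this
          have a1 := a s.1 (by simpa using i1 1)
          have a2 := a s'.1 (by simpa using i2 1)
          exact ⟨⟨g * t * g⁻¹, isConj_iff.2 ⟨g, rfl⟩⟩, ⟨fun e => a1.1 (congrArg Subtype.val e), a1.2⟩,
            fun e => a2.1 (congrArg Subtype.val e), a2.2⟩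
      obtain ⟨z, hz⟩ := hex
      refine ⟨z, ?_⟩
      ext w
      simp only [Finset.mem_filter, Finset.mem_univ, true_and, Finset.mem_singleton]
      refine ⟨fun hw => ?_, fun e => e ▸ hz⟩
      obtain ⟨z, hzc⟩ := z
      obtain ⟨w, hwc⟩ := w
      obtain ⟨g, rfl⟩ := isConj_iff.1 hzc
      obtain ⟨k, rfl⟩ := isConj_iff.1 hwc
      have m1 := hprod g _ _ hs2 hs1 hs2' hs1' (fun e => hz.1.1 (Subtype.ext e)) (fun e => hz.2.1 (Subtype.ext e)) hz.1.2 hz.2.2
      have m2 := hprod k _ _ hs2 hs1 hs2' hs1' (fun e => hw.1.1 (Subtype.ext e)) (fun e => hw.2.1 (Subtype.ext e)) hw.1.2 hw.2.2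
      have m : k⁻¹ * g ∈ N[C[(P : Subgroup G)]] := by
        by_contra hc
        have := hTI _ hc _ m1 (by
          have : k⁻¹ * g * (g⁻¹ * (s.1 * s'.1) * g) * (k⁻¹ * g)⁻¹ = k⁻¹ * (s.1 * s'.1) * k := by group
          rw [this]; exact m2)
        apply hx1; have := congrArg (fun y => g * y * g⁻¹) this; simpa [mul_assoc] using this
      have := mem_centralizer_singleton_iff.1 (hNC m)
      ext
      calc k * t * k⁻¹ = k * (t * (k⁻¹ * g)) * g⁻¹ := by group
        _ = g * t * g⁻¹ := by rw [← this]; group)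
  rw [← Nat.card_eq_fintype_card, CfsgH3.card_isConj_eq_index] at hfr
  rcases hfr with e | e
  · exact hnab t ht1 (index_eq_one.1 e)
  · apply P.not_dvd_index
    rw [hCt] at e
    have := index_dvd_of_le (le_normalizer : (P : Subgroup G) ≤ N[(P : Subgroup G)])
    rwa [e] at this


end Cfsg.Agent.S4018
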