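import Cfsg.Statements.S4113
import Cfsg.Agent.H1.Misc1

set_option autoImplicit false
open Cfsg

namespace Cfsg.Agent.S4113

/-- Let G be a finite group, M ≤ N non-trivial proper normal subgroups, and H a subgroup with HM = G and H ∩ M = 1. Then every element of G outside N acts fixed-point-freely on M (C_G(x) ≤ N for every x ∈ M, x ≠ 1) if and only if H ∩ gHg⁻¹ ≤ H ∩ N for every g outside H, with H proper and non-trivial and H ∩ N proper in H. -/
theorem result {G : Type*} [Group G] [Finite G] (N M : Subgroup G) [N.Normal] [M.Normal] (hMN : M ≤ N) (hM1 : M ≠ ⊥) (hN2 : N ≠ ⊤)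
    (H : Subgroup G) (hHM : H ⊔ M = ⊤) (hHM' : H ⊓ M = ⊥) :
    (∀ x ∈ M, x ≠ 1 → Subgroup.centralizer ({x} : Set G) ≤ N) ↔
      (H ≠ ⊥ ∧ H ≠ ⊤ ∧ H ⊓ N < H ∧ ∀ g : G, g ∉ H → H ⊓ H.map (MulAut.conj g).toMonoidHom ≤ N) := by
  open Subgroup CfsgH2 in
  open CfsgH1 hiding card_inf_mul_relIndex card_lt_of_lt card_lt_of_ne_top card_map_mul_card_inf_ker card_mul_relIndex card_subgroupOf card_sup_dvd card_sup_mul_card_inf exists_card_prime_le isNilpotent_map isNilpotent_of_le isPGroup_pCore isSolvable_map isSolvable_of_le le_pCore le_pPrimeCore relIndex_map_dvd in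
  open scoped CfsgH1 in
  open scoped commutatorElement in
  · have t : ∀ g, ∃ m ∈ M, ∃ h ∈ H, g = m * h := fun g => mem_sup_normal_left.1 ((sup_comm M H).trans hHM ▸ mem_top g)
    have u : ∀ m ∈ M, ∀ y ∈ H, m⁻¹ * y * m ∈ H → y ∈ C1[m] := fun m a y b c => mem_centralizer_singleton_iff.2 (by
      have := mem_bot.1 (hHM'.le ⟨H.mul_mem (H.inv_mem b) c, (show y⁻¹ * (m⁻¹ * y * m) = y⁻¹ * m⁻¹ * y⁻¹⁻¹ * m by group) ▸
        M.mul_mem (‹M.Normal›.conj_mem _ (inv_mem a) _) a⟩)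
      rw [← mul_one (m * y), ← this]; group)
    refine ⟨fun h => ⟨fun e => hN2 (top_le_iff.1 (hHM.ge.trans (sup_le (e.le.trans bot_le) hMN))), fun e => hM1 (by simpa [e] using hHM'),
      inf_lt_left.2 fun e => hN2 (top_le_iff.1 (hHM.ge.trans (sup_le e hMN))), fun g hg y hy => ?_⟩, fun ⟨_, _, _, h⟩ x hx x1 c hc => by_contra fun e => ?_⟩
    · obtain ⟨m, a, k, b, rfl⟩ := t g
      refine h m a (fun e => hg (by simpa [e])) (u m a y hy.1 ?_)
      simpa [mul_assoc] using mul_mem (mul_mem b (mem_map_cj.1 hy.2)) (inv_mem b)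
    obtain ⟨m, a, k, b, rfl⟩ := t c
    have v : M ⊓ C1[k] = ⊥ := eq_bot_iff.2 fun z hz => by_contra fun d => e (mul_mem (hMN a) (h z (fun f => d (hHM'.le ⟨f, hz.1⟩))
      ⟨b, mem_map_cj.2 (by rwa [mul_assoc, ← mem_centralizer_singleton_iff.1 hz.2, inv_mul_cancel_left])⟩))
    obtain ⟨y, hy, f⟩ := exists_conj_of_fpf (le_normalizer_of_normal (mem_top k)) v a
    have := mem_bot.1 (v.le (show y⁻¹ * x * y⁻¹⁻¹ ∈ _ from ⟨‹M.Normal›.conj_mem _ hx _, mem_centralizer_singleton_iff.2 (by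
      have := mem_centralizer_singleton_iff.1 hc
      rw [← f] at this
      calc _ = y⁻¹ * (x * (y * k * y⁻¹)) * y := by group
        _ = _ := by rw [← this]; group)⟩))
    exact x1 (conj_eq_one_iff.1 this)

end Cfsg.Agent.S4113
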