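import Cfsg.Statements.S4167
import Mathlib
import Cfsg.Agent.L0.SCA
import Cfsg.Agent.L0.G3

set_option autoImplicit false
open Cfsg

namespace Cfsg.Agent.S4167

open Subgroup CfsgH2 CfsgL0

theorem aux (n : ℕ) : ∀ (G : Type*) [Group G] [Finite G], Nat.card G = n → (∀ x : G, ¬ 4 ∣ C1[x].index) →
    Group.IsSolvable G := by
  induction n using Nat.strong_induction_on with
  | _ n ih =>
  intro G _ _ hn h
  subst hn
  have ind : ∀ N : Subgroup G, N.Normal → N ≠ ⊥ → N ≠ ⊤ → Group.IsSolvable G := fun N _ h0 h1 => by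
    haveI := ih _ (card_lt_of_ne_top h1) N rfl fun x k => h x (k.trans (index_cent_sub x ▸ relIndex_dvd_index' _))
    haveI := ih _ (card_quot_lt h0) (G ⧸ N) rfl fun x k => by
      obtain ⟨x, rfl⟩ := QuotientGroup.mk'_surjective N x
      exact h x (k.trans (cs_map_dvd (QuotientGroup.mk'_surjective N) x))
    exact solvable_of_ker_le_range N.subtype (QuotientGroup.mk' N) (by simp)
  by_contra hs
  obtain ⟨t, ht⟩ := exists_prime_orderOf_dvd_card' (G := G) 2 (by_contra fun e => hs (ft_of_not_dvd e))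
  have t2 : t * t = 1 := by rw [← sq, ← ht, pow_orderOf_eq_one]
  have : C1[t] = ⊤ := CfsgH1.eq_of_forall_conj_mem le_top fun x _ => by
    obtain ⟨Q, hQ⟩ := exists_syl 2 C1[x]
    obtain ⟨P, hP, l⟩ := exists_syl_ge hQ.pg le_top
    obtain ⟨g, -, hg⟩ := hP.exists_conj_le (CfsgH2.isPGroup_zpowers (k := 1) (by rw [pow_one, sq, t2])) le_top
    have hg := hg (conj_mem_map_cj (mem_zpowers t))
    suffices k : ∃ g, g * t * g⁻¹ ∈ Q by
      obtain ⟨g, k⟩ := k
      refine ⟨g⁻¹, trivial, mem_c1.2 ?_⟩
      have := mem_c1.1 (hQ.le k)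
      calc _ = g⁻¹ * (x * (g * t * g⁻¹)) * g := by group
        _ = _ := by rw [← this]; group
    obtain ⟨j, hj⟩ := exists_relIndex_eq_pow hP.pg Q
    have : j ≤ 1 := by_contra fun k => h x (by
      have : 2 ^ 2 ∣ Q.index := by
        rw [← relIndex_mul_index l, hj]; exact (pow_dvd_pow 2 (by omega)).mul_right _
      rw [← relIndex_mul_index hQ.le] at this
      exact (Nat.Coprime.pow_left 2 ((Nat.prime_two.coprime_iff_not_dvd).2 hQ.nd)).dvd_of_dvd_mul_left this)
    interval_cases j
    · exact ⟨g, relIndex_eq_one.1 hj hg⟩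
    by_contra! k
    obtain ⟨M, m1, m2, -⟩ := thompson_transfer (Nat.odd_iff.2 (Nat.two_dvd_ne_zero.1 (relIndex_top_right P ▸ hP.nd))) hj
      (by rw [conj_mul, t2]; simp) hg fun u => by simpa [mul_assoc] using k (u * g)
    refine hs (ind M m1 (fun e => hs ?_) (by rintro rfl; simp at m2))
    rw [e, index_bot] at m2
    haveI := isCyclic_of_prime_card m2
    exact isSolvable_of_comm mul_comm'
  refine hs (ind (center G) inferInstance (fun e => ?_) fun e => hs (isSolvable_of_comm fun a b =>
    mem_center_iff.1 (e.ge (mem_top b)) a))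
  rw [mem_bot.1 (e.le (c1_eq_top.1 this))] at ht
  simp at ht

/-- Let G be a finite group in which no conjugacy class has size divisible by 4. Then G is solvable. -/
theorem result {G : Type*} [Group G] [Finite G]
    (h : ∀ x : G, ¬ 4 ∣ (Subgroup.centralizer ({x} : Set G)).index) : Group.IsSolvable G := by
  exact aux _ G rfl h

end Cfsg.Agent.S4167
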