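import Cfsg.Statements.S4130
import Mathlib
import Cfsg.Agent.S4167
import Cfsg.Agent.H1.SS
import Cfsg.Agent.H1.Fitting
import Cfsg.Agent.H2.Chief

set_option autoImplicit false
open Cfsg

namespace Cfsg.Agent.S4130

open Subgroup CfsgH2 CfsgL0
open scoped commutatorElement

theorem eq_idx {G : Type*} [Group G] [Finite G] {K L N : Subgroup G} {p : ℕ} (hp : p.Prime) (l : K ⊓ N ≤ L)
    (h : K.relIndex N ∣ p) (h1 : ¬ N ≤ L) : L ⊓ N ≤ K := by
  have e := relIndex_mul_relIndex _ _ _ (le_inf l inf_le_right : K ⊓ N ≤ L ⊓ N) (inf_le_right : _ ≤ N)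
  rw [inf_relIndex_right, inf_relIndex_right] at e
  have a := ((Nat.dvd_prime hp).1 ((Dvd.intro_left _ e).trans h)).resolve_left fun k => h1 (relIndex_eq_one.1 k)
  rw [← e, a] at h
  exact (relIndex_eq_one.1 (Nat.dvd_one.1 ((Nat.mul_dvd_mul_iff_right hp.pos).1 (by simpa using h)))).trans inf_le_left

theorem rfx {G : Type*} [Group G] [Finite G] {N : Subgroup G} [hN : N.Normal] {p : ℕ} (hc : ⁅N, (⊤ : Subgroup G)⁆ ≤ C[N])
    (hp : p.Prime) (h : ∀ x, C1[x].relIndex N ∣ p) : o[⁅N, (⊤ : Subgroup G)⁆] ∣ p ∨ (center G).relIndex N ∣ p := by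
  have c : ∀ n ∈ N, ∀ x, ⁅n, x⁆ ∈ C[N] := fun n hn x => hc (commutator_mem_commutator hn (mem_top x))
  let φ : G → N →* G := fun x => MonoidHom.mk' (fun n => ⁅n.1, x⁆) fun m n => by
    calc ⁅m.1 * n.1, x⁆ = m.1 * ⁅n.1, x⁆ * m.1⁻¹ * ⁅m.1, x⁆ := by simp only [commutatorElement_def]; group
      _ = _ := by
        rw [c _ n.2 x _ m.2, mul_inv_cancel_right]
        exact c _ m.2 x _ (commutator_le_left N ⊤ (commutator_mem_commutator n.2 (mem_top x)))
  have k0 : ∀ x (n : N), φ x n = 1 ↔ n.1 ∈ C1[x] := fun x n => commutatorElement_eq_one_iff_mul_comm.trans mem_c1.symm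
  have k1 : ∀ x, o[(φ x).range] ∣ p := fun x => by
    rw [← index_ker, show (φ x).ker = C1[x].subgroupOf N from Subgroup.ext (k0 x)]; exact h x
  have k2 : ∀ x, (φ x).range = ⊥ ↔ N ≤ C1[x] := fun x => by
    rw [MonoidHom.range_eq_bot_iff, MonoidHom.ext_iff]
    exact ⟨fun k n hn => (k0 x ⟨n, hn⟩).1 (k _), fun k n => (k0 x n).2 (k n.2)⟩
  have key : ∀ x y, (φ x).range ≠ ⊥ → (φ y).range ≠ ⊥ → (φ x).range ≠ (φ y).range → C1[x] ⊓ N ≤ C1[y] :=
    fun x y a b e => by
    have o : ∀ x, (φ x).range ≠ ⊥ → o[(φ x).range] = p := fun x a =>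
      ((Nat.dvd_prime hp).1 (k1 x)).resolve_left fun k => a (card_eq_one.1 k)
    have i : (φ x).range ⊓ (φ y).range = ⊥ := by_contra fun k => by
      have t := ((Nat.dvd_prime hp).1 ((card_dvd_of_le (inf_le_left : (φ x).range ⊓ (φ y).range ≤ _)).trans
        (k1 x))).resolve_left fun e => k (card_eq_one.1 e)
      exact e ((eq_of_le_of_card_ge inf_le_left (by rw [t, o x a])).symm.trans
        (eq_of_le_of_card_ge inf_le_right (by rw [t, o y b])))
    have l : C1[x⁻¹ * y] ⊓ N ≤ C1[x] ⊓ C1[y] := fun n ⟨hn, n1⟩ => by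
      have e : φ x ⟨n⁻¹, inv_mem n1⟩ = φ y ⟨n⁻¹, inv_mem n1⟩ := by
        change ⁅n⁻¹, x⁆ = ⁅n⁻¹, y⁆
        have := mem_c1.1 hn
        calc _ = n⁻¹ * x * (n * (x⁻¹ * y)) * y⁻¹ := by simp only [commutatorElement_def]; group
          _ = _ := by rw [this]; simp only [commutatorElement_def]; group
      have e1 := mem_bot.1 (i.le ⟨⟨_, rfl⟩, ⟨_, e.symm⟩⟩)
      exact ⟨C1[x].inv_mem_iff.1 ((k0 x _).1 e1), C1[y].inv_mem_iff.1 ((k0 y _).1 (e.symm.trans e1))⟩
    exact (le_inf (eq_idx hp (l.trans inf_le_left) (h _) (mt (k2 x).2 a)) inf_le_right).trans (l.trans inf_le_right)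
  by_cases e : ∃ x y, (φ x).range ≠ ⊥ ∧ (φ y).range ≠ ⊥ ∧ (φ x).range ≠ (φ y).range
  · obtain ⟨x, y, a, b, e⟩ := e
    refine .inr ((relIndex_dvd_of_le_left N (show C1[x] ⊓ N ≤ center G from
      fun n hn => mem_center_iff.2 fun z => (mem_c1.1 ?_).symm)).trans ((inf_relIndex_right _ N).dvd.trans (h x)))
    by_cases c : (φ z).range = ⊥
    · exact (k2 z).1 c hn.2
    by_cases c1 : (φ x).range = (φ z).range
    · exact key y z b c (c1 ▸ e.symm) ⟨key x y a b e hn, hn.2⟩
    · exact key x z a c c1 hn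
  push Not at e
  by_cases e1 : ∃ x, (φ x).range ≠ ⊥
  · obtain ⟨x, a⟩ := e1
    refine .inl ((card_dvd_of_le (commutator_le.2 fun n hn y _ => ?_)).trans (k1 x))
    by_cases c : (φ y).range = ⊥
    · exact (c.le.trans bot_le) ⟨⟨n, hn⟩, rfl⟩
    · exact (e x y a c).ge ⟨⟨n, hn⟩, rfl⟩
  · push Not at e1
    exact .inr ((relIndex_eq_one.2 fun n hn => mem_center_iff.2 fun z => (mem_c1.1 ((k2 z).1 (e1 z) hn)).symm).symm ▸
      one_dvd _)

theorem idx {G : Type*} [Group G] [Finite G] {N : Subgroup G} [N.Normal] {p : ℕ} [Fact p.Prime] (hN : PG[p, N]) {x : G}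
    (h : Squarefree cs[x]) : C1[x].relIndex N ∣ p := by
  obtain ⟨j, hj⟩ := exists_relIndex_eq_pow hN C1[x]
  have := h.squarefree_of_dvd (relIndex_dvd_index' (N := N) _)
  rw [hj] at this ⊢
  rcases this.eq_zero_or_one_of_pow_of_not_isUnit (Fact.out : p.Prime).prime.not_unit with rfl | rfl <;> simp

theorem pcase {G : Type*} [Group G] [Finite G] (h : ∀ x : G, Squarefree cs[x]) {p : ℕ} [hp : Fact p.Prime]
    (ab : commutator G ≤ C[commutator G]) (hc : o[commutator G] = p ^ 2) : False := by
  have pD : PG[p, commutator G] := .of_card hc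
  obtain ⟨P, s, l⟩ := exists_syl_ge pD le_top
  haveI : P.Normal := Normal.of_commutator_le _ l
  have z : ⁅P, P⁆ ≤ center G := fun y hy => mem_center_iff.2 fun x => (mem_c1.1 (by
    rcases (Nat.dvd_prime hp.out).1 (idx s.pg (h x)) with e | e
    · exact relIndex_eq_one.1 e (commutator_le_left P P hy)
    obtain ⟨L, l1, l2, l3, l4⟩ := exists_maximal_sub s.pg (K := C1[x] ⊓ P) (inf_le_right.lt_of_ne fun k => by
      rw [relIndex_eq_one.2 (inf_eq_right.1 k)] at e; exact hp.out.one_lt.ne e)
    haveI := (normal_subgroupOf_iff_le_normalizer l2).2 l3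
    haveI := isCyclic_of_prime_card (α := P ⧸ L.subgroupOf P) l4
    have := map_mono (f := P.subtype) (Normal.quotient_commutative_iff_commutator_le.1
      (IsCyclic.isMulCommutative (α := P ⧸ L.subgroupOf P)))
    rw [map_subtype_commutator, subgroupOf_map_subtype] at this
    exact eq_idx hp.out l1 e.dvd (fun k => hp.out.one_lt.ne' (l4.symm.trans (relIndex_eq_one.2 k))) (this hy))).symm
  have d1 : commutator G ≤ ⁅P, (⊤ : Subgroup G)⁆ := fun y hy => by
    set π := QuotientGroup.mk' ⁅P, (⊤ : Subgroup G)⁆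
    have c : P.map π ≤ C[(⊤ : Subgroup G).map π] := by
      rw [← commutator_eq_bot_iff_le_centralizer, ← map_commutator, Subgroup.map_eq_bot_iff, QuotientGroup.ker_mk']
    have := (hall_singleton.2 (s.map π)).comm_inf_cent
      (le_centralizer_iff_isMulCommutative.1 (c.trans (centralizer_le (map_mono le_top))))
    exact (QuotientGroup.eq_one_iff y).1 (mem_bot.1 (this.le ⟨⟨mem_map_of_mem _ (l hy),
      map_commutator _ _ π ▸ mem_map_of_mem _ hy⟩, c (mem_map_of_mem _ (l hy))⟩))
  have d2 : ⁅P, (⊤ : Subgroup G)⁆ ≤ commutator G := commutator_mono le_top le_rfl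
  have nd : ¬ p ^ 2 ∣ p := fun k => absurd ((Nat.pow_dvd_pow_iff_le_right hp.out.one_lt (l := 1)).1 (by simpa using k)) (by omega)
  have c1 : commutator G ≤ C[P] := by_contra fun k => by
    have t : ⁅(⊤ : Subgroup G), commutator G⁆ ≤ C[P] := commutator_eq_bot_iff_le_centralizer.1 (three_subgroup
      (commutator_eq_bot_iff_le_centralizer.2 (((commutator_mono l le_rfl).trans z).trans (center_le_centralizer _)))
      (commutator_eq_bot_iff_le_centralizer.2 (d2.trans ab)))
    have t1 : commutator G ⊓ C[P] ≤ center G := (eq_idx (K := ⁅commutator G, P⁆) (L := C[P]) (N := commutator G) hp.out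
      (inf_le_left.trans (((commutator_mono l le_rfl).trans z).trans (center_le_centralizer _))) (by
        have e := card_mul_relIndex (commutator_le_left (commutator G) P)
        obtain ⟨j, hj⟩ := IsPGroup.iff_card.1 (pD.to_le (commutator_le_left (commutator G) P))
        cases j
        · exact absurd (commutator_eq_bot_iff_le_centralizer.1 (card_eq_one.1 hj)) k
        rw [hj, hc, pow_succ', sq, mul_assoc] at e
        exact Dvd.intro_left _ (Nat.eq_of_mul_eq_mul_left hp.out.pos e)) k).trans'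
      (by rw [inf_comm]) |>.trans ((commutator_mono l le_rfl).trans z)
    have t2 : piRes {p} ⊤ ≤ C[P] := piRes_le_cent_of_comm s.pg (normalizer_eq_top _).ge d2
      (piRes_le_cent_of_comm pD (normalizer_eq_top _).ge (Y := center G)
        ((le_inf (commutator_le_left _ _) ((commutator_comm _ _).le.trans t)).trans t1) (le_centralizer_iff.1 (center_le_centralizer _)))
    refine k ((d1.trans (commutator_le.2 fun a ha b hb => ?_)).trans (z.trans (center_le_centralizer _)))
    obtain ⟨c, hc, d, hd, rfl⟩ := (mem_sup_of_normal_right.1 (s.piRes_sup.ge hb))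
    have e : ⁅a, c * d⁆ = ⁅a, d⁆ := by
      have e1 := t2 hc a ha
      have e2 := t2 hc _ (commutator_le_left P P (commutator_mem_commutator ha hd))
      calc _ = a * c * a⁻¹ * c⁻¹ * (c * ⁅a, d⁆) * c⁻¹ := by simp only [commutatorElement_def]; group
        _ = _ := by rw [e1, ← e2]; group
    exact e ▸ commutator_mem_commutator ha hd
  rcases rfx (d2.trans c1) hp.out fun x => idx s.pg (h x) with e | e
  · exact nd (hc ▸ (card_dvd_of_le d1).trans e)
  · have a : Ab[P] := by
      haveI : IsCyclic (P ⧸ (center G).subgroupOf P) := isCyclic_of_card_dvd_prime e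
      exact (QuotientGroup.mk' ((center G).subgroupOf P)).isMulCommutative_of_isCyclic_of_ker_le_center (by
        rw [QuotientGroup.ker_mk']; exact fun x hx => mem_center_iff.2 fun y => Subtype.ext (mem_center_iff.1 hx y))
    have b := (hall_singleton.2 s).comm_inf_cent a
    have e1 : (center G).relIndex (commutator G) ∣ (center G).relIndex P := by
      rw [← inf_relIndex_right _ P, ← inf_relIndex_right, ← inf_of_le_right l, ← inf_assoc, inf_of_le_right l,
        inf_relIndex_right]
      exact relIndex_dvd_of_norm (le_top.trans (normalizer_eq_top _).ge) l inf_le_right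
    rw [← inf_relIndex_right, show center G ⊓ commutator G = ⊥ from eq_bot_iff.2 fun x hx => b.le
      ⟨⟨l hx.2, hx.2⟩, center_le_centralizer _ hx.1⟩, relIndex_bot_left, hc] at e1
    exact nd (e1.trans e)

theorem aux (n : ℕ) : ∀ (G : Type*) [Group G] [Finite G], Nat.card G = n → (∀ x : G, Squarefree cs[x]) →
    IsCyclic (commutator G) ∧ Squarefree o[commutator G] := by
  induction n using Nat.strong_induction_on with
  | _ n ih =>
  intro G _ _ hn h
  subst hn
  haveI := S4167.result (G := G) fun x k => by simpa using h x 2 k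
  have key : ∀ N : Subgroup G, N.Normal → N ≠ ⊥ → N ≤ commutator G → commutator G ≤ C[commutator G] ∧
      ∃ p m : ℕ, p.Prime ∧ p ∣ o[N] ∧ Squarefree m ∧ o[commutator G] = p * m := fun N _ h0 l => by
    obtain ⟨p, hp, V, v1, v2, v3, v4, v5⟩ := exists_min_norm (M := ⊤) inferInstance h0 (normalizer_eq_top N).ge
    haveI : V.Normal := normalizer_eq_top_iff.1 (top_le_iff.1 v3)
    have pV := isPGroup_of_exp (H := V) v4.2
    have cV : o[V] = p := by
      have z : V ≤ center G → o[V] = p := fun k => by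
        obtain ⟨W, w1, w2⟩ := CfsgH1.exists_card_prime_le hp.out (dvd_card_of_pgroup pV v2)
        haveI := CfsgH1.normal_of_le_center (w1.trans k)
        rw [← (v5 W w1 (normalizer_eq_top W).ge).resolve_left fun e => hp.out.one_lt.ne' (by rw [← w2, e, card_bot]), w2]
      have z' : o[V] ∣ p → o[V] = p := fun k => ((Nat.dvd_prime hp.out).1 k).resolve_left fun e => v2 (card_eq_one.1 e)
      rcases rfx ((commutator_le_left V ⊤).trans (le_centralizer_iff_isMulCommutative.2 v4.1)) hp.out
        fun x => idx pV (h x) with e | e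
      · rcases v5 _ (commutator_le_left V ⊤) (normalizer_eq_top _).ge with k | k
        · exact z ((commutator_eq_bot_iff_le_centralizer.1 k).trans (by rw [coe_top, centralizer_univ]))
        · exact z' (k ▸ e)
      · rcases v5 (center G ⊓ V) inf_le_right (normalizer_eq_top _).ge with k | k
        · rw [← inf_relIndex_right, k, relIndex_bot_left] at e; exact z' e
        · exact z (inf_eq_right.1 k)
    obtain ⟨c1, c2⟩ := ih _ (card_quot_lt v2) (G ⧸ V) rfl fun x => by
      obtain ⟨x, rfl⟩ := QuotientGroup.mk'_surjective V x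
      exact (h x).squarefree_of_dvd (cs_map_dvd (QuotientGroup.mk'_surjective V) x)
    have e : (commutator G).map (QuotientGroup.mk' V) = commutator (G ⧸ V) := by
      rw [map_commutator_eq, MonoidHom.range_eq_top.2 (QuotientGroup.mk'_surjective V)]; rfl
    rw [← e] at c1 c2
    refine ⟨le_centralizer_iff_isMulCommutative.2 (((QuotientGroup.mk' V).subgroupMap
      (commutator G)).isMulCommutative_of_isCyclic_of_ker_le_center fun x hx => mem_center_iff.2 fun y => Subtype.ext
        (commutator_le_cent_of_cyclic (isCyclic_of_prime_card cV) v3 y.2 _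
          ((QuotientGroup.eq_one_iff _).1 (congrArg Subtype.val hx))).symm), p, _, hp.out,
      cV ▸ card_dvd_of_le v1, c2, ?_⟩
    rw [← cV, ← relIndex_ker, QuotientGroup.ker_mk', card_mul_relIndex (v1.trans l)]
  by_cases h0 : commutator G = ⊥
  · rw [h0]; exact ⟨inferInstance, by simp⟩
  obtain ⟨ab, p, m, hp, -, h1, h2⟩ := key _ inferInstance h0 le_rfl
  haveI := le_centralizer_iff_isMulCommutative.1 ab
  haveI nl : Group.IsNilpotent (commutator G) := ⟨1, by rw [Subgroup.upperCentralSeries_one]; exact center_eq_top_iff.2 ‹_›⟩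
  suffices s : Squarefree o[commutator G] from ⟨by haveI := IsZGroup.of_squarefree s; infer_instance, s⟩
  by_contra s
  have pm : p ∣ m := by_contra fun k => s (h2 ▸ (Nat.squarefree_mul ((Nat.Prime.coprime_iff_not_dvd hp).2 k)).2
    ⟨hp.prime.squarefree, h1⟩)
  haveI := Fact.mk hp
  by_cases h3 : O[{p}ᶜ, commutator G] = ⊥
  · obtain ⟨j, hj⟩ := IsPGroup.iff_card.1 (CfsgH1.isPGroup_of_npc (NPC.of_nilpotent (p := p) nl) h3)
    obtain ⟨i, -, hi⟩ := (Nat.dvd_prime_pow hp).1 (hj ▸ Dvd.intro_left _ h2.symm : m ∣ p ^ j)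
    subst hi
    rcases h1.eq_zero_or_one_of_pow_of_not_isUnit hp.prime.not_unit with rfl | rfl
    · exact hp.one_lt.ne' (by simpa using pm)
    · exact pcase h ab (by rw [h2]; ring)
  · obtain ⟨-, r, m', hr, r1, r2, r3⟩ := key _ (normalizer_eq_top_iff.1 (top_le_iff.1
      ((normalizer_eq_top (commutator G)).ge.trans norm_le_norm_piCoreOf))) h3 piCoreOf_le
    have : r ≠ p := piN_piCoreOf r hr r1
    have : p * p ∣ m' := (Nat.Coprime.mul_left ((Nat.coprime_primes hp hr).2 this.symm)
      ((Nat.coprime_primes hp hr).2 this.symm)).dvd_of_dvd_mul_left (r3 ▸ h2 ▸ Nat.mul_dvd_mul_left p pm)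
    exact hp.prime.not_unit (r2 p this)

/-- Let G be a finite group all of whose conjugacy class sizes are square-free. Then G is supersolvable, G/F(G) and the derived subgroup G′ are cyclic of square-free order (F(G) the Fitting subgroup, which is normal), F(G) has nilpotency class at most 2, and G is metabelian. -/
theorem result {G : Type*} [Group G] [Finite G]
    (h : ∀ x : G, Squarefree (Subgroup.centralizer ({x} : Set G)).index) :
    Cfsg.IsSupersolvable G ∧ (Cfsg.fittingSubgroup G).Normal ∧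
    (∀ _h : (Cfsg.fittingSubgroup G).Normal, IsCyclic (G ⧸ Cfsg.fittingSubgroup G) ∧ Squarefree (Cfsg.fittingSubgroup G).index) ∧
    IsCyclic (commutator G) ∧ Squarefree (Nat.card (commutator G)) ∧
    Subgroup.upperCentralSeries ↥(Cfsg.fittingSubgroup G) 2 = ⊤ ∧ commutator ↥(commutator G) = ⊥ := by
  obtain ⟨c1, c2⟩ := aux _ G rfl h
  have u : ∀ H : Subgroup G, H ≤ C[commutator G] → Subgroup.upperCentralSeries H 2 = ⊤ := fun H k => by
    refine eq_top_iff.2 fun x _ => Subgroup.mem_upperCentralSeries_succ_iff.2 fun y => ?_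
    rw [Subgroup.upperCentralSeries_one]
    exact mem_center_iff.2 fun z => Subtype.ext (k z.2 _ (commutator_mem_commutator (mem_top x.1) (mem_top y.1))).symm
  have e : fittingSubgroup G = C[commutator G] := by
    haveI : Group.IsNilpotent C[commutator G] := ⟨2, u _ le_rfl⟩
    haveI : Group.IsNilpotent (commutator G) := ⟨1, by
      rw [Subgroup.upperCentralSeries_one]; exact center_eq_top_iff.2 IsCyclic.isMulCommutative⟩
    refine le_antisymm (le_centralizer_iff.1 fun y hy => by_contra fun k => ?_) (CfsgH1.le_fitting _)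
    obtain ⟨q, hq, a, a1, a2, a3⟩ := exists_pelem_not_mem' k
    have l : zpowers a ≤ commutator G := zpowers_le.2 (zpowers_le.2 hy a1)
    haveI := CfsgH1.normal_of_le_of_isCyclic l
    have t := commutator_lt_of_nilpotent CfsgH1.isNilpotent_fitting (l.trans (CfsgH1.le_fitting _))
      (le_top.trans (normalizer_eq_top _).ge) fun e => a3 (mem_bot.1 (e.le (mem_zpowers a)) ▸ one_mem _)
    obtain ⟨j, hj⟩ := IsPGroup.iff_card.1 a2
    have t1 := card_dvd_of_le t.le
    have t2 := card_lt_of_lt t
    have := c2.squarefree_of_dvd (card_dvd_of_le l)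
    rw [hj] at this t1 t2
    refine a3 (commutator_eq_bot_iff_le_centralizer.1 (card_eq_one.1 ?_) (mem_zpowers a))
    rcases this.eq_zero_or_one_of_pow_of_not_isUnit hq.out.prime.not_unit with rfl | rfl
    · simpa using t1
    · rw [pow_one] at t1 t2
      exact ((Nat.dvd_prime hq.out).1 t1).resolve_right t2.ne
  have ab : commutator G ≤ C[commutator G] := le_centralizer_iff_isMulCommutative.2 IsCyclic.isMulCommutative
  have s : Squarefree (fittingSubgroup G).index := by
    obtain ⟨y, hy⟩ := (Subgroup.isCyclic_iff_exists_zpowers_eq_top _).1 c1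
    rw [e, ← hy, zpowers_eq_closure, centralizer_closure]; exact h y
  refine ⟨CfsgH1.isSupersolvable_iff.2 (.of_quotient (.of_isCyclic (commutator G)) ?_), CfsgH1.fitting_normal,
    fun _ => ⟨?_, s⟩, c1, c2, u _ e.le, ?_⟩
  · haveI : Group.IsNilpotent (G ⧸ commutator G) := inferInstanceAs (Group.IsNilpotent (Abelianization G))
    exact .of_isNilpotent
  · haveI := IsZGroup.of_squarefree (G := G ⧸ fittingSubgroup G) s
    haveI := Normal.quotient_commutative_iff_commutator_le.2 (ab.trans e.ge)
    haveI : Group.IsNilpotent (G ⧸ fittingSubgroup G) := ⟨1, by rw [Subgroup.upperCentralSeries_one]; exact center_eq_top_iff.2 ‹_›⟩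
    infer_instance
  · exact (commutator_eq_bot_iff _).2 IsCyclic.isMulCommutative

end Cfsg.Agent.S4130
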