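import Cfsg.Statements.S4137
import Mathlib
import Cfsg.Agent.H1.CT3
import Cfsg.Agent.L0.G3
import Cfsg.Agent.H1.Misc1
import Cfsg.Agent.H1.CT4
import Cfsg.Agent.S2202
import Cfsg.Agent.H8.PslC
import Cfsg.Agent.H8.Dick3

set_option autoImplicit false
open Cfsg

namespace Cfsg.Agent.S4137

section
open Subgroup CfsgH2
open CfsgH1 hiding card_inf_mul_relIndex card_lt_of_lt card_lt_of_ne_top card_map_mul_card_inf_ker card_mul_relIndex card_subgroupOf card_sup_dvd card_sup_mul_card_inf coprime_le_sup_cent exists_card_prime_le isNilpotent_map isNilpotent_of_le isPGroup_pCore isSolvable_map isSolvable_of_le le_pCore le_pPrimeCore relIndex_map_dvd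
open scoped CfsgH1
open scoped commutatorElement

theorem bsw {G : Type*} [Group G] [Finite G] (hs : ¬ Group.IsSolvable G) (h : ∀ t : G, orderOf t = 2 → Ab[C1[t]])
    (hz : ∀ z ∈ center G, Odd (orderOf z) → z = 1) : ∃ (F : Type) (_ : Field F) (_ : Fintype F) (n : ℕ), CharP F 2 ∧
      2 ≤ n ∧ Fintype.card F = 2 ^ n ∧ Nonempty (G ≃* Matrix.SpecialLinearGroup (Fin 2) F) := by
  obtain ⟨P⟩ : Nonempty (Sylow 2 G) := inferInstance
  rcases Cfsg.Agent.S2202.result (even_iff_two_dvd.2 (by_contra fun e => hs (ft_of_not_dvd e))) h with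
    k | k | ⟨F, _, _, A, _, _, _, o, ⟨e⟩⟩
  · exact (hs (CfsgL0.sol_of_cyc_syl (syl_top P) (k P))).elim
  · haveI := k P
    haveI := P.isPGroup'.isNilpotent
    haveI : Group.IsSolvable (G ⧸ (P : Subgroup G)) := ft_of_not_dvd P.not_dvd_index
    exact (hs (Group.isSolvable_of_ker_le_range (P : Subgroup G).subtype (QuotientGroup.mk' (P : Subgroup G))
      (by simp))).elim
  haveI : Subsingleton A := subsingleton_of_forall_eq 1 fun a => by
    have := hz (e.symm (1, a)) (mem_center_iff.2 fun g => e.injective (by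
      simp only [map_mul, e.apply_symm_apply]; exact Prod.ext (by simp) (mul_comm _ _)))
      (by rw [MulEquiv.orderOf_eq, Prod.orderOf_mk, orderOf_one, Nat.lcm_one_left]; exact o.of_dvd_nat (orderOf_dvd_natCard a))
    exact congrArg Prod.snd (e.symm.map_eq_one_iff.1 this)
  haveI : Unique A := uniqueOfSubsingleton 1
  obtain ⟨n, -, hn⟩ := FiniteField.card F 2
  have e' := e.trans MulEquiv.prodUnique
  refine ⟨F, _, _, n, ‹_›, by_contra fun k => hs (CfsgH3.burnside_paqb 2 3 1 1 Nat.prime_two Nat.prime_three ?_), hn, ⟨e'⟩⟩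
  rw [Nat.card_congr e'.toEquiv, CfsgH8.card_SL2', hn, show (n : ℕ) = 1 by have := n.pos; omega]
  norm_num

end

/-- Let G be a finite group with trivial centre and at most three distinct sizes of conjugacy classes other than 1. Then G is solvable or G is isomorphic to PSL₂(2^a) for some a ≥ 1. -/
theorem result {G : Type*} [Group G] [Finite G]
    (hZ : Subgroup.center G = ⊥) (h : Nat.card {n : ℕ | 1 < n ∧ ∃ x : G, (Subgroup.centralizer ({x} : Set G)).index = n} ≤ 3) :
    Group.IsSolvable G ∨ ∃ a : ℕ, 0 < a ∧ Nonempty (G ≃* Matrix.ProjectiveSpecialLinearGroup (Fin 2) (GaloisField 2 a)) := by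
  open Subgroup CfsgH2 in
  open CfsgH1 hiding card_inf_mul_relIndex card_lt_of_lt card_lt_of_ne_top card_map_mul_card_inf_ker card_mul_relIndex card_subgroupOf card_sup_dvd card_sup_mul_card_inf coprime_le_sup_cent exists_card_prime_le isNilpotent_map isNilpotent_of_le isPGroup_pCore isSolvable_map isSolvable_of_le le_pCore le_pPrimeCore relIndex_map_dvd in
  open scoped CfsgH1 in
  open scoped commutatorElement in
  · classical
    refine or_iff_not_imp_left.2 fun ns => ?_
    have c1 : ∀ {x : G}, x ≠ 1 → 1 < C1[x].index := fun x1 => lt_of_le_of_ne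
      (Nat.pos_of_ne_zero index_ne_zero_of_finite) fun e => x1 (mem_bot.1 (hZ.le (CfsgL0.cs_eq_one.1 e.symm)))
    have fin : {n : ℕ | 1 < n ∧ ∃ x : G, C1[x].index = n}.Finite :=
      (Set.finite_range fun x : G => C1[x].index).subset fun n hn => hn.2
    have h3 : ∀ x y : G, x ≠ 1 → y ≠ 1 → C1[x].index ≠ C1[y].index → ∃ z : G, z ≠ 1 ∧ ∀ g : G, g ≠ 1 →
        C1[g].index = C1[x].index ∨ C1[g].index = C1[y].index ∨ C1[g].index = C1[z].index := fun x y x1 y1 n => by
      by_contra! k
      obtain ⟨w, w1, a1, a2, -⟩ := k x x1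
      obtain ⟨v, v1, b1, b2, b3⟩ := k w w1
      have := Set.ncard_le_ncard (s := ↑({C1[x].index, C1[y].index, C1[w].index, C1[v].index} : Finset ℕ))
        (fun n hn => by
          simp only [Finset.coe_insert, Finset.coe_singleton, Set.mem_insert_iff, Set.mem_singleton_iff] at hn
          rcases hn with rfl | rfl | rfl | rfl
          exacts [⟨c1 x1, x, rfl⟩, ⟨c1 y1, y, rfl⟩, ⟨c1 w1, w, rfl⟩, ⟨c1 v1, v, rfl⟩]) fin
      rw [Set.ncard_coe_finset, Finset.card_insert_of_notMem (by simp; omega), Finset.card_insert_of_notMem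
        (by simp; omega), Finset.card_insert_of_notMem (by simp; omega), Finset.card_singleton] at this
      rw [Nat.card_coe_set_eq] at h
      omega
    obtain ⟨F, _, _, n, _, h1, h2, ⟨f⟩⟩ := bsw ns (three_sizes hZ ns h3) fun v hv _ => mem_bot.1 (hZ.le hv)
    have zc : center (Matrix.SpecialLinearGroup (Fin 2) F) = ⊥ := eq_bot_iff.2 fun v hv => mem_bot.2
      (f.symm.map_eq_one_iff.1 (mem_bot.1 (hZ.le (mem_center_iff.2 fun g => f.injective (by
        simp only [map_mul, f.apply_symm_apply]; exact mem_center_iff.1 hv _)))))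
    haveI := Fintype.ofFinite (GaloisField 2 n)
    obtain ⟨e⟩ := CfsgH8.psl_congr (ι := Fin 2) (F := F) (F' := GaloisField 2 n)
      (by rw [h2, ← Nat.card_eq_fintype_card, GaloisField.card 2 n (by omega)])
    exact ⟨n, by omega, ⟨(f.trans ((QuotientGroup.quotientMulEquivOfEq zc).trans QuotientGroup.quotientBot).symm).trans e⟩⟩

end Cfsg.Agent.S4137
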