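import Cfsg.Statements.S4159
import Mathlib
import Cfsg.Agent.L0.SCA
import Cfsg.Agent.L0.G3
import Cfsg.Agent.S3861
import Cfsg.Agent.H2.FT

set_option autoImplicit false
open Cfsg

namespace Cfsg.Agent.S4159

open Cfsg Subgroup CfsgH2 CfsgL0

/-- Let G be a finite group such that in every subgroup H of G, any two conjugacy classes of H of size greater than 1 have non-coprime sizes. Then G is solvable. -/
theorem result {G : Type*} [Group G] [Finite G]
    (h : ∀ (H : Subgroup G) (x y : H), 1 < (Subgroup.centralizer ({x} : Set H)).index → 1 < (Subgroup.centralizer ({y} : Set H)).index →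
      ¬ ((Subgroup.centralizer ({x} : Set H)).index).Coprime (Subgroup.centralizer ({y} : Set H)).index) : Group.IsSolvable G := by
  obtain ⟨P⟩ : Nonempty (Sylow 2 G) := inferInstance
  haveI := (Cfsg.Agent.S3861.result P).1 fun y y1 ho hc => by
    obtain ⟨x, hx⟩ := isConj_iff.1 hc
    have n : x ∈ N[zpowers y] := mem_norm_zpowers (hx ▸ inv_mem (mem_zpowers y))
    have x1 : x ∉ C1[y] := fun e => by
      rw [mem_c1.1 e, mul_inv_cancel_right, eq_inv_iff_mul_eq_one, ← sq] at hx
      exact y1 (orderOf_eq_one_iff.1 (Nat.eq_one_of_dvd_coprimes ho.coprime_two_left (orderOf_dvd_of_pow_eq_one hx) dvd_rfl))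
    have := h (zpowers y ⊔ zpowers x) ⟨y, mem_sup_left (mem_zpowers y)⟩ ⟨x, mem_sup_right (mem_zpowers x)⟩
    simp only [index_cent_sub] at this
    have k : ∀ (a b : G) (H : Subgroup G), a ∈ H → a ∉ C1[b] → 1 < C1[b].relIndex H := fun a b H ha hb =>
      lt_of_le_of_ne (relIndex_pos _ _) fun e => hb (relIndex_eq_one.1 e.symm ha)
    refine this (k x _ _ (mem_sup_right (mem_zpowers x)) x1) (k y _ _ (mem_sup_left (mem_zpowers y)) (mt mem_c1_comm.1 x1)) ?_
    have a1 : C1[y].relIndex (zpowers y ⊔ zpowers x) ∣ 2 := by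
      refine dvd_trans ?_ (relIndex_sup_zpowers_dvd (CfsgH1.mem_norm_cent1_of_inv hx) (CfsgH1.mem_cent1_of_sq hx))
      have l : C1[y] ⊔ zpowers x ≤ N[C1[y]] := sup_le le_normalizer (zpowers_le.2 (CfsgH1.mem_norm_cent1_of_inv hx))
      have l2 : zpowers y ⊔ zpowers x ≤ C1[y] ⊔ zpowers x := sup_le_sup_right (zpowers_le.2 (self_mem_cent1 y)) _
      rw [← card_qt l, ← card_qt (l2.trans l)]
      exact card_dvd_of_le (qt_mono l2)
    have a2 : C1[x].relIndex (zpowers y ⊔ zpowers x) ∣ orderOf y := by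
      refine (relIndex_dvd_of_le_left _ (zpowers_le.2 (self_mem_cent1 x))).trans
        (Nat.dvd_of_mul_dvd_mul_left (card_pos' (zpowers x)) ?_)
      rw [card_mul_relIndex le_sup_right, mul_comm, ← Nat.card_zpowers]
      exact card_sup_dvd (.inr (zpowers_le.2 n))
    exact (Nat.Coprime.coprime_dvd_left a1 (Nat.Coprime.coprime_dvd_right a2 ho.coprime_two_left))
  haveI := isSolvable_of_pgroup P.2
  haveI : Group.IsSolvable (G ⧸ (P : Subgroup G)) := ft_of_not_dvd P.not_dvd_index
  exact solvable_of_ker_le_range (P : Subgroup G).subtype (QuotientGroup.mk' P) (by simp)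

end Cfsg.Agent.S4159
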