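import Cfsg.Statements.S4188
import Cfsg.Agent.H2.MaxCl3
import Cfsg.Agent.H2.BG0
import Cfsg.Agent.L0.TwoF
import Cfsg.Agent.H1.Frob
import Cfsg.Agent.H1.Cop2

set_option autoImplicit false
open Cfsg

open CfsgH2 Function Subgroup
open scoped commutatorElement

namespace Cfsg.Agent.S4188
universe u

/-- the bound carried through the induction -/
def Bd (a v : ℕ) : Prop := 2 * a ≤ v ∨ (v = 3 ∧ a ≤ 2)

/-- the inductive statement -/
def St (n : ℕ) : Prop := ∀ (G : Type u) [Group G] [Finite G] (V P : Subgroup G), o[V] < n → Ab[V] →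
  Odd o[V] → V ≠ ⊥ → PG[2, P] → P ≤ N[V] → P ⊓ C[V] = ⊥ → Bd (Φ[P].relIndex P) o[V]

section
variable {G : Type u} [Group G] [Finite G] {V W U P Q : Subgroup G} {e : G} {n : ℕ}

theorem cop (hP : PG[2, P]) (ho : Odd o[V]) : o[P].Coprime o[V] :=
  coprime_of_pgroup hP ho.not_two_dvd_nat

theorem split (ih : St.{u} n) (hQ : PG[2, Q]) (l1 : o[W] < n) (l2 : o[U] < n) (a1 : Ab[W]) (a2 : Ab[U])
    (o1 : Odd o[W]) (o2 : Odd o[U]) (w0 : W ≠ ⊥) (u0 : U ≠ ⊥) (n1 : Q ≤ N[W]) (n2 : Q ≤ N[U])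
    (f : Q ⊓ C[W] ⊓ C[U] = ⊥) : ∃ a b, Bd a o[W] ∧ Bd b o[U] ∧ Φ[Q].relIndex Q ≤ a * b := by
  set K := Q ⊓ C[W] with hK
  have pK : PG[2, K] := hQ.to_le inf_le_left
  have nQ : Q ≤ N[K] := le_norm_inf le_normalizer (le_norm_cent n1)
  have nW : W ≤ N[K] := le_norm_of_le_cent (le_centralizer_iff.1 inf_le_right)
  have d : W ⊓ K = ⊥ := inf_eq_bot_of_coprime' (cop pK o1).symm
  have c : o[qt K W] = o[W] := by
    have := card_qt_mul nW
    rwa [d, card_bot, one_mul] at this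
  have h1 := ih _ (qt K W) (qt K Q) (c ▸ l1) (isMulComm_qt a1) (c ▸ o1)
    (fun e => w0 (card_eq_one.1 (by rw [← c, e, card_bot]))) (isPGroup_qt hQ) (qt_le_norm n1) (by
      obtain ⟨B, b1, b2, b3⟩ := exists_qt_eq_le (inf_le_left : qt K Q ⊓ C[qt K W] ≤ qt K Q)
      rw [← b3]
      have := (qt_le_cent_iff b2 nW).1 (b3 ▸ inf_le_right)
      exact qt_eq_bot_of_le (le_inf b1 (comm_eq_bot_iff.1 (le_bot_iff.1
        ((le_inf (comm_le_right (b1.trans n1)) this).trans d.le)))))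
  rw [c, ← qt_phi hQ nQ, ← qt_sup_self (phi_le.trans nQ), relIndex_qt nQ le_sup_right] at h1
  refine ⟨_, _, h1, ih _ U K l2 a2 o2 u0 pK (inf_le_left.trans n2) f, ?_⟩
  rw [← relIndex_mul_relIndex Φ[Q] (Φ[Q] ⊔ K) Q le_sup_left (sup_le phi_le inf_le_left), mul_comm,
    sup_comm, relIndex_sup_of_norm (inf_le_left.trans le_norm_phi)]
  exact Nat.mul_le_mul_left _ (relIndex_le_of_le_left (phi_mono hQ inf_le_left) (relIndex_pos _ _).ne')

theorem dec (ab : Ab[V]) (ho : Odd o[V]) (he : e ∈ N[V]) (e2 : e ^ 2 = 1) :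
    V ⊓ C1[e] ⊔ ⁅V, zpowers e⁆ = V ∧ o[V ⊓ C1[e]] * o[⁅V, zpowers e⁆] = o[V] := by
  have n := zpowers_le.2 he
  have c := cop (isPGroup_zpowers (p := 2) (k := 1) e2) ho
  have h1 := coprime_comm_sup_cent n c (Or.inl inferInstance)
  have h2 := coprime_comm_inf_cent ab n c
  rw [cent_zpowers] at h1 h2
  rw [sup_comm] at h1
  refine ⟨h1, ?_⟩
  rw [← card_sup_of_disj (Or.inl (le_norm_of_le_cent
    (inf_le_left.trans (le_cent_of_comm ab (comm_le_left n))))), h1]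
  exact le_bot_iff.1 ((le_inf inf_le_right (inf_le_left.trans inf_le_right)).trans h2.le)

theorem split2 (ih : St.{u} n) (hQ : PG[2, Q]) (l : o[V] < n + 1) (ab : Ab[V]) (ho : Odd o[V])
    (n1 : Q ≤ N[V]) (f : Q ⊓ C[V] = ⊥) (he : e ∈ N[V]) (e2 : e ^ 2 = 1) (hc : Q ≤ C1[e])
    (h0 : V ⊓ C1[e] ≠ ⊥) (h1 : e ∉ C[V]) :
    ∃ a b, Bd a o[V ⊓ C1[e]] ∧ Bd b o[⁅V, zpowers e⁆] ∧ Φ[Q].relIndex Q ≤ a * b := by
  obtain ⟨d1, d2⟩ := dec ab ho he e2
  have u0 : ⁅V, zpowers e⁆ ≠ ⊥ := fun h => h1 (zpowers_le.1 (le_centralizer_iff.1 (comm_eq_bot_iff.1 h)))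
  have l1 : ⁅V, zpowers e⁆ ≤ V := comm_le_left (zpowers_le.2 he)
  have c1 := (one_lt_card_iff_ne_bot _).2 h0
  have c2 := (one_lt_card_iff_ne_bot _).2 u0
  have o := d2 ▸ ho
  refine split ih hQ (by nlinarith) (by nlinarith) (isMulComm_of_le ab inf_le_left)
    (isMulComm_of_le ab l1) (Nat.Odd.of_mul_left o) (Nat.Odd.of_mul_right o) h0 u0
    (le_norm_inf n1 (le_norm_of_le hc)) (le_norm_commutator n1 (le_norm_of_le_cent
      (by rwa [cent_zpowers]))) ?_
  rw [inf_assoc, ← cent_sup, d1, f]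

theorem ar {a b c v w : ℕ} (h1 : Bd a v) (h2 : Bd b w) (h : c ≤ a * b) : Bd c (v * w) := by
  have k1 : 3 * a ≤ 2 * v := by rcases h1 with h | h <;> omega
  have k2 : 3 * b ≤ 2 * w := by rcases h2 with h | h <;> omega
  have := Nat.mul_le_mul k1 k2
  left; nlinarith

theorem two (h : o[V] = 3) (n : Q ≤ N[V]) : C[V].relIndex Q ≤ 2 :=
  (relIndex_le_of_le_right n (relIndex_pos _ _).ne').trans (Nat.le_of_dvd two_pos (by
    haveI : Fact (Nat.Prime 3) := ⟨Nat.prime_three⟩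
    haveI := isCyclic_of_prime_card h
    have : Nat.card V.normalizerMonoidHom.range = C[V].relIndex N[V] := by
      rw [← index_ker, normalizerMonoidHom_ker]; rfl
    rw [← this]
    refine (card_subgroup_dvd_card _).trans ?_
    rw [IsCyclic.card_mulAut, h]; decide))
end

theorem st (n : ℕ) : St.{u} n := by
  induction n with
  | zero => intro G _ _ V P h; omega
  | succ n ih =>
  intro G _ _ V P l ab ho v0 hP nP f
  have v1 := (one_lt_card_iff_ne_bot _).2 v0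
  have nc : ∀ e ∈ P, e ≠ 1 → e ∉ C[V] := fun e he e1 h => e1 (mem_bot.1 (f ▸ mem_inf.2 ⟨he, h⟩))
  have cen : ∀ e ∈ P, e ≠ 1 → e ^ 2 = 1 → P ≤ C1[e] → V ⊓ C1[e] ≠ ⊥ → Bd (Φ[P].relIndex P) o[V] :=
    fun e he e1 e2 hc h0 => by
      obtain ⟨a, b, h1, h2, h3⟩ := split2 ih hP l ab ho nP f (nP he) e2 hc h0 (nc e he e1)
      exact (dec ab ho (nP he) e2).2 ▸ ar h1 h2 h3
  obtain ⟨k, hk⟩ := id ho
  by_cases hE : ∀ E ≤ P, P ≤ N[E] → ¬ El 2 2 E
  · rcases cyc_or_mc' hP hE with h | ⟨-, a, b, m, h⟩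
    · have h1 : Φ[P].relIndex P ≤ 2 := by
        rw [← card_qt le_norm_phi]
        haveI := isCyclic_qt (K := Φ[P]) h
        rw [← IsCyclic.exponent_eq_card]
        exact Nat.le_of_dvd two_pos (Monoid.exponent_dvd_of_forall_pow_eq_one fun x =>
          Subtype.ext ((elem_qt_phi hP).2 x x.2))
      unfold Bd; omega
    · have h1 := relIndex_le_of_le_left (comm_le_phi hP.isNilpotent) (relIndex_pos ⁅P, P⁆ P).ne'
      rw [h.relIndex_commutator] at h1
      refine Or.inl (by_contra fun h2 => h.not_comm ?_)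
      haveI : Fact o[V].Prime := ⟨by
        have : o[V] < 8 := by omega
        interval_cases o[V] <;> first | omega | norm_num⟩
      have := commutator_le_cent_of_cyclic (isCyclic_of_prime_card (α := V) rfl) nP
      exact le_centralizer_iff_isMulCommutative.1 (comm_eq_bot_iff.1 (le_bot_iff.1
        ((le_inf (comm_le_left le_normalizer) this).trans f.le)))
  push Not at hE
  obtain ⟨E, hEP, nE, el⟩ := hE
  have k4 : CfsgL0.K4 E := ⟨el.card, fun x hx => (sq x).symm.trans (el.el.2 x hx)⟩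
  obtain ⟨z, hz, z1⟩ := exists_ne_one (inf_cent_ne_bot' hP k4.pg nE fun e => by simpa [e] using k4.1)
  have zc : P ≤ C1[z] := le_cent1_iff.2 hz.2
  by_cases h0 : V ⊓ C1[z] = ⊥
  swap
  · exact cen z (hEP hz.1) z1 (el.el.2 z hz.1) zc h0
  obtain ⟨e, he, e1, e0⟩ : ∃ e ∈ E, e ≠ 1 ∧ V ⊓ C1[e] ≠ ⊥ := by
    by_contra! h
    exact k4.not_cyc (CfsgH1.isCyclic_of_fpf_comm v0 (hEP.trans nP) h k4.ab)
  have e2 := el.el.2 e he
  by_cases hc : P ≤ C1[e]
  · exact cen e (hEP he) e1 e2 hc e0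
  obtain ⟨t, ht, t1⟩ := SetLike.not_le_iff_exists.1 hc
  have ee := k4.2 e he
  have t2 : t * e * t⁻¹ = z * e := by
    have ez : e ∉ zpowers z := fun h => t1 (cent_le_cent1 h (cent_zpowers z ▸ zc ht))
    rcases k4.cases hz.1 z1 he ez (conj_mem_of_norm (nE ht) he) with h | h | h | h
    · exact absurd (by simpa using h) e1
    · refine absurd ?_ ez
      rw [mul_inv_eq_iff_eq_mul, ← mem_centralizer_singleton_iff.1 (zc ht), mul_right_inj] at h
      exact h ▸ mem_zpowers _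
    · exact absurd (mem_centralizer_singleton_iff.2 (mul_inv_eq_iff_eq_mul.1 h)) t1
    · exact h
  obtain ⟨-, d2⟩ := dec ab ho (nP (hEP he)) e2
  have c1 : o[V ⊓ C1[z * e]] = o[V ⊓ C1[e]] := by
    rw [← t2, centralizer_conj, ← card_map_cj t (V ⊓ C1[e]), map_cj_inf, map_cj_eq (nP ht)]
  have c2 : ⁅V, zpowers e⁆ ≤ V ⊓ C1[z * e] := comm_zpowers_le'
    (le_norm_of_le_cent (le_cent_of_comm ab inf_le_left)) (mem_norm_inf (nP (hEP he)) (le_normalizer
      (mem_centralizer_singleton_iff.2 (comm_of_isMulComm k4.ab he (mul_mem hz.1 he))))) fun u hu => by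
      have hw := comm_le_left (zpowers_le.2 (nP (hEP he))) (commutator_mem_commutator hu (mem_zpowers e))
      refine ⟨hw, mem_centralizer_singleton_iff.2 (mul_inv_eq_iff_eq_mul.1 ?_).symm⟩
      have a1 := CfsgH1.inv_of_fpf_involution (nP (hEP hz.1)) h0 (k4.2 z hz.1) (inv_mem hw)
      have a2 : e * ⁅u, e⁆ * e⁻¹ = ⁅u, e⁆⁻¹ := by
        have : e⁻¹ = e := inv_eq_of_mul_eq_one_right ee
        simp only [commutatorElement_def, mul_inv_rev, inv_inv, this, mul_assoc, ee, mul_one]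
      rw [inv_inv, ← a2] at a1
      exact Eq.trans (by simp only [mul_inv_rev, mul_assoc]) a1
  have c3 : o[V ⊓ C1[e]] * o[V ⊓ C1[z * e]] ≤ o[V] := by
    rw [← card_sup_of_disj (Or.inl (le_norm_of_le_cent
      (inf_le_left.trans (le_cent_of_comm ab inf_le_left))))]
    · exact card_le_of_le (sup_le inf_le_left inf_le_left)
    refine le_bot_iff.1 (le_trans (b := V ⊓ C1[z]) (fun x ⟨⟨a, b⟩, _, c⟩ => ⟨a, ?_⟩) h0.le)
    have b' := mem_centralizer_singleton_iff.1 b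
    have c' := mem_centralizer_singleton_iff.1 c
    rw [← mul_assoc, mul_assoc z e x, ← b', ← mul_assoc] at c'
    exact mem_centralizer_singleton_iff.2 (mul_right_cancel c')
  have c4 : o[⁅V, zpowers e⁆] = o[V ⊓ C1[e]] := le_antisymm (c1 ▸ card_le_of_le c2)
    (Nat.le_of_mul_le_mul_left (by rw [d2]; exact c1 ▸ c3) (card_pos' (V ⊓ C1[e])))
  have qc : P ⊓ C[E] ≤ C1[e] := inf_le_right.trans (cent_le_cent1 he)
  have i2 : (P ⊓ C[E]).relIndex P ≤ 2 := by rw [inf_relIndex_left]; exact k4.le_two nE hz.1 z1 zc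
  have fQ : P ⊓ C[E] ⊓ C[V] = ⊥ := le_bot_iff.1 ((inf_le_inf_right _ inf_le_left).trans f.le)
  by_cases h3 : o[V ⊓ C1[e]] = 3
  · have n1 : P ⊓ C[E] ≤ N[V ⊓ C1[e]] := le_norm_inf (inf_le_left.trans nP) (le_norm_of_le qc)
    have n2 : P ⊓ C[E] ≤ N[⁅V, zpowers e⁆] := le_norm_commutator (inf_le_left.trans nP)
      (le_norm_of_le_cent (by rwa [cent_zpowers]))
    have a1 := two h3 n1
    have a2 := two (c4.trans h3) ((inf_le_right : C[V ⊓ C1[e]] ⊓ (P ⊓ C[E]) ≤ _).trans n2)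
    have b1 := card_inf_mul_relIndex C[V ⊓ C1[e]] (P ⊓ C[E])
    have b2 := card_inf_mul_relIndex C[⁅V, zpowers e⁆] (C[V ⊓ C1[e]] ⊓ (P ⊓ C[E]))
    rw [← inf_assoc, inf_comm C[⁅V, zpowers e⁆], ← cent_sup, (dec ab ho (nP (hEP he)) e2).1, inf_comm C[V],
      fQ, card_bot, one_mul] at b2
    have b3 := card_mul_relIndex (inf_le_left : P ⊓ C[E] ≤ P)
    have b4 := card_mul_relIndex (phi_le : Φ[P] ≤ P)
    have b5 : 1 < o[Φ[P]] := (one_lt_card_iff_ne_bot _).2 fun h => t1 (mem_centralizer_singleton_iff.2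
      (comm_of_isMulComm (elem_of_phi_eq_bot hP h).1 ht (hEP he)))
    have b6 : o[P ⊓ C[E]] ≤ 4 := by rw [← b1, ← b2]; exact Nat.mul_le_mul a2 a1
    have b7 : o[P] ≤ 8 := by rw [← b3]; exact Nat.mul_le_mul b6 i2
    left
    rw [← d2, c4, h3]
    nlinarith
  obtain ⟨a, b, h1, h2, h4⟩ := split2 ih (hP.to_le inf_le_left) l ab ho (inf_le_left.trans nP) fQ
    (nP (hEP he)) e2 qc e0 (nc e (hEP he) e1)
  have h5 : Φ[P].relIndex P ≤ a * b * 2 := by
    refine (relIndex_le_of_le_left (phi_mono hP (inf_le_left : P ⊓ C[E] ≤ P)) (relIndex_pos _ _).ne').trans ?_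
    rw [← relIndex_mul_relIndex _ (P ⊓ C[E]) P phi_le inf_le_left]
    exact Nat.mul_le_mul h4 i2
  have := Nat.mul_le_mul (h1.resolve_right fun h => h3 h.1) (h2.resolve_right fun h => h3 (c4 ▸ h.1))
  left
  rw [← d2]
  nlinarith

/-- Let G be a finite group that is the semidirect product of a normal abelian subgroup N of odd order by a 2-subgroup P, and suppose N is the unique minimal normal subgroup of G. Then the index of the Frattini subgroup of P in P is at most #N − 1. -/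
theorem result {G : Type*} [Group G] [Finite G] (N P : Subgroup G) (hN : N.Normal) (hNab : IsMulCommutative ↥N) (hNodd : Odd (Nat.card ↥N)) (hP : IsPGroup 2 ↥P) (hdisj : N ⊓ P = ⊥) (hprod : N ⊔ P = ⊤) (hmin : N ≠ ⊥ ∧ ∀ M : Subgroup G, M.Normal → M ≠ ⊥ → N ≤ M) : (frattini ↥P).index ≤ Nat.card ↥N - 1 := by
  have nN : ∀ L : Subgroup G, L ≤ N[N] := fun L => le_top.trans (top_le_norm_iff.2 hN)
  have f : P ⊓ C[N] = ⊥ := by
    by_contra h
    have : (P ⊓ C[N]).Normal := normal_of_top_le_norm (hprod ▸ sup_le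
      (le_norm_of_le_cent (le_centralizer_iff.1 inf_le_right))
      (le_norm_inf le_normalizer (le_norm_cent (nN P))))
    exact hmin.1 (le_bot_iff.1 ((le_inf le_rfl ((hmin.2 _ this h).trans inf_le_left)).trans hdisj.le))
  have h := st _ G N P (Nat.lt_succ_self _) hNab hNodd hmin.1 hP (nN P) f
  have e : Φ[P].relIndex P = (frattini P).index := by
    rw [relIndex, CfsgH1.frattiniOf, subgroupOf, comap_map_eq_self_of_injective P.subtype_injective]
  have := (one_lt_card_iff_ne_bot _).2 hmin.1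
  rw [e] at h
  unfold Bd at h
  omega


end Cfsg.Agent.S4188
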