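import Cfsg.Statements.S4193
import Mathlib
import Cfsg.Agent.L0.SCA
import Cfsg.Agent.L0.G3

set_option autoImplicit false
open Cfsg

namespace Cfsg.Agent.S4193

open Cfsg Subgroup CfsgH2 CfsgL0

/-- Let G be a finite group in which the conjugacy classes of all non-central real elements (elements conjugate to their inverses) have sizes with the same 2-part, and suppose G has a Sylow 2-subgroup S such that every element of S that is conjugate in S to its inverse lies in the centre of S. Then G is solvable and the subgroup generated by the 2-elements of G (the smallest normal subgroup of odd index) has a normal 2-complement. -/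
theorem result {G : Type*} [Group G] [Finite G] (a : ℕ) (h : ∀ x : G, IsConj x x⁻¹ → x ∉ Subgroup.center G → ((Subgroup.centralizer ({x} : Set G)).index).factorization 2 = a) (S : Sylow 2 G) (hS : ∀ s : ↥(S : Subgroup G), IsConj s s⁻¹ → s ∈ Subgroup.center ↥(S : Subgroup G)) : Group.IsSolvable G ∧ Cfsg.HasNormalPComplement 2 ↥(Subgroup.closure {g : G | ∃ k : ℕ, orderOf g = 2 ^ k}) := by
  have s := syl_top S
  by_cases ha : a = 0
  · haveI := normal_of_real s fun x y hx _ => CfsgH1.sq_eq_one_of_real hx (mem_top _) (by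
      rw [relIndex_top_right]
      by_cases z : x ∈ center G
      · rw [cs_eq_one.2 z]; decide
      · exact fun d => (Nat.prime_two.factorization_pos_of_dvd (index_pos _).ne' d).ne' (ha ▸ h x (isConj_iff.2 ⟨y, hx⟩) z))
    refine ⟨isSolvable_top_iff.1 (sol_of_syl_norm s (top_le_norm_iff.2 this)), npc_iff.2 (NPC.of_pgroup (S.2.to_le
      ((closure_le _).2 fun g ⟨k, hk⟩ => s.mem_of_norm (top_le_norm_iff.2 this) (mem_top g) (k := k) ?_)))⟩
    rw [← hk, pow_orderOf_eq_one]
  · have n : NPC 2 (⊤ : Subgroup G) := s.frobenius_npc fun Q l _ g _ hg ho =>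
      cent_of_real (Nat.coprime_two_right.1 ho) _ Q rfl (S.2.to_le l) hg fun x hx y hy e => center_le_c1 (by
        by_contra z
        have := hS ⟨x, l hx⟩ (isConj_iff.2 ⟨⟨y, l hy⟩, Subtype.ext e⟩)
        refine ha (h x (isConj_iff.2 ⟨y, e⟩) z ▸ Nat.factorization_eq_zero_of_not_dvd (not_dvd_cs s fun u hu => ?_))
        exact mem_c1.2 (congrArg Subtype.val (mem_center_iff.1 this ⟨u, hu⟩)))
    exact ⟨isSolvable_top_iff.1 (sol_of_npc n), npc_iff.2 (n.mono le_top)⟩

end Cfsg.Agent.S4193
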