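import Cfsg.Statements.S4194
import Mathlib
import Cfsg.Agent.L0.SCA
import Cfsg.Agent.L0.G3

set_option autoImplicit false
open Cfsg

namespace Cfsg.Agent.S4194

open Cfsg Subgroup CfsgH2 CfsgL0

/-- A finite group G has commutative Sylow 2-subgroups if and only if every 2-element of G (element of order a power of 2) is 2-central, that is, its centralizer contains a Sylow 2-subgroup of G. -/
theorem result {G : Type*} [Group G] [Finite G] (P : Sylow 2 G) :
    IsMulCommutative (P : Subgroup G) ↔ ∀ x : G, (∃ k : ℕ, orderOf x = 2 ^ k) → (∃ Q : Sylow 2 G, (Q : Subgroup G) ≤ Subgroup.centralizer ({x} : Set G)) := by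
  refine ⟨fun h x hx => ?_, fun h => ccen_two _ G rfl P (syl_top P) (ccen_of (syl_top P) fun x hx => ?_)⟩
  · obtain ⟨g, -, hg⟩ := (syl_top P).exists_le_conj (CfsgH1.isPGroup_zpowers_iff.2 hx) le_top
    obtain ⟨Q, hQ⟩ := ((syl_top P).map_cj_mem (mem_top g)).exists_top
    exact ⟨Q, hQ ▸ le_cent1_iff.2 (le_cent_of_comm (isMulComm_map _ h) le_rfl (hg (mem_zpowers x)))⟩
  · obtain ⟨Q, hQ⟩ := h x hx
    exact not_dvd_cs (syl_top Q) hQ

end Cfsg.Agent.S4194
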