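import Cfsg.Statements.S4198
import Cfsg.Agent.H1.Misc1

set_option autoImplicit false
open Cfsg

namespace Cfsg.Agent.S4198

section
open Equiv Equiv.Perm
open scoped commutatorElement

/-- Partitions as multisets. -/
def Pt (n : ℕ) : Set (Multiset ℕ) := {m | m.sum = n ∧ ∀ a ∈ m, 0 < a}

/-- Small partitions. -/
def L : ℕ → Finset (Multiset ℕ)
  | 0 => {0}
  | 1 => {{1}}
  | 2 => {{2}, {1, 1}}
  | 3 => {{3}, {2, 1}, {1, 1, 1}}
  | 4 => {{4}, {3, 1}, {2, 2}, {2, 1, 1}, {1, 1, 1, 1}}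
  | _ => {{5}, {4, 1}, {3, 2}, {3, 1, 1}, {2, 2, 1}, {2, 1, 1, 1}, {1, 1, 1, 1, 1}}

theorem sub_L : ∀ n < 6, ∀ m ∈ Pt n, m ∈ L n := by
  intro n
  induction n using Nat.strong_induction_on with
  | _ n ih =>
  intro h m hm
  induction m using Multiset.induction_on with
  | empty => rw [← hm.1]; decide
  | cons a m _ =>
    have h1 := hm.2 a (Multiset.mem_cons_self _ _)
    have h2 := hm.1
    rw [Multiset.sum_cons] at h2
    exact (by decide +kernel : ∀ n < 6, ∀ a < 6, 0 < a → a ≤ n → ∀ m ∈ L (n - a), a ::ₘ m ∈ L n) n h a (by omega) h1 (by omega) m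
      (ih _ (by omega) (by omega) m ⟨by omega, fun b hb => hm.2 b (Multiset.mem_cons_of_mem hb)⟩)

theorem pt_le (k : ℕ) : (Pt (k + 5)).Finite ∧ (Pt (k + 5)).ncard ≤ 2 ^ (k + 3) := by
  induction k with
  | zero =>
    have : Pt 5 ⊆ L 5 := sub_L 5 (by omega)
    exact ⟨(L 5).finite_toSet.subset this, (Set.ncard_le_ncard this).trans (by rw [Set.ncard_coe_finset]; decide +kernel)⟩
  | succ k ih =>
    have : ∀ m ∈ Pt (k + 6), ∃ x ∈ Pt (k + 5) ×ˢ (Set.univ : Set Bool), (x.2 = true ∧ m = 1 ::ₘ x.1) ∨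
        (x.2 = false ∧ ∃ a t, m = (a + 1) ::ₘ t ∧ x.1 = a ::ₘ t ∧ ∀ b ∈ t, a < b) := fun m hm => by
      obtain ⟨a, ha, h⟩ := Multiset.exists_min_image id (s := m) (by rintro rfl; simpa using hm.1)
      obtain ⟨t, rfl⟩ := Multiset.exists_cons_of_mem ha
      have h2 := hm.1
      have h3 := fun b hb => hm.2 b (Multiset.mem_cons_of_mem hb)
      rw [Multiset.sum_cons] at h2
      obtain ⟨a, rfl⟩ := Nat.exists_eq_succ_of_ne_zero (hm.2 a ha).ne'
      rcases a.eq_zero_or_pos with rfl | p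
      · exact ⟨(t, true), ⟨⟨by simp only; omega, h3⟩, trivial⟩, .inl ⟨rfl, rfl⟩⟩
      · exact ⟨(a ::ₘ t, false), ⟨⟨by simp only [Multiset.sum_cons]; omega, Multiset.forall_mem_cons.2 ⟨p, h3⟩⟩, trivial⟩,
          .inr ⟨rfl, a, t, rfl, rfl, fun b hb => h b (Multiset.mem_cons_of_mem hb)⟩⟩
    choose! f h1 h2 using this
    have i : Set.InjOn f (Pt (k + 6)) := fun m hm m' hm' e => by
      rcases h2 m hm with ⟨a1, a2⟩ | ⟨a1, a, t, rfl, a2, a3⟩ <;> rcases h2 m' hm' with ⟨b1, b2⟩ | ⟨b1, b, u, rfl, b2, b3⟩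
      · rw [a2, b2, e]
      · simp [e, b1] at a1
      · simp [e, b1] at a1
      rw [e, b2] at a2
      have c1 := Multiset.mem_cons.1 (a2 ▸ Multiset.mem_cons_self b u)
      have c2 := Multiset.mem_cons.1 (a2 ▸ Multiset.mem_cons_self a t)
      obtain rfl : a = b := by have := c1.imp_right (a3 _); have := c2.imp_right (b3 _); omega
      rw [(Multiset.cons_inj_right _).1 a2]
    have fi := ih.1.prod (Set.finite_univ (α := Bool))
    refine ⟨Set.Finite.of_injOn h1 i fi, (Set.ncard_le_ncard_of_injOn f h1 i fi).trans ?_⟩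
    rw [Set.ncard_prod, Set.ncard_univ, Nat.card_eq_fintype_card, Fintype.card_bool, pow_succ]
    exact Nat.mul_le_mul_right _ ih.2

end

/-- For n ≥ 5 the alternating group of degree n has strictly fewer conjugacy classes than the symmetric group of degree n, and the symmetric group of degree n (whose classes correspond to the partitions of n) has at most 2^(n−2) conjugacy classes. -/
theorem result (n : ℕ) (hn : 5 ≤ n) : Nat.card (ConjClasses (alternatingGroup (Fin n))) < Nat.card (ConjClasses (Equiv.Perm (Fin n))) ∧ Nat.card (ConjClasses (Equiv.Perm (Fin n))) ≤ 2 ^ (n - 2) := by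
  open Equiv Equiv.Perm in
  open scoped commutatorElement in
  · classical
    constructor
    · have ct : ∀ m : Multiset ℕ, ∃ r : alternatingGroup (Fin n), ∀ g : alternatingGroup (Fin n), g.1.cycleType = m → r.1.cycleType = m := fun m => by
        by_cases h : ∃ g : alternatingGroup (Fin n), g.1.cycleType = m
        · exact ⟨h.choose, fun _ _ => h.choose_spec⟩
        · exact ⟨1, fun g e => (h ⟨g, e⟩).elim⟩
      choose r hr using ct
      have cj : ∀ (g h : alternatingGroup (Fin n)) (s : Perm (Fin n)), s * g * s⁻¹ = h → s ∈ alternatingGroup (Fin n) → IsConj g h := fun g h s e hs =>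
        isConj_iff.2 ⟨⟨s, hs⟩, Subtype.ext e⟩
      have od : ∀ s t : Perm (Fin n), s ∉ alternatingGroup (Fin n) → t ∉ alternatingGroup (Fin n) → s * t ∈ alternatingGroup (Fin n) := fun s t h1 h2 => by
        rw [mem_alternatingGroup] at *
        rw [map_mul, (Int.units_eq_one_or _).resolve_left h1, (Int.units_eq_one_or _).resolve_left h2]; simp
      have : ∀ C : ConjClasses (alternatingGroup (Fin n)), ∃ σ : Perm (Fin n), ∃ g, ConjClasses.mk g = C ∧ ((IsConj g (r g.1.cycleType) ∧ σ = g) ∨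
          (¬ IsConj g (r g.1.cycleType) ∧ n ≤ g.1.cycleType.sum + 1 ∧ ∃ a t, g.1.cycleType = (a + 1) ::ₘ t ∧ σ.cycleType = a ::ₘ t ∧ Even a ∧ ∀ b ∈ t, Odd b)) := fun C => by
        obtain ⟨g, rfl⟩ := C.exists_rep
        by_cases h : IsConj g (r g.1.cycleType)
        · exact ⟨g, g, rfl, .inl ⟨h, rfl⟩⟩
        obtain ⟨s, hs⟩ := isConj_iff.1 (isConj_iff_cycleType_eq.2 (hr _ g rfl).symm)
        obtain ⟨h1, h2, -⟩ := centralizer_le_alternating_iff.1 (show Subgroup.centralizer {g.1} ≤ _ from fun c hc => by_contra fun k => h (cj _ _ (s * c) (by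
          rw [← hs, mul_assoc s c, ← Subgroup.mem_centralizer_iff.1 hc _ rfl]; group) (od _ _ (fun k => h (cj _ _ s hs k)) k)))
        rw [Fintype.card_fin] at h2
        obtain ⟨a, ha⟩ := Multiset.exists_mem_of_ne_zero (s := g.1.cycleType) fun e => by rw [e] at h2; simp at h2; omega
        obtain ⟨t, e⟩ := Multiset.exists_cons_of_mem ha
        have h3 := two_le_of_mem_cycleType ha
        obtain ⟨k, rfl⟩ := h1 a ha
        have h4 := (exists_with_cycleType_iff _).1 ⟨g.1, e⟩
        obtain ⟨σ, hσ⟩ := (exists_with_cycleType_iff (Fin n) (m := (2 * k) ::ₘ t)).2 ⟨by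
          have := h4.1; rw [Multiset.sum_cons] at *; omega, Multiset.forall_mem_cons.2 ⟨by omega, (Multiset.forall_mem_cons.1 h4.2).2⟩⟩
        exact ⟨σ, g, rfl, .inr ⟨h, h2, _, t, e, hσ, even_two_mul k, fun b hb => h1 b (e ▸ Multiset.mem_cons_of_mem hb)⟩⟩
      choose f hf using this
      have sg : ∀ (g h : alternatingGroup (Fin n)) a t, g.1.cycleType = (a + 1) ::ₘ t → h.1.cycleType ≠ a ::ₘ t := fun g h a t e1 e2 => by
        have s1 := mem_alternatingGroup.1 g.2
        have s2 := mem_alternatingGroup.1 h.2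
        rw [sign_of_cycleType, neg_one_pow_eq_one_iff_even (by decide)] at s1 s2
        rw [e1] at s1; rw [e2] at s2
        simp only [Multiset.sum_cons, Multiset.card_cons, Nat.even_iff] at s1 s2
        omega
      haveI := Fintype.ofFinite (ConjClasses (alternatingGroup (Fin n)))
      rw [Nat.card_eq_fintype_card, Nat.card_eq_fintype_card]
      refine Fintype.card_lt_of_injective_of_notMem (fun C => ConjClasses.mk (f C)) (fun C D e => ?_)
        (b := ConjClasses.mk (swap ⟨0, by omega⟩ ⟨1, by omega⟩)) fun ⟨C, e⟩ => ?_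
      · replace e := isConj_iff_cycleType_eq.1 (ConjClasses.mk_eq_mk_iff_isConj.1 e)
        obtain ⟨g, rfl, ⟨a1, a2⟩ | ⟨a1, -, a, t, a2, a3, a4, a5⟩⟩ := hf C <;> obtain ⟨h, rfl, ⟨b1, b2⟩ | ⟨b1, -, b, u, b2, b3, b4, b5⟩⟩ := hf D
        · rw [a2, b2] at e
          exact ConjClasses.mk_eq_mk_iff_isConj.2 (a1.trans (e ▸ b1.symm))
        · exact (sg h g _ _ b2 (a2 ▸ e.trans b3)).elim
        · exact (sg g h _ _ a2 (b2 ▸ e.symm.trans a3)).elim
        rw [a3, b3] at e
        obtain rfl := (Multiset.mem_cons.1 (e ▸ Multiset.mem_cons_self a t)).resolve_right fun k => Nat.not_odd_iff_even.2 a4 (b5 _ k)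
        obtain rfl := (Multiset.cons_inj_right _).1 e
        obtain ⟨s, hs⟩ := isConj_iff.1 (isConj_iff_cycleType_eq.2 (hr _ g rfl).symm)
        obtain ⟨s', hs'⟩ := isConj_iff.1 (isConj_iff_cycleType_eq.2 (hr _ h rfl).symm)
        refine ConjClasses.mk_eq_mk_iff_isConj.2 (cj _ _ (s'⁻¹ * s) ?_ (od _ _ (fun k => b1 (cj _ _ s' hs' (inv_mem_iff.1 k))) fun k => a1 (cj _ _ s hs k)))
        rw [b2, ← a2, ← hs] at hs'
        rw [← mul_inv_eq_one]
        calc _ = s'⁻¹ * ((s * g * s⁻¹) * (s' * h * s'⁻¹)⁻¹) * s' := by group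
          _ = 1 := by rw [hs']; group
      · replace e := isConj_iff_cycleType_eq.1 (ConjClasses.mk_eq_mk_iff_isConj.1 e)
        have sw : (swap (⟨0, by omega⟩ : Fin n) ⟨1, by omega⟩).IsSwap := ⟨_, _, by simp, rfl⟩
        rw [isSwap_iff_cycleType.1 sw] at e
        obtain ⟨g, -, ⟨-, a2⟩ | ⟨-, a1, a, t, a2, a3, -⟩⟩ := hf C
        · have := (isSwap_iff_cycleType.2 e).sign_eq
          rw [a2, mem_alternatingGroup.1 g.2] at this
          exact absurd this (by decide)
        · obtain ⟨rfl, rfl⟩ := (Multiset.singleton_eq_cons_iff _).1 (e.symm.trans a3)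
          rw [a2] at a1; simp at a1; omega
    · obtain ⟨k, rfl⟩ : ∃ k, n = k + 5 := ⟨n - 5, by omega⟩
      obtain ⟨h1, h2⟩ := pt_le k
      refine le_trans ?_ h2
      haveI := h1.to_subtype
      choose r hr using ConjClasses.exists_rep (α := Perm (Fin (k + 5)))
      refine Nat.card_le_card_of_injective (fun C => (⟨(r C).partition.parts, (r C).partition.parts_sum.trans (Fintype.card_fin _), fun a => (r C).partition.parts_pos⟩ : Pt (k + 5))) fun C D e => ?_
      rw [← hr C, ← hr D]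
      exact ConjClasses.mk_eq_mk_iff_isConj.2 (partition_eq_of_isConj.2 (Nat.Partition.ext (congrArg Subtype.val e)))

end Cfsg.Agent.S4198
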