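import Cfsg.Statements.S4231
import Cfsg.Agent.H1.Sn4

set_option autoImplicit false
open Cfsg

namespace Cfsg.Agent.S4231

section
open CfsgH1 CfsgH1.Sn Equiv Equiv.Perm MulAction
open scoped commutatorElement

theorem key {n : ℕ} (hn : 5 ≤ n) (G : Subgroup (MulAut (alternatingGroup (Fin n))))
    (hG : (MulAut.conj : alternatingGroup (Fin n) →* MulAut (alternatingGroup (Fin n))).range ≤ G)
    {p q : ℕ} [hp : Fact p.Prime] [hq : Fact q.Prime] (hpq : p < q) (h : ∀ g : G, orderOf g ≠ p * q) (Q : Sylow q G) :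
    IsMulCommutative (Q : Subgroup G) := by
  have h2 := hp.out.two_le
  have ho := hq.out.eq_two_or_odd'.resolve_left (by omega)
  have hc : lcm p q = p * q := Nat.Coprime.lcm_eq_mul ((Nat.coprime_primes hp.out hq.out).2 hpq.ne)
  have h1 : n < q ^ 2 := by
    by_contra! h1
    obtain ⟨x, hx⟩ : ∃ x : alternatingGroup (Fin n), orderOf x.1 = p * q := by
      rcases hp.out.eq_two_or_odd' with rfl | h3
      · obtain ⟨x, hx⟩ := exists_alt (α := Fin n) {2, 2, q} (by simp; nlinarith) (by simp; omega) (by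
          simp [parity_simps, ho, Nat.not_even_iff_odd.2 ho])
        exact ⟨x, by rw [← lcm_cycleType, hx, ← hc]; simp [← lcm_assoc]⟩
      · obtain ⟨x, hx⟩ := exists_alt (α := Fin n) {p, q} (by simp; nlinarith) (by simp; omega) (by
          simp [parity_simps, Nat.not_even_iff_odd.2 ho, Nat.not_even_iff_odd.2 h3])
        exact ⟨x, by rw [← lcm_cycleType, hx, ← hc]; simp⟩
    exact h ⟨_, hG ⟨x, rfl⟩⟩ (by
      rw [← Subgroup.orderOf_coe, orderOf_injective _ (conj_inj (by omega)), ← Subgroup.orderOf_coe, hx])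
  have h3 : ∀ x : Q, ∃ a : ((Q : Subgroup G).map G.subtype).comap MulAut.conj, MulAut.conj a.1 = x.1.1 := fun x => by
    obtain ⟨a, ha⟩ := aut_pow_four hn x.1.1
    obtain ⟨k, hk⟩ := IsPGroup.iff_orderOf.1 Q.2 x
    rw [← Subgroup.orderOf_coe, ← Subgroup.orderOf_coe] at hk
    obtain ⟨m, hm⟩ := exists_pow_eq_self_of_coprime (x := x.1.1) (n := 4) (hk ▸ Nat.Coprime.pow 2 k (Nat.coprime_two_left.2 ho))
    rw [ha, ← map_pow] at hm
    exact ⟨⟨a ^ m, x.1, x.2, hm.symm⟩, hm⟩
  refine ⟨⟨fun x y => Subtype.ext (Subtype.ext ?_)⟩⟩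
  obtain ⟨a, ha⟩ := h3 x
  obtain ⟨b, hb⟩ := h3 y
  have := ab_of_lt (α := Fin n) ((Q.2.map _).comap_of_injective _ (conj_inj (by omega))) (by simpa) a b
  simp only [Subgroup.coe_mul, ← ha, ← hb, ← map_mul]
  exact congrArg (fun z => MulAut.conj z.1) this

end

/-- Let n ≥ 5 and let G be a group of automorphisms of the alternating group of degree n containing all inner automorphisms. If p ≠ q are primes and G has no element of order pq, then every Sylow p-subgroup of G is abelian or every Sylow q-subgroup of G is abelian. -/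
theorem result (n : ℕ) (hn : 5 ≤ n) (G : Subgroup (MulAut (alternatingGroup (Fin n))))
    (hG : (MulAut.conj : alternatingGroup (Fin n) →* MulAut (alternatingGroup (Fin n))).range ≤ G)
    (p q : ℕ) [Fact p.Prime] [Fact q.Prime] (hpq : p ≠ q) (h : ∀ g : G, orderOf g ≠ p * q) :
    (∀ P : Sylow p G, IsMulCommutative (P : Subgroup G)) ∨ (∀ Q : Sylow q G, IsMulCommutative (Q : Subgroup G)) := by
  open CfsgH1 CfsgH1.Sn Equiv Equiv.Perm MulAction in
  open scoped commutatorElement in
  · rcases lt_or_gt_of_ne hpq with e | e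
    exacts [Or.inr (key hn G hG e h), Or.inl (key hn G hG e (mul_comm p q ▸ h))]

end Cfsg.Agent.S4231
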