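import Mathlib
import Cfsg.Statements.S4334
import Cfsg.Agent.H8.Hs5
import Cfsg.Agent.S0071
import Cfsg.Agent.H1.Schmidt
import Cfsg.Agent.H1.Fitting

set_option autoImplicit false
open Cfsg

namespace Cfsg.Agent.S4334

open CfsgH1 Subgroup
open scoped Pointwise

section
variable {G : Type*} [Group G] [Finite G]

theorem lemB {p q : ℕ} [Fact p.Prime] [Fact q.Prime] {P Q A B : Subgroup G} (hP : IsSylowIn p P ⊤) (hQ : IsSylowIn q Q ⊤)
    (h : Q ≤ centralizer (P : Set G)) (hA : IsPGroup p A) (hB : IsPGroup q B) (hn : B ≤ normalizer (A : Set G)) :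
    B ≤ centralizer (A : Set G) := by
  obtain ⟨g, -, a⟩ := hP.exists_le_conj hA le_top
  have b : MulAut.conj g • Q ≤ centralizer (A : Set G) :=
    (conj_smul_mono g h).trans (centralizer_conj_smul P g ▸ centralizer_le a)
  obtain ⟨k, c, d⟩ := ((hQ.smul_of_mem (mem_top g)).mono (b.trans (centralizer_le_normalizer _)) le_top).exists_le_conj hB hn
  refine d.trans ((conj_smul_mono k b).trans ?_)
  rw [← centralizer_conj_smul, conj_smul_eq_of_mem_normalizer c]

theorem hallA {σ τ π : Set ℕ} (hπ : σ ⊆ π) (hd : Disjoint σ τ) {H A B : Subgroup G} (hH : IsPiHall π H)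
    (hs : IsPiSubgroup σ A) (ht : IsPiSubgroup τ B) (hjoin : A ⊔ B = H) (hc : B ≤ centralizer (A : Set G)) :
    HallIn σ A ⊤ := by
  refine ⟨le_top, hs, ?_⟩
  rw [← relIndex_mul_relIndex A H ⊤ (hjoin ▸ le_sup_left) le_top, relIndex_top_right]
  refine PiNum.mul ?_ (PiNum.compl_iff.2 fun p a b => hH.2 p a (hπ b))
  rw [← hjoin, relIndex_sup_of_le_normalizer (hc.trans (centralizer_le_normalizer _))]
  exact fun p a b c => Set.disjoint_left.1 hd c (ht p a (b.trans (relIndex_dvd_card _ _)))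

end

/-- Let σ and τ be disjoint sets of primes with union π. Suppose a finite group G has a Hall π-subgroup H which is the direct product of a nilpotent σ-subgroup and a τ-subgroup (two elementwise-commuting subgroups generating H), and that the maximal τ-subgroups of G are pairwise conjugate. Then the maximal π-subgroups of G are pairwise conjugate. -/
theorem result {G : Type*} [Group G] [Finite G]
    (σ τ π : Set ℕ) (hπ : π = σ ∪ τ) (hd : Disjoint σ τ) (H Hs Ht : Subgroup G) (hH : Cfsg.IsPiHall π H)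
    (hs : Cfsg.IsPiSubgroup σ Hs) (ht : Cfsg.IsPiSubgroup τ Ht) (hsn : Group.IsNilpotent Hs)
    (hjoin : Hs ⊔ Ht = H) (hcomm : ∀ a ∈ Hs, ∀ b ∈ Ht, a * b = b * a) (hD : Cfsg.IsDPiGroup τ G) :
    Cfsg.IsDPiGroup π G := by
  subst hπ
  have c1 : Ht ≤ centralizer (Hs : Set G) := fun b hb a ha => hcomm a ha b hb
  have c2 : Hs ≤ centralizer (Ht : Set G) := fun a ha b hb => (hcomm a ha b hb).symm
  have a1 := hallA Set.subset_union_left hd hH hs ht hjoin c1
  have a2 := hallA Set.subset_union_right hd.symm hH ht hs (sup_comm Hs Ht ▸ hjoin) c2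
  have a3 : ∀ p : ℕ, p.Prime → p ∈ σ → ∀ A L : Subgroup G, IsPGroup p A → IsPiSubgroup (σ ∪ τ) L → ¬ p ∣ Nat.card L →
      L ≤ normalizer (A : Set G) → L ≤ centralizer (A : Set G) := fun p p1 p2 A L b1 b2 b3 b4 => by
    refine le_of_forall_isSylowIn fun q q1 q2 => ?_
    have := Fact.mk p1
    have := Fact.mk q1
    obtain ⟨B, d⟩ := exists_isSylowIn q L
    obtain ⟨P, e⟩ := exists_isSylowIn p Hs
    refine ⟨B, d, ?_⟩
    rcases b2 q q1 q2 with f | f
    · obtain ⟨Q, g⟩ := exists_isSylowIn q Hs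
      refine lemB (a1.isSylowIn_trans p2 e) (a1.isSylowIn_trans f g) (le_cent_of_coprime_of_nilpotent hsn g.le e.le ?_) b1
        d.isPGroup (d.le.trans b4)
      rw [g.card_eq, e.card_eq]
      exact Nat.coprime_pow_primes _ _ q1 p1 fun i => b3 (i ▸ q2)
    · obtain ⟨Q, g⟩ := exists_isSylowIn q Ht
      exact lemB (a1.isSylowIn_trans p2 e) (a2.isSylowIn_trans f g) (g.le.trans (c1.trans (centralizer_le e.le))) b1
        d.isPGroup (d.le.trans b4)
  have a4 : ∀ (n : ℕ) (K : Subgroup G), Nat.card K = n → IsPiSubgroup (σ ∪ τ) K → ∃ g : G, MulAut.conj g • K ≤ H := by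
    intro n
    induction n using Nat.strong_induction_on with
    | _ n ih =>
    intro K hn hK
    by_cases e : IsPiSubgroup τ K
    · obtain ⟨M, b, c⟩ := CfsgH8.Hs.ex_max e
      obtain ⟨g, d⟩ := hD M Ht c ⟨ht, fun K b c => (a2.eq_of_le b c le_top).le⟩
      exact ⟨g, (conj_smul_mono g b).trans (d.ge.trans (hjoin ▸ le_sup_right))⟩
    obtain ⟨p, p1, p2, p3⟩ : ∃ p : ℕ, p.Prime ∧ p ∣ Nat.card K ∧ p ∈ σ := by
      by_contra f
      exact e fun p a b => (hK p a b).resolve_left fun c => f ⟨p, a, b, c⟩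
    have := Fact.mk p1
    obtain ⟨S⟩ : Nonempty (Sylow p K) := inferInstance
    obtain ⟨N, n1, n2⟩ := (S0071.result S).2 fun Q b g c d x hx => by
      refine Subtype.ext (a3 p p1 p3 (Q.map K.subtype) (zpowers g.1) ((S.2.to_le b).map _)
        (fun r r1 r2 => hK r r1 (r2.trans (card_dvd_of_le (zpowers_le.2 g.2)))) ?_
        (zpowers_le.2 (le_normalizer_map K.subtype ⟨g, c, rfl⟩)) (mem_zpowers _) x.1 ⟨x, hx, rfl⟩)
      rw [Nat.card_zpowers, Subgroup.orderOf_coe]
      exact p1.coprime_iff_not_dvd.1 d.symm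
    have b1 : ¬ p ∣ Nat.card (N.map K.subtype) := by
      rw [card_map_of_injective K.subtype_injective, ← n2.index_eq_card]
      exact S.not_dvd_index
    have b2 : K ≤ normalizer (N.map K.subtype : Set G) := le_normalizer_map_subtype N
    have b3 : N.map K.subtype ⊔ (S : Subgroup K).map K.subtype = K := by
      rw [← Subgroup.map_sup, n2.sup_eq_top, ← MonoidHom.range_eq_map, range_subtype]
    have b4 : IsPGroup p ((S : Subgroup K).map K.subtype) := S.2.map _
    generalize N.map K.subtype = L, (S : Subgroup K).map K.subtype = T at b1 b2 b3 b4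
    have b5 : L ≤ K := b3 ▸ le_sup_left
    obtain ⟨g, b6⟩ := ih _ (hn ▸ lt_of_le_of_ne (card_le_of_le b5) fun i => b1 (i ▸ p2)) L rfl
      fun r r1 r2 => hK r r1 (r2.trans (card_dvd_of_le b5))
    obtain ⟨P, d⟩ := exists_isSylowIn p Hs
    have b7 : H ≤ normalizer (P : Set G) := hjoin ▸ sup_le d.le_normalizer_of_isNilpotent
      (c1.trans ((centralizer_le d.le).trans (centralizer_le_normalizer _)))
    have b8 := a3 p p1 p3 P (MulAut.conj g • L) d.isPGroup (fun r r1 r2 => hH.1 r r1 (r2.trans (card_dvd_of_le b6)))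
      (by rwa [card_conj_smul]) (b6.trans b7)
    obtain ⟨k, k1, k2⟩ := ((a1.isSylowIn_trans p3 d).mono ((le_centralizer_iff.1 b8).trans (centralizer_le_normalizer _))
      le_top).exists_conj_le (isPGroup_conj_smul b4 g) (normalizer_conj_smul L g ▸ conj_smul_mono g
        (le_sup_right.trans (b3.le.trans b2)))
    refine ⟨k * g, ?_⟩
    rw [← conj_smul_conj_smul, ← b3, smul_sup, smul_sup, conj_smul_eq_of_mem_normalizer k1]
    exact sup_le b6 (k2.trans (d.le.trans (hjoin ▸ le_sup_left)))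
  have a5 : ∀ K, Maximal (IsPiSubgroup (σ ∪ τ)) K → ∃ g : G, MulAut.conj g • H = K := fun K b => by
    obtain ⟨g, c⟩ := a4 _ K rfl b.1
    have d : K ≤ MulAut.conj g⁻¹ • H := conj_inv_smul_smul K g ▸ conj_smul_mono g⁻¹ c
    exact ⟨g⁻¹, le_antisymm (b.2 (fun r r1 r2 => hH.1 r r1 (by rwa [card_conj_smul] at r2)) d) d⟩
  intro K L b c
  obtain ⟨g, rfl⟩ := a5 K b
  obtain ⟨k, rfl⟩ := a5 L c
  exact ⟨k * g⁻¹, by rw [← conj_smul_eq_map, conj_smul_conj_smul, inv_mul_cancel_right]⟩

end Cfsg.Agent.S4334
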