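import Cfsg.Statements.S4347
import Cfsg.Agent.H1.Misc1

set_option autoImplicit false
open Cfsg

namespace Cfsg.Agent.S4347

/-- Let G be a finite group and p a prime. Say a Sylow p-subgroup Q is redundant when every element of p-power order lies in some Sylow p-subgroup other than Q. Then G has no redundant Sylow p-subgroup if and only if some element of p-power order lies in exactly one Sylow p-subgroup. -/
theorem result {G : Type*} [Group G] [Finite G]
    (p : ℕ) [Fact p.Prime] :
    (¬ ∃ Q : Sylow p G, ∀ x : G, (∃ k : ℕ, orderOf x = p ^ k) → ∃ P : Sylow p G, P ≠ Q ∧ x ∈ P) ↔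
      ∃ x : G, (∃ k : ℕ, orderOf x = p ^ k) ∧ ∃! P : Sylow p G, x ∈ P := by
  open Pointwise Subgroup CfsgH1 in
  open CfsgH2 hiding card_inf_mul_relIndex card_lt_of_lt card_lt_of_ne_top card_map_mul_card_inf_ker card_mul_relIndex card_subgroupOf card_sup_dvd card_sup_mul_card_inf exists_card_prime_le isNilpotent_map isNilpotent_of_le isPGroup_pCore isSolvable_map isSolvable_of_le le_pCore le_pPrimeCore relIndex_map_dvd in
  open scoped CfsgH2 in
  open scoped commutatorElement in
  · refine ⟨fun h => ?_, fun ⟨x, hx, P, h1, h2⟩ ⟨Q, h⟩ => ?_⟩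
    · push Not at h
      obtain ⟨Q⟩ : Nonempty (Sylow p G) := inferInstance
      obtain ⟨x, hx, h1⟩ := h Q
      obtain ⟨P, h2⟩ := (isPGroup_zpowers_iff.2 hx).exists_le_sylow
      have h3 : x ∈ P := h2 (mem_zpowers x)
      have key : ∀ P : Sylow p G, x ∈ P → P = Q := fun P h => by_contra fun e => h1 P e h
      exact ⟨x, hx, P, h3, fun P' h => (key P' h).trans (key P h3).symm⟩
    · obtain ⟨g, rfl⟩ := MulAction.exists_smul_eq G P Q
      obtain ⟨R, h3, h4⟩ := h (g * x * g⁻¹) (by rwa [orderOf_conj'])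
      refine h3 ?_
      rw [← h2 (g⁻¹ • R) (show x ∈ MulAut.conj g⁻¹ • (R : Subgroup G) from mem_conj_smul.2 (by rwa [inv_inv])),
        smul_inv_smul]

end Cfsg.Agent.S4347
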