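import Cfsg.Statements.S4348
import Cfsg.Agent.H1.Misc1

set_option autoImplicit false
open Cfsg

namespace Cfsg.Agent.S4348

/-- Let G be a finite group, p a prime and P a Sylow p-subgroup of G, and let O_p(G) be the largest normal p-subgroup of G. If P/O_p(G) is cyclic, then some element of p-power order of G lies in exactly one Sylow p-subgroup. -/
theorem result {G : Type*} [Group G] [Finite G]
    (p : ℕ) [Fact p.Prime] (P : Sylow p G)
    [hn : ((Cfsg.pCore p G).subgroupOf (P : Subgroup G)).Normal]
    (hc : IsCyclic ((P : Subgroup G) ⧸ (Cfsg.pCore p G).subgroupOf (P : Subgroup G))) :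
    ∃ x : G, (∃ k : ℕ, orderOf x = p ^ k) ∧ ∃! Q : Sylow p G, x ∈ Q := by
  open Pointwise Subgroup CfsgH1 in
  open CfsgH2 hiding card_inf_mul_relIndex card_lt_of_lt card_lt_of_ne_top card_map_mul_card_inf_ker card_mul_relIndex card_subgroupOf card_sup_dvd card_sup_mul_card_inf exists_card_prime_le isNilpotent_map isNilpotent_of_le isPGroup_pCore isSolvable_map isSolvable_of_le le_pCore le_pPrimeCore relIndex_map_dvd in
  open scoped CfsgH2 in
  open scoped commutatorElement in
  · obtain ⟨e⟩ := exists_equiv_quot (K := Cfsg.pCore p G) (A := P) le_normalizer_of_normal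
    obtain ⟨x, hx, h⟩ := exists_sup_zpowers_of_cyclic_qt le_normalizer_of_normal (pCore_le_sylow P)
      (isCyclic_of_surjective _ e.surjective)
    exact ⟨x, pgroup_mem_order P.isPGroup' hx, P, hx, fun Q hQ => Sylow.ext ((syl_top P).eq_of_le Q.isPGroup'
      (h.ge.trans (sup_le (pCore_le_sylow Q) (zpowers_le.2 hQ))) le_top)⟩

end Cfsg.Agent.S4348
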