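import Cfsg.Statements.S4349
import Mathlib
import Cfsg.Agent.H9.UqS

set_option autoImplicit false
open Cfsg

namespace Cfsg.Agent.S4349

/-- Let n ≥ 2 and let x be an element of 2-power order of the symmetric group of degree n. Then x lies in exactly one Sylow 2-subgroup if and only if x has at most two fixed points and the nontrivial cycles of x have pairwise different lengths. -/
theorem result (n : ℕ) (hn : 2 ≤ n)
    (x : Equiv.Perm (Fin n)) (hx : ∃ k : ℕ, orderOf x = 2 ^ k) :
    (∃! P : Sylow 2 (Equiv.Perm (Fin n)), x ∈ P) ↔ (n ≤ x.support.card + 2 ∧ x.cycleType.Nodup) := by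
  open Subgroup Cfsg CfsgH2 Function in
  open scoped commutatorElement in
  have e := CfsgUq.good_iff (x := x)
  rw [Fintype.card_fin] at e
  rw [← e]
  constructor
  · rintro ⟨P, p1, p2⟩
    refine CfsgUq.good_of_unique hx P.isPGroup' fun Q q1 q2 => ?_
    obtain ⟨R, hR⟩ := q1.exists_le_sylow
    rwa [← p2 R (hR q2)]
  · intro h
    obtain ⟨R, r1, r2⟩ := CfsgUq.main _ _ rfl x h
    obtain ⟨k, hk⟩ := hx
    have pz : IsPGroup 2 (zpowers x) := IsPGroup.of_card (by rw [Nat.card_zpowers, hk])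
    obtain ⟨P, hP⟩ := pz.exists_le_sylow
    have key : ∀ Q : Sylow 2 (Equiv.Perm (Fin n)), x ∈ Q → R = Q := fun Q hQ =>
      Q.is_maximal' r1 (r2 _ Q.isPGroup' hQ)
    exact ⟨P, hP (mem_zpowers x), fun Q hQ =>
      Sylow.ext ((key Q hQ).symm.trans (key P (hP (mem_zpowers x))))⟩

end Cfsg.Agent.S4349
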