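import Cfsg.Statements.S4354
import Mathlib
import Cfsg.Agent.L0.SCA
import Cfsg.Agent.L0.G3

set_option autoImplicit false
open Cfsg

namespace Cfsg.Agent.S4354

open Cfsg Subgroup CfsgH2 CfsgL0

/-- Let G be a finite group and p a prime such that the Sylow p-subgroups of G are non-abelian while every element of p-power order has conjugacy class size prime to p, and suppose no nontrivial proper normal subgroup N of G has this property and no quotient G/N by such an N has it. Then G is simple. -/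
theorem result {G : Type*} [Group G] [Finite G]
    (p : ℕ) [Fact p.Prime] (h : ((∃ P : Sylow p G, ¬ IsMulCommutative P) ∧ ∀ x : G, (∃ k : ℕ, orderOf x = p ^ k) → ¬ p ∣ (Subgroup.centralizer ({x} : Set G)).index))
    (hmin : ∀ (N : Subgroup G) [N.Normal], N ≠ ⊥ → N ≠ ⊤ →
      ¬ ((∃ P : Sylow p N, ¬ IsMulCommutative P) ∧ ∀ x : N, (∃ k : ℕ, orderOf x = p ^ k) → ¬ p ∣ (Subgroup.centralizer ({x} : Set N)).index) ∧
      ¬ ((∃ P : Sylow p (G ⧸ N), ¬ IsMulCommutative P) ∧ ∀ x : (G ⧸ N), (∃ k : ℕ, orderOf x = p ^ k) → ¬ p ∣ (Subgroup.centralizer ({x} : Set (G ⧸ N))).index)) :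
    IsSimpleGroup G := by
  obtain ⟨⟨P, hP⟩, h⟩ := h
  haveI : Nontrivial G := by
    by_contra e
    haveI := not_nontrivial_iff_subsingleton.1 e
    exact hP (isMulComm_iff.2 fun a _ b _ => Subsingleton.elim _ _)
  refine ⟨fun N hN => ?_⟩
  by_contra! e
  obtain ⟨h1, h2⟩ := hmin N e.1 e.2
  have s := syl_top P
  obtain ⟨Q, hQ⟩ := (s.inf_norm le_top (le_top.trans (top_le_norm_iff.2 hN))).exists_sub
  obtain ⟨R, hR⟩ := (CfsgH1.Syl.map_mk_top s N).exists_top
  refine hP ((ccen_of s h).ab (A := P ⊓ N) s (hQ ▸ isMulComm_map _ (by_contra fun c => h1 ⟨⟨Q, c⟩, fun x hx d =>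
    h x (by simpa using hx) (d.trans (index_cent_sub x ▸ relIndex_dvd_index' _))⟩))
    ⟨inf_le_left, fun x hx g hg => ⟨hg, hN.conj_mem x hx.2 g⟩⟩ (le_inf (comm_le_left le_normalizer) ?_))
  · rw [← map_mk_eq_bot, map_commutator, ← hR, comm_eq_bot_iff]
    refine le_cent_of_comm (by_contra fun c => h2 ⟨⟨R, c⟩, fun x ⟨k, hx⟩ d => ?_⟩) le_rfl
    obtain ⟨x, rfl⟩ := QuotientGroup.mk'_surjective N x
    obtain ⟨a, -, a1, a2⟩ := CfsgH1.exists_pi_lift (QuotientGroup.mk' N) (π := {p}) (x := x)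
      ((piN_singleton Fact.out (orderOf_pos _).ne').2 ⟨k, hx⟩)
    exact h a ((piN_singleton Fact.out (orderOf_pos _).ne').1 a1)
      (d.trans (a2 ▸ cs_map_dvd (QuotientGroup.mk'_surjective N) a))

end Cfsg.Agent.S4354
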