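import Mathlib
import Cfsg.Statements.S4357
import Cfsg.Agent.H8.SL2n

set_option autoImplicit false
open Cfsg

namespace Cfsg.Agent.S4357

open CfsgH8
open scoped Pointwise

theorem pg {G : Type*} [Group G] {p : ℕ} {x : G} (h : ∃ k, orderOf x = p ^ k) : IsPGroup p (Subgroup.zpowers x) :=
  h.elim fun k h => IsPGroup.of_card (n := k) (by rwa [Nat.card_zpowers])

theorem po {G : Type*} [Group G] {p : ℕ} [Fact p.Prime] (P : Sylow p G) {x : G} (h : x ∈ P.1) : ∃ k, orderOf x = p ^ k :=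
  (IsPGroup.iff_orderOf.1 P.2 ⟨x, h⟩).imp fun _ e => (Subgroup.orderOf_coe (⟨x, h⟩ : P.1)).trans e

theorem seq {G : Type*} [Group G] {p : ℕ} {P Q : Sylow p G} (h : P.1 ≤ Q.1) : P = Q :=
  Sylow.ext (P.3 Q.2 h).symm

/-- Let F be a finite field with q elements, p a prime and G = SL(2, F). Say a Sylow p-subgroup Q of G is redundant when every element of p-power order lies in some Sylow p-subgroup other than Q. Then G has a redundant Sylow p-subgroup if and only if p = 2 and q is not of any of the forms 2ᵏ - 1, 2ᵏ, 2ᵏ + 1. -/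
theorem result {F : Type*} [Field F] [Fintype F] (p : ℕ) [Fact p.Prime] :
    (∃ Q : Sylow p (Matrix.SpecialLinearGroup (Fin 2) F), ∀ x : Matrix.SpecialLinearGroup (Fin 2) F,
        (∃ k : ℕ, orderOf x = p ^ k) → ∃ P : Sylow p (Matrix.SpecialLinearGroup (Fin 2) F), P ≠ Q ∧ x ∈ P) ↔
      (p = 2 ∧ (¬ ∃ k : ℕ, Fintype.card F + 1 = 2 ^ k) ∧ (¬ ∃ k : ℕ, Fintype.card F = 2 ^ k) ∧
        ¬ ∃ k : ℕ, Fintype.card F = 2 ^ k + 1) := by
  have hp : p.Prime := Fact.out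
  obtain ⟨l, _, n, hl, hn⟩ := FiniteField.card' F
  haveI := Fact.mk hl
  have q1 : 1 < Fintype.card F := Fintype.one_lt_card
  refine ⟨fun ⟨Q, hQ⟩ => ?_, ?_⟩
  · have hQ : ∀ x ∈ Q.1, ¬ ∀ P : Sylow p (Matrix.SpecialLinearGroup (Fin 2) F), x ∈ P.1 → P.1 ≤ Q.1 := fun x hx h => by
      obtain ⟨P, n, m⟩ := hQ x (po Q hx)
      exact n (seq (h P m))
    have pl : p ≠ l := by
      rintro rfl
      obtain ⟨x, hx⟩ := (Subgroup.one_lt_card_iff_ne_bot _).1 (card_sylow_char p Q ▸ q1) |> Subgroup.ne_bot_iff_exists_ne_one.1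
      refine hQ x x.2 fun P m => ?_
      obtain ⟨s, hs⟩ := sylow_eq_US p Q
      obtain ⟨t, ht⟩ := sylow_eq_US p P
      obtain ⟨u, hu, e⟩ := hs.le x.2
      obtain ⟨v, hv, e'⟩ := ht.le m
      have : t⁻¹ * s ∈ BS F := mem_BS_of_conj hu (fun h => hx (Subtype.ext (by simp [← e, h]))) (by
        convert US_le_BS hv using 1
        apply (MulAut.conj t).injective
        change _ = (MulAut.conj t).toMonoidHom v
        rw [e', ← e]
        simp [mul_assoc])
      rw [hs, ht]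
      rintro _ ⟨y, hy, rfl⟩
      exact ⟨_, conj_mem_US (inv_mem this) hy, by simp [mul_assoc]⟩
    obtain rfl : p = 2 := by
      by_contra p2
      haveI : IsCyclic Q.1 := by
        by_cases b : Q.1 = ⊥
        · rw [b]; infer_instance
        obtain ⟨C, hC, le, -⟩ := exists_tor_of_pgroup l p2 pl Q.2 b
        exact hC.isCyclic_of_le le
      obtain ⟨x, hx⟩ := (Subgroup.isCyclic_iff_exists_zpowers_eq_top Q.1).1 ‹_›
      exact hQ x (hx ▸ Subgroup.mem_zpowers x) fun P m => by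
        rw [← seq (P := Q) (Q := P) (hx ▸ Subgroup.zpowers_le.2 m)]
    have hq : Fintype.card F % 2 = 1 := hn ▸ Nat.odd_iff.1 (hl.odd_of_ne_two pl.symm).pow
    obtain ⟨C, N, h, h1, h2, -, z, ⟨hz, hz'⟩, t⟩ := sylow_two_SL2 hq Q
    have d4 : 4 ∣ Nat.card C := orderOf_of_trace_zero hq t ▸ Subgroup.orderOf_dvd_natCard C hz'
    have k : ∀ k, Nat.card C ≠ 2 ^ k := fun k e => by
      have e' : N = Q.1 := Q.3 (IsPGroup.of_card (n := k + 1) (by rw [h.card, e, pow_succ'])) h1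
      haveI := h.tor.isCyclic
      obtain ⟨x, rfl⟩ := (Subgroup.isCyclic_iff_exists_zpowers_eq_top C).1 ‹_›
      refine hQ x (e' ▸ h.le (Subgroup.mem_zpowers x)) fun P m => ?_
      have le := Subgroup.zpowers_le.2 m
      rw [← e', ← h.normalizer_eq le_rfl hz' (reg_of_trace_zero hq t).not_isSc, ← Subgroup.normal_subgroupOf_iff_le_normalizer le]
      refine Subgroup.normal_of_index_eq_two (Nat.eq_of_mul_eq_mul_left (Nat.card_pos (α := Subgroup.zpowers x)) ?_)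
      rw [← Nat.card_congr (Subgroup.subgroupOfEquivOfLe le).toEquiv, Subgroup.card_mul_index,
        Nat.card_congr (Subgroup.subgroupOfEquivOfLe le).toEquiv, mul_comm, ← h.card, e', Nat.card_congr (P.equiv Q).toEquiv]
    have c := h.tor.card
    have k1 : ¬ ∃ k : ℕ, Fintype.card F + 1 = 2 ^ k := fun ⟨j, e⟩ => by
      obtain _ | _ | j := j
      · omega
      · omega
      exact k _ (e ▸ c.resolve_right fun c => by rw [pow_succ, pow_succ] at e; omega)
    refine ⟨rfl, k1, fun ⟨j, e⟩ => ?_, fun ⟨j, e⟩ => ?_⟩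
    · obtain _ | j := j
      · omega
      rw [pow_succ] at e; omega
    · obtain _ | _ | j := j
      · omega
      · exact k1 ⟨2, by omega⟩
      exact k (j + 1 + 1) ((c.resolve_left fun c => by rw [pow_succ, pow_succ] at e; omega).trans (by omega))
  · rintro ⟨rfl, k1, k2, k3⟩
    have hq : Fintype.card F % 2 = 1 := hn ▸ Nat.odd_iff.1 (hl.odd_of_ne_two fun e => k2 ⟨n, e ▸ hn⟩).pow
    suffices ∀ x : Matrix.SpecialLinearGroup (Fin 2) F, (∃ k, orderOf x = 2 ^ k) →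
        ∃ P P' : Sylow 2 (Matrix.SpecialLinearGroup (Fin 2) F), P ≠ P' ∧ x ∈ P.1 ∧ x ∈ P'.1 by
      refine ⟨default, fun x hx => ?_⟩
      obtain ⟨P, P', n, m, m'⟩ := this x hx
      by_cases e : P = default
      exacts [⟨P', e ▸ n.symm, m'⟩, ⟨P, e, m⟩]
    intro x hx
    obtain ⟨Q, hQ⟩ := (pg hx).exists_le_sylow
    obtain ⟨C, N, h, h1, h2, -, z, ⟨hz, hz'⟩, t⟩ := sylow_two_SL2 hq Q
    obtain ⟨w, hw, hw'⟩ := SetLike.not_le_iff_exists.1 h2
    obtain ⟨r, hr, d, o⟩ := (Nat.eq_two_pow_or_exists_odd_prime_and_dvd (Nat.card C)).resolve_left fun ⟨j, e⟩ =>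
      h.tor.card.elim (fun c => k1 ⟨j, c ▸ e⟩) fun c => k3 ⟨j, by omega⟩
    haveI := h.tor.isCyclic
    obtain ⟨c, hc, oc⟩ := exists_orderOf_eq_of_dvd C d
    have ne : Q ≠ c • Q := fun e => by
      have := mul_mem ((Sylow.smul_eq_iff_mem_normalizer.1 e.symm w).1 hw) (inv_mem hw)
      rw [mul_assoc, mul_assoc, ← mul_assoc w, h.inv w (h1 hw) hw' _ (inv_mem hc), inv_inv, ← sq] at this
      obtain ⟨k, hk⟩ := po Q this
      rw [(oc ▸ Nat.coprime_two_right.2 o : (orderOf c).Coprime 2).orderOf_pow, oc] at hk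
      exact o.not_two_dvd_nat ((Nat.prime_dvd_prime_iff_eq hr Nat.prime_two).1 (hr.dvd_of_dvd_pow hk.dvd)).symm.dvd
    have m : ∀ y ∈ Q.1, y ∈ C → y ∈ (c • Q).1 := fun y hy hy' =>
      ⟨y, hy, show c * y * c⁻¹ = y by rw [h.tor.comm hc hy', mul_inv_cancel_right]⟩
    have hx' := hQ (Subgroup.mem_zpowers x)
    by_cases e : x ∈ C
    · exact ⟨Q, c • Q, ne, hx', m x hx' e⟩
    obtain ⟨g, rfl⟩ := isConj_iff.1 ((reg_of_trace_zero hq t).isConj_SL (t.trans (trace_eq_zero_of_isSc_sq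
      (isSc_SL2.2 (.inr (h.sq x (h1 hx') e))) fun s => e (h.tor.mem_of_isSc s)).symm))
    exact ⟨g • Q, g • c • Q, mt (smul_left_cancel g) ne, ⟨z, hz, rfl⟩, ⟨z, m z hz hz', rfl⟩⟩

end Cfsg.Agent.S4357
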