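import Mathlib
import Cfsg.Statements.S4356
import Cfsg.Agent.S4357

set_option autoImplicit false
open Cfsg

namespace Cfsg.Agent.S4356

open CfsgH8 S4357

theorem transfer {G H : Type*} [Group G] [Group H] [Finite G] {f : G →* H} (hf : Function.Surjective f)
    (hk : f.ker ≤ Subgroup.center G) (p : ℕ) [Fact p.Prime] :
    (∃ Q : Sylow p H, ∀ x : H, (∃ k : ℕ, orderOf x = p ^ k) → ∃ P : Sylow p H, P ≠ Q ∧ x ∈ P) ↔
      ∃ Q : Sylow p G, ∀ x : G, (∃ k : ℕ, orderOf x = p ^ k) → ∃ P : Sylow p G, P ≠ Q ∧ x ∈ P := by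
  have m : ∀ (P : Sylow p G) (x : G), (∃ k, orderOf x = p ^ k) → f x ∈ (P.mapSurjective hf).1 → x ∈ P.1 := fun P x hx h => by
    have : x ∈ P.1 ⊔ f.ker := Subgroup.comap_map_eq f P.1 ▸ h
    exact (((pg hx).inf_normalizer_sylow P).le ⟨Subgroup.mem_zpowers x, sup_le Subgroup.le_normalizer
      (hk.trans (Subgroup.center_le_normalizer _)) this⟩).2
  refine ⟨fun ⟨Q, h⟩ => ?_, fun ⟨Q, h⟩ => ⟨Q.mapSurjective hf, fun y hy => ?_⟩⟩
  · obtain ⟨Q, rfl⟩ := Sylow.mapSurjective_surjective hf p Q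
    refine ⟨Q, fun x hx => ?_⟩
    obtain ⟨k, e⟩ := hx
    obtain ⟨j, -, e'⟩ := (Nat.dvd_prime_pow Fact.out).1 (e ▸ orderOf_map_dvd f x)
    obtain ⟨P, n, hP⟩ := h _ ⟨j, e'⟩
    obtain ⟨P, rfl⟩ := Sylow.mapSurjective_surjective hf p P
    exact ⟨P, fun t => n (t ▸ rfl), m P x ⟨k, e⟩ hP⟩
  · obtain ⟨R, hR⟩ := (pg hy).exists_le_sylow
    obtain ⟨R, rfl⟩ := Sylow.mapSurjective_surjective hf p R
    obtain ⟨x, hx, rfl⟩ := hR (Subgroup.mem_zpowers y)
    obtain ⟨P, n, hP⟩ := h x (po R hx)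
    exact ⟨P.mapSurjective hf, fun e => n (seq fun g hg => m Q g (po P hg) (e ▸ ⟨g, hg, rfl⟩)), x, hP, rfl⟩

/-- Let F be a finite field with q elements, p a prime and G = PSL(2, F). Say a Sylow p-subgroup Q of G is redundant when every element of p-power order lies in some Sylow p-subgroup other than Q. Then G has a redundant Sylow p-subgroup if and only if p = 2 and q is not of any of the forms 2ᵏ - 1, 2ᵏ, 2ᵏ + 1. -/
theorem result {F : Type*} [Field F] [Fintype F] (p : ℕ) [Fact p.Prime] :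
    (∃ Q : Sylow p (Matrix.ProjectiveSpecialLinearGroup (Fin 2) F), ∀ x : Matrix.ProjectiveSpecialLinearGroup (Fin 2) F,
        (∃ k : ℕ, orderOf x = p ^ k) → ∃ P : Sylow p (Matrix.ProjectiveSpecialLinearGroup (Fin 2) F), P ≠ Q ∧ x ∈ P) ↔
      (p = 2 ∧ (¬ ∃ k : ℕ, Fintype.card F + 1 = 2 ^ k) ∧ (¬ ∃ k : ℕ, Fintype.card F = 2 ^ k) ∧
        ¬ ∃ k : ℕ, Fintype.card F = 2 ^ k + 1) := by
  exact (transfer πS_surj (QuotientGroup.ker_mk' _).le p).trans (S4357.result p)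

end Cfsg.Agent.S4356
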