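import Mathlib
import Cfsg.Statements.S4358

set_option autoImplicit false
open Cfsg

namespace Cfsg.Agent.S4358

open Matrix Pointwise

section
variable {F : Type*} [Field F] {p : ℕ} [hp : Fact p.Prime]

def M (d : ZMod p → F) (k : ZMod p) : Matrix (ZMod p) (ZMod p) F := Matrix.of fun i j => if i = j + k then d j else 0

theorem M_mul (d e : ZMod p → F) (k l : ZMod p) : M d k * M e l = M (fun j => d (j + l) * e j) (k + l) := by
  ext i j
  simp only [M, Matrix.mul_apply, Matrix.of_apply, mul_ite, mul_zero, Finset.sum_ite_eq', Finset.mem_univ, if_true]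
  rw [add_assoc, add_comm l k]
  split_ifs <;> simp

theorem M_one : M (fun _ => (1 : F)) (0 : ZMod p) = 1 := by
  ext i j; simp [M, Matrix.one_apply]

def P0 (F : Type*) [Field F] (p : ℕ) [Fact p.Prime] : Subgroup (GL (ZMod p) F) where
  carrier := {g | ∃ d k, (∀ i, d i ^ p = 1) ∧ (g : Matrix (ZMod p) (ZMod p) F) = M d k}
  one_mem' := ⟨fun _ => 1, 0, by simp, M_one.symm⟩
  mul_mem' := by
    rintro a b ⟨d, k, h1, h2⟩ ⟨e, l, h3, h4⟩
    exact ⟨fun j => d (j + l) * e j, k + l, fun i => by rw [mul_pow, h1, h3, mul_one], by rw [Units.val_mul, h2, h4, M_mul]⟩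
  inv_mem' := by
    rintro a ⟨d, k, h1, h2⟩
    refine ⟨fun j => (d (j - k))⁻¹, -k, fun i => by rw [inv_pow, h1, inv_one], Units.inv_eq_of_mul_eq_one_right ?_⟩
    rw [h2, M_mul, add_neg_cancel, ← M_one]
    congr 1; ext j
    rw [← sub_eq_add_neg, mul_inv_cancel₀]
    intro e; simpa [e, (Fact.out : p.Prime).ne_zero] using h1 (j - k)

theorem ne0 {a : F} (h : a ^ p = 1) : a ≠ 0 := fun e => by simpa [e, hp.out.ne_zero] using h

theorem M_pow {d : ZMod p → F} (h : ∀ i, d i ^ p = 1) (k : ZMod p) (n : ℕ) :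
    ∃ e : ZMod p → F, (∀ i, e i ^ p = 1) ∧ M d k ^ n = M e (n * k) := by
  induction n with
  | zero => exact ⟨fun _ => 1, by simp, by simp [M_one]⟩
  | succ n ih =>
    obtain ⟨e, h1, h2⟩ := ih
    exact ⟨fun j => e (j + k) * d j, fun i => by rw [mul_pow, h, h1, mul_one], by rw [pow_succ, h2, M_mul]; congr 1; push_cast; ring⟩

theorem M_pow0 (d : ZMod p → F) (n : ℕ) : M d 0 ^ n = M (fun j => d j ^ n) 0 := by
  induction n with
  | zero => simp [M_one]
  | succ n ih => rw [pow_succ, ih, M_mul]; simp [pow_succ]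

theorem P0_pg : IsPGroup p (P0 F p) := by
  rintro ⟨g, d, k, h1, h2⟩
  refine ⟨2, Subtype.ext (Units.ext ?_)⟩
  obtain ⟨e, h3, h4⟩ := M_pow h1 k p
  change ((g ^ p ^ 2 : GL (ZMod p) F) : Matrix (ZMod p) (ZMod p) F) = 1
  rw [Units.val_pow_eq_pow_val, pow_two, pow_mul, h2, h4, ZMod.natCast_self, zero_mul, M_pow0]
  simp [h3, M_one]

noncomputable def U (d : ZMod p → F) (k : ZMod p) (h : ∀ i, d i ^ p = 1) : GL (ZMod p) F :=
  Matrix.GeneralLinearGroup.mk'' (M d k) (by
    obtain ⟨e, h3, h4⟩ := M_pow h k p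
    have : M d k ^ (p * p) = 1 := by
      rw [pow_mul, h4, ZMod.natCast_self, zero_mul, M_pow0]; simp [h3, M_one]
    rw [← Matrix.isUnit_iff_isUnit_det]
    exact IsUnit.of_pow_eq_one this (mul_ne_zero hp.out.ne_zero hp.out.ne_zero))

theorem U_mem (d : ZMod p → F) (k : ZMod p) (h : ∀ i, d i ^ p = 1) : U d k h ∈ P0 F p := ⟨d, k, h, rfl⟩

theorem two_ne (h2 : p ≠ 2) : (2 : ZMod p) ≠ 0 := fun e =>
  h2 ((Nat.prime_dvd_prime_iff_eq hp.out Nat.prime_two).1 ((ZMod.natCast_eq_zero_iff 2 p).1 e))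

theorem mono (h2 : p ≠ 2) {z : F} (hz : z ^ p = 1) (hz1 : z ≠ 1) (g : GL (ZMod p) F) (hg : ∀ x ∈ P0 F p, g * x * g⁻¹ ∈ P0 F p)
    (j a b : ZMod p) (ha : (g : Matrix (ZMod p) (ZMod p) F) a j ≠ 0) (hb : (g : Matrix (ZMod p) (ZMod p) F) b j ≠ 0) : a = b := by
  obtain ⟨d, k, h1, h3⟩ := hg _ (U_mem (fun i => if i = j then z else 1) 0 (fun i => by split_ifs <;> simp [hz]))
  have h4 : ∀ r s, M d k r s = (1 : Matrix (ZMod p) (ZMod p) F) r s +
      (g : Matrix (ZMod p) (ZMod p) F) r j * ((z - 1) * ((g⁻¹ : GL (ZMod p) F) : Matrix (ZMod p) (ZMod p) F) j s) := by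
    intro r s
    rw [← h3, ← g.mul_inv, Units.val_mul, Units.val_mul, Matrix.mul_apply, Matrix.mul_apply, ← sub_eq_iff_eq_add', ← Finset.sum_sub_distrib,
      Finset.sum_eq_single j]
    · simp [U, M, Matrix.mul_apply]; ring
    · intro i _ hi; simp [U, M, Matrix.mul_apply, hi]
    · simp
  obtain ⟨s, hs⟩ : ∃ s, ((g⁻¹ : GL (ZMod p) F) : Matrix (ZMod p) (ZMod p) F) j s ≠ 0 := by
    by_contra hn; push Not at hn
    have := congrFun (congrFun g.inv_mul j) j
    simp only [Matrix.mul_apply, hn] at this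
    simp at this
  generalize ((g⁻¹ : GL (ZMod p) F) : Matrix (ZMod p) (ZMod p) F) = h at *
  generalize (g : Matrix (ZMod p) (ZMod p) F) = g at *
  by_cases hk : k = 0
  · subst hk
    have h5 : ∀ a, g a j ≠ 0 → a = s := fun a ha => by
      by_contra hn
      have := h4 a s
      simp [M, hn, Matrix.one_apply, ha, sub_ne_zero.2 hz1, hs] at this
    rw [h5 a ha, h5 b hb]
  · exfalso
    have e1 := h4 0 0
    have e2 := h4 0 k
    have e3 := h4 k k
    have h6 : (0 : ZMod p) ≠ k + k := by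
      rw [← two_mul]; exact (mul_ne_zero (two_ne h2) hk).symm
    simp only [M, Matrix.of_apply, zero_add, Ne.symm hk, if_false, Matrix.one_apply_eq, h6, Matrix.one_apply_ne (Ne.symm hk),
      left_eq_add, hk] at e1 e2 e3
    rcases mul_eq_zero.1 e2.symm with h | h
    · simp [h] at e1
    · simp [h] at e3

theorem exg (h2 : p ≠ 2) {z : F} (hz : z ^ p = 1) (hz1 : z ≠ 1) (x : GL (ZMod p) F) (hx : x ∈ P0 F p) :
    ∃ g : GL (ZMod p) F, g * x * g⁻¹ ∈ P0 F p ∧ ∃ j a b, a ≠ b ∧ (g : Matrix (ZMod p) (ZMod p) F) a j ≠ 0 ∧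
      (g : Matrix (ZMod p) (ZMod p) F) b j ≠ 0 := by
  obtain ⟨d, k, h1, h3⟩ := id hx
  have key : ∀ c c' : Matrix (ZMod p) (ZMod p) F, c * c' = 1 → c * M d k = M d k * c → ∀ j a b, a ≠ b → c a j ≠ 0 → c b j ≠ 0 →
      ∃ g : GL (ZMod p) F, g * x * g⁻¹ ∈ P0 F p ∧ ∃ j a b, a ≠ b ∧ (g : Matrix (ZMod p) (ZMod p) F) a j ≠ 0 ∧
      (g : Matrix (ZMod p) (ZMod p) F) b j ≠ 0 := fun c c' e1 e2 j a b e3 e4 e5 => by
    refine ⟨⟨c, c', e1, mul_eq_one_comm.1 e1⟩, ?_, j, a, b, e3, e4, e5⟩
    convert hx using 1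
    rw [mul_inv_eq_iff_eq_mul]
    exact Units.ext (by simpa [h3] using e2)
  by_cases hk : k = 0
  · subst hk
    by_cases hd : Function.Injective d
    · let v : Matrix (ZMod p) (ZMod p) F := Matrix.of fun i j => d j ^ i.val
      have hv : IsUnit v.det := by
        obtain ⟨n, rfl⟩ : ∃ n, p = n + 1 := ⟨p - 1, by have := hp.out.pos; omega⟩
        rw [isUnit_iff_ne_zero, ← Matrix.det_transpose]
        exact (Matrix.det_vandermonde_ne_zero_iff (v := (d : Fin (n + 1) → F))).2 hd
      refine ⟨Matrix.GeneralLinearGroup.mk'' v hv, ?_, 0, 0, 1, zero_ne_one, pow_ne_zero _ (ne0 (h1 _)), pow_ne_zero _ (ne0 (h1 _))⟩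
      convert U_mem (fun _ => (1 : F)) (-1 : ZMod p) (by simp) using 1
      rw [mul_inv_eq_iff_eq_mul]
      apply Units.ext
      ext i j
      simp only [Units.val_mul, h3, U, M, Matrix.mul_apply, Matrix.GeneralLinearGroup.val_mk'', v, Matrix.of_apply, add_zero, mul_ite,
        mul_zero, Finset.sum_ite_eq', Finset.mem_univ, if_true, ← sub_eq_add_neg, eq_sub_iff_add_eq, ite_mul, one_mul, zero_mul,
        Finset.sum_ite_eq]
      rw [ZMod.val_add, ZMod.val_one, ← pow_succ]
      conv_lhs => rw [← Nat.mod_add_div (i.val + 1) p, pow_add, pow_mul, h1, one_pow, mul_one]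
    · simp only [Function.Injective, not_forall] at hd
      obtain ⟨a, b, e, hab⟩ := hd
      refine key (1 + single a b 1) (1 - single a b 1) ?_ ?_ b a b hab (by simp [hab]) (by simp [hab])
      · rw [add_mul, mul_sub, mul_sub, single_mul_single_of_ne (h := Ne.symm hab)]; simp
      · rw [add_mul, mul_add, one_mul, mul_one]
        congr 1
        ext i j
        simp only [M, Matrix.mul_apply, Matrix.of_apply, add_zero, mul_ite, mul_zero, Finset.sum_ite_eq', Finset.mem_univ, if_true,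
          ite_mul, zero_mul, Finset.sum_ite_eq, single_apply, one_mul, mul_one]
        rw [Finset.sum_eq_single i (fun l _ hl => by simp [Ne.symm hl]) (by simp), if_pos rfl]
        split_ifs with h
        · rw [← h.1, ← h.2, e]
        · rfl
  · let S := ∑ i ∈ Finset.range p, M d k ^ i
    have hS : ∀ n : ℕ, n < p → S (n * k) 0 ≠ 0 := fun n hn => by
      simp only [S, Matrix.sum_apply]
      rw [Finset.sum_eq_single n]
      · obtain ⟨e, e1, e2⟩ := M_pow h1 k n
        rw [e2]; simpa [M] using ne0 (e1 0)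
      · intro m hm hmn
        obtain ⟨e, e1, e2⟩ := M_pow h1 k m
        rw [e2, M, Matrix.of_apply, if_neg]
        rw [zero_add, mul_left_inj' hk, ZMod.natCast_eq_natCast_iff', Nat.mod_eq_of_lt hn, Nat.mod_eq_of_lt (Finset.mem_range.1 hm)]
        exact hmn.symm
      · intro h; exact absurd (Finset.mem_range.2 hn) h
    have p3 : 2 < p := lt_of_le_of_ne hp.out.two_le h2.symm
    have s1 := hS 1 (by omega)
    have s2 := hS 2 p3
    have k2 : (2 : ℕ) * k ≠ 0 := mul_ne_zero (two_ne h2) hk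
    have k3 : (1 : ℕ) * k ≠ (2 : ℕ) * k := by
      rw [ne_eq, mul_left_inj' hk]; push_cast; intro e; exact one_ne_zero (α := ZMod p) (by linear_combination -e)
    have hc : S * M d k = M d k * S := (Commute.sum_left _ _ _ fun i _ => (Commute.refl _).pow_left i).eq
    obtain ⟨e, e1, e2⟩ := M_pow h1 k p
    rw [ZMod.natCast_self, zero_mul] at e2
    have e3 : ∀ j, e (j + k) = e j := fun j => by
      have := congrFun (congrFun ((Commute.refl (M d k)).pow_left p).eq (j + k)) j
      rw [e2, M_mul, M_mul] at this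
      simp only [M, Matrix.of_apply, zero_add, add_zero, if_true] at this
      exact mul_right_cancel₀ (ne0 (h1 j)) (this.trans (mul_comm _ _))
    have e4 : ∀ j, e j = e 0 := fun j => by
      have : ∀ n : ℕ, e (n * k) = e 0 := fun n => by
        induction n with
        | zero => simp
        | succ n ih => rw [← ih, ← e3 (n * k)]; congr 1; push_cast; ring
      rw [← this (j / k).val, ZMod.natCast_zmod_val, div_mul_cancel₀ _ hk]
    have e5 : M d k ^ p = e 0 • (1 : Matrix (ZMod p) (ZMod p) F) := by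
      rw [e2]; ext i j; simp [M, Matrix.one_apply, e4 j]
    have e6 : S * (M d k - 1) = (e 0 - 1) • (1 : Matrix (ZMod p) (ZMod p) F) := by
      rw [geom_sum_mul, e5, sub_smul, one_smul]
    by_cases h0 : e 0 = 1
    · have e7 : ∀ i, S * M d k ^ i = S := fun i => by
        induction i with
        | zero => simp
        | succ i ih =>
          rw [h0, sub_self, zero_smul, mul_sub, mul_one, sub_eq_zero] at e6
          rw [pow_succ', ← mul_assoc, e6, ih]
      have e8 : S * S = (p : F) • S := by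
        conv_lhs => enter [2]; simp only [S]
        rw [Finset.mul_sum]; simp [e7, Nat.cast_smul_eq_nsmul]
      have p0 : (p : F) ≠ 0 := fun e => by
        haveI := (CharP.charP_iff_prime_eq_zero hp.out).2 e
        have := sub_pow_char z 1
        rw [hz, one_pow, sub_self] at this
        exact hz1 (sub_eq_zero.1 (pow_eq_zero_iff hp.out.ne_zero |>.1 this))
      have z0 := ne0 hz
      refine key (1 + ((z - 1) / p) • S) (1 + ((z⁻¹ - 1) / p) • S) ?_ ?_ 0 _ _ k3 ?_ ?_
      · simp only [add_mul, mul_add, one_mul, mul_one, Matrix.smul_mul, Matrix.mul_smul, e8]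
        match_scalars <;> field_simp <;> ring
      · simp only [add_mul, mul_add, one_mul, mul_one, Matrix.smul_mul, Matrix.mul_smul, hc]
      · rw [Matrix.add_apply, Matrix.one_apply_ne (by simpa using hk), zero_add, Matrix.smul_apply]
        exact mul_ne_zero (div_ne_zero (sub_ne_zero.2 hz1) p0) s1
      · rw [Matrix.add_apply, Matrix.one_apply_ne k2, zero_add, Matrix.smul_apply]
        exact mul_ne_zero (div_ne_zero (sub_ne_zero.2 hz1) p0) s2
    · refine key S ((e 0 - 1)⁻¹ • (M d k - 1)) ?_ hc 0 _ _ k3 s1 s2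
      rw [Matrix.mul_smul, e6, smul_smul, inv_mul_cancel₀ (sub_ne_zero.2 h0), one_smul]

theorem main [Fintype F] (hp2 : p ≠ 2) (h1 : p ∣ Fintype.card F - 1) (h2 : ¬ p ^ 2 ∣ Fintype.card F - 1)
    (hc : Nat.card (GL (ZMod p) F) = ∏ i : Fin p, (Fintype.card F ^ p - Fintype.card F ^ (i : ℕ))) :
    ∃ Q : Sylow p (GL (ZMod p) F), ∀ x : GL (ZMod p) F,
      (∃ k : ℕ, orderOf x = p ^ k) → ∃ P : Sylow p (GL (ZMod p) F), P ≠ Q ∧ x ∈ P := by
  classical
  obtain ⟨z, hz⟩ := exists_prime_orderOf_dvd_card' (G := Fˣ) p (by rwa [Nat.card_units, Nat.card_eq_fintype_card])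
  have z1 : (z : F) ^ p = 1 := by rw [← Units.val_pow_eq_pow_val, ← hz, pow_orderOf_eq_one, Units.val_one]
  have z2 : (z : F) ≠ 1 := fun e => by
    rw [Units.val_eq_one.1 e, orderOf_one] at hz; exact hp.out.ne_one hz.symm
  obtain ⟨Q, hQ⟩ := (P0_pg (F := F) (p := p)).exists_le_sylow
  have q1 : 1 < Fintype.card F := Fintype.one_lt_card
  have hq : ¬ p ∣ Fintype.card F := fun e => hp.out.ne_one (Nat.dvd_one.1 (by
    have := Nat.dvd_sub e h1; rwa [show Fintype.card F - (Fintype.card F - 1) = 1 by omega] at this))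
  have v1 : padicValNat p (Fintype.card F - 1) = 1 := by
    have a := (padicValNat_dvd_iff_le (p := p) (show Fintype.card F - 1 ≠ 0 by omega) (n := 1)).1 (by simpa using h1)
    have b := mt (padicValNat_dvd_iff_le (p := p) (show Fintype.card F - 1 ≠ 0 by omega) (n := 2)).2 h2
    omega
  have e : P0 F p = Q := Subgroup.eq_of_le_of_card_ge hQ (by
    have a1 : (Nat.card (GL (ZMod p) F)).factorization p = p + 1 := by
      have b1 : ∀ i : Fin p, Fintype.card F ^ p - Fintype.card F ^ (i : ℕ) ≠ 0 := fun i =>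
        Nat.sub_ne_zero_of_lt (Nat.pow_lt_pow_right q1 i.2)
      rw [hc, Nat.factorization_prod fun i _ => b1 i, Finsupp.finsetSum_apply]
      have b2 : ∀ i : Fin p, (Fintype.card F ^ p - Fintype.card F ^ (i : ℕ)).factorization p = 1 + if (i : ℕ) = 0 then 1 else 0 := by
        intro i
        have b3 : Fintype.card F ^ p - Fintype.card F ^ (i : ℕ) = Fintype.card F ^ (i : ℕ) * (Fintype.card F ^ (p - i) - 1 ^ (p - i)) := by
          rw [Nat.mul_sub, ← pow_add, Nat.add_sub_cancel' i.2.le]; simp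
        have b4 := b1 i
        rw [b3] at b4 ⊢
        rw [Nat.factorization_def _ hp.out, padicValNat.mul (left_ne_zero_of_mul b4) (right_ne_zero_of_mul b4),
          padicValNat.pow_sub_pow (hp.out.odd_of_ne_two hp2) q1 h1 hq (Nat.sub_ne_zero_of_lt i.2), v1,
          padicValNat.eq_zero_of_not_dvd (fun h => hq (hp.out.dvd_of_dvd_pow h)), zero_add]
        split_ifs with h
        · rw [h, Nat.sub_zero, padicValNat_self]
        · rw [padicValNat.eq_zero_of_not_dvd (Nat.not_dvd_of_pos_of_lt (Nat.sub_pos_of_lt i.2) (by have := i.2; omega))]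
      simp_rw [b2]
      haveI : NeZero p := ⟨hp.out.ne_zero⟩
      rw [Finset.sum_add_distrib]; simp
    rw [Q.card_eq_multiplicity, a1]
    refine le_of_eq_of_le (by simp [pow_succ]) (Nat.card_le_card_of_injective (fun x : (ZMod p → ZMod p) × ZMod p =>
      (⟨_, U_mem (fun i => (z : F) ^ (x.1 i).val) x.2 (fun i => by rw [← pow_mul, mul_comm, pow_mul, z1, one_pow])⟩ : P0 F p)) ?_)
    rintro ⟨a, k⟩ ⟨b, l⟩ h
    have h3 : M (fun i => (z : F) ^ (a i).val) k = M (fun i => (z : F) ^ (b i).val) l := congrArg (fun x : P0 F p => x.1.1) h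
    have h4 : k = l := by
      by_contra hn
      have := congrFun (congrFun h3 k) 0
      simp [M, hn] at this
    subst h4
    refine Prod.ext (funext fun i => ?_) rfl
    have := congrFun (congrFun h3 (i + k)) i
    simp only [M, Matrix.of_apply, if_true, ← Units.val_pow_eq_pow_val, Units.val_inj] at this
    rw [pow_inj_mod, hz, Nat.mod_eq_of_lt (ZMod.val_lt _), Nat.mod_eq_of_lt (ZMod.val_lt _)] at this
    exact ZMod.val_injective _ this)
  refine ⟨Q, fun x ⟨k, hk⟩ => ?_⟩
  by_contra hn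
  push Not at hn
  have hn' : ∀ P : Sylow p (GL (ZMod p) F), x ∈ P → P = Q := fun P hP => by
    by_contra h; exact hn P h hP
  obtain ⟨P, hP⟩ := (IsPGroup.of_card (G := Subgroup.zpowers x) (n := k) (by rwa [Nat.card_zpowers])).exists_le_sylow
  have hx : x ∈ (Q : Subgroup _) := hn' P (hP (Subgroup.mem_zpowers x)) ▸ hP (Subgroup.mem_zpowers x)
  obtain ⟨g, hg, j, a, b, hab, ha, hb⟩ := exg hp2 z1 z2 x (e ▸ hx)
  have h5 := hn' (g⁻¹ • Q) (by
    change x ∈ MulAut.conj g⁻¹ • (Q : Subgroup _)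
    rw [Subgroup.mem_pointwise_smul_iff_inv_smul_mem, ← e]
    simpa using hg)
  refine hab (mono hp2 z1 z2 g (fun y hy => ?_) j a b ha hb)
  rw [e] at hy ⊢
  rw [← h5] at hy
  change y ∈ MulAut.conj g⁻¹ • (Q : Subgroup _) at hy
  rw [Subgroup.mem_pointwise_smul_iff_inv_smul_mem] at hy
  simpa using hy
end

/-- Let p be an odd prime and F a finite field with q elements such that p divides q - 1 but p² does not. Then GL(p, F) has a Sylow p-subgroup Q such that every element of p-power order lies in some Sylow p-subgroup other than Q (a redundant Sylow p-subgroup). -/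
theorem result {F : Type*} [Field F] [Fintype F] (p : ℕ) [Fact p.Prime]
    (hp : p ≠ 2) (h1 : p ∣ Fintype.card F - 1) (h2 : ¬ p ^ 2 ∣ Fintype.card F - 1) :
    ∃ Q : Sylow p (Matrix.GeneralLinearGroup (Fin p) F), ∀ x : Matrix.GeneralLinearGroup (Fin p) F,
      (∃ k : ℕ, orderOf x = p ^ k) → ∃ P : Sylow p (Matrix.GeneralLinearGroup (Fin p) F), P ≠ Q ∧ x ∈ P := by
  obtain ⟨n, rfl⟩ : ∃ n, p = n + 1 := ⟨p - 1, by have := (Fact.out : p.Prime).pos; omega⟩
  exact main hp h1 h2 (Matrix.card_GL_field (n + 1))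

end Cfsg.Agent.S4358
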