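import Cfsg.Statements.S4394
import Mathlib
import Cfsg.Agent.H4.Sch2

set_option autoImplicit false
open Cfsg

open Subgroup Cfsg CfsgH2 Function CfsgTB

namespace Cfsg.Agent.S4394

/-- Let X be a finite minimal non-nilpotent group (not nilpotent, every proper subgroup nilpotent) with a nontrivial normal Sylow p-subgroup P. If G is a finite p-solvable group whose Sylow p-subgroups are isomorphic to P, then G has p-length at most 1. -/
theorem result {G X : Type*} [Group G] [Finite G] [Group X] [Finite X] (p : ℕ) [Fact p.Prime]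
    (hX : Cfsg.IsMinimalNonNilpotent X) (P : Sylow p X) (hPn : (P : Subgroup X).Normal) (hP1 : (P : Subgroup X) ≠ ⊥)
    (hG : Cfsg.IsPSolvable p G) (Q : Sylow p G) (hQ : Nonempty (↥(Q : Subgroup G) ≃* ↥(P : Subgroup X))) : Cfsg.PLengthLE p 1 G := by
  obtain ⟨e⟩ := hQ
  have g := CfsgH4.Sch.gd_of_schmidt hX (syl_top P)
  let φ : (Q : Subgroup G) →* X := (P : Subgroup X).subtype.comp e.toMonoidHom
  have hφ : Injective φ := (subtype_injective _).comp e.injective
  have e1 : (⊤ : Subgroup (Q : Subgroup G)).map φ = P := by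
    rw [← map_map, map_top_of_surjective _ e.surjective, map_subtype_top]
  rw [← e1, CfsgH4.Sch.gd_map hφ] at g
  let f := QuotientGroup.mk' (pPrimeCore p G)
  let ψ : (Q : Subgroup G) →* G ⧸ pPrimeCore p G := f.comp (Q : Subgroup G).subtype
  have hψ : Injective ψ := (injective_iff_map_eq_one ψ).2 fun y hy => by
    have : (y : G) ∈ (Q : Subgroup G) ⊓ pPrimeCore p G := ⟨y.2, (QuotientGroup.eq_one_iff _).1 hy⟩
    rw [CfsgH1.inf_eq_bot_of_coprime (coprime_of_pgroup Q.isPGroup' (CfsgH1.not_dvd_card_pPrimeCore p)),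
      mem_bot] at this
    exact Subtype.ext this
  rw [← CfsgH4.Sch.gd_map hψ, ← map_map, map_subtype_top] at g
  have := CfsgH4.Sch.main (CfsgH1.IsPSolvable.quotient' hG _) (CfsgH1.pPrimeCore_quotient_pPrimeCore p)
    (CfsgH1.Syl.map_mk_top (syl_top Q) _) g
  exact plen_one (syl_top Q) (map_le_iff_le_comap.1 this)

end Cfsg.Agent.S4394
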