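import Cfsg.Statements.S4407
import Mathlib
import Cfsg.Agent.L0.D8m
import Cfsg.Agent.L0.D8c

set_option autoImplicit false
open Cfsg

namespace Cfsg.Agent.S4407

open CfsgL0 Subgroup CfsgH2 CfsgH3 Cfsg DihedralGroup

/-- Let S be a finite group with a normal elementary abelian subgroup A of order 9 that is self-centralizing (C_S(A) = A), and a dihedral subgroup X of order 8 with S = AX. Let M be a finite-dimensional module for S over the field with two elements that is faithful and irreducible. Then M has 16 elements, and X contains exactly one subgroup B of order 4 and exponent 2 whose fixed points on M form a subspace with exactly 2 elements (equivalently, M is free of rank one over the group algebra of B). -/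
theorem result {S : Type*} [Group S] [Finite S]
    (A : Subgroup S) [A.Normal] (hA : Cfsg.IsElementaryAbelian 3 A) (hA9 : Nat.card ↥A = 9)
    (hAC : Subgroup.centralizer (A : Set S) = A) (X : Subgroup S) (hX : Nonempty (↥X ≃* DihedralGroup 4)) (hAX : A ⊔ X = ⊤)
    {M : Type*} [AddCommGroup M] [Module (ZMod 2) M] [Finite M] (ρ : Representation (ZMod 2) S M)
    (hfaith : Function.Injective ρ)
    (hirr : ∀ N : Submodule (ZMod 2) M, (∀ s : S, ∀ m ∈ N, ρ s m ∈ N) → N = ⊥ ∨ N = ⊤) (hM : Nontrivial M) :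
    Nat.card M = 16 ∧
      ∃! B : Subgroup S, B ≤ X ∧ Nat.card ↥B = 4 ∧ (∀ b ∈ B, b ^ 2 = 1) ∧
        Nat.card {m : M // ∀ b ∈ B, ρ b m = m} = 2 := by
  classical
  have := Fintype.ofFinite S
  have : Fact (Nat.Prime 3) := ⟨by norm_num⟩
  obtain ⟨eX⟩ := hX
  obtain ⟨D, iD, rfl⟩ : ∃ D : DihedralGroup 4 →* S, Function.Injective D ∧ D.range = X :=
    ⟨X.subtype.comp eX.symm.toMonoidHom, Subtype.val_injective.comp eX.symm.injective, by
      rw [MonoidHom.range_comp, (MonoidHom.range_eq_top (f := eX.symm.toMonoidHom)).2 eX.symm.surjective, ← MonoidHom.range_eq_map,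
        range_subtype]⟩
  have ex := hA.2
  have comm {u v : S} (hu : u ∈ A) (hv : v ∈ A) : u * v = v * u := mem_centralizer_iff.1 (hAC.ge hv) u hu
  have nD (d) {x : S} (hx : x ∈ A) : D d * x * (D d)⁻¹ ∈ A := ‹A.Normal›.conj_mem x hx _
  have fa (d) (k : D d ∈ A) : d = 1 := by
    have := iD ((map_pow D d 3).trans ((ex _ k).trans (map_one D).symm))
    clear k; revert d; decide
  have ni {x : S} (hx : x ∈ A) (e : x⁻¹ = x) : x = 1 := by
    rw [← ex x hx, pow_succ, sq, inv_eq_iff_mul_eq_one.1 e, one_mul]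
  have cj2 (d e) (x : S) : D d * (D e * x * (D e)⁻¹) * (D d)⁻¹ = D (d * e) * x * (D (d * e))⁻¹ := by simp [mul_assoc]
  have gen {y : S} (hy : y ∈ A) (y1 : y ≠ 1) (e : D (r 2) * y * (D (r 2))⁻¹ = y⁻¹) :
      D (r 1) * y * (D (r 1))⁻¹ ∉ zpowers y ∧ zpowers y ⊔ zpowers (D (r 1) * y * (D (r 1))⁻¹) = A := by
    have o3 := orderOf_eq_prime (ex y hy) y1
    have k : D (r 1) * y * (D (r 1))⁻¹ ∉ zpowers y := fun k => by
      obtain ⟨n, hn, e1⟩ := mem_zpowers_iff_mem_range_orderOf.1 k |> Finset.mem_image.1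
      rw [o3, Finset.mem_range] at hn
      have e2 := cj2 (r 1) (r 1) y
      rw [(by decide : r 1 * r 1 = r (2 : ZMod 4)), e, ← e1, ← conj_pow, ← e1, ← pow_mul] at e2
      interval_cases n
      · exact y1 (by simpa using e2.symm)
      · exact y1 (ni hy (by simpa using e2.symm))
      · exact y1 (ni hy (by rw [← e2, (by norm_num : 2 * 2 = 3 + 1), pow_succ, ex y hy, one_mul]))
    refine ⟨k, eq_of_le_of_card_le (sup_le (zpowers_le.2 hy) (zpowers_le.2 (nD _ hy))) (le_of_eq ?_)⟩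
    rw [card_sup_zpowers_prime Nat.prime_three (mem_norm_zpowers (by
      rw [comm (nD _ hy) hy, mul_inv_cancel_right]; exact mem_zpowers y)) (ex _ (nD _ hy) ▸ one_mem _) k, hA9,
      Nat.card_zpowers, o3]
  have zi (x) (hx : x ∈ A) : D (r 2) * x * (D (r 2))⁻¹ = x⁻¹ := by
    obtain ⟨u, hu, n⟩ : ∃ u ∈ A, u⁻¹ * (D (r 2) * u * (D (r 2))⁻¹) ≠ 1 := by
      by_contra! k
      exact absurd (fa (r 2) (hAC.le fun u hu => (mul_inv_eq_iff_eq_mul.1 (inv_mul_eq_one.1 (k u hu)).symm).symm)) (by decide)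
    have e : D (r 2) * (u⁻¹ * (D (r 2) * u * (D (r 2))⁻¹)) * (D (r 2))⁻¹ = (u⁻¹ * (D (r 2) * u * (D (r 2))⁻¹))⁻¹ := by
      rw [← conj_mul, cj2, (by decide : r 2 * r 2 = (1 : DihedralGroup 4))]; simp [mul_assoc]
    obtain ⟨-, e2⟩ := gen (mul_mem (inv_mem hu) (nD _ hu)) n e
    have hy := mul_mem (inv_mem hu) (nD (r 2) hu)
    generalize u⁻¹ * _ = y at *
    obtain ⟨_, ⟨i, rfl⟩, j, rfl⟩ := (mem_sup_zpowers (mem_norm_zpowers (by
      rw [comm (nD _ hy) hy, mul_inv_cancel_right]; exact mem_zpowers y))).1 (e2.ge hx)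
    have e3 : D (r 2) * (D (r 1) * y * (D (r 1))⁻¹) * (D (r 2))⁻¹ = (D (r 1) * y * (D (r 1))⁻¹)⁻¹ := by
      rw [cj2, (by decide : r 2 * r 1 = r 1 * (r 2 : DihedralGroup 4)), ← cj2, e]; group
    rw [← conj_mul, ← conj_zpow, ← conj_zpow, e, e3, inv_zpow, inv_zpow, ← mul_inv_rev,
      comm (zpow_mem hy i) (zpow_mem (nD _ hy) j)]
  obtain ⟨a, ha, a1, sa⟩ : ∃ a ∈ A, a ≠ 1 ∧ D (sr 0) * a * (D (sr 0))⁻¹ = a := by
    by_contra! k
    refine absurd (fa (sr 0 * r 2) (hAC.le fun x hx => (mul_inv_eq_iff_eq_mul.1 ?_).symm)) (by decide)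
    rw [← cj2, zi x hx, ← conj_inv, inv_eq_iff_eq_inv, eq_inv_iff_mul_eq_one]
    by_contra n
    refine k _ (mul_mem (nD _ hx) hx) n ?_
    rw [← conj_mul, cj2, (by decide : sr 0 * sr 0 = (1 : DihedralGroup 4)), map_one, one_mul, inv_one, mul_one, comm hx (nD _ hx)]
  obtain ⟨nb, hT⟩ := gen ha a1 (zi a ha)
  obtain ⟨b, hb⟩ : ∃ b, b = D (r 1) * a * (D (r 1))⁻¹ := ⟨_, rfl⟩
  have rb : D (r 1) * b * (D (r 1))⁻¹ = a⁻¹ := by rw [hb, cj2, ← zi a ha]; rfl
  have bT : b ∈ A := hb ▸ nD _ ha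
  have sb : D (sr 0) * b * (D (sr 0))⁻¹ = b⁻¹ := by
    rw [← zi b bT, hb, cj2, cj2, (by decide : sr 0 * r 1 = r 2 * r 1 * (sr 0 : DihedralGroup 4)), ← cj2 _ (sr 0), sa]
  rw [← hb] at nb hT
  have ta : D (sr 3) * a * (D (sr 3))⁻¹ = b := by rw [hb, ← congrArg (D (r 1) * · * (D (r 1))⁻¹) sa, cj2]; rfl
  have tb : D (sr 3) * b * (D (sr 3))⁻¹ = a := by
    rw [(by decide : sr 3 = r 1 * (sr 0 : DihedralGroup 4)), ← cj2, sb, ← conj_inv, rb, inv_inv]
  have iv {x : S} (hx : x ∈ A) : x⁻¹ = x * x := by rw [inv_eq_iff_mul_eq_one, ← ex x hx, pow_succ', sq]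
  have gn (H : Subgroup S) (h1 : a ∈ H) (h2 : b ∈ H) (h3 : D.range ≤ H) : H = ⊤ :=
    top_le_iff.1 (hAX ▸ sup_le (hT ▸ sup_le (zpowers_le.2 h1) (zpowers_le.2 h2)) h3)
  have mu (g h m) : ρ (g * h) m = ρ g (ρ h m) := by rw [map_mul]; rfl
  have nz (g) {m : M} (m0 : m ≠ 0) : ρ g m ≠ 0 := fun e => m0 (by rw [← ρ.inv_self_apply g m, e, map_zero])
  have cv {g x y : S} (e : g * x * g⁻¹ = y) : g * x = y * g := mul_inv_eq_iff_eq_mul.1 e
  have c1 {m : M} (m0 : m ≠ 0) (hm : ρ a m = m) := d8_mod ρ hfaith hirr D iD a1 (ex a ha) (comm ha bT) (cv sa)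
    (by rw [cv sb, iv bT, mul_assoc]) (cv ta) gn m0 hm
  let τ : DihedralGroup 4 →* DihedralGroup 4 := MonoidHom.mk' (fun d => match d with | .r i => r (-i) | .sr i => sr (3 - i)) (by decide)
  have hτ : (D.comp τ).range = D.range := by
    rw [MonoidHom.range_comp, (MonoidHom.range_eq_top (f := τ)).2 (by decide), ← MonoidHom.range_eq_map]
  have tab : D (sr 3) * (a * b) * (D (sr 3))⁻¹ = a * b := by rw [← conj_mul, ta, tb, comm ha bT]
  have sab : D (sr 0) * (a * b) * (D (sr 0))⁻¹ = a * b⁻¹ := by rw [← conj_mul, sa, sb]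
  have c2 {m : M} (m0 : m ≠ 0) (hm : ρ (a * b) m = m) := hτ ▸ d8_mod ρ hfaith hirr (D.comp τ) (iD.comp (by decide)) (b := a * b⁻¹)
    (fun e => nb (by rw [eq_inv_of_mul_eq_one_right e]; exact inv_mem (mem_zpowers a))) (ex _ (mul_mem ha bT))
    (comm (mul_mem ha bT) (mul_mem ha (inv_mem bT))) (cv tab) (by
      change D (sr 3) * _ = _ * (_ * D (sr 3))
      rw [← mul_assoc (a * b⁻¹), ← iv (mul_mem ha (inv_mem bT))]
      exact cv (by rw [← conj_mul, ← conj_inv, ta, tb, mul_inv_rev, inv_inv])) (cv sab)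
    (fun H h1 h2 h3 => by
      have : a ∈ H := by
        have := mul_mem h2 h1
        rw [mul_assoc, comm ha bT, inv_mul_cancel_left, ← iv ha] at this
        exact inv_mem_iff.1 this
      exact gn H this ((mul_mem_cancel_left this).1 h1) (hτ ▸ h3)) m0 hm
  by_contra hc
  have z1 (m) (hm : ρ a m = m) : m = 0 := by_contra fun m0 => hc (c1 m0 hm)
  have z2 (m) (hm : ρ b m = m) : m = 0 := by_contra fun m0 => hc (c1 (nz (D (sr 3)) m0) (by rw [← mu, ← cv tb, mu, hm]))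
  have z3 (m) (hm : ρ (a * b) m = m) : m = 0 := by_contra fun m0 => hc (c2 m0 hm)
  have two (m : M) : m + m = 0 := ZModModule.add_self m
  have q {g : S} (hg : g ∈ A) (z : ∀ m, ρ g m = m → m = 0) (m) : ρ g (ρ g m) = m + ρ g m := by
    have := z (m + ρ g m + ρ g (ρ g m)) (by
      rw [map_add, map_add, ← mu g g (ρ g m), ← mu (g * g), ← iv hg, inv_mul_cancel]; simp only [map_one, Module.End.one_apply]; abel)
    exact add_left_cancel (this.trans (two _).symm)
  obtain ⟨m, m0⟩ := exists_ne (0 : M)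
  have e : ρ a m = ρ b m := by
    have := q (mul_mem ha bT) z3 m
    rw [mu, mu, ← mu b a, ← comm ha bT, mu, q ha z1, q bT z2, map_add, add_assoc, ← add_assoc (ρ b m), add_left_cancel_iff,
      add_eq_right] at this
    exact add_right_cancel ((two _).trans (by rw [← this, add_comm]))
  refine hc (c2 (nz (D (sr 0)) m0) ?_)
  have : D (sr 0) * (a * b⁻¹) * (D (sr 0))⁻¹ = a * b := by rw [← conj_mul, ← conj_inv, sa, sb, inv_inv]
  rw [← mu, ← cv this, mu, comm ha (inv_mem bT), mu, e, ρ.inv_self_apply]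

end Cfsg.Agent.S4407
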