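import Cfsg.Statements.S4418
import Mathlib
import Cfsg.Agent.H4.Fr4
import Cfsg.Agent.H4.ZS2
import Cfsg.Agent.L0.Kaz2
import Cfsg.Agent.H2.PG1

set_option autoImplicit false
open Cfsg

open Cfsg CfsgH4 CfsgH2 Subgroup

namespace Cfsg.Agent.S4418

universe u

/-- A metacyclic group with a large cyclic quotient. -/
structure MC {G : Type*} [Group G] (S : Subgroup G) (a b : G) (i : ℕ) : Prop where
  ma : a ∈ S
  mb : b ∈ S
  norm : ∀ s ∈ S, ∀ n ∈ zpowers a, s * n * s⁻¹ ∈ zpowers a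
  gen : ∀ s ∈ S, ∃ n ∈ zpowers a, ∃ j : ℤ, s = n * b ^ j
  pow : ∀ j : ℤ, b ^ j ∈ zpowers a ↔ 2 ^ (i + 2) ∣ j

variable {G : Type*} [Group G] [Finite G] {S : Subgroup G} {a b : G} {i : ℕ}

omit [Finite G] in
theorem MC.map (h : MC S a b i) {H : Type*} [Group H] (f : G →* H) (hf : S ⊓ f.ker ≤ zpowers a) :
    MC (S.map f) (f a) (f b) i := by
  refine ⟨mem_map_of_mem f h.ma, mem_map_of_mem f h.mb, ?_, ?_, fun j => ?_⟩ <;>
    rw [← MonoidHom.map_zpowers]
  · rintro _ ⟨s, hs, rfl⟩ _ ⟨n, hn, rfl⟩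
    exact ⟨_, h.norm s hs n hn, by simp⟩
  · rintro _ ⟨s, hs, rfl⟩
    obtain ⟨n, hn, j, rfl⟩ := h.gen s hs
    exact ⟨_, mem_map_of_mem f hn, j, by simp⟩
  · refine ⟨fun ⟨n, hn, h1⟩ => (h.pow j).1 ?_, fun h1 => ⟨_, (h.pow j).2 h1, by simp⟩⟩
    simpa using mul_mem hn (hf ⟨S.mul_mem (inv_mem (zpowers_le.2 h.ma hn)) (zpow_mem h.mb j),
      show f (n⁻¹ * b ^ j) = 1 by simp [h1]⟩)

omit [Finite G] in
theorem MC.half (h : MC S a b i) {y : G} (hy : y ∈ S) (h2 : y * y = 1) (h1 : y ∉ zpowers a) :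
    ∃ n ∈ zpowers a, y = n * (b ^ 2 ^ i * b ^ 2 ^ i) := by
  obtain ⟨n, hn, j, rfl⟩ := h.gen y hy
  obtain ⟨x, hx⟩ := (h.pow (2 * j)).1 (by
    have : b ^ (2 * j) = (n * (b ^ j * n * (b ^ j)⁻¹))⁻¹ * (n * b ^ j * (n * b ^ j)) := by group
    rw [this, h2, mul_one]
    exact inv_mem (mul_mem hn (h.norm _ (S.zpow_mem h.mb j) n hn)))
  obtain ⟨k, rfl | rfl⟩ := Int.even_or_odd' x
  · exact (h1 ((zpowers a).mul_mem hn ((h.pow j).2 ⟨k, by linarith⟩))).elim
  · refine ⟨_, mul_mem hn ((h.pow _).2 ⟨k, rfl⟩), ?_⟩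
    rw [show j = 2 ^ (i + 2) * k + (2 ^ i + 2 ^ i : ℕ) by push_cast; linarith [pow_add (2 : ℤ) i 2],
      zpow_add, zpow_natCast, pow_add b, mul_assoc]

theorem MC.key (h : MC S a b i) (hS : Syl 2 S ⊤) {z u g : G} (hz : z ∈ zpowers a)
    (ho : orderOf z = 2) (hg : g * z * g⁻¹ = u) (hu : u ∈ S) (hne : u ≠ z) :
    R2 S z u ∧ 4 < Nat.card S := by
  have hN := zpowers_le.2 h.ma
  have hc : ∀ {m n : G}, m ∈ zpowers a → n ∈ zpowers a → m * n = n * m := commute_of_mem_zpowers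
  obtain ⟨z2, z1⟩ := CfsgL0.orderOf_two_iff.1 ho
  have uo : orderOf u = 2 := by rw [← hg, orderOf_conj', ho]
  obtain ⟨u2, u1⟩ := CfsgL0.orderOf_two_iff.1 uo
  have a1 : ∀ y ∈ zpowers a, y * y = 1 → y = 1 ∨ y = z := fun y hy h2 => or_iff_not_imp_left.2
    fun h1 => eq_of_orderOf_two inferInstance hy hz (CfsgL0.orderOf_two_iff.2 ⟨h2, h1⟩) ho
  have a2 : ∀ s ∈ S, s * z = z * s := fun s hs => mul_inv_eq_iff_eq_mul.1
    ((a1 _ (h.norm s hs z hz) (by simp [z2])).resolve_left (by simpa using z1))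
  have a3 : u ∉ zpowers a := fun h1 => (a1 u h1 u2).elim u1 hne
  obtain ⟨n, hn, hs⟩ := h.half hu u2 a3
  have ms := pow_mem h.mb (2 ^ i)
  have a4 : ∀ y ∈ S, y * y = 1 → y = 1 ∨ y = z ∨ y = u ∨ y = z * u := fun y hy h2 => by
    by_cases h1 : y ∈ zpowers a
    · exact (a1 y h1 h2).imp_right .inl
    obtain ⟨m, hm, h3⟩ := h.half hy h2 h1
    have b1 : y * u⁻¹ ∈ zpowers a := by simpa [h3, hs, mul_assoc] using mul_mem hm (inv_mem hn)
    obtain ⟨r, hr⟩ := mem_zpowers_iff.1 (h.norm _ ms a (mem_zpowers a))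
    have b2 : ∀ m ∈ zpowers a, b ^ 2 ^ i * m * (b ^ 2 ^ i)⁻¹ = m ^ r := by
      rintro _ ⟨k, rfl⟩
      simp only [← conj_zpow, ← hr, ← zpow_mul, mul_comm]
    have b3 : (y * u⁻¹) ^ (r * r + 1) = 1 := by
      rw [zpow_add_one, zpow_mul, ← b2 _ (zpow_mem b1 r), ← b2 _ b1]
      have b4 := hc hn (h.norm _ ms _ (h.norm _ ms _ b1))
      rw [← mul_inv_eq_iff_eq_mul] at b4
      rw [← b4]
      calc _ = u * (y * u⁻¹) * u⁻¹ * (y * u⁻¹) := by rw [hs]; group
        _ = 1 := by simp [inv_eq_of_mul_eq_one_left u2, mul_assoc, ← mul_assoc u u, u2,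
          ← mul_assoc y y, h2]
    obtain ⟨e, he⟩ := pgroup_mem_order hS.pg (hN b1)
    rw [← orderOf_dvd_iff_zpow_eq_one, he] at b3
    have b4 : e ≤ 1 := by
      by_contra h4
      obtain ⟨k, hk⟩ := (pow_dvd_pow (2 : ℤ) (show 2 ≤ e by omega)).trans (by exact_mod_cast b3)
      obtain ⟨q, rfl | rfl⟩ := Int.even_or_odd' r
      · have : 4 * (q * q) + 1 = 4 * k := by linarith
        omega
      · have : 4 * (q * q + q) + 2 = 4 * k := by linarith
        omega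
    rcases a1 _ b1 (by rw [← sq, ← orderOf_dvd_iff_pow_eq_one, he]; exact pow_dvd_pow 2 b4) with h4 | h4
    · exact .inr (.inr (.inl (mul_inv_eq_one.1 h4)))
    · exact .inr (.inr (.inr (mul_inv_eq_iff_eq_mul.1 h4)))
  have a5 : ∀ s ∈ S, s * u = u * s ∨ s * u * s⁻¹ = z * u := fun s hs => by
    rcases a4 _ (mul_mem (mul_mem hs hu) (inv_mem hs)) (by simp [u2]) with h1 | h1 | h1 | h1
    · exact (u1 (by simpa using h1)).elim
    · exact (hne (mul_left_cancel ((mul_inv_eq_iff_eq_mul.1 h1).trans (a2 s hs).symm))).elim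
    · exact .inl (mul_inv_eq_iff_eq_mul.1 h1)
    · exact .inr h1
  have a6 : ∀ s ∈ S, ∀ t ∈ S, s * u ≠ u * s → t * u ≠ u * t → s * t * u = u * (s * t) :=
    fun s hs t ht h1 h2 => by
      have b1 := (a5 s hs).resolve_left h1
      have b2 := (a5 t ht).resolve_left h2
      rw [← mul_inv_eq_iff_eq_mul]
      calc _ = s * (t * u * t⁻¹) * s⁻¹ := by group
        _ = z * (s * u * s⁻¹) := by rw [b2, ← mul_assoc, a2 s hs]; group
        _ = u := by rw [b1, ← mul_assoc, z2, one_mul]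
  have a7 : ∀ s ∈ S, s * s * u = u * (s * s) := fun s hs => by
    by_cases h1 : s * u = u * s
    · rw [mul_assoc, h1, ← mul_assoc, h1, mul_assoc]
    · exact a6 s hs s hs h1 h1
  obtain ⟨c, hc1, hc2⟩ := (hS.mono (K := C1[z]) (fun s hs => mem_centralizer_singleton_iff.2
    (a2 s hs)) le_top).exists_conj_le (Q := (S ⊓ C1[u]).map (cj g⁻¹)) ((hS.pg.to_le inf_le_left).map _)
    (by
      rintro _ ⟨t, ht, rfl⟩
      have := mem_centralizer_singleton_iff.1 ht.2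
      rw [← hg] at this
      rw [mem_centralizer_singleton_iff, cj_apply]
      calc _ = g⁻¹ * (t * (g * z * g⁻¹)) * g := by group
        _ = _ := by rw [this]; group)
  obtain ⟨α, b1, b2⟩ : ∃ α, α * u * α⁻¹ = z ∧ ∀ t ∈ S, t * u = u * t → α * t * α⁻¹ ∈ S :=
    ⟨c * g⁻¹, by rw [← hg]; simp [mul_assoc, ← mul_assoc c, mem_centralizer_singleton_iff.1 hc1],
      fun t ht h1 => by
        simpa [mul_assoc] using hc2 (mem_map_of_mem _ (mem_map_of_mem _
          ⟨ht, mem_centralizer_singleton_iff.2 h1⟩))⟩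
  have b3 : α * z * α⁻¹ = u ∨ α * z * α⁻¹ = z * u :=
    ((a4 _ (b2 z (hN hz) (a2 u hu).symm) (by simp [z2])).resolve_left
      (by simpa using z1)).resolve_left fun h1 => hne (by simpa using b1.trans h1.symm)
  have b4 : ∀ t ∈ S, t * u = u * t → α * t * α⁻¹ * u = u * (α * t * α⁻¹) := fun t ht h1 => by
    have c1 : Commute (α * t * α⁻¹) (α * z * α⁻¹) := by
      rw [Commute, SemiconjBy, conj_mul, conj_mul, a2 t ht]
    rcases b3 with h2 | h2 <;> rw [h2] at c1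
    · exact c1
    · simpa [← mul_assoc, z2] using (Commute.mul_right (a2 _ (b2 t ht h1)) c1).eq
  have b5 : ∀ k ∈ zpowers a, α * k * α⁻¹ ∈ zpowers a → k = 1 := fun k hk h1 => by_contra fun h2 => by
    obtain ⟨t, ht⟩ := exists_prime_orderOf_dvd_card' 2 (dvd_card_of_pgroup
      (hS.pg.to_le (zpowers_le.2 (hN hk))) (mt zpowers_eq_bot.1 h2))
    rw [← orderOf_coe] at ht
    obtain ⟨j, hj⟩ := mem_zpowers_iff.1 t.2
    have c1 := zpow_mem h1 j
    rw [conj_zpow, hj, eq_of_orderOf_two inferInstance (zpowers_le.2 hk t.2) hz ht ho] at c1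
    rcases b3 with h3 | h3 <;> rw [h3] at c1
    exacts [a3 c1, a3 (by simpa using mul_mem (inv_mem hz) c1)]
  have b6 : ∀ x ∈ S, ∀ y ∈ S, x * y * x⁻¹ * y⁻¹ ∈ zpowers a := fun x hx y hy => by
    obtain ⟨m, hm, j, rfl⟩ := h.gen x hx
    obtain ⟨n, hn, k, rfl⟩ := h.gen y hy
    convert mul_mem (mul_mem (mul_mem hm (h.norm _ (zpow_mem h.mb j) n hn))
      (h.norm _ (zpow_mem h.mb k) _ (inv_mem hm))) (inv_mem hn) using 1
    group
  have b7 : ∀ x ∈ S, ∀ y ∈ S, x * u = u * x → y * u = u * y → x * y = y * x :=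
    fun x hx y hy h1 h2 => by
      have := b5 _ (b6 x hx y hy) (by convert b6 _ (b2 x hx h1) _ (b2 y hy h2) using 1; group)
      rwa [mul_inv_eq_one, mul_inv_eq_iff_eq_mul] at this
  have b8 : a * u = u * a := by_contra fun h1 => h1 (by
    have c1 : Commute (b ^ 2 ^ i) (a * a) := by
      by_cases h2 : b ^ 2 ^ i * u = u * b ^ 2 ^ i
      · exact b7 _ ms _ (mul_mem h.ma h.ma) h2 (a7 a h.ma)
      · simpa using (Commute.mul_left (b7 _ (mul_mem ms h.ma) _ (mul_mem h.ma h.ma)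
          (a6 _ ms a h.ma h2 h1) (a7 a h.ma)) ((Commute.refl a).mul_right (.refl a)).inv_left)
    have c2 := h.norm _ ms a (mem_zpowers a)
    generalize b ^ 2 ^ i = s at *
    have c3 : s * a * s⁻¹ = a ∨ s * a * s⁻¹ = z * a := by
      refine (a1 _ (mul_mem c2 (inv_mem (mem_zpowers a))) ?_).imp mul_inv_eq_one.1
        mul_inv_eq_iff_eq_mul.1
      rw [mul_assoc, ← mul_assoc a⁻¹, hc (inv_mem (mem_zpowers a)) c2, mul_assoc _ a⁻¹, ← mul_assoc,
        conj_mul, c1.eq]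
      group
    have c4 : s * s * a = a * (s * s) := by
      rw [← mul_inv_eq_iff_eq_mul]
      rcases c3 with c3 | c3
      · calc _ = s * (s * a * s⁻¹) * s⁻¹ := by group
          _ = a := by rw [c3, c3]
      · calc _ = s * (s * a * s⁻¹) * s⁻¹ := by group
          _ = z * (s * a * s⁻¹) := by conv_lhs => rw [c3, ← mul_assoc, a2 s ms]
                                      group
          _ = a := by rw [c3, ← mul_assoc, z2, one_mul]
    rw [hs, ← mul_assoc, hc (mem_zpowers a) hn, mul_assoc, ← c4, mul_assoc n])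
  have b9 : ∀ n ∈ zpowers a, n * u = u * n := by
    rintro _ ⟨k, rfl⟩
    exact (Commute.zpow_left b8 k).eq
  have b10 : b * u = u * b := by_contra fun h1 => by
    have c1 : ∀ m : ℕ, (∀ t ∈ S, t * u = u * t → t ^ 2 ^ (m + 1) = 1) →
        ∀ t ∈ S, t * u = u * t → t ^ 2 ^ m ∈ zpowers a := fun m h2 t ht h3 => by
      obtain ⟨n, hn, j, rfl⟩ := h.gen t ht
      have c1 : Commute (b ^ j) u := by
        simpa using Commute.mul_left (Commute.inv_left (b9 n hn)) h3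
      obtain ⟨k, rfl | rfl⟩ := Int.even_or_odd' j
      · rw [Commute.mul_pow (b7 n (hN hn) _ (zpow_mem h.mb _) (b9 n hn) c1)]
        refine mul_mem (pow_mem hn _) ?_
        have c2 : Commute b ((b ^ (2 * k)) ^ 2 ^ m) := ((Commute.refl b).zpow_right _).pow_right _
        rcases a4 _ (pow_mem (zpow_mem h.mb _) _) (by
          rw [← sq, ← pow_mul, ← pow_succ, h2 _ (zpow_mem h.mb _) c1]) with h4 | h4 | h4 | h4 <;>
          rw [h4] at c2 ⊢
        exacts [one_mem _, hz, (h1 c2).elim, (h1 (by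
          simpa [← mul_assoc, z2] using (Commute.mul_right (a2 b h.mb) c2).eq)).elim]
      · refine (h1 ?_).elim
        have c2 : Commute (b ^ (2 * k)) u := by
          rw [zpow_mul, zpow_two]; exact Commute.zpow_left (a7 b h.mb) k
        simpa [zpow_add_one] using (c2.inv_left.mul_left c1).eq
    have c2 : ∀ m : ℕ, (∀ t ∈ S, t * u = u * t → t ^ 2 ^ m = 1) → z = 1 := fun m => by
      induction m with
      | zero => exact fun h2 => by simpa using h2 z (hN hz) (a2 u hu).symm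
      | succ m ih =>
        exact fun h2 => ih fun t ht h3 => b5 _ (c1 m h2 t ht h3)
          (by rw [← conj_pow]; exact c1 m h2 _ (b2 t ht h3) (b4 t ht h3))
    obtain ⟨m, hm⟩ := IsPGroup.iff_card.1 hS.pg
    exact z1 (c2 m fun t ht _ => hm ▸ congrArg Subtype.val (pow_card_eq_one' (x := (⟨t, ht⟩ : S))))
  have b11 : ∀ s ∈ S, s * u = u * s := fun s hs => by
    obtain ⟨n, hn, j, rfl⟩ := h.gen s hs
    exact Commute.mul_left (b9 n hn) (Commute.zpow_left b10 j)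
  refine ⟨⟨fun x hx y hy => b7 x hx y hy (b11 x hx) (b11 y hy), hN hz, hu, z2, u2, z1, u1, hne.symm,
    a4⟩, not_le.1 fun h4 => hne ?_⟩
  have c1 := Int.le_of_dvd (by exact_mod_cast orderOf_pos b)
    ((h.pow (orderOf b)).1 (by simp [one_mem]))
  have c2 := eq_of_le_of_card_ge (zpowers_le.2 h.mb) (by
    rw [Nat.card_zpowers]
    have : 0 < 2 ^ i := by positivity
    norm_cast at c1
    rw [pow_add] at c1
    omega)
  exact eq_of_orderOf_two (c2 ▸ inferInstance) hu (hN hz) uo ho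

theorem aux (n : ℕ) : ∀ (G : Type u) [Group G] [Finite G], Nat.card G = n →
    ∀ (S : Subgroup G) (a b : G), Syl 2 S ⊤ → MC S a b i → Group.IsSolvable G := by
  induction n using Nat.strong_induction_on with | _ n ih => ?_
  rintro G _ _ rfl S a b hS h
  have h1 : ∀ (K : Subgroup G) [K.Normal], K ≠ ⊥ → Group.IsSolvable K → S ⊓ K ≤ zpowers a →
      Group.IsSolvable G := fun K _ h1 _ h2 => by
    have := hS.map (QuotientGroup.mk' K)
    rw [map_top_of_surjective _ (QuotientGroup.mk'_surjective K)] at this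
    exact (Group.isSolvable_iff_subgroup_quotient K).2 ⟨inferInstance, ih _ (CfsgH2.card_quot_lt h1) _ rfl _ _ _
      this (h.map _ (by rwa [QuotientGroup.ker_mk']))⟩
  by_cases hO : pPrimeCore 2 G = ⊥
  swap
  · exact h1 _ hO (ft_of_not_dvd (CfsgH1.not_dvd_card_pPrimeCore 2)) fun x hx =>
      eq_one_of_mem_core hS.pg hx.1 hx.2 ▸ one_mem _
  by_cases ha : a = 1
  · refine CfsgL0.sol_of_cyc_syl hS (le_antisymm (zpowers_le.2 h.mb) (fun s hs => ?_) ▸ inferInstance)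
    obtain ⟨n, hn, j, rfl⟩ := h.gen s hs
    rw [ha, zpowers_one_eq_bot, mem_bot] at hn
    exact ⟨j, by simp [hn]⟩
  obtain ⟨z, hz⟩ := exists_prime_orderOf_dvd_card' 2 (dvd_card_of_pgroup
    (hS.pg.to_le (zpowers_le.2 h.ma)) (mt zpowers_eq_bot.1 ha))
  rw [← orderOf_coe] at hz
  by_cases h2 : ∀ g : G, g * z * g⁻¹ ∈ S → g * z * g⁻¹ = z
  · have h3 : (z : G) ∈ center G := mem_center_iff.2 fun g => by
      simpa [hO, mul_inv_eq_iff_eq_mul] using zstar_two hS (zpowers_le.2 h.ma z.2) h2 g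
    have : (zpowers (z : G)).Normal := ⟨fun n hn g => by
      rwa [mem_center_iff.1 (zpowers_le.2 h3 hn), mul_inv_cancel_right]⟩
    exact h1 (zpowers (z : G)) (mt zpowers_eq_bot.1 (CfsgL0.orderOf_two_iff.1 hz).2)
      (Group.isSolvable_of_comm fun a b => Subtype.ext (commute_of_mem_zpowers a.2 b.2)) (inf_le_right.trans (zpowers_le.2 z.2))
  push Not at h2
  obtain ⟨g, h2, h3⟩ := h2
  obtain ⟨h4, h5⟩ := h.key hS z.2 hz rfl h2 h3
  have := h4.normal hS h5 hO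
  exact (Group.isSolvable_iff_subgroup_quotient S).2 ⟨CfsgH1.isSolvable_of_isPGroup hS.pg,
    ft_of_not_dvd (relIndex_top_right S ▸ hS.not_dvd_of_le le_rfl :)⟩

/-- Let G be a finite group whose Sylow 2-subgroup S is metacyclic via a cyclic normal subgroup N of S with S/N cyclic of order greater than 2. Then G is soluble. -/
theorem result {G : Type*} [Group G] [Finite G] (S : Sylow 2 G) (N : Subgroup ↥(S : Subgroup G)) [hN : N.Normal] (hNc : IsCyclic N) (hQc : IsCyclic (↥(S : Subgroup G) ⧸ N)) (hQ : 2 < Nat.card (↥(S : Subgroup G) ⧸ N)) : Group.IsSolvable G := by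
  obtain ⟨a, ha⟩ := IsCyclic.exists_generator (α := N)
  obtain ⟨b, hb⟩ := IsCyclic.exists_generator (α := S ⧸ N)
  obtain ⟨b, rfl⟩ := QuotientGroup.mk_surjective b
  have h1 : ∀ x : S, x ∈ N ↔ (x : G) ∈ zpowers (a.1 : G) := fun x =>
    ⟨fun h => (ha ⟨x, h⟩).imp fun k hk => by simpa using congrArg (fun y : N => (y.1 : G)) hk,
      fun ⟨k, hk⟩ => (Subtype.ext hk : a.1 ^ k = x) ▸ zpow_mem a.2 k⟩
  obtain ⟨k, hk⟩ := IsPGroup.iff_card.1 (S.isPGroup'.to_quotient N)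
  obtain ⟨i, rfl⟩ : ∃ i, k = i + 2 := ⟨k - 2, by
    rw [hk] at hQ
    have := (Nat.pow_lt_pow_iff_right one_lt_two).1 ((pow_one 2).trans_lt hQ)
    omega⟩
  refine aux (i := i) _ G rfl S a.1 b (syl_top S) ⟨a.1.2, b.2, fun s hs n hn => ?_, fun s hs => ?_,
    fun j => ?_⟩
  · have h2 := zpowers_le.2 a.1.2 hn
    exact (h1 _).1 (hN.conj_mem ⟨n, h2⟩ ((h1 _).2 hn) ⟨s, hs⟩)
  · obtain ⟨j, hj⟩ := hb (⟨s, hs⟩ : S)
    refine ⟨_, (h1 (⟨s, hs⟩ * (b ^ j)⁻¹)).1 ?_, j, by simp⟩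
    rw [← QuotientGroup.eq_one_iff]
    simp [← hj]
  · rw [← coe_zpow, ← h1, ← QuotientGroup.eq_one_iff, QuotientGroup.mk_zpow,
      ← orderOf_dvd_iff_zpow_eq_one, orderOf_eq_card_of_forall_mem_zpowers hb, hk]
    simp

end Cfsg.Agent.S4418
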