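import Cfsg.Statements.S4419
import Cfsg.Agent.H1.Misc1
import Cfsg.Agent.H2.BG0
import Cfsg.Agent.L0.M3

set_option autoImplicit false
open Cfsg

namespace Cfsg.Agent.S4419

section
open Subgroup CfsgH2
open CfsgH1 hiding card_inf_mul_relIndex card_lt_of_lt card_lt_of_ne_top card_map_mul_card_inf_ker card_mul_relIndex card_subgroupOf card_sup_dvd card_sup_mul_card_inf coprime_le_sup_cent exists_card_prime_le isNilpotent_map isNilpotent_of_le isPGroup_pCore isSolvable_map isSolvable_of_le le_pCore le_pPrimeCore relIndex_map_dvd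
open scoped CfsgH1
open scoped commutatorElement

theorem rank_le {S Q : Type*} [Group S] [Group Q] [Finite Q] (h : IsMetacyclic S) (f : Q →* S) (hf : Function.Injective f) :
    Group.rank Q ≤ 2 := by
  classical
  obtain ⟨N, _, h1, h2⟩ := h
  let φ := (QuotientGroup.mk' N).comp f
  obtain ⟨_, e⟩ := (Subgroup.isCyclic_iff_exists_zpowers_eq_top φ.range).1 inferInstance
  obtain ⟨b, rfl⟩ := e.le (mem_zpowers _)
  obtain ⟨a, ha⟩ := (Subgroup.isCyclic_iff_exists_zpowers_eq_top φ.ker).1 (isCyclic_of_injective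
    ((f.comp φ.ker.subtype).codRestrict N fun x => (QuotientGroup.eq_one_iff _).1 x.2) fun x y e => Subtype.ext (hf (congrArg Subtype.val e)))
  refine (Group.rank_le (S := {a, b}) (top_le_iff.1 fun x _ => ?_)).trans Finset.card_le_two
  obtain ⟨k, hk⟩ := e.ge ⟨x, rfl⟩
  obtain ⟨l, hl⟩ := ha.ge (show x * (b ^ k)⁻¹ ∈ φ.ker by simp only [MonoidHom.mem_ker, map_mul, map_inv, map_zpow, ← hk, mul_inv_cancel])
  rw [← inv_mul_cancel_right x (b ^ k), ← hl]
  exact mul_mem (zpow_mem (subset_closure (by simp)) _) (zpow_mem (subset_closure (by simp)) _)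

end

/-- Let p be a prime and G a finite group whose Sylow p-subgroups are metacyclic (a cyclic normal subgroup with cyclic quotient). Then G has a normal p-complement if and only if the order of G/O_{p′,p}(G) is coprime to p² − 1. -/
theorem result {G : Type*} [Group G] [Finite G] (p : ℕ) [Fact p.Prime] (S : Sylow p G) (hS : Cfsg.IsMetacyclic ↥(S : Subgroup G)) : Cfsg.HasNormalPComplement p G ↔ Nat.Coprime (Nat.card (G ⧸ Cfsg.pPrimePCore p G)) (p ^ 2 - 1) := by
  open Subgroup CfsgH2 in
  open CfsgH1 hiding card_inf_mul_relIndex card_lt_of_lt card_lt_of_ne_top card_map_mul_card_inf_ker card_mul_relIndex card_subgroupOf card_sup_dvd card_sup_mul_card_inf coprime_le_sup_cent exists_card_prime_le isNilpotent_map isNilpotent_of_le isPGroup_pCore isSolvable_map isSolvable_of_le le_pCore le_pPrimeCore relIndex_map_dvd in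
  open scoped CfsgH1 in
  open scoped commutatorElement in
  · have hp : p.Prime := Fact.out
    rw [npc_top_iff, ← index_eq_card]
    refine ⟨fun h => by rw [← Opp_top, h.Opp_eq, index_top]; exact Nat.coprime_one_left _, fun h => ?_⟩
    let f := QuotientGroup.mk' (pPrimeCore p G)
    refine .of_map f (((syl_top S).map f).frobenius_npc fun Q hQ _ g _ h1 h2 => CfsgL0.cent_of_qt_phi (d := 2) ((S.2.map f).to_le hQ)
      ((CfsgL0.card_qt_phi_dvd ((S.2.map f).to_le hQ)).trans (pow_dvd_pow _ ?_)) h1 ((coprime_iff_not_dvd hp).1 h2)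
      fun q k hq h3 h4 h5 h6 => ?_) (by rw [top_inf_eq, QuotientGroup.ker_mk']; exact not_dvd_pPrimeCore)
    · refine (Group.rank_le_of_surjective ((f.comp (S.1 ⊓ Q.comap f).subtype).codRestrict Q fun x => x.2.2) fun y => ?_).trans
        (rank_le hS (inclusion inf_le_left) (inclusion_injective _))
      obtain ⟨x, hx, e⟩ := hQ y.2
      exact ⟨⟨x, hx, show f x ∈ Q from e ▸ y.2⟩, Subtype.ext e⟩
    rw [pPrimePCore, index_comap_of_surjective _ (QuotientGroup.mk'_surjective _)] at h
    obtain ⟨l, hl⟩ := exists_card_eq_pow (CfsgH2.isPGroup_pCore (p := p) (G := G ⧸ pPrimeCore p G))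
    have := h3.trans (orderOf_dvd_natCard g)
    rw [← card_mul_index (pCore p _), hl] at this
    refine hq.ne_one (Nat.eq_one_of_dvd_coprimes h ((Nat.Coprime.pow_right l (h2.coprime_dvd_left h3)).dvd_of_dvd_mul_left this)
      (h6.trans (Nat.pow_sub_one_dvd_pow_sub_one _ ?_)))
    interval_cases k <;> simp

end Cfsg.Agent.S4419
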