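import Cfsg.Statements.S4429
import Cfsg.Agent.H3.Hv1
import Cfsg.Agent.H3.Sm2

set_option autoImplicit false
open Cfsg

namespace Cfsg.Agent.S4429
open CfsgSm CfsgH4 CfsgH3
set_option maxRecDepth 100000
theorem n1 : ∀ n ∈ Nat.divisors 720, n % 11 = 1 → n = 1 ∨ n = 12 ∨ n = 45 ∨ n = 144 := by decide +kernel
theorem n2 : ∀ d ∈ cands 7920 720, (d % 11 = 1 → d = 12 ∨ d = 45) ∧ ((d + 1) % 11 = 0 → d = 10) ∧
    (d % 11 = 5 → d = 5 ∨ d = 16 ∨ d = 60) ∧ ((d + 5) % 11 = 0 → d = 6 ∨ d = 72) := by decide +kernel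
theorem n3 : ∀ n ∈ Nat.divisors 792, n % 5 = 1 → 12 ∣ 2 * n → 2 ∣ 792 / n := by decide +kernel
theorem n4 : ∀ e ∈ [2, 4], ∀ n ∈ Nat.divisors (1584 / e), n % 5 = 1 → 16 ∣ e * n → e = 4 ∧ (n = 36 ∨ n = 396) := by
  decide +kernel
theorem n5 : ∀ d ∈ cands 7920 1584, 11 ∣ d → (d % 5 = 1 → d = 11 ∨ d = 66) ∧ (d % 5 = 4 → d = 44) := by
  decide +kernel

open Classical in
theorem main {G : Type*} [Group G] [Finite G] [IsSimpleGroup G] (h : Nat.card G = 7920) :
    ∑ χ : IrrCharacter G, ({charDegree χ.1} : Multiset ℕ) = {1, 10, 10, 10, 11, 16, 16, 44, 45, 55} := by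
  haveI : Fact (Nat.Prime 11) := ⟨by norm_num⟩
  haveI : Fact (Nat.Prime 5) := ⟨by norm_num⟩
  have hG := nc (G := G) (by rw [h]; norm_num)
  obtain ⟨M, _, u, e, X, y, ε, δ, n, c, H, h1, h2, h3, h4, h5, h6, h7⟩ := setup (p := 11) (m := 720)
    hG (by rw [h]) (by norm_num)
  have bf : ∀ k, k < 7 → n ≠ k * 11 + 1 := fun k a b => by
    obtain ⟨-, -, ⟨a, -⟩ | ⟨a, -⟩⟩ := brc_of H.ord H.syl (perf hG) (core_bot (by rw [h]; norm_num)) (h1.trans b)
      (fun e => by have := e.le; omega) <;> rw [h] at a <;> norm_num at a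
  have hn : n = 144 := by
    have := n1 n (Nat.mem_divisors.2 ⟨⟨e * c, by rw [← h3]; ring⟩, by norm_num⟩) h4
    have := bf 1 (by norm_num); have := bf 4 (by norm_num); omega
  have le := Nat.le_of_dvd (by norm_num) h5
  obtain ⟨rfl, rfl⟩ : e = 5 ∧ c = 1 := by subst hn; interval_cases e <;> omega
  have hC := eqC H h2
  obtain ⟨M', _, u', e', X', y', ε', δ', n', c', H', k1, k2, k3, k4, k5, k6, k7⟩ := setup (p := 5) (m := 1584)
    hG (by rw [h]) (by norm_num)
  have he' : e' = 2 ∨ e' = 4 := by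
    have := Nat.le_of_dvd (by norm_num) k5
    interval_cases e' <;> simp_all
  have dz : ∀ χ : IrrCharacter G, 5 ∣ charDegree χ.1 → ¬ 5 ∣ Nat.card G / charDegree χ.1 := fun χ a b => by
    have := Nat.mul_dvd_mul a b
    rw [Nat.mul_div_cancel' (charDegree_dvd χ.2), h] at this; norm_num at this
  have dz' := fun χ a => not_principal_of_dz (M := M') (by rw [h]; norm_num) (dz χ a)
  have op : ∀ χ ∈ X.erase (irrOne G), ∃ i, (ε χ * charDegree χ.1,
      if χ ∈ principalBlock M' G then ε χ * charDegree χ.1 else 0, charDegree χ.1 ^ 2,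
      ({charDegree χ.1} : Multiset ℕ)) =
      ![((12 : ℤ), (12 : ℤ), 144, ({12} : Multiset ℕ)), (12, 0, 144, {12}), (45, 0, 2025, {45}),
        (-10, 0, 100, {10})] i := fun χ a => by
    obtain ⟨a1, a2, a3, a4⟩ := dX hG H (Finset.mem_of_mem_erase a) (Finset.ne_of_mem_erase a)
    rw [h1, hn] at a2; rw [h] at a3
    have a5 := n2 _ (mem_cands a1 a2 a3)
    rcases a4 with a4 | a4
    · rcases a5.1 a4.2 with b | b
      · rw [a4.1, b]
        split_ifs
        exacts [⟨0, rfl⟩, ⟨1, rfl⟩]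
      · rw [if_neg (dz' χ (by rw [b]; norm_num)), a4.1, b]; exact ⟨2, rfl⟩
    · have b := a5.2.1 a4.2
      rw [if_neg (dz' χ (by rw [b]; norm_num)), a4.1, b]; exact ⟨3, rfl⟩
  obtain ⟨a, s1, s2⟩ := sum_opts _ _ _ op
  simp only [Fin.sum_univ_four, Prod.ext_iff, Prod.fst_sum, Prod.snd_sum] at s1 s2
  simp only [Matrix.cons_val, Prod.fst_add, Prod.snd_add, Prod.smul_fst, Prod.smul_snd] at s2
  obtain ⟨s2, s3, s4, s5⟩ := s2
  simp only [nsmul_eq_mul, smul_eq_mul] at s2 s3 s4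
  have ce := card_erase H
  have t2 : (exc y).card = 2 := by have := H.cardY; omega
  have f5 : (Nat.card G).factorization 5 = 1 := fact_eq (m := 1584) Fact.out (by rw [h]; norm_num) (by norm_num)
  have hY : ∀ ψ ∈ exc y, δ = -1 ∧ charDegree ψ.1 = 16 ∧ ψ ∈ principalBlock M' G ∧
      a 0 = 0 ∧ a 1 = 0 ∧ a 2 = 1 ∧ a 3 = 3 := fun ψ hψ => by
    obtain ⟨b1, b2, b3, b4⟩ := dY hG H hψ
    rw [h1, hn] at b2; rw [h] at b3
    have b5 := n2 _ (mem_cands b1 b2 b3)
    have r := rel' H hψ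
    have q := sq_le H hψ
    have bt := bt3' (q := 5) (M' := M') H (by rw [h2]; norm_num) hψ
    rw [f5, s3] at bt
    rw [s4, t2, h] at q
    rw [s2] at r
    rcases b4 with ⟨rfl, b4⟩ | ⟨rfl, b4⟩
    · rcases b5.2.2.2 b4 with b | b <;> rw [b] at r q <;> omega
    rcases b5.2.2.1 b4 with b | b | b <;> rw [b] at r q bt
    · exfalso
      rw [if_neg (dz' ψ (by rw [b]))] at bt
      obtain ⟨χ, c1, c2⟩ := Finset.exists_ne_zero_of_sum_ne_zero (s3.trans_ne (by omega))
      obtain ⟨i, hi⟩ := op χ c1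
      have m : χ ∈ principalBlock M' G := by by_contra m; simp [m] at c2
      rw [if_pos m] at hi c2
      have e1 : charDegree χ.1 = 12 := by
        rcases H.sgn χ with s | s <;> rw [s] at hi c2 <;> fin_cases i <;> simp at hi <;> omega
      obtain ⟨-, d2, -, d4⟩ := dY hG H' (cong hG H' m (by rw [e1]; norm_num) (by rw [e1]; norm_num))
      rw [e1] at d2 d4
      obtain rfl : e' = 2 := by omega
      have d5 : n' * c' = 792 := by linarith
      have d6 := n3 n' (Nat.mem_divisors.2 ⟨⟨c', d5.symm⟩, by norm_num⟩) k4 (k1 ▸ d2)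
      rw [← d5, Nat.mul_div_cancel_left _ (by omega)] at d6
      obtain ⟨k, hk, ok⟩ := CfsgH2.exists_prime_order_mem Nat.prime_two (k2 ▸ d6.mul_left 5)
      have cm : Commute u' k := Subgroup.mem_centralizer_iff.1 hk u' (Subgroup.mem_zpowers _)
      obtain ⟨v, hv⟩ := exists_int_of_sq ψ.2.isGen (CfsgL0.inv_mul_self ok)
      have v1 := abs_lt hG (H.ne_oneY hψ) (CfsgL0.inv_ne_one ok) hv
      have v2 := dvd_sub_of_pelt (p := 2) ψ.2.isCharacter ⟨1, ok⟩ hv (irr_one_eq ψ)
      have v3 := ψ.2.isGen.dvd_sub_of_commute (p := 5) Fact.out cm (k := 1)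
        (by rw [pow_one, ← H'.ord, pow_orderOf_eq_one]) (n := -v) (by
          rw [ψ.2.eq_zero_of_defect_zero (p := 5) Fact.out (coe_deg ψ).symm (dz ψ (by rw [b])) (by
            rw [cm.orderOf_mul_eq_mul_orderOf_of_coprime (by rw [H'.ord, ok]; norm_num), H'.ord]
            exact dvd_mul_right _ _), hv]; simp)
      rw [b] at v1 v2
      have := abs_lt.1 v1
      omega
    · have : a 0 = 0 ∧ a 1 = 0 ∧ a 2 = 1 ∧ a 3 = 3 := by omega
      refine ⟨rfl, b, ?_, this⟩
      by_contra m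
      rw [if_neg m] at bt; omega
    · omega
  obtain ⟨ψ, hψ⟩ := Finset.card_pos.1 H.pos'
  obtain ⟨-, d16, m16, a0, a1, a2, a3⟩ := hY ψ hψ
  have d1 : 16 ∣ e' * n' := by
    rw [← d16, ← k1]
    exact (mem_cases H' m16).elim H'.dvdX H'.dvdY
  obtain ⟨rfl, hn'⟩ := n4 e' (by simpa using he') n' (Nat.mem_divisors.2 ⟨⟨c', by
    rw [← k3, mul_assoc, Nat.mul_div_cancel_left _ (by omega)]⟩, by rcases he' with rfl | rfl <;> norm_num⟩) k4 d1
  obtain ⟨rfl, rfl⟩ : n' = 396 ∧ c' = 1 := by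
    rcases hn' with rfl | rfl
    · exfalso
      obtain ⟨k, hk, ok⟩ := CfsgH2.exists_prime_order_mem (p := 11) Fact.out
        (by rw [k2, show c' = 11 by omega]; norm_num)
      have cm : Commute u' k := Subgroup.mem_centralizer_iff.1 hk u' (Subgroup.mem_zpowers _)
      have := cm.orderOf_mul_eq_mul_orderOf_of_coprime (by rw [H'.ord, ok]; norm_num)
      exact not_both H (q := 5) (g := u' * k) (by rw [h2]; norm_num) (by rw [this, H'.ord]; norm_num)
        (by rw [this, ok]; norm_num)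
    · omega
  have hC' := eqC H' k2
  obtain ⟨θ, hθ⟩ := Finset.card_eq_one.1 (show (exc y').card = 1 by have := H'.cardY; omega)
  have mθ : θ ∈ exc y' := hθ ▸ Finset.mem_singleton_self θ
  set σ : IrrCharacter G → ℤ := fun χ => if χ ∈ X' then ε' χ else δ'
  have rσ : ∑ χ ∈ X' ∪ exc y', σ χ * charDegree χ.1 = 0 := by
    rw [Finset.sum_union H'.disj, hθ, Finset.sum_singleton, ← H'.rel_deg mθ, add_comm]
    congr 1
    · simp only [σ, if_neg (Finset.disjoint_right.1 H'.disj mθ)]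
    · exact Finset.sum_congr rfl fun χ a => by simp only [σ, if_pos a]
  have pσ : ∀ χ ∈ X' ∪ exc y', χ ≠ irrOne G → charDegree χ.1 ∈ cands 7920 1584 ∧
      (σ χ = 1 ∧ charDegree χ.1 % 5 = 1 ∨ σ χ = -1 ∧ charDegree χ.1 % 5 = 4) := fun χ a b => by
    by_cases m : χ ∈ X'
    · obtain ⟨b1, b2, b3, b4⟩ := dX hG H' m b
      rw [k1] at b2; rw [h] at b3
      exact ⟨mem_cands b1 b2 b3, by simp only [σ, if_pos m]; omega⟩
    · obtain ⟨b1, b2, b3, b4⟩ := dY hG H' ((Finset.mem_union.1 a).resolve_left m)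
      rw [k1] at b2; rw [h] at b3
      exact ⟨mem_cands b1 b2 b3, by simp only [σ, if_neg m]; omega⟩
  have hX : ∀ χ ∈ X.erase (irrOne G), 5 ∣ charDegree χ.1 := fun χ b => by
    have : charDegree χ.1 ∈ ∑ χ ∈ X.erase (irrOne G), ({charDegree χ.1} : Multiset ℕ) :=
      Multiset.mem_sum.2 ⟨χ, b, Multiset.mem_singleton_self _⟩
    rw [s5, a0, a1, a2, a3] at this
    simp at this; omega
  set R := (X' ∪ exc y') \ (X ∪ exc y)
  have i1 : (X' ∪ exc y') ∩ (X ∪ exc y) = insert (irrOne G) (exc y) := by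
    ext χ
    simp only [Finset.mem_inter, Finset.mem_insert]
    constructor
    · rintro ⟨b1, b2⟩
      by_cases b : χ = irrOne G
      · exact .inl b
      refine .inr ((Finset.mem_union.1 b2).resolve_left fun b3 => ?_)
      have := hX χ (Finset.mem_erase.2 ⟨b, b3⟩)
      have := (pσ χ b1 b).2
      omega
    · rintro (rfl | b)
      · exact ⟨Finset.mem_union_left _ H'.one, Finset.mem_union_left _ H.one⟩
      · exact ⟨Finset.mem_union.2 (mem_cases H' (hY χ b).2.2.1), Finset.mem_union_right _ b⟩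
  have n1Y : irrOne G ∉ exc y := fun b => H.ne_oneY b rfl
  have cR : R.card = 2 := by
    have := Finset.card_sdiff_add_card_inter (X' ∪ exc y') (X ∪ exc y)
    rw [i1, Finset.card_insert_of_notMem n1Y, t2, Finset.card_union_of_disjoint H'.disj, H'.cardX] at this
    have c1 : (exc y').card = 1 := by rw [hθ]; rfl
    show ((X' ∪ exc y') \ (X ∪ exc y)).card = 2
    omega
  have sR : ∑ χ ∈ R, σ χ * charDegree χ.1 = -33 := by
    have := Finset.sum_inter_add_sum_sdiff (X' ∪ exc y') (X ∪ exc y) fun χ => σ χ * charDegree χ.1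
    rw [rσ, i1, Finset.sum_insert n1Y, Finset.sum_congr (s₁ := exc y) rfl (g := fun _ => 16) fun χ b => by
      have := pσ χ (Finset.mem_union.2 (mem_cases H' (hY χ b).2.2.1)) (H.ne_oneY b)
      rw [(hY χ b).2.1] at this ⊢
      omega, Finset.sum_const, t2, deg_irrOne] at this
    have s1 : σ (irrOne G) = 1 := by simp only [σ, if_pos H'.one, H'.eps_one]
    rw [s1] at this
    show ∑ χ ∈ (X' ∪ exc y') \ (X ∪ exc y), σ χ * charDegree χ.1 = -33
    simp only [nsmul_eq_mul] at this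
    push_cast at this
    linarith
  have d11 : ∀ χ, χ ∉ X ∪ exc y → 11 ∣ charDegree χ.1 := fun χ b => by
    by_contra b1; exact b (Finset.mem_union.2 (mem_of_not_dvd H hC b1))
  have op2 : ∀ χ ∈ R, ∃ i, (σ χ * charDegree χ.1, charDegree χ.1 ^ 2, ({charDegree χ.1} : Multiset ℕ)) =
      ![((11 : ℤ), 121, ({11} : Multiset ℕ)), (66, 4356, {66}), (-44, 1936, {44})] i := fun χ b => by
    obtain ⟨b1, b2⟩ := Finset.mem_sdiff.1 b
    obtain ⟨b3, b4⟩ := pσ χ b1 fun e => b2 (e ▸ Finset.mem_union_left _ H.one)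
    have b5 := n5 _ b3 (d11 χ b2)
    rcases b4 with b4 | b4
    · rcases b5.1 b4.2 with b | b <;> rw [b4.1, b]
      exacts [⟨0, rfl⟩, ⟨1, rfl⟩]
    · rw [b4.1, b5.2 b4.2]; exact ⟨2, rfl⟩
  obtain ⟨b, r1, r2⟩ := sum_opts _ _ _ op2
  simp only [Fin.sum_univ_three, Prod.ext_iff, Prod.fst_sum, Prod.snd_sum] at r1 r2
  simp only [Matrix.cons_val, Prod.fst_add, Prod.snd_add, Prod.smul_fst, Prod.smul_snd] at r2
  obtain ⟨r2, r3, r4⟩ := r2
  simp only [nsmul_eq_mul, smul_eq_mul] at r2 r3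
  obtain ⟨b0, b1, b2⟩ : b 0 = 1 ∧ b 1 = 0 ∧ b 2 = 1 := by omega
  set T := ((X' ∪ exc y') ∪ (X ∪ exc y))ᶜ
  have sp : ∀ {A : Type} [AddCommMonoid A] (F : IrrCharacter G → A), ∑ χ, F χ =
      F (irrOne G) + ∑ χ ∈ X.erase (irrOne G), F χ + ∑ χ ∈ exc y, F χ + ∑ χ ∈ R, F χ + ∑ χ ∈ T, F χ := fun F => by
    rw [Finset.add_sum_erase _ _ H.one, ← Finset.sum_union H.disj, add_comm _ (∑ χ ∈ R, F χ),
      ← Finset.sum_union Finset.sdiff_disjoint, Finset.sdiff_union_self_eq_union, Finset.sum_add_sum_compl]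
  have e1 := sp fun χ => charDegree χ.1 ^ 2
  rw [sum_deg_sq_nat, h, s4, r3, Finset.sum_congr (s₁ := exc y) rfl (g := fun _ => 256) fun χ b => by
    rw [(hY χ b).2.1]; norm_num, Finset.sum_const, t2, deg_irrOne, a0, a1, a2, a3, b0, b1, b2] at e1
  have hT : ∀ χ ∈ T, charDegree χ.1 = 55 := fun χ b => by
    rw [Finset.mem_compl, Finset.notMem_union] at b
    have c1 := d11 χ b.2
    have c2 : 5 ∣ charDegree χ.1 := by
      by_contra b1; exact b.1 (Finset.mem_union.2 (mem_of_not_dvd H' hC' b1))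
    have c3 := deg_sq_lt (χ := χ) fun e => b.2 (e ▸ Finset.mem_union_left _ H.one)
    have := charDegree_pos χ.2
    have : charDegree χ.1 < 89 := by rw [h] at c3; nlinarith
    omega
  rw [Finset.sum_congr rfl (g := fun _ => 3025) fun χ b => by rw [hT χ b]; norm_num, Finset.sum_const] at e1
  have cT : T.card = 1 := by simp only [smul_eq_mul] at e1; omega
  rw [sp, s5, r4, Finset.sum_congr (s₁ := exc y) rfl (g := fun _ => {16}) fun χ b => by rw [(hY χ b).2.1],
    Finset.sum_congr (s₁ := T) rfl (g := fun _ => {55}) fun χ b => by rw [hT χ b], Finset.sum_const,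
    Finset.sum_const, t2, cT, deg_irrOne, a0, a1, a2, a3, b0, b1, b2]
  decide

/-- Let G be a simple group of order 7920. Then G has exactly ten irreducible complex characters, and their degrees, listed with multiplicity, are 1, 10, 10, 10, 11, 16, 16, 44, 45, 55: for every natural number n, the number of irreducible characters of degree n is 1 if n ∈ {1, 11, 44, 45, 55}, 3 if n = 10, 2 if n = 16, and 0 otherwise. -/
theorem result {G : Type*} [Group G] [Finite G] [IsSimpleGroup G] (hG : Nat.card G = 7920) : Nat.card (Cfsg.IrrCharacter G) = 10 ∧ ∀ n : ℕ, Nat.card {χ : Cfsg.IrrCharacter G // Cfsg.charDegree (χ : G → ℂ) = n} = (if n = 1 ∨ n = 11 ∨ n = 44 ∨ n = 45 ∨ n = 55 then 1 else if n = 10 then 3 else if n = 16 then 2 else 0) := by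
  classical
  have h := main hG
  rw [Finset.sum_eq_multiset_sum] at h
  replace h := (Multiset.bind_singleton _ _).symm.trans h
  refine ⟨?_, fun n => ?_⟩
  · have := congrArg Multiset.card h
    rw [Multiset.card_map] at this
    rw [Nat.card_eq_fintype_card]; exact this
  · have := congrArg (Multiset.count n) h
    rw [Multiset.count_map] at this
    rw [Nat.card_eq_fintype_card, Fintype.card_subtype]
    refine Eq.trans ?_ (this.trans ?_)
    · simp only [eq_comm (a := n)]; rfl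
    · simp only [Multiset.insert_eq_cons, Multiset.count_cons, Multiset.count_singleton]
      split_ifs <;> omega


end Cfsg.Agent.S4429
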