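import Cfsg.Statements.S4531
import Mathlib
import Cfsg.Agent.H4.SolR
import Cfsg.Agent.H4.Di5
import Cfsg.Agent.H4.NilB
import Cfsg.Agent.H4.Quo
import Cfsg.Agent.S4528

set_option autoImplicit false
open Cfsg

open Cfsg MonoidAlgebra CfsgL0 CfsgH4 Module
open CfsgH3 hiding cj cj_cj
open scoped ComplexConjugate

namespace Cfsg.Agent.S4531

local notation "Z[" u "]" => Subgroup.zpowers u

theorem rank_le {G : Type*} [Group G] [Finite G] {M : Ideal AlgInt} [hM : PMod 2 M]
    {B : Set (IrrCharacter G)} (hB : IsPBlock M B) {D : Subgroup G} (hD : IsDefectGroup 2 M B D)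
    {x y : G} {n : ℕ} (hx : Dh D x n) (hy : y ∈ D) (h : ∀ g, g * y * g⁻¹ ∉ Z[x]) :
    blockRank 2 B ≤ 2 := by
  classical
  have := Fintype.ofFinite G
  obtain ⟨e, hm⟩ := exists_maxPr hB.isBlk (hB.isDefectGroup_iff.1 hD)
  obtain ⟨β, e', h'⟩ := hx.exists_diL hm hB
  obtain ⟨ζ, h1, h2⟩ := exists_height_zero (p := 2) h'.hβ.nonempty
  obtain ⟨f, hf, -⟩ := h'.exists_diD h1 h2
  obtain ⟨a, b, c, d, -, -, -, -, g, -, h3, h4, h5, -, -, h6, -⟩ := hf.table
    (AddChar.zmodChar_primitive_of_primitive_root _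
      (Complex.isPrimitiveRoot_exp (2 ^ (n + 1 + 1)) (by positivity)))
  have h9 := card_of_table h3 h4 h5 h6
  have h11 := Nat.one_le_two_pow (n := n + 1)
  have hN := pow_succ' 2 (n + 1)
  have h0 : y ∉ Z[x] := by simpa using h 1
  have h1 : ∀ i : ℕ, i ∈ Finset.Ioc 0 (2 ^ (n + 1)) → (i : ZMod (2 ^ (n + 1 + 1))) ≠ 0 :=
    fun i hi => by
    simpa using cast_ne_of_lt hN (Finset.mem_Ioc.1 hi).2 (Nat.zero_le _) (Finset.mem_Ioc.1 hi).1.ne'
  have := hm.rank_add_le hB (insert y ((Finset.Ioc 0 (2 ^ (n + 1))).image fun i : ℕ =>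
    x ^ (i : ZMod (2 ^ (n + 1 + 1))).val)) (fun u hu => by
      rcases Finset.mem_insert.1 hu with rfl | hu
      · exact ⟨hy, fun e => h0 (e ▸ one_mem _)⟩
      obtain ⟨i, hi, rfl⟩ := Finset.mem_image.1 hu
      exact ⟨hf.mem _, pow_val_ne hx.ord (h1 i hi)⟩) fun u hu v hv h2 => by
      rcases Finset.mem_insert.1 hu with hu | hu <;> rcases Finset.mem_insert.1 hv with hv | hv
      · exact hu.trans hv.symm
      · obtain ⟨j, hj, rfl⟩ := Finset.mem_image.1 hv
        obtain ⟨g, -, h2⟩ := h2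
        exact absurd (hu ▸ h2 ▸ pow_val_mem _) (h g)
      · obtain ⟨j, hj, rfl⟩ := Finset.mem_image.1 hu
        obtain ⟨g, -, h2⟩ := h2.symm
        exact absurd (hv ▸ h2 ▸ pow_val_mem _) (h g)
      obtain ⟨i, hi, rfl⟩ := Finset.mem_image.1 hu
      obtain ⟨j, hj, rfl⟩ := Finset.mem_image.1 hv
      refine ((hf.fcl_iff (h1 i hi)).1 h2).elim (fun h3 => h3 ▸ rfl) fun h3 => ?_
      rw [eq_neg_iff_add_eq_zero, ← Nat.cast_add, ZMod.natCast_eq_zero_iff] at h3
      rw [Finset.mem_Ioc] at hi hj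
      have := Nat.le_of_dvd (by omega) h3
      rw [show i = j by omega]
  rw [Finset.card_insert_of_notMem fun e => by
      obtain ⟨j, -, rfl⟩ := Finset.mem_image.1 e
      exact h0 (pow_val_mem _),
    Finset.card_image_of_injOn fun i hi j hj h2 => by_contra fun h3 => cast_ne_of_lt hN
    (Finset.mem_Ioc.1 hi).2 (Finset.mem_Ioc.1 hj).2 h3 (pow_val_inj hx.ord h2), Nat.card_Ioc,
    Nat.sub_zero] at this
  omega

theorem dh_quot {G H : Type*} [Group G] [Finite G] [Group H] {S : Subgroup G} {a b : G} {n : ℕ}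
    (h : SD S a b (n + 1 + 1)) {φ : G →* H} (hk : φ.ker = Z[a ^ 2 ^ (n + 1 + 1)]) :
    Dh (S.map φ) (φ a) n := by
  have hz : φ (a ^ 2 ^ (n + 1 + 1)) = 1 := hk.ge (Subgroup.mem_zpowers _)
  have hl : φ.ker ≤ Z[a] := hk ▸ Subgroup.zpowers_le.2 (pow_mem (Subgroup.mem_zpowers a) _)
  refine ⟨Subgroup.mem_map_of_mem _ h.amem, orderOf_eq_prime_pow (fun e => ?_) (map_pow φ _ _ ▸ hz),
    ?_, ?_⟩
  · have := Subgroup.orderOf_dvd_natCard _ (hk.le (show φ (a ^ 2 ^ (n + 1)) = 1 by rwa [map_pow]))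
    rw [Nat.card_zpowers, mc_ord_z h.toMC, show n + 1 = n + 1 + 1 - 1 from rfl, h.ord_w] at this
    omega
  · rw [← MonoidHom.map_zpowers, Subgroup.relIndex_map_map, sup_eq_left.2 hl,
      sup_eq_left.2 (hl.trans h.ale), h.relIndex]
  · rintro _ ⟨s, hs, rfl⟩ h1
    have h2 : s ∉ Z[a] := fun e => h1 (MonoidHom.map_zpowers φ a ▸ Subgroup.mem_map_of_mem φ e)
    refine ⟨?_, ?_⟩
    · rw [← map_mul]
      rcases mc_out_sq h.toMC hs h2 with e | e <;> rw [e]
      exacts [map_one φ, hz]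
    · have h3 : φ _ = 1 := hk.ge (mc_comm_sq h.toMC (Subgroup.mem_zpowers a) hs h2)
      simp only [map_mul, map_inv, sq] at h3
      rw [inv_mul_eq_one, mul_assoc, mul_assoc, mul_left_cancel_iff] at h3
      rw [eq_inv_iff_mul_eq_one]
      nth_rewrite 2 [← h3]
      group

/-- Let the finite group G have a 2-block B (relative to a maximal ideal M of the algebraic integers containing 2) of 2-regular rank three (three irreducible Brauer characters) whose defect group D is dihedral of order 2 ^ n with n ≥ 3 or semidihedral. Then the centre of G has odd order and G is not solvable. -/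
theorem result {G : Type*} [Group G] [Finite G] (M : Ideal Cfsg.AlgInt) (hM : Cfsg.IsPModular 2 M) (B : Set (Cfsg.IrrCharacter G)) (hB : Cfsg.IsPBlock M B) (D : Subgroup G) (hD : Cfsg.IsDefectGroup 2 M B D) (hD' : (∃ n : ℕ, 3 ≤ n ∧ Nonempty (D ≃* DihedralGroup (2 ^ (n - 1)))) ∨ Cfsg.IsQuasiDihedral D) (hl : Cfsg.blockRank 2 B = 3) : Odd (Nat.card (Subgroup.center G)) ∧ ¬ Group.IsSolvable G := by
  haveI : PMod 2 M := ⟨hM⟩
  have := Fintype.ofFinite G
  refine ⟨Nat.not_even_iff_odd.1 fun he => ?_, fun hs => ?_⟩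
  · obtain ⟨⟨z, hz⟩, ho⟩ := exists_prime_orderOf_dvd_card' 2 he.two_dvd
    rw [← Subgroup.orderOf_coe] at ho
    replace ho : orderOf z = 2 := ho
    have hc := Subgroup.mem_center_iff.1 hz
    have h2 : z * z = 1 := by rw [← sq, ← ho, pow_orderOf_eq_one]
    have h1 : z ≠ 1 := fun e => by simp [e] at ho
    have hp : IsPGroup 2 Z[z] := IsPGroup.of_card (n := 1) (by rw [Nat.card_zpowers, ho, pow_one])
    have hC : ∀ g, g ∈ Subgroup.centralizer (Z[z] : Set G) := fun g w hw =>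
      (Subgroup.mem_center_iff.1 (Subgroup.zpowers_le.2 hz hw) g).symm
    have hzD : z ∈ D := (hB.isDefectGroup_iff.1 hD).normal_le hB.isBlk.mem hB.isBlk.idem hp le_top
      (fun g _ => Subgroup.centralizer_le_normalizer _ (hC g)) (Subgroup.mem_zpowers z)
    rcases hD' with ⟨n, hn, ⟨e⟩⟩ | hD'
    · obtain ⟨n, rfl⟩ : ∃ k, n = k + 3 := ⟨n - 3, by omega⟩
      obtain ⟨x, hx⟩ := exists_dh (n := n) e
      have h3 : z ∈ Z[x] := by_contra fun h => by
        have h4 := (hx.out z hzD h).2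
        rw [← hc, mul_inv_cancel_right, eq_inv_iff_mul_eq_one, ← sq] at h4
        have := Nat.le_of_dvd two_pos (hx.ord ▸ orderOf_dvd_of_pow_eq_one h4)
        have := Nat.one_le_two_pow (n := n)
        omega
      obtain ⟨e, hm⟩ := exists_maxPr hB.isBlk (hB.isDefectGroup_iff.1 hD)
      have := (isNilpotentBlock_iff.2 ⟨hB, hx.nil hm (hx.eq_z h3 h1 h2 ▸ hC)⟩).blockRank
      omega
    · obtain ⟨a, b, m, h⟩ := sd_of' hD'
      obtain ⟨n, rfl⟩ : ∃ k, m = k + 1 + 1 := ⟨m - 2, by have := h.two; omega⟩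
      have h3 : z ∈ Z[a] := by_contra fun h3 => by
        have h4 := Subgroup.orderOf_dvd_natCard _ (mc_comm_sq h.toMC (Subgroup.mem_zpowers a) hzD h3)
        rw [hc, mul_inv_cancel_right, mul_inv_cancel, inv_one, one_mul, Nat.card_zpowers,
          mc_ord_z h.toMC, orderOf_dvd_iff_pow_eq_one, ← pow_mul, ← orderOf_dvd_iff_pow_eq_one,
          h.ord] at h4
        have := Nat.le_of_dvd (by norm_num) h4
        have := Nat.one_le_two_pow (n := n)
        omega
      haveI : (Z[z]).Normal := ⟨fun w hw g => by rwa [← hC g w hw, mul_inv_cancel_right]⟩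
      have hk := QuotientGroup.ker_mk' Z[z]
      have hs := QuotientGroup.mk'_surjective Z[z]
      have hp' : IsPGroup 2 (QuotientGroup.mk' Z[z]).ker := hk.symm ▸ hp
      have hc' : ∀ x : G, ¬ 2 ∣ orderOf x →
          x ∈ Subgroup.centralizer ((QuotientGroup.mk' Z[z]).ker : Set G) := fun x _ => hk.symm ▸ hC x
      have hB' := hB.comap_of_pker hs hp' hc'
      have h4 := rank_le hB' (hD.map_of_comap hs hp' hB hB') (dh_quot h (mc_eq_z h.toMC h3 ho ▸ hk))
        (Subgroup.mem_map_of_mem _ h.bmem) fun g hg => by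
          obtain ⟨g, rfl⟩ := hs g
          rw [← MonoidHom.map_zpowers, ← map_inv, ← map_mul, ← map_mul, ← Subgroup.mem_comap,
            Subgroup.comap_map_eq, hk, sup_eq_left.2 (Subgroup.zpowers_le.2 h3)] at hg
          have h5 := (mc_eq_z h.toMC hg ((CfsgH2.orderOf_conj' g b).trans h.ord_b)).trans
            (mc_eq_z h.toMC h3 ho).symm
          rw [mul_inv_eq_iff_eq_mul, ← hc, mul_left_cancel_iff] at h5
          exact h.nmem (h5 ▸ h3)
      rw [blockRank_comap_of_pker hs hp' hc' hB.fB_mem] at h4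
      omega
  · refine absurd (two_of_psolv _ G rfl (CfsgH1.isPSolvable_of_isSolvable Nat.prime_two) B D hB hD
      ?_).rank_le (by omega)
    rcases hD' with ⟨n, hn, ⟨e⟩⟩ | hD'
    · obtain ⟨n, rfl⟩ : ∃ k, n = k + 3 := ⟨n - 3, by omega⟩
      have := Nat.one_le_two_pow (n := n)
      rcases dh_of (S := (⊤ : Subgroup D)) (hD.isPGroup.to_subgroup _) (show 2 ≤ 2 ^ (n + 2) by rw [pow_add]; omega)
        (Subgroup.topEquiv.trans e) with h | ⟨a, b, m, h⟩
      · have h1 := h.1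
        rw [Subgroup.card_top, Nat.card_congr e.toEquiv, DihedralGroup.nat_card,
          show n + 3 - 1 = n + 2 from rfl, pow_add] at h1
        omega
      · exact ⟨a, b, m, h.toMC, h.nq⟩
    · obtain ⟨a, b, m, h⟩ := sd_of hD'
      exact ⟨a, b, m, h.toMC, h.nq⟩

end Cfsg.Agent.S4531
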