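import Cfsg.Statements.S4573
import Cfsg.Agent.H3.Rq
import Cfsg.Agent.H3.Monomial

set_option autoImplicit false
universe u
open Cfsg

open CfsgH3 CfsgH4 CfsgRg Function
open scoped ComplexConjugate

namespace Cfsg.Agent.S4573
theorem inner_pi {Q : Type*} [Fintype Q] [DecidableEq Q] {X : Q → Type*} [∀ q, Group (X q)]
    [∀ q, Fintype (X q)] (a b : ∀ q, X q → ℂ) :
    classInner (fun f : ∀ q, X q => ∏ q, a q (f q)) (fun f => ∏ q, b q (f q)) =
      ∏ q, classInner (a q) (b q) := by
  simp only [classInner, Finset.prod_mul_distrib, Finset.prod_univ_sum, Fintype.piFinset_univ,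
    map_prod, Nat.card_pi, Nat.cast_prod, Finset.prod_inv_distrib]

section
variable {Q D : Type*} [Fintype Q] [DecidableEq Q] [Group D] [Fintype D]

theorem isIrr_pi (c : Q → IrrCharacter D) :
    IsIrrCharacter (Q → D) fun f => ∏ q, (c q).1 (f q) := by
  have : IsCharacter (Q → D) fun f => ∏ q, (c q).1 (f q) := by
    rw [← Finset.prod_fn]
    exact Finset.prod_induction _ (IsCharacter _) (fun _ _ a b => a.mul b) isCharacter_one
      fun q _ => (c q).2.isCharacter.comp (Pi.evalMonoidHom (fun _ => D) q)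
  exact this.isIrr_of_inner_eq_one (by
    rw [inner_pi fun q => (c q).1]; exact Finset.prod_eq_one fun q _ => (c q).2.classInner_self)

theorem irr_pi {θ : (Q → D) → ℂ} (hθ : IsIrrCharacter _ θ) :
    ∃ c : Q → IrrCharacter D, θ = fun f => ∏ q, (c q).1 (f q) := by
  by_contra h
  have a1 : regChar (Q → D) = ∑ c : Q → IrrCharacter D,
      (∏ q, classInner (regChar D) (c q).1) • fun f => ∏ q, (c q).1 (f q) := funext fun f => by
    have : regChar (Q → D) f = ∏ q, regChar D (f q) := by
      by_cases e : f = 1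
      · simp [e, regChar_one]
      · obtain ⟨q, hq⟩ := Function.ne_iff.1 e
        rw [regChar_of_ne e, Finset.prod_eq_zero (Finset.mem_univ q) (regChar_of_ne (g := f q) hq)]
    rw [this, Finset.prod_congr rfl fun q _ =>
      isCharacter_regChar.isClassFunction.apply_eq_sum_irr (f q), Finset.prod_univ_sum,
      Fintype.piFinset_univ, Finset.sum_apply]
    simp only [Finset.prod_mul_distrib, Pi.smul_apply, smul_eq_mul]
  have a2 := classInner_regChar_left θ
  rw [a1, classInner_sum_left, Finset.sum_eq_zero fun c _ => by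
    rw [classInner_smul_left, (isIrr_pi c).classInner_of_ne hθ fun e => h ⟨c, e.symm⟩, mul_zero]]
    at a2
  exact hθ.apply_one_ne_zero (by simpa using a2.symm)
end

theorem wr {Q D : Type*} [Group Q] [Finite Q] [IsCyclic Q] [Group D] [Fintype D]
    [Fintype (D ≀ᵣ Q)] (hD : ∀ φ, IsIrrCharacter D φ → IsMonomial φ) {χ : D ≀ᵣ Q → ℂ}
    (hχ : IsIrrCharacter _ χ) : IsMonomial χ := by
  classical
  haveI := Fintype.ofFinite Q
  choose U l hl using fun φ : IrrCharacter D => hD φ.1 φ.2
  let B : Subgroup (D ≀ᵣ Q) := RegularWreathProduct.rightHom.ker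
  let e : (Q → D) ≃* B :=
    { toFun := fun f => ⟨⟨f, 1⟩, rfl⟩
      invFun := fun w => w.1.left
      left_inv := fun _ => rfl
      right_inv := fun w => Subtype.ext (RegularWreathProduct.ext rfl w.2.symm)
      map_mul' := fun a b => Subtype.ext (RegularWreathProduct.ext (by ext; simp) (by simp)) }
  obtain ⟨θ, h1, h2, -⟩ := (hχ.isClassFunction.restrict B).exists_common_constituent _
    (mt classInner_self_eq_zero.1 fun c => hχ.apply_one_ne_zero (congrFun c 1))
  obtain ⟨c, h3⟩ := irr_pi (h1.comp_equiv e)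
  have h4 : ∀ w : B, θ w = ∏ q, (c q).1 (w.1.left q) := fun w => by
    rw [← e.apply_symm_apply w]; exact congrFun h3 _
  let S : Subgroup Q :=
    { carrier := {r | ∀ q, c (r⁻¹ * q) = c q}
      mul_mem' := fun {a b} ha hb q => by rw [mul_inv_rev, mul_assoc, hb, ha]
      one_mem' := fun q => by rw [inv_one, one_mul]
      inv_mem' := fun {a} ha q => by rw [← ha, inv_inv, inv_mul_cancel_left] }
  let V : Subgroup (D ≀ᵣ Q) :=
    { carrier := {w | w.right ∈ S ∧ ∀ q, w.left q ∈ U (c q)}
      mul_mem' := fun {a b} ha hb => ⟨mul_mem ha.1 hb.1, fun q =>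
        mul_mem (ha.2 q) (ha.1 q ▸ hb.2 (a.right⁻¹ * q))⟩
      one_mem' := ⟨one_mem _, fun q => one_mem _⟩
      inv_mem' := fun {a} ha => ⟨inv_mem ha.1, fun q => inv_mem (by
        have := ha.2 (a.right * q)
        rwa [← ha.1, inv_mul_cancel_left] at this)⟩ }
  let m : V →* ℂˣ := MonoidHom.mk' (fun w => ∏ q, l (c q) ⟨w.1.left q, w.2.2 q⟩) fun a b => by
    rw [← Equiv.prod_comp (Equiv.mulLeft a.1.right⁻¹) fun q => l (c q) ⟨b.1.left q, b.2.2 q⟩,
      ← Finset.prod_mul_distrib]
    refine Finset.prod_congr rfl fun q _ => ?_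
    have : ∀ φ (_ : φ = c q) h h', l φ ⟨b.1.left (a.1.right⁻¹ * q), h⟩ =
        l (c q) ⟨b.1.left (a.1.right⁻¹ * q), h'⟩ := by rintro _ rfl _ _; rfl
    exact (map_mul (l (c q)) ⟨_, a.2.2 q⟩ ⟨_, a.2.1 q ▸ b.2.2 _⟩).trans
      (congrArg (_ * ·) (this _ (a.2.1 q) _ _).symm)
  have h5 : inertia θ ≤ S.comap RegularWreathProduct.rightHom := fun w hw q => by
    have b1 : (fun f : Q → D => ∏ q, (c (w.right * q)).1 (f q)) = fun f => ∏ q, (c q).1 (f q) :=
      funext fun f => by
        refine Eq.trans ?_ ((congrFun hw (e f)).trans (h4 _))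
        rw [cj_apply, h4]
        refine Eq.trans (Finset.prod_congr rfl fun q _ => Eq.trans
          ((c _).2.isClassFunction (f q) (w.left (w.right * q))).symm (congrArg _ ?_))
          (Equiv.prod_comp (Equiv.mulLeft w.right) fun q => (c q).1 ((w * e f * w⁻¹).left q))
        simp [e]
    have b2 := inner_pi (fun q => (c (w.right * q)).1) fun q => (c q).1
    rw [b1, (isIrr_pi c).classInner_self] at b2
    have b3 := (c _).2.eq_of_classInner_ne_zero (c _).2
      (Finset.prod_ne_zero_iff.1 (b2 ▸ one_ne_zero) (w.right⁻¹ * q) (Finset.mem_univ _))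
    rw [mul_inv_cancel_left] at b3
    exact Subtype.ext b3.symm
  have h6 : V.index = S.index * ∏ q, (U (c q)).index := by
    have b1 : Nat.card V = (∏ q, Nat.card (U (c q))) * Nat.card S := by
      rw [← Nat.card_pi, ← Nat.card_prod]
      exact Nat.card_congr ⟨fun w => (fun q => ⟨_, w.2.2 q⟩, ⟨_, w.2.1⟩),
        fun x => ⟨⟨fun q => x.1 q, x.2⟩, x.2.2, fun q => (x.1 q).2⟩, fun _ => rfl, fun _ => rfl⟩
    refine Nat.eq_of_mul_eq_mul_left (Nat.card_pos (α := V)) ?_
    rw [Subgroup.card_mul_index, b1, mul_comm S.index, mul_mul_mul_comm, Subgroup.card_mul_index,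
      ← Finset.prod_mul_distrib, RegularWreathProduct.card]
    simp only [Subgroup.card_mul_index, Finset.prod_const, Finset.card_univ]
    rw [← Nat.card_eq_fintype_card]
  have h7 : charDegree θ = ∏ q, (U (c q)).index := Nat.cast_injective (R := ℂ) (by
    rw [coe_charDegree h1.isCharacter, h4, Nat.cast_prod]
    refine Finset.prod_congr rfl fun q _ => ?_
    rw [hl (c q)]
    exact (indFun_apply_one _).trans (by simp))
  have h8 : IsIrrCharacter (V ⊓ B :) (resLE inf_le_left fun x => (m x : ℂ)) :=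
    isIrr_of_unitsHom (m.comp (Subgroup.inclusion inf_le_left))
  have h9 : Ov inf_le_right θ (resLE (inf_le_left : V ⊓ B ≤ V) fun x => (m x : ℂ)) := by
    let e' : (∀ q, U (c q)) ≃ (V ⊓ B :) := ⟨fun f => ⟨⟨fun q => f q, 1⟩,
      ⟨one_mem _, fun q => (f q).2⟩, rfl⟩, fun w q => ⟨_, w.2.1.2 q⟩, fun _ => rfl,
      fun w => Subtype.ext (RegularWreathProduct.ext rfl w.2.2.symm)⟩
    rw [Ov, ← classInner_comp_equiv e']
    refine ne_of_eq_of_ne (Eq.trans ?_ (inner_pi (fun q (x : U (c q)) => (c q).1 x)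
      fun q x => (l (c q) x : ℂ))) (Finset.prod_ne_zero_iff.2 fun q _ => ?_)
    · congr 1
      · exact funext fun f => h4 _
      · exact funext fun f => Units.coe_prod _ _
    · rw [← classInner_indFun_right _ (c q).2.isClassFunction, ← hl, (c q).2.classInner_self]
      exact one_ne_zero
  obtain ⟨μ, a1, a2, a3⟩ := exists_mid inf_le_left (le_refl V) (hχ.isClassFunction.restrict V)
    (over_trans inf_le_right (le_refl B) (hχ.isCharacter.restrict B) h1 h8.isCharacter h2 h9)
  haveI : ((V ⊓ B).subgroupOf V).Normal := by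
    rw [Subgroup.inf_subgroupOf_left]; infer_instance
  have a4 : μ 1 = 1 := (ext_of_cyclic ((isIrr_subOf_iff inf_le_left).2 h8) (fun g =>
    cj_restrict (isIrr_of_unitsHom m).isClassFunction g)
    (isCyclic_of_injective (QuotientGroup.lift _ (RegularWreathProduct.rightHom.comp V.subtype)
      fun x hx => hx.2) ((injective_iff_map_eq_one _).2 fun x hx => by
        obtain ⟨x, rfl⟩ := QuotientGroup.mk_surjective x
        exact (QuotientGroup.eq_one_iff x).2 ⟨x.2, hx⟩)) a1 ((CfsgRq.ov_iff inf_le_left).2 a3) 1).trans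
      (congrArg Units.val (map_one m))
  obtain ⟨n, rfl⟩ := a1.isCharacter.exists_monoidHom a4
  refine ⟨V, n, (indFun_eq_of_le a1.isCharacter hχ a2 ?_).symm⟩
  rw [(charDegree_eq_one a1.isCharacter).2 a4, mul_one, h6, ← h7]
  refine le_trans (Nat.mul_le_mul_right _ ?_) (Nat.le_of_dvd (charDegree_pos hχ)
    (deg_dvd_of_over h1 hχ h2).1)
  rw [← S.index_comap_of_surjective (f := RegularWreathProduct.rightHom (D := D))
    fun q => ⟨RegularWreathProduct.inl q, rfl⟩]
  exact Subgroup.index_antitone h5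

theorem aux (n : ℕ) : ∀ (G : Type u) [Group G] [Finite G] [Group.IsSolvable G], Nat.card G = n →
    ∃ (M : Type u) (_ : Group M) (_ : Fintype M), (∀ χ : M → ℂ, IsIrrCharacter M χ → IsMonomial χ) ∧
      ∃ f : G →* M, Injective f := by
  induction n using Nat.strong_induction_on with | _ n ih => ?_
  intro G _ _ _ hn
  rcases subsingleton_or_nontrivial G with h | h
  · letI := Fintype.ofFinite G
    exact ⟨G, inferInstance, inferInstance, fun χ hχ => hχ.isMonomial_of_nilpotent,
      MonoidHom.id G, injective_id⟩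
  obtain ⟨l, hl⟩ := exists_lin_ker_prime (Group.IsSolvable.commutator_lt_top_of_nontrivial G).ne
  obtain ⟨N, _, hN⟩ : ∃ N : Subgroup G, N.Normal ∧ N.index.Prime := ⟨_, inferInstance, hl⟩
  obtain ⟨D, _, _, a1, f, a2⟩ := ih _ (hn ▸ CfsgH2.card_lt_of_ne_top fun e : N = ⊤ => by
    simp [e, Nat.not_prime_one] at hN) N rfl
  haveI := Fact.mk hN
  haveI : IsCyclic (G ⧸ N) := isCyclic_of_prime_card (p := N.index) rfl
  have a3 : ∀ (g : G) (q : G ⧸ N), q.out⁻¹ * g * ((g : G ⧸ N)⁻¹ * q).out ∈ N := fun g q => by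
    rw [← QuotientGroup.eq_one_iff]; simp
  letI := Fintype.ofFinite (D ≀ᵣ (G ⧸ N))
  refine ⟨D ≀ᵣ (G ⧸ N), inferInstance, inferInstance, fun χ => wr a1,
    MonoidHom.mk' (fun g => ⟨fun q => f ⟨_, a3 g q⟩, g⟩) fun g h => RegularWreathProduct.ext
      (funext fun q => Eq.trans (congrArg f (Subtype.ext ?_)) (map_mul f _ _)) rfl,
    (injective_iff_map_eq_one _).2 fun g hg => ?_⟩
  · simp [mul_assoc]
  · have b1 : (g : G ⧸ N) = 1 := congrArg RegularWreathProduct.right hg
    have b2 := congrArg Subtype.val ((map_eq_one_iff f a2).1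
      (congrFun (congrArg RegularWreathProduct.left hg) 1))
    simpa [b1, mul_assoc, inv_mul_eq_iff_eq_mul] using b2

/-- Every finite solvable group is isomorphic to a subgroup of a finite M-group, a group each of whose irreducible characters is induced from a homomorphism of some subgroup into ℂˣ. -/
theorem result {G : Type u} [Group G] [Finite G] (hsolv : Group.IsSolvable G) : ∃ (M : Type u) (_ : Group M) (_ : Fintype M), (∀ χ : M → ℂ, Cfsg.IsIrrCharacter M χ → (∃ (H : Subgroup M) (lam : ↥H →* ℂˣ), χ = Cfsg.indFun H (fun h => (lam h : ℂ)))) ∧ ∃ f : G →* M, Function.Injective f := by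
  exact aux _ G rfl


end Cfsg.Agent.S4573
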