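import Cfsg.Statements.S4561
import Cfsg.Agent.S4573

set_option autoImplicit false
universe u
open Cfsg

open CfsgH3 CfsgH4 CfsgRg Function Cfsg.Agent.S4573
open scoped ComplexConjugate

namespace Cfsg.Agent.S4561
theorem wr_irr {Q D : Type*} [Group Q] [Fintype Q] [DecidableEq Q] [Group D] [Finite D]
    (c : Q → IrrCharacter D) (hc : Injective c) : IsIrrCharacter (D ≀ᵣ Q)
      fun w => if w.right = 1 then ∑ r, ∏ q, (c (r * q)).1 (w.left q) else 0 := by
  classical
  haveI := Fintype.ofFinite D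
  haveI := Fintype.ofFinite (D ≀ᵣ Q)
  let B : Subgroup (D ≀ᵣ Q) := RegularWreathProduct.rightHom.ker
  let e : (Q → D) ≃* B :=
    { toFun := fun f => ⟨⟨f, 1⟩, rfl⟩
      invFun := fun w => w.1.left
      left_inv := fun _ => rfl
      right_inv := fun w => Subtype.ext (RegularWreathProduct.ext rfl w.2.symm)
      map_mul' := fun a b => Subtype.ext (RegularWreathProduct.ext (by ext; simp) (by simp)) }
  let Θ : B → ℂ := fun w => ∏ q, (c q).1 (w.1.left q)
  have h1 : IsCharacter B Θ := (isIrr_pi c).isCharacter.comp e.symm.toMonoidHom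
  have h2 : indFun B Θ =
      fun w => if w.right = 1 then ∑ r, ∏ q, (c (r * q)).1 (w.left q) else 0 := by
    ext w
    split_ifs with hw
    · have a1 : ∀ x : D ≀ᵣ Q, extendByZero B Θ (x * w * x⁻¹) =
          ∏ q, (c (x.right * q)).1 (w.left q) := fun x => by
        rw [extendByZero_of_mem _ (Subgroup.Normal.conj_mem inferInstance w hw x)]
        refine Eq.trans (Equiv.prod_comp (Equiv.mulLeft x.right)
          fun q => (c q).1 ((x * w * x⁻¹).left q)).symm (Finset.prod_congr rfl fun q _ => Eq.trans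
            (congrArg _ ?_) ((c _).2.isClassFunction (w.left q) (x.left (x.right * q))))
        simp [hw]
      rw [indFun_apply', Finset.sum_congr rfl fun x _ => a1 x,
        ← (RegularWreathProduct.equivProd D Q).symm.sum_comp, Fintype.sum_prod_type,
        ← Nat.card_congr e.toEquiv]
      show _ * ∑ _f : Q → D, ∑ r, ∏ q, (c (r * q)).1 (w.left q) = _
      rw [Finset.sum_const, Finset.card_univ, Fintype.card_eq_nat_card, nsmul_eq_mul,
        inv_mul_cancel_left₀ (natCard_ne_zero _)]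
    · exact indFun_eq_zero_of_not_mem _ hw
  rw [← h2]
  refine h1.ind.isIrr_of_inner_eq_one ?_
  rw [classInner_indFun_left _ h1.ind.isClassFunction, h2, ← classInner_comp_equiv e.toEquiv]
  have a2 : (fun f : Q → D => (fun w : D ≀ᵣ Q => if w.right = 1 then
      ∑ r, ∏ q, (c (r * q)).1 (w.left q) else 0) (e f)) =
      ∑ r, fun f : Q → D => ∏ q, (c (r * q)).1 (f q) := funext fun f => by
    rw [Finset.sum_apply]; exact if_pos rfl
  refine (congrArg _ a2).trans ?_
  rw [classInner_sum_right, Finset.sum_eq_single 1]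
  · simp only [one_mul]; exact (isIrr_pi c).classInner_self
  · intro r _ hr
    refine (inner_pi (fun q => (c q).1) fun q => (c (r * q)).1).trans
      (Finset.prod_eq_zero (Finset.mem_univ 1) ((c _).2.classInner_of_ne (c _).2 fun h => hr ?_))
    simpa using (hc (Subtype.ext h)).symm
  · simp

/-- The inductive invariant. -/
def Inv (r : ℕ) (G : Type*) [Group G] {D : Type*} [Group D] (χ : D → ℂ) : Prop :=
  IsIrrCharacter D χ ∧ (∀ g, χ g ≠ 0 → χ g ^ r = χ 1 ^ r) ∧
    (∀ p : ℕ, p.Prime → p ∣ Nat.card G → ∃ g, IsPrimitiveRoot (χ g / χ 1) p) ∧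
    (∀ p : ℕ, p.Prime → p ∣ Nat.card D → p ∣ Nat.card G) ∧
    ∃ s : G → D, (∀ a b, χ ((s (a * b))⁻¹ * (s a * s b)) ≠ 0) ∧ ∀ a, χ (s a) ≠ 0 → a = 1

theorem aux (r n : ℕ) : ∀ (G : Type u) [Group G] [Finite G] [Group.IsSolvable G], Nat.card G = n →
    (∀ p : ℕ, p.Prime → p ∣ n → p ∣ r) →
    ∃ (D : Type u) (_ : Group D) (_ : Finite D) (χ : D → ℂ), Inv r G χ := by
  classical
  induction n using Nat.strong_induction_on with | _ n ih => ?_
  intro G _ _ _ hn hr
  rcases subsingleton_or_nontrivial G with h | h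
  · refine ⟨G, inferInstance, inferInstance, _, isIrr_one, fun _ _ => rfl, fun p hp hd => ?_,
      fun _ _ h => h, id, fun _ _ => one_ne_zero, fun _ _ => Subsingleton.elim _ _⟩
    rw [Nat.card_of_subsingleton (1 : G)] at hd
    exact absurd (Nat.dvd_one.1 hd) hp.ne_one
  obtain ⟨l, hN⟩ := exists_lin_ker_prime (Group.IsSolvable.commutator_lt_top_of_nontrivial G).ne
  obtain ⟨N, _, hN, l, hl⟩ : ∃ N : Subgroup G, ∃ _ : N.Normal, N.index.Prime ∧
      ∃ l : G ⧸ N →* ℂˣ, Injective l := ⟨_, inferInstance, hN, _, QuotientGroup.kerLift_injective l⟩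
  obtain ⟨D, _, _, θ, a1, a2, a3, a4, s, a5, a6⟩ := ih _ (hn ▸ CfsgH2.card_lt_of_ne_top
    fun e : N = ⊤ => by simp [e, Nat.not_prime_one] at hN) N rfl
    fun p hp hd => hr p hp (hn ▸ hd.trans N.card_subgroup_dvd_card)
  haveI := Fintype.ofFinite (G ⧸ N)
  have hA := card_unitsHom (G := G ⧸ N)
  haveI : Finite (G ⧸ N →* ℂˣ) :=
    Nat.finite_of_card_ne_zero (hA ▸ Subgroup.index_ne_zero_of_finite)
  have hp : ∀ (φ : G ⧸ N →* ℂˣ) q, (φ q : ℂ) ^ N.index = 1 := fun φ q => by
    rw [← Units.val_pow_eq_pow_val, ← map_pow, Subgroup.index, pow_card_eq_one', map_one,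
      Units.val_one]
  have h0 := a1.apply_one_ne_zero
  let c : G ⧸ N → IrrCharacter (D × (G ⧸ N →* ℂˣ)) := fun q =>
    ⟨_, isIrr_prod a1 (isIrr_of_unitsHom (MonoidHom.eval q))⟩
  have hc : Injective c := fun q q' e => hl (Units.ext (mul_left_cancel₀ h0
    (congrFun (congrArg Subtype.val e) (1, l))))
  obtain ⟨χ, b1, b2⟩ : ∃ χ : (D × (G ⧸ N →* ℂˣ)) ≀ᵣ (G ⧸ N) → ℂ, IsIrrCharacter _ χ ∧ ∀ w, χ w =
      if w.right = 1 ∧ ∏ q, (w.left q).2 = 1 then
        (∏ q, θ (w.left q).1) * (∏ q, ((w.left q).2 q : ℂ)) * N.index else 0 := by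
    refine ⟨_, wr_irr c hc, fun w => ?_⟩
    by_cases hw : w.right = 1
    · have : ∀ x, ∏ q, (c (x * q)).1 (w.left q) = (∏ q, θ (w.left q).1) *
          (∏ q, ((w.left q).2 q : ℂ)) * ((Units.coeHom ℂ).comp (∏ q, (w.left q).2)) x := fun x => by
        show ∏ q, θ (w.left q).1 * ((w.left q).2 (x * q) : ℂ) = _
        simp only [map_mul, Units.val_mul, Finset.prod_mul_distrib,
          MonoidHom.comp_apply, MonoidHom.finset_prod_apply, map_prod, Units.coeHom_apply]
        ring
      simp only [hw, true_and, if_true, this, ← Finset.mul_sum]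
      split_ifs with h1
      · simp [h1, Subgroup.index]
      · rw [sum_hom_units_eq_zero _ fun e => h1 (MonoidHom.ext fun x => Units.ext
          (DFunLike.congr_fun e x)), mul_zero]
    · simp [hw]
  have b3 : χ 1 = (∏ _q : G ⧸ N, θ 1) * N.index := by simp [b2]
  have hi : (N.index : ℂ) ≠ 0 := Nat.cast_ne_zero.2 hN.ne_zero
  have b4 : ∀ (g : G) (q : G ⧸ N), q.out⁻¹ * g * ((g : G ⧸ N)⁻¹ * q).out ∈ N := fun g q => by
    rw [← QuotientGroup.eq_one_iff]; simp
  refine ⟨_, inferInstance, inferInstance, χ, b1, fun w hw => ?_, fun p pp hd => ?_,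
    fun p pp hd => ?_, fun g => ⟨fun q => (s ⟨_, b4 g q⟩, 1), g⟩, fun a b => ?_, fun g hg => ?_⟩
  · rw [b2] at hw
    have h1 := (ite_ne_right_iff.1 hw).1
    rw [if_pos h1] at hw
    obtain ⟨k, hk⟩ := hr _ hN (hn ▸ N.index_dvd_card)
    rw [b3, b2, if_pos h1, mul_pow, mul_pow, mul_pow, ← Finset.prod_pow, ← Finset.prod_pow,
      ← Finset.prod_pow, Finset.prod_eq_one (f := fun q => ((w.left q).2 q : ℂ) ^ r)
        fun q _ => by rw [hk, pow_mul, hp, one_pow], mul_one]
    exact congrArg (· * _) (Finset.prod_congr rfl fun q _ => a2 _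
      (Finset.prod_ne_zero_iff.1 (left_ne_zero_of_mul (left_ne_zero_of_mul hw)) q
        (Finset.mem_univ q)))
  · rw [← N.card_mul_index] at hd
    rcases (Nat.Prime.dvd_mul pp).1 hd with hd | hd
    · obtain ⟨g, hg⟩ := a3 p pp hd
      refine ⟨⟨fun q => (Pi.mulSingle (M := fun _ => D) 1 g q, 1), 1⟩, ?_⟩
      convert hg using 1
      rw [b3, b2, if_pos ⟨rfl, by simp⟩, ← Finset.mul_prod_erase _ _ (Finset.mem_univ 1),
        ← Finset.mul_prod_erase _ (fun _ => θ 1) (Finset.mem_univ 1),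
        Finset.prod_congr rfl fun q hq => by
          show θ (Pi.mulSingle (M := fun _ => D) 1 g q) = θ 1
          rw [Pi.mulSingle_eq_of_ne (Finset.ne_of_mem_erase hq)]]
      have : ∏ _q ∈ Finset.univ.erase (1 : G ⧸ N), θ 1 ≠ 0 :=
        Finset.prod_ne_zero_iff.2 fun _ _ => h0
      simp only [Pi.mulSingle_eq_same, MonoidHom.one_apply, Units.val_one, Finset.prod_const_one]
      field_simp
    · obtain rfl := (Nat.prime_dvd_prime_iff_eq pp hN).1 hd
      haveI : Nontrivial (G ⧸ N) := Finite.one_lt_card_iff_nontrivial.1 hN.one_lt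
      obtain ⟨y, hy⟩ := exists_ne (1 : G ⧸ N)
      refine ⟨⟨fun q => (1, Pi.mulSingle (M := fun _ => G ⧸ N →* ℂˣ) 1 l⁻¹ q *
        Pi.mulSingle (M := fun _ => G ⧸ N →* ℂˣ) y l q), 1⟩, ?_⟩
      have e1 : ∀ (z : G ⧸ N) (φ : G ⧸ N →* ℂˣ),
          ∏ q, (Pi.mulSingle (M := fun _ => G ⧸ N →* ℂˣ) z φ q q : ℂ) = φ z := fun z φ => by
        rw [Finset.prod_eq_single z (fun q _ hq => by simp [hq]) (by simp), Pi.mulSingle_eq_same]
      haveI := Fact.mk pp
      rw [b3, b2, if_pos ⟨rfl, by ext; simp [Finset.prod_mul_distrib]⟩]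
      simp only [MonoidHom.mul_apply, Units.val_mul, Finset.prod_mul_distrib, e1, map_one,
        Units.val_one, one_mul]
      rw [mul_right_comm, mul_div_cancel_left₀ _ (b3 ▸ b1.apply_one_ne_zero)]
      convert IsPrimitiveRoot.orderOf (l y : ℂ)
      exact (orderOf_eq_prime (hp l y) fun e => hy (hl (Units.ext (by simpa using e)))).symm
  · rw [RegularWreathProduct.card, Nat.card_prod] at hd
    rcases (Nat.Prime.dvd_mul pp).1 hd with hd | hd
    · rcases (Nat.Prime.dvd_mul pp).1 (pp.dvd_of_dvd_pow hd) with hd | hd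
      · exact (a4 p pp hd).trans N.card_subgroup_dvd_card
      · exact (hd.trans (hA ▸ Subgroup.index_dvd_card _)).trans N.index_dvd_card
    · exact hd.trans N.index_dvd_card
  · rw [b2, if_pos ⟨by simp, by simp⟩]
    refine mul_ne_zero (mul_ne_zero (Finset.prod_ne_zero_iff.2 fun q _ => ?_)
      (Finset.prod_ne_zero_iff.2 fun q _ => Units.ne_zero _)) hi
    convert a5 ⟨_, b4 a ((a * b : G) * q)⟩ ⟨_, b4 b ((a : G ⧸ N)⁻¹ * ((a * b : G) * q))⟩ using 2
    simp [mul_assoc]
  · rw [b2] at hg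
    have h1 := (ite_ne_right_iff.1 hg).1
    rw [if_pos h1] at hg
    have b1 : (g : G ⧸ N) = 1 := h1.1
    have b2 := congrArg Subtype.val (a6 _ (Finset.prod_ne_zero_iff.1
      (left_ne_zero_of_mul (left_ne_zero_of_mul hg)) 1 (Finset.mem_univ _)))
    simpa [b1, mul_assoc, inv_mul_eq_iff_eq_mul] using b2

/-- For every finite solvable group G there is a finite group H with a faithful irreducible character χ whose degree squared equals the index of the centre Z(H) (so χ is fully ramified over the centre), such that G is isomorphic to a subgroup of H/Z(H), the primes dividing the orders of H, of Z(H) and of G are the same, and the order of Z(H) is squarefree. -/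
theorem result {G : Type u} [Group G] [Finite G] (hsolv : Group.IsSolvable G) : ∃ (H : Type u) (_ : Group H) (_ : Finite H) (χ : Cfsg.IrrCharacter H), (∀ h : H, (χ : H → ℂ) h = (χ : H → ℂ) 1 → h = 1) ∧ (Cfsg.charDegree (χ : H → ℂ)) ^ 2 = (Subgroup.center H).index ∧ (∃ f : G →* H ⧸ Subgroup.center H, Function.Injective f) ∧ (∀ p : ℕ, p.Prime → ((p ∣ Nat.card H ↔ p ∣ Nat.card G) ∧ (p ∣ Nat.card (Subgroup.center H) ↔ p ∣ Nat.card G))) ∧ Squarefree (Nat.card (Subgroup.center H)) := by
  classical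
  have hG : Nat.card G ≠ 0 := Nat.card_pos.ne'
  obtain ⟨D, _, _, θ, a1, a2, a3, a4, s, a5, a6⟩ := aux (UniqueFactorizationMonoid.radical
    (Nat.card G)) _ G rfl fun p hp hd =>
      (UniqueFactorizationMonoid.dvd_radical_iff_of_irreducible hp hG).2 hd
  have hr := UniqueFactorizationMonoid.squarefree_radical (a := Nat.card G)
  generalize UniqueFactorizationMonoid.radical (Nat.card G) = r at a2 hr
  haveI := a1.isCharacter.charKer_normal
  obtain ⟨χ, b0, b1, b2⟩ := a1.isCharacter.exists_deflation (charKer θ)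
    fun n hn => a1.isCharacter.mem_charKer.1 hn
  replace b1 := b1 a1
  have h0 := b1.apply_one_ne_zero
  have b3 : χ 1 = θ 1 := b2 1
  have b4 : ∀ h, χ h = χ 1 → h = 1 := fun h hh => by
    obtain ⟨h, rfl⟩ := QuotientGroup.mk_surjective h
    exact (QuotientGroup.eq_one_iff h).2 (a1.isCharacter.mem_charKer.2 (by rw [← b2, hh, b3]))
  have b5 : ∀ h, χ h ≠ 0 → χ h ^ r = χ 1 ^ r := fun h hh => by
    obtain ⟨h, rfl⟩ := QuotientGroup.mk_surjective h
    rw [b2] at hh
    rw [b2, b3, a2 h hh]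
  have b6 : ∀ h, h ∈ Subgroup.center _ ↔ χ h ≠ 0 := fun h => ⟨fun hh e => h0 (by
    have := b1.norm_apply_of_mem_center hh
    rwa [e, norm_zero, eq_comm, norm_eq_zero] at this), fun hh => by
      have : h ∈ charCenter χ := b0.mem_charCenter.2 (by
        have := congrArg norm (b5 h hh)
        rwa [norm_pow, norm_pow, pow_left_inj₀ (norm_nonneg _) (norm_nonneg _) hr.ne_zero] at this)
      refine Subgroup.mem_center_iff.2 fun g => ?_
      have := b4 _ (b0.mem_charKer.1 (b0.commutator_mem_charKer this g))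
      rwa [mul_assoc, ← mul_inv_rev, mul_inv_eq_one] at this⟩
  let L : Subgroup.center (D ⧸ charKer θ) →* ℂ :=
    { toFun := fun z => χ z / χ 1
      map_one' := div_self h0
      map_mul' := fun a b => by
        have := b0.apply_mul_of_norm_eq (b1.norm_apply_of_mem_center b.2) a
        rw [Subgroup.coe_mul]
        field_simp
        linear_combination this }
  have hL : Injective L := (injective_iff_map_eq_one L).2 fun z hz =>
    Subtype.ext (b4 _ ((div_eq_one_iff_eq h0).1 hz))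
  haveI := isCyclic_of_injective_ringHom L hL
  have c1 : ∀ p : ℕ, p.Prime → p ∣ Nat.card G →
      p ∣ Nat.card (Subgroup.center (D ⧸ charKer θ)) := fun p pp hd => by
    obtain ⟨g, hg⟩ := a3 p pp hd
    have : χ g ≠ 0 := fun e => hg.ne_zero pp.ne_zero (by rw [← b2, e, zero_div])
    have e : L ⟨_, (b6 _).2 this⟩ = θ g / θ 1 := by rw [← b2, ← b3]; rfl
    rw [hg.eq_orderOf, ← e, orderOf_injective L hL]
    exact orderOf_dvd_natCard _
  have c2 : ∀ p : ℕ, p.Prime → p ∣ Nat.card (D ⧸ charKer θ) → p ∣ Nat.card G := fun p pp hd =>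
    a4 p pp (hd.trans (Subgroup.card_quotient_dvd_card _))
  refine ⟨_, inferInstance, inferInstance, ⟨χ, b1⟩, b4, ?_, ⟨MonoidHom.mk'
    (fun g => ((s g : D ⧸ charKer θ) : _ ⧸ Subgroup.center _)) fun a b => ?_,
    (injective_iff_map_eq_one _).2 fun g hg => a6 g ?_⟩, fun p pp =>
    ⟨⟨c2 p pp, fun hd => (c1 p pp hd).trans (Subgroup.card_subgroup_dvd_card _)⟩,
      fun hd => c2 p pp (hd.trans (Subgroup.card_subgroup_dvd_card _)), c1 p pp⟩, ?_⟩
  · haveI := Fintype.ofFinite (D ⧸ charKer θ)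
    have e := b1.classInner_self
    rw [classInner, ← Finset.sum_subset (Finset.subset_univ
      (Finset.univ.filter (· ∈ Subgroup.center _))) fun h _ hh => by
        rw [not_not.1 (mt (b6 h).2 (by simpa using hh)), zero_mul],
      Finset.sum_congr rfl (g := fun _ => χ 1 * conj (χ 1)) fun h hh => by
        rw [Complex.mul_conj', Complex.mul_conj',
          b1.norm_apply_of_mem_center (Finset.mem_filter.1 hh).2],
      Finset.sum_const, ← Fintype.card_subtype, Fintype.card_eq_nat_card, nsmul_eq_mul,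
      ← (Subgroup.center _).card_mul_index, ← coe_charDegree b0, map_natCast] at e
    have h1 := natCard_ne_zero (Subgroup.center (D ⧸ charKer θ))
    have h2 : ((Subgroup.center (D ⧸ charKer θ)).index : ℂ) ≠ 0 :=
      Nat.cast_ne_zero.2 Subgroup.index_ne_zero_of_finite
    refine Nat.cast_injective (R := ℂ) ?_
    push_cast at e ⊢
    field_simp at e
    exact e
  · rw [← QuotientGroup.mk_mul, ← QuotientGroup.mk_mul, QuotientGroup.eq, b6,
      ← QuotientGroup.mk_inv, ← QuotientGroup.mk_mul, b2]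
    exact a5 a b
  · rw [← b2, ← b6]
    exact (QuotientGroup.eq_one_iff _).1 hg
  · refine hr.squarefree_of_dvd ?_
    rw [← IsCyclic.exponent_eq_card]
    refine Monoid.exponent_dvd_of_forall_pow_eq_one fun z => hL ?_
    rw [map_pow, map_one]
    show (χ z / χ 1) ^ r = 1
    rw [div_pow, b5 _ ((b6 _).1 z.2), div_self (pow_ne_zero _ h0)]


end Cfsg.Agent.S4561
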