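import Cfsg.Statements.S4584
import Mathlib
import Cfsg.Agent.L0.Puig
import Cfsg.Agent.S3807

set_option autoImplicit false
open Cfsg

namespace Cfsg.Agent.S4584

open Cfsg Subgroup CfsgH2 CfsgL0

/-- Let p be a prime and P a group of order p^4. Then the derived subgroup P' has order p if and only if the centre Z(P) has index p^2 in P. -/
theorem result {P : Type*} [Group P] [Finite P] (p : ℕ) [Fact p.Prime] (hP : Nat.card P = p ^ 4) :
    Nat.card (commutator P) = p ↔ (Subgroup.center P).index = p ^ 2 := by
  have hp : p.Prime := Fact.out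
  have hG : IsPGroup p P := .of_card hP
  by_cases ha : IsMulCommutative P
  · rw [commutator_eq_bot, center_eq_top, index_top, card_bot]
    exact iff_of_false hp.one_lt.ne (Nat.one_lt_pow two_ne_zero hp.one_lt).ne
  obtain ⟨A, -, hA⟩ := exists_scn_ge (hG.to_subgroup ⊤) bot_le (le_top.trans (normalizer_eq_top ⊥).ge) inferInstance
  obtain ⟨k, hk, e⟩ := (Nat.dvd_prime_pow hp).1 (hP ▸ card_subgroup_dvd_card A)
  have h3 : k = 3 := by
    by_contra h
    by_cases h4 : k = 4
    · exact ha (isMulComm_top_iff.1 (eq_top_of_card_eq A (by rw [e, h4, hP]) ▸ scn_comm hA))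
    have := CfsgH1.card_le_cube_of_scn (hG.to_subgroup ⊤) hA (e ▸ pow_dvd_pow p (by omega))
    rw [card_top, hP, Nat.pow_dvd_pow_iff_le_right hp.one_lt] at this
    omega
  have hi : A.index = p := by
    have := A.card_mul_index
    rw [e, h3, hP, pow_succ p 3] at this
    exact Nat.eq_of_mul_eq_mul_left (pow_pos hp.pos 3) this
  rw [(Cfsg.Agent.S3807.result p hG ha A (scn_comm hA) hi).1, pow_two, Nat.mul_right_inj hp.ne_zero]

end Cfsg.Agent.S4584
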