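import Cfsg.Statements.S4587
import Mathlib
import Cfsg.Agent.H9.TwoG2

set_option autoImplicit false
open Cfsg

namespace Cfsg.Agent.S4587

/-- Let G be a finite group, p a prime and P a Sylow p-subgroup of order at least p². Assume that G has no nontrivial normal subgroup of order prime to p, that the derived subgroup P' of P contains no nontrivial normal subgroup of G, and that G is not almost simple (there is no non-abelian simple normal subgroup of G with trivial centralizer). Then [P : P'] = p² if and only if some p-element x of G has centralizer whose order has p-part exactly p². -/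
theorem result {G : Type*} [Group G] [Finite G] (p : ℕ) [Fact p.Prime] (P : Sylow p G) (hbig : p ^ 2 ∣ Nat.card G) (hcore : Cfsg.pPrimeCore p G = ⊥)
    (hcore' : (⁅(P : Subgroup G), (P : Subgroup G)⁆).normalCore = ⊥) (hnas : ¬ ∃ S : Subgroup G, S.Normal ∧ IsSimpleGroup S ∧ ¬ IsMulCommutative S ∧ Subgroup.centralizer (S : Set G) = ⊥) :
    (⁅(P : Subgroup G), (P : Subgroup G)⁆).relIndex (P : Subgroup G) = p ^ 2 ↔
      ∃ x : G, (∃ k : ℕ, orderOf x = p ^ k) ∧ (Nat.card (Subgroup.centralizer ({x} : Set G))).factorization p = 2 := by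
  open Subgroup Cfsg CfsgH2 Function in
  open scoped commutatorElement in
  open CfsgTG in
  classical
  have hpp : p.Prime := Fact.out
  have sP : Syl p (P : Subgroup G) ⊤ := syl_top P
  have hP := sP.pg
  have big : p ^ 2 ∣ o[(P : Subgroup G)] := sP.pow_dvd (by rwa [card_top])
  have cphi : ⁅(P : Subgroup G), (P : Subgroup G)⁆ ≤ Φ[(P : Subgroup G)] :=
    comm_le_phi (nil_of_pg hP)
  have pw : ∀ K : Subgroup G, ∃ k, K.relIndex P = p ^ k := fun K =>
    (piN_singleton hpp (relIndex_pos _ _).ne').1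
      ((isPGroup_iff_piN.1 hP).of_dvd (relIndex_dvd_card _ _))
  have fac : ∀ (x : G), Syl p (P ⊓ C1[x]) C1[x] →
      ((Nat.card C1[x]).factorization p = 2 ↔ o[(P : Subgroup G) ⊓ C1[x]] = p ^ 2) := by
    intro x h
    rw [h.card_eq]
    exact ⟨fun e => by rw [e], fun e => Nat.pow_right_injective hpp.two_le e⟩
  have ext : ∀ x : G, PG[p, zpowers x] → ∃ g : G, g * x * g⁻¹ ∈ (P : Subgroup G) ∧
      Syl p (P ⊓ C1[g * x * g⁻¹]) C1[g * x * g⁻¹] := by
    intro x hx
    obtain ⟨R, r1, r2⟩ := exists_syl_ge hx (zpowers_le.2 (self_mem_cent1 x))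
    obtain ⟨g, -, hg⟩ := sP.exists_conj_le r1.pg le_top
    have r3 := r1.map_cj g
    rw [← centralizer_conj] at r3
    refine ⟨g, hg (conj_mem_map_cj (r2 (mem_zpowers x))), ?_⟩
    rw [r3.eq_of_le (hP.to_le inf_le_left) (le_inf hg r3.le) inf_le_right]
    exact r3
  constructor
  swap
  · rintro ⟨x, ⟨k, hk⟩, hx⟩
    obtain ⟨g, g1, g2⟩ := ext x (isPGroup_zpowers (k := k) (by rw [← hk, pow_orderOf_eq_one]))
    rw [← card_map_cj g, ← centralizer_conj, fac _ g2] at hx
    set y := g * x * g⁻¹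
    have h1 : C1[y].relIndex P ≤ o[⁅(P : Subgroup G), (P : Subgroup G)⁆] :=
      relIndex_cent1_le fun z hz => commutator_mem_commutator hz g1
    have h2 := card_inf_mul_relIndex C1[y] P
    have h3 := card_mul_relIndex (commutator_self_le : ⁅(P : Subgroup G), (P : Subgroup G)⁆ ≤ P)
    rw [inf_comm, hx, ← h3] at h2
    obtain ⟨m, hm⟩ := pw ⁅(P : Subgroup G), (P : Subgroup G)⁆
    rw [hm] at h2 h3 ⊢
    have h4 : p ^ m ≤ p ^ 2 := by
      refine Nat.le_of_mul_le_mul_left ?_ (card_pos' ⁅(P : Subgroup G), (P : Subgroup G)⁆)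
      rw [← h2, mul_comm]
      exact Nat.mul_le_mul_right _ h1
    have h5 := (Nat.pow_le_pow_iff_right hpp.one_lt).1 h4
    by_contra h6
    have h7 : p ^ m ∣ p := by
      have : m ≤ 1 := by
        by_contra h8
        exact h6 (by rw [show m = 2 by omega])
      exact (pow_dvd_pow p this).trans (pow_one p).dvd
    haveI := cyc_of_relIndex cphi (hm ▸ h7)
    rw [comm_self_eq_bot_iff.2 (inferInstance : Ab[(P : Subgroup G)]), card_bot, one_mul] at h3
    have h8 := Nat.le_of_dvd hpp.pos (big.trans (h3 ▸ h7))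
    have := hpp.one_lt
    nlinarith
  intro hi
  by_cases hna : Ab[(P : Subgroup G)]
  · refine ⟨1, ⟨0, by simp⟩, ?_⟩
    have e : C1[(1 : G)] = ⊤ := by
      rw [eq_top_iff]; intro z _; rw [mem_centralizer_singleton_iff]; simp
    rw [comm_self_eq_bot_iff.2 hna, relIndex_bot_left] at hi
    rw [fac 1 (by rw [e, inf_top_eq]; exact sP), e, inf_top_eq, hi]
  have hphi : Φ[(P : Subgroup G)] = ⁅(P : Subgroup G), (P : Subgroup G)⁆ := by
    refine le_antisymm (relIndex_eq_one.1 ?_) cphi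
    have e := relIndex_mul_relIndex _ _ (P : Subgroup G) cphi phi_le
    rw [hi] at e
    obtain ⟨k, hk, e1⟩ := (Nat.dvd_prime_pow hpp).1 (Dvd.intro_left _ e)
    have : k = 2 := by
      by_contra h8
      haveI := cyc_of_relIndex (P := (P : Subgroup G)) (p := p) le_rfl
        (e1 ▸ (pow_dvd_pow p (by omega : k ≤ 1)).trans (pow_one p).dvd)
      exact hna inferInstance
    rw [e1, this] at e
    exact Nat.eq_of_mul_eq_mul_right (pow_pos hpp.pos 2) (e.trans (one_mul _).symm)
  have hi' : Φ[(P : Subgroup G)].relIndex P = p ^ 2 := hphi ▸ hi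
  haveI := CfsgH9.generalizedFittingSubgroup_normal (G := G)
  obtain ⟨⟨F0, hmin⟩, -, htr⟩ := Cfsg.Agent.S4172.result p P hna (by
    rw [← hi', Subgroup.relIndex, subgroupOf, comap_map_eq_self_of_injective (subtype_injective _)])
    hcore (by rw [← hcore']; exact congrArg _ hphi)
  rw [pPrimeCore_eq'] at hcore
  have nn : ∀ (K : Subgroup G) [K.Normal] (X : Subgroup G), X ≤ N[K] := fun K _ X =>
    le_top.trans (top_le_norm_iff.2 inferInstance)
  set N := generalizedFittingSubgroup G with hN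
  have A : ¬ N ⊓ P ≤ Φ[(P : Subgroup G)] := by
    intro h
    have h1 := pg_of_npc (tate sP le_top (nn N _) h)
      (le_bot_iff.1 (hcore ▸ piCoreOf_le_of_norm le_top (nn N _)))
    have h2 : N ≤ P := sP.le_of_norm h1 le_top (nn N _)
    rw [hphi] at h
    exact F0 (le_bot_iff.1 (hcore' ▸ normal_le_normalCore.2 ((le_inf le_rfl h2).trans h)))
  have B : ⁅(P : Subgroup G), (P : Subgroup G)⁆ ≤ N ⊓ P :=
    le_inf (comm_le hi' (nn N _) A) commutator_self_le
  have e := relIndex_mul_relIndex _ _ (P : Subgroup G) B inf_le_right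
  rw [hi] at e
  have idx : ¬ (P : Subgroup G) ≤ N → (N ⊓ P).relIndex P = p ∧
      ⁅(P : Subgroup G), (P : Subgroup G)⁆.relIndex (N ⊓ P) = p := by
    intro h
    obtain ⟨k, hk, e1⟩ := (Nat.dvd_prime_pow hpp).1 (Dvd.intro_left _ e)
    rw [e1] at e ⊢
    interval_cases k
    · exact absurd ((relIndex_eq_one.1 e1).trans inf_le_left) h
    · rw [pow_one] at e ⊢
      exact ⟨rfl, Nat.eq_of_mul_eq_mul_right hpp.pos (e.trans (pow_two p))⟩
    · exact absurd (hphi ▸ relIndex_eq_one.1
        (Nat.eq_of_mul_eq_mul_right (pow_pos hpp.pos 2) (e.trans (one_mul _).symm))) A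
  have abQ : Ab[N ⊓ P] := by
    by_cases hc : Ab[N]
    · exact isMulComm_of_le hc inf_le_left
    have Z0 : Z[N] = ⊥ := by
      by_contra h
      exact hc (isMulComm_of_le (isMulComm_cent_inf N) (hmin _ inferInstance h))
    have C0 : C[N] = ⊥ := by
      have := CfsgH9.centralizer_Fs_le (⊤ : Subgroup G)
      rw [CfsgH9.Fs_top, top_inf_eq] at this
      rw [← Z0]; exact (inf_eq_right.2 this).symm
    have F0' : CfsgH9.Fit (⊤ : Subgroup G) = ⊥ := by
      by_contra h
      haveI : F[(⊤ : Subgroup G)].Normal := normal_of_top_le_norm le_norm_fit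
      exact hc (isMulComm_of_le (isMulComm_cent_inf _)
        (hmin _ inferInstance (nil_center_ne_bot fit_nil h)))
    have hE : N = CfsgH9.Lay ⊤ := by rw [hN, ← CfsgH9.Fs_top, CfsgH9.Fs_eq, F0', sup_bot_eq]
    refine isMulComm_of_le_cent (comm_eq_bot_iff.1 (le_bot_iff.1 ?_))
    rw [← C0, le_centralizer_iff]
    conv_lhs => rw [hE]
    rw [CfsgH9.Lay_le_iff]
    intro T hT
    rw [le_centralizer_iff]
    have TN : T ≤ N := hE ▸ hT.le_Lay
    have NT : N ≤ N[T] := hE ▸ hT.Lay_le_normalizer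
    have ZT : T ⊓ C[T] = ⊥ := by
      have h4 : Z[T] ≤ F[N] := le_fit (inf_le_left.trans TN) (NT.trans norm_le_norm_center)
        (isNilpotent_of_comm (isMulComm_cent_inf T))
      have h5 : F[N] ≤ F[(⊤ : Subgroup G)] := fit_le_of_norm le_top (nn N _)
      exact le_bot_iff.1 (F0' ▸ h4.trans h5)
    have PT : ¬ (P : Subgroup G) ≤ N[T] := by
      intro h
      have e1 : N = T := by
        refine le_antisymm ?_ TN
        rw [hE, CfsgH9.Lay_le_iff]
        intro L hL
        obtain ⟨x, hx, e2⟩ := htr hc T L (CfsgH9.comp_top_iff.1 hT) (CfsgH9.comp_top_iff.1 hL)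
        exact (e2.trans (map_cj_eq (h hx))).le
      exact hnas ⟨N, inferInstance, e1 ▸ hT.qs.isSimpleGroup ZT, hc, C0⟩
    obtain ⟨i1, i2⟩ := idx fun h => PT (h.trans NT)
    have hH : ∀ g ∈ (P : Subgroup G), g ∉ N ⊓ P → g ∉ N[T] := by
      intro g hg h1 h2
      have := CfsgH1.sup_zpowers_eq_of_prime (by rw [i1]; exact hpp) inf_le_right hg h1
      exact PT (this.ge.trans (sup_le (inf_le_left.trans NT) (zpowers_le.2 h2)))
    set Q := N ⊓ (P : Subgroup G)
    set S := Q ⊓ T
    set W := Q ⊓ C[T]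
    have sQ : Syl p Q N := by
      have := sP.inf_norm (K := N) le_top (nn N _)
      rwa [inf_comm] at this
    have sS : Syl p S T := sQ.inf_norm TN (inf_le_left.trans NT)
    have nC : N ≤ N[N ⊓ C[T]] := le_norm_inf le_normalizer (le_norm_cent NT)
    have hNT : N ≤ T ⊔ (N ⊓ C[T]) := by
      conv_lhs => rw [hE]
      rw [CfsgH9.Lay_le_iff]
      intro L hL
      rcases hL.eq_or_comm hT with h | h
      · exact h.le.trans le_sup_left
      · exact le_sup_of_le_right (le_inf (hE ▸ hL.le_Lay) (comm_eq_bot_iff.1 h))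
    have hSW : S ≤ C[W] := le_centralizer_iff.1 (inf_le_right.trans (cent_anti inf_le_right))
    have hQ : Q = S ⊔ W := by
      have h1 : qt (N ⊓ C[T]) Q = qt (N ⊓ C[T]) S := by
        refine (sS.qt (TN.trans nC)).eq_of_le (isPGroup_qt sQ.pg) (qt_mono inf_le_left) ?_
        exact (qt_le_qt (sQ.le.trans nC) (TN.trans nC)).2 (sQ.le.trans hNT)
      have h2 : Q ≤ S ⊔ (N ⊓ C[T]) :=
        (qt_le_qt (sQ.le.trans nC) ((inf_le_left.trans sQ.le).trans nC)).1 h1.le
      have h3 := sup_inf_of_norm (H := S) (K := N ⊓ C[T]) (L := Q)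
        (Or.inl ((inf_le_left.trans sQ.le).trans nC)) inf_le_left
      rw [inf_eq_right.2 h2] at h3
      refine le_antisymm (h3.le.trans (sup_le_sup_left ?_ _)) (sup_le inf_le_left inf_le_left)
      exact le_inf inf_le_right (inf_le_left.trans inf_le_right)
    have nW : Q ≤ N[W] := le_norm_inf le_normalizer (le_norm_cent (sQ.le.trans NT))
    have hQQ : ⁅Q, Q⁆ ≤ W ⊔ ⁅S, S⁆ := commutator_le_of_sup nW (by rw [sup_comm]; exact hQ.symm)
    have h1 : ⁅(P : Subgroup G), (P : Subgroup G)⁆ ⊓ S ≤ ⁅S, S⁆ := by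
      intro s hs
      have h2 := tr (H := Q) (W := W) inf_le_right inf_le_left hs.2.1 hs.1 fun g hg h3 m hm => by
        refine ⟨hm, ?_⟩
        have h4 : T.map (cj g⁻¹) ≠ T := fun e => hH g hg h3 (inv_mem_iff.1 (map_cj_eq_iff.1 e))
        have h5 := comm_eq_bot_iff.1 ((hT.cj_of_mem (nn ⊤ ⊤ (mem_top g⁻¹))).comm_of_ne hT h4)
        refine h5 ?_
        have := conj_mem_map_cj (g := g⁻¹) (pow_mem hs.2.2 m)
        rwa [inv_inv] at this
      have h3 : s ∈ (⁅S, S⁆ ⊔ W) ⊓ S :=
        ⟨sup_comm W _ ▸ (sup_le le_sup_left hQQ : W ⊔ ⁅Q, Q⁆ ≤ W ⊔ ⁅S, S⁆) h2, hs.2⟩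
      rw [sup_inf_of_norm (Or.inl ((commutator_self_le.trans inf_le_left).trans nW))
        commutator_self_le] at h3
      have h4 : W ⊓ S = ⊥ := le_bot_iff.1 (ZT ▸ le_inf (inf_le_right.trans inf_le_right)
        (inf_le_left.trans inf_le_right))
      rwa [h4, sup_bot_eq] at h3
    have h2 : ⁅S, S⁆.relIndex S ∣ p := by
      refine (relIndex_dvd_of_le_left S h1).trans ?_
      have nP : (P : Subgroup G) ≤ N[⁅(P : Subgroup G), (P : Subgroup G)⁆] := le_norm_comm_left
      refine Dvd.dvd.trans ?_ i2.dvd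
      rw [inf_relIndex_right, ← card_qt ((inf_le_left.trans inf_le_right).trans nP),
        ← card_qt (inf_le_right.trans nP)]
      exact card_dvd_of_le (qt_mono inf_le_left)
    haveI := cyc_of_relIndex (comm_le_phi (nil_of_pg sS.pg)) h2
    rw [comm_self_eq_bot_iff.2 (inferInstance : Ab[S]), sup_bot_eq] at hQQ
    exact hQQ.trans inf_le_right
  have PN : ¬ (P : Subgroup G) ≤ N := fun h => hna (isMulComm_of_le abQ (le_inf h le_rfl))
  obtain ⟨x, x1, x2⟩ := SetLike.not_le_iff_exists.1 PN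
  obtain ⟨g, g1, g2⟩ := ext x (hP.to_le (zpowers_le.2 x1))
  refine ⟨g * x * g⁻¹, pgroup_mem_order hP g1, (fac _ g2).2 ?_⟩
  refine card_cent hP hi hna inf_le_right abQ (idx PN).1 (le_norm_inf (nn N _) le_normalizer) g1
    fun h => x2 ?_
  have := conj_mem_of_norm' (nn N ⊤ (mem_top g)) h.1
  simpa [mul_assoc] using this

end Cfsg.Agent.S4587
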