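import Cfsg.Statements.S4623
import Mathlib

set_option autoImplicit false
open Cfsg

namespace Cfsg.Agent.S4623

section
open Subgroup Equiv Equiv.Perm
open scoped commutatorElement

section
variable {G G' : Type*} [Group G] [Group G'] {p : ℕ}

/-- The abelianization has exponent dividing `p`. -/
def Good (p : ℕ) (K : Subgroup G) : Prop := ∀ x ∈ K, x ^ p ∈ ⁅K, K⁆

theorem good_iff {K : Subgroup G} : Good p K ↔ ∀ x : K, x ^ p ∈ _root_.commutator K := by
  simp only [Good, ← map_subtype_commutator, Subtype.forall]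
  exact forall₂_congr fun x hx => mem_map_iff_mem (f := K.subtype) (x := ⟨x, hx⟩ ^ p) K.subtype_injective

theorem Good.map {K : Subgroup G} (h : Good p K) (f : G →* G') : Good p (K.map f) := by
  rintro _ ⟨x, hx, rfl⟩
  rw [← map_commutator, ← map_pow]
  exact mem_map_of_mem f (h x hx)

theorem Good.sup {K L : Subgroup G} (h : Good p K) (h' : Good p L) : Good p (K ⊔ L) := by
  have : ∀ M ≤ K ⊔ L, Good p M → M ≤ ((powMonoidHom p).comp (Abelianization.of (G := (K ⊔ L : Subgroup G)))).ker.map (K ⊔ L).subtype :=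
    fun M a b x hx => ⟨⟨x, a hx⟩, (map_pow _ _ _).symm.trans ((QuotientGroup.eq_one_iff _).2 ((mem_map_iff_mem (K ⊔ L).subtype_injective).1
      (map_subtype_commutator (K ⊔ L) ▸ commutator_mono a a (b x hx)))), rfl⟩
  refine good_iff.2 fun x => ?_
  obtain ⟨y, hy, e⟩ := sup_le (this K le_sup_left h) (this L le_sup_right h') x.2
  obtain rfl : y = x := Subtype.ext e
  exact (QuotientGroup.eq_one_iff _).1 ((map_pow Abelianization.of _ _).trans hy)

end

variable {ι : Type} {p : ℕ}

/-- The base group. -/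
def eps (ι : Type) (p : ℕ) : Multiplicative (ι → ZMod p) →* Perm (ι × ZMod p) where
  toFun e := prodCongrRight fun i => Equiv.addLeft (e.toAdd i)
  map_one' := by ext <;> simp
  map_mul' a b := by ext <;> simp [add_assoc]

/-- The top group. -/
def rho (ι : Type) (p : ℕ) : Perm ι →* Perm (ι × ZMod p) where
  toFun s := prodCongrLeft fun _ => s
  map_one' := rfl
  map_mul' _ _ := rfl

@[simp] theorem eps_apply (e : Multiplicative (ι → ZMod p)) (x : ι × ZMod p) : eps ι p e x = (x.1, e.toAdd x.1 + x.2) := rfl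

@[simp] theorem rho_apply (s : Perm ι) (x : ι × ZMod p) : rho ι p s x = (s x.1, x.2) := rfl

theorem step [Fintype ι] [DecidableEq ι] [hp : Fact p.Prime] {R : Subgroup (Perm ι)} (h1 : IsPGroup p R) (h2 : Good p R) :
    ∃ K : Subgroup (Perm (ι × ZMod p)), IsPGroup p K ∧ p ^ Fintype.card ι * Nat.card R ≤ Nat.card K ∧ Good p K ∧
      Good p (K ⊓ alternatingGroup _) := by
  have e1 : ∀ x ∈ (eps ι p).range, x ^ p = 1 := by
    rintro _ ⟨e, rfl⟩
    rw [← map_pow, show e ^ p = 1 from Multiplicative.toAdd.injective (by ext; simp), map_one]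
  have e2 : ∀ M ≤ (eps ι p).range, Good p M := fun M a x hx => e1 x (a hx) ▸ one_mem _
  have n : R.map (rho ι p) ≤ normalizer ((eps ι p).range : Set (Perm (ι × ZMod p))) := by
    rintro _ ⟨s, -, rfl⟩
    refine mem_normalizer_fintype ?_
    rintro _ ⟨e, rfl⟩
    exact ⟨.ofAdd fun i => e.toAdd (s⁻¹ i), by rw [← map_inv]; ext <;> simp [-map_inv]⟩
  have a : R.map (rho ι p) ≤ alternatingGroup _ := by
    rintro _ ⟨s, hs, rfl⟩
    obtain ⟨k, hk⟩ := h1 ⟨s, hs⟩
    have := congrArg (fun x : R => sign x.1) hk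
    change sign (prodCongrLeft fun _ => s) = 1
    rcases Int.units_eq_one_or (sign s) with h | h <;> simp [sign_prodCongrLeft, h] at this ⊢
    exact (Nat.even_pow.1 ((neg_one_pow_eq_one_iff_even (by decide)).1 this)).1.neg_one_pow
  refine ⟨(eps ι p).range ⊔ R.map (rho ι p), .to_sup_of_normal_left' (fun x => ⟨1, Subtype.ext (by simpa using e1 _ x.2)⟩) (h1.map _) n,
    ?_, (e2 _ le_rfl).sup (h2.map _), ?_⟩
  · refine le_of_eq_of_le (by simp) (Nat.card_le_card_of_injective (fun x : Multiplicative (ι → ZMod p) × R =>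
      (⟨_, mul_mem_sup ⟨x.1, rfl⟩ ⟨_, x.2.2, rfl⟩⟩ : ((eps ι p).range ⊔ R.map (rho ι p) : Subgroup _))) fun x y e => ?_)
    have := fun i => Prod.ext_iff.1 (DFunLike.congr_fun (congrArg Subtype.val e) (i, 0))
    have h : x.2 = y.2 := Subtype.ext (Equiv.ext fun i => (this i).1)
    refine Prod.ext (Multiplicative.toAdd.injective (funext fun i => ?_)) h
    simpa [h] using (this (x.2.1⁻¹ i)).2
  convert (e2 _ (inf_le_left (b := alternatingGroup _))).sup (h2.map (rho ι p)) using 1
  refine le_antisymm (fun x hx => ?_) (sup_le (inf_le_inf_right _ le_sup_left) (le_inf le_sup_right a))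
  obtain ⟨u, hu, v, hv, rfl⟩ := (coe_mul_of_right_le_normalizer_left _ _ n).le hx.1
  exact mul_mem_sup ⟨hu, (mul_mem_cancel_right (a hv)).1 hx.2⟩ hv

theorem main [hp : Fact p.Prime] (n : ℕ) : ∀ P : Sylow p (Perm (Fin n)), Good p P.1 ∧ Good p (P.1 ⊓ alternatingGroup _) := by
  induction n using Nat.strong_induction_on with | _ n ih =>
  obtain ⟨K, h1, h2, h3, h4⟩ : ∃ K : Subgroup (Perm (Fin n)), IsPGroup p K ∧ p ^ padicValNat p n.factorial ≤ Nat.card K ∧ Good p K ∧
      Good p (K ⊓ alternatingGroup _) := by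
    rcases n.eq_zero_or_pos with rfl | h
    · exact ⟨⊥, .of_bot, by simp, by simp [Good], by simp [Good]⟩
    obtain ⟨R⟩ : Nonempty (Sylow p (Perm (Fin (n / p)))) := inferInstance
    obtain ⟨K, h1, h2, h3, h4⟩ := step R.2 (ih _ (Nat.div_lt_self h hp.out.one_lt) R).1
    obtain ⟨j⟩ := Function.Embedding.nonempty_of_card_le (α := Fin (n / p) × ZMod p) (β := Fin n) (by simp [Nat.div_mul_le_self])
    refine ⟨K.map (viaEmbeddingHom j), h1.map _, ?_, h3.map _, ?_⟩
    · rw [card_map_of_injective (viaEmbeddingHom_injective j), ← padicValNat_mul_div_factorial, padicValNat_factorial_mul, pow_add, mul_comm]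
      rwa [R.card_eq_multiplicity, Nat.card_perm, Nat.factorization_def _ hp.out, Nat.card_fin, Fintype.card_fin] at h2
    · convert h4.map (viaEmbeddingHom j) using 1
      ext x
      simp only [mem_inf, mem_map, mem_alternatingGroup]
      refine ⟨fun ⟨⟨y, a, b⟩, c⟩ => ⟨y, ⟨a, ?_⟩, b⟩, fun ⟨y, ⟨a, c⟩, b⟩ => ⟨⟨y, a, b⟩, ?_⟩⟩ <;> subst b <;>
        simpa [viaEmbeddingHom_apply, viaEmbedding] using c
  intro P
  obtain ⟨Q, hQ⟩ := h1.exists_le_sylow
  obtain rfl : K = Q := eq_of_le_of_card_ge hQ (by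
    rwa [Q.card_eq_multiplicity, Nat.card_perm, Nat.factorization_def _ hp.out, Nat.card_fin])
  obtain ⟨g, rfl⟩ := MulAction.exists_smul_eq (Perm (Fin n)) Q P
  refine ⟨h3.map (MulAut.conj g).toMonoidHom, ?_⟩
  convert h4.map (MulAut.conj g).toMonoidHom using 1
  rw [map_inf _ _ _ (MulAut.conj g).injective]
  exact congrArg₂ _ rfl (Normal.conj_smul_eq_self g _).symm

end

/-- For every prime p and every n, a Sylow p-subgroup P of the symmetric group on n letters has P/P' elementary abelian (the p-th power of every element of P lies in the derived subgroup of P), and the same holds for a Sylow p-subgroup of the alternating group on n letters. -/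
theorem result (p : ℕ) [Fact p.Prime] (n : ℕ) (P : Sylow p (Equiv.Perm (Fin n))) (Q : Sylow p (alternatingGroup (Fin n))) :
    (∀ x : (P : Subgroup (Equiv.Perm (Fin n))), x ^ p ∈ commutator (P : Subgroup (Equiv.Perm (Fin n)))) ∧
    (∀ x : (Q : Subgroup (alternatingGroup (Fin n))), x ^ p ∈ commutator (Q : Subgroup (alternatingGroup (Fin n)))) := by
  open Subgroup Equiv Equiv.Perm in
  open scoped commutatorElement in
  · refine ⟨good_iff.1 (main n P).1, fun x => ?_⟩
    obtain ⟨R, hR⟩ := Q.exists_comap_subtype_eq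
    have := (main n R).2
    rw [← subgroupOf_map_subtype, subgroupOf, hR] at this
    rw [← mem_map_iff_mem Q.1.subtype_injective, map_subtype_commutator, ← mem_map_iff_mem (alternatingGroup _).subtype_injective, map_commutator]
    exact this _ ⟨_, x.2, rfl⟩

end Cfsg.Agent.S4623
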