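import Cfsg.Statements.S4625
import Cfsg.Agent.H5.Up1
import Cfsg.Agent.H5.Up2
import Cfsg.Agent.H5.Orth6
import Cfsg.Agent.H5.Unit2
import Cfsg.Agent.H5.Symp2
import Cfsg.Agent.H5.Fm1
import Cfsg.Agent.L0.FS3
import Cfsg.Agent.H8.Sz4
import Cfsg.Agent.H8.U3e
import Cfsg.Agent.H6.GoodAll
import Cfsg.Agent.H6.Sylow
import Cfsg.Agent.S0280
import Cfsg.Agent.S0293
import Cfsg.Agent.S0294

set_option autoImplicit false
open Cfsg

namespace Cfsg.Agent.S4625

open CfsgH5 CfsgH5.CForm CfsgH5.Up CfsgH5.Wr Cfsg.Agent.S4623 Module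

theorem two_pow (F : Type*) [Field F] [Fintype F] [CharP F 2] : ∃ k, 0 < k ∧ Fintype.card F = 2 ^ k := by
  haveI : Fact (Nat.Prime 2) := ⟨Nat.prime_two⟩
  obtain ⟨n, -, h⟩ := FiniteField.card F 2
  exact ⟨n, n.2, h⟩

theorem odd_sub {k j : ℕ} (hk : 0 < k) (hj : 0 < j) : Odd ((2 ^ k) ^ j - 1) :=
  Nat.Even.sub_odd (Nat.one_le_pow _ _ (by positivity)) ((even_two.pow_of_ne_zero hk.ne').pow_of_ne_zero hj.ne') odd_one

theorem odd_add {k j : ℕ} (hk : 0 < k) (hj : 0 < j) : Odd ((2 ^ k) ^ j + 1) :=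
  ((even_two.pow_of_ne_zero hk.ne').pow_of_ne_zero hj.ne').add_one

theorem odd_prod {s : Finset ℕ} {f : ℕ → ℕ} (h : ∀ i, Odd (f i)) : Odd (∏ i ∈ s, f i) :=
  Finset.prod_induction _ _ (fun _ _ => Odd.mul) odd_one fun i _ => h i

theorem orth {F : Type} [Field F] [Fintype F] [CharP F 2] {ι : Type} [Fintype ι] [DecidableEq ι]
    (Q : QuadraticForm F (ι → F)) (hf : (ofQuad Q).Nondeg) {m : ℕ} (hm : 3 ≤ m) (hd : Fintype.card ι = 2 * (m + 1))
    {d r : ℕ} (hc : d * Nat.card (POmega F ⇑Q) = Fintype.card F ^ ((m + 1) * m) * r) (hr : Odd r)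
    (R : Sylow 2 (POmega F ⇑Q)) : Good 2 R.1 := by
  obtain ⟨k, -, hk⟩ := two_pow F
  have d1 : finrank F (ι → F) = 2 * (m + 1) := by simp [hd]
  let e : Omega F ⇑Q ≃* ↥⁅(ofQuad Q).Isom, (ofQuad Q).Isom⁆ :=
    (((orthEquiv Q).subgroupMap (Omega F ⇑Q)).trans (MulEquiv.subgroupCongr (by
      rw [Omega, map_commutator_eq, MonoidHom.range_eq_top.2 (orthEquiv Q).surjective]; rfl))).trans
      (((commutator (ofQuad Q).Isom).equivMapOfInjective _ (ofQuad Q).Isom.subtype_injective).trans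
        (MulEquiv.subgroupCongr (Subgroup.map_subtype_commutator _)))
  refine good_syl hf (by omega) (.inl fun a => by rw [orth_B_self, CharTwo.two_eq_zero, zero_mul]) (fun W h1 h2 => ?_)
    (E_le_comm hf (split_of_finrank hf (by omega))) (Subgroup.commutator_le_self _) e (N := k * ((m + 1) * m))
    (by rw [pow_mul, ← hk]; exact hc) hr (by rw [d1, orth_τ, uc_orth, pow_mul, ← hk, Nat.card_eq_fintype_card]) R
  rcases h2.eq_or_lt with h | h
  exacts [.inr ⟨h.symm, orth_τ⟩, .inl (orth_exists_hyp h1 h)]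

theorem chev {F : Type} [Field F] [Fintype F] [CharP F 2] {D : Lie.ChevalleyDatum} (hD : D ∈ [Lie.chevG2, Lie.chevB2,
    Lie.chevD4, Lie.chevF4, Lie.chevE6, Lie.chevE7, Lie.chevE8]) {H : Type*} [Group H] (e : H ≃* D.group F)
    (R : Sylow 2 H) : Good 2 R.1 := by
  haveI : Fact (Nat.Prime 2) := ⟨Nat.prime_two⟩
  obtain ⟨G⟩ := CfsgH6.good_of_mem hD
  exact good_any (Q := (G.grp F).sylow (G.grp_R3 F) (G.grp_Gr F) 2) (good_US _) e R

/-- Let G be a finite simple group of Lie type in characteristic 2, not counting the Tits group ²F₄(2)′. Then a Sylow 2-subgroup P of G has P/P' elementary abelian: the square of every element of P lies in the derived subgroup of P. -/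
theorem result {G : Type*} [Group G] [Finite G] [IsSimpleGroup G] (hG : Cfsg.IsLieTypeChar 2 G) (P : Sylow 2 G) :
    ∀ x : (P : Subgroup G), x ^ 2 ∈ commutator (P : Subgroup G) := by
  haveI : Fact (Nat.Prime 2) := ⟨Nat.prime_two⟩
  refine good_iff.1 ?_
  have tr : ∀ {H : Type} [Group H] [Finite H], (∀ R : Sylow 2 H, Good 2 R.1) → Nonempty (G ≃* H) → Good 2 P.1 :=
    fun h ⟨e⟩ => good_any (h default) e P
  rcases hG with ⟨F, _, _, _, n, -, -, e⟩ | ⟨F, _, _, _, m, hm, -, e⟩ | ⟨F, _, _, _, n, q, hF, hn, -, e⟩ |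
    ⟨F, _, _, _, m, hm, ho, e⟩ | ⟨F, _, _, _, m, hm, e⟩ | ⟨F, _, _, _, m, a, b, hm, hab, e⟩ | ⟨F, _, _, _, hG⟩ |
    ⟨F, _, _, _, q, hq, hG⟩ | ⟨-, F, _, _, m, hm, hF, ⟨e⟩⟩ | ⟨-, F, _, _, m, hm, hF, ⟨e⟩⟩ | ⟨h, -⟩
  · classical
    obtain ⟨U, hU⟩ := CfsgL0.Uni.exists_sylow (K := F) (ι := Fin n) 2
    have : Good 2 U.1 := hU ▸ good_of (CfsgL0.Uni.UT_le fun i j h c => mem_pw.2 ⟨CfsgL0.Uni.tv_mem h.ne c h, by
      have := CfsgL0.Uni.tv_pow 2 h.ne c
      rw [pow_one] at this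
      rw [this]; exact one_mem _⟩)
    exact good_any (Q := U.mapSurjective (QuotientGroup.mk'_surjective (Subgroup.center _))) (this.map _) e.some P
  · obtain ⟨k, k0, hk⟩ := two_pow F
    have d := Subgroup.card_eq_card_quotient_mul_card_subgroup (Subgroup.center (Matrix.symplecticGroup (Fin m) F))
    rw [card_symplecticGroup, Nat.card_eq_fintype_card, mul_comm (Nat.card _), hk, ← pow_mul] at d
    have hf := spForm_nondeg (F := F) m
    have d1 : finrank F (Fin m ⊕ Fin m → F) = 2 * m := by simp; omega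
    exact tr (good_syl hf (by omega) (.inl fun a => (spForm F m).B_self_of_Q_zero rfl)
      (fun W h1 h2 => .inl (symp_exists_hyp h1 (by omega))) E_le_Isom le_rfl (spEquiv m) d.symm
      (odd_prod fun i => odd_sub k0 (by omega))
      (by rw [d1, symp_τ, uc_symp, pow_mul, ← hk, Nat.card_eq_fintype_card])) e
  · obtain ⟨k, k0, hk⟩ := two_pow F
    obtain ⟨σ, H⟩ := exists_UF hF
    obtain ⟨j, -, rfl⟩ := (Nat.dvd_prime_pow Nat.prime_two).1 (show q ∣ 2 ^ k by rw [← hk, hF]; exact dvd_pow_self _ two_ne_zero)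
    have j0 : 0 < j := Nat.pos_of_ne_zero (by rintro rfl; have := H.two_le; simp at this)
    have d := S0280.result hF n (by omega)
    rw [← mul_assoc, ← pow_mul] at d
    obtain ⟨α, hα⟩ := CfsgH8.exists_alpha H.ne_id H.invol
    refine tr (good_syl (hermC_nondeg H n) (by simpa using hn) (.inr ⟨α, by simpa [CharTwo.sub_eq_add] using hα⟩)
      (fun W h1 h2 => .inl (unit_exists_hyp H h1 h2)) (fun g hg => mem_SIsom.2 ⟨E_le_Isom hg, E_det hg⟩)
      (fun g hg => (mem_SIsom.1 hg).1) (suEquiv H n) d (odd_prod fun i => ?_)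
      (by rw [unit_τ H, H.card, uc_unit, pow_mul]; simp)) e
    split_ifs
    exacts [odd_add j0 i.succ_pos, odd_sub j0 i.succ_pos]
  · obtain ⟨k, k0, hk⟩ := two_pow F
    exact absurd ho (Nat.not_odd_iff_even.2 (hk ▸ even_two.pow_of_ne_zero k0.ne'))
  · obtain ⟨k, k0, hk⟩ := two_pow F
    obtain ⟨m, rfl⟩ : ∃ j, m = j + 1 := ⟨m - 1, by omega⟩
    have d := S0293.result (F := F) rfl _ hm
    rw [mul_assoc] at d
    exact tr (orth (plusQ F (m + 1)) (plusQ_nondeg F _) (by omega) (by simp; omega) d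
      (hk ▸ (odd_sub k0 m.succ_pos).mul (odd_prod fun i => odd_sub k0 (by omega)))) e
  · obtain ⟨k, k0, hk⟩ := two_pow F
    obtain ⟨m, rfl⟩ : ∃ j, m = j + 1 := ⟨m - 1, by omega⟩
    have d := S0294.result (F := F) rfl _ hm a b hab
    rw [mul_assoc] at d
    exact tr (orth (minusQ m a b) (minusQ_nondeg m hab) (by omega) (by simp; omega) d
      (hk ▸ (odd_add k0 m.succ_pos).mul (odd_prod fun i => odd_sub k0 (by omega)))) e
  · rcases hG with ⟨-, ⟨e⟩⟩ | ⟨⟨e⟩⟩ | ⟨⟨e⟩⟩ | ⟨⟨e⟩⟩ | ⟨⟨e⟩⟩ <;> exact chev (by simp) e P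
  · rcases hG with ⟨hF, ⟨e⟩⟩ | ⟨hF, ⟨e⟩⟩
    exacts [good_E6 hq hF e P, good_D4 hq hF e P]
  · haveI : CfsgH8.SzG.SzF F m := ⟨hm, hF⟩
    refine good_any (Q := CfsgH8.SzG.sylU F m) ?_ (e.trans (CfsgH8.SzG.lieEquiv F m).symm) P
    rintro _ ⟨a, b, rfl⟩
    obtain ⟨c, d, h⟩ := CfsgH8.SzG.exists_comm_ZU (m := m) (CfsgH8.SzG.th m a * a)
    rw [CfsgH8.SzG.u_sq, h]
    exact Subgroup.commutator_mem_commutator (CfsgH8.SzG.u_mem _ _) (CfsgH8.SzG.u_mem _ _)
  · haveI : CharP F 2 := (CfsgH6.exists_theta (by norm_num) hF).1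
    exact good_F4 hm hF e P
  · omega

end Cfsg.Agent.S4625
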