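import Cfsg.Statements.S4627
import Cfsg.Agent.H5.Wr6

set_option autoImplicit false
open Cfsg

namespace Cfsg.Agent.S4627

open CfsgH5 CfsgH5.Wr Module

/-- Let F be a finite field of odd order q and m ≥ 1. If 4 divides q + 1, or if 4 divides q − 1 and m is a power of 2, then a Sylow 2-subgroup P of SL_{2m}(F) has P/P' elementary abelian: the square of every element of P lies in the derived subgroup of P. -/
theorem result {F : Type*} [Field F] [Fintype F] (hF : Odd (Fintype.card F)) (m : ℕ) (hm : 1 ≤ m)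
    (hq : 4 ∣ Fintype.card F + 1 ∨ (4 ∣ Fintype.card F - 1 ∧ ∃ j : ℕ, m = 2 ^ j)) (P : Sylow 2 (Matrix.SpecialLinearGroup (Fin (2 * m)) F)) :
    ∀ x : (P : Subgroup (Matrix.SpecialLinearGroup (Fin (2 * m)) F)), x ^ 2 ∈ commutator (P : Subgroup (Matrix.SpecialLinearGroup (Fin (2 * m)) F)) := by
  obtain ⟨D, x, x1, x2⟩ := exists_D hF
  have : NeZero m := ⟨by omega⟩
  have := finite_linearEquiv (F := F) (V := Fin m → Fin 2 → F)
  let φ : W D.1 (Fin m) →* _ := lin.comp (map D.1.subtype)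
  have ht : ∀ s, (LinearEquiv.det.comp φ) (inr s) = 1 := fun s => hom_top (LinearEquiv.det.comp (θ (F := F))) s
  have d1 : ∀ d, (LinearEquiv.det.comp φ) (sg 0 d) = LinearEquiv.det d.1 := fun d => Units.ext (by
    simp only [φ, MonoidHom.comp_apply, map_sg, LinearEquiv.coe_det, det_sg]; rfl)
  have hQ : S4623.Good 2 ((LinearEquiv.det.comp φ).comp (sg 0)).ker := by
    convert good_Q hF D using 1
    ext d; rw [MonoidHom.mem_ker, MonoidHom.comp_apply, d1]; rfl
  have key : ∀ T : Sylow 2 (Equiv.Perm (Fin m)), S4623.Good 2 (K D.1 T.1 ⊓ (LinearEquiv.det.comp φ).ker) →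
      ∀ x : P.1, x ^ 2 ∈ commutator P.1 := fun T h =>
    good_inf (φ := φ) (N := LinearEquiv.det.ker) (lin_inj.comp (map_inj D.1.subtype_injective)) (pg_K D.2 T.2) (by
      rw [card_gl, rank2, Nat.card_eq_fintype_card, v_go2 Fintype.one_lt_card hF, v_K, v_D hF, show 2 * m / 2 = m by omega,
        show 2 * m - m = m by omega]
      linarith) h (slE (rank2 m)) P
  rcases hq with hq | ⟨-, j, hj⟩
  · obtain ⟨T⟩ : Nonempty (Sylow 2 (Equiv.Perm (Fin m))) := inferInstance
    exact key T (good_ker_inv (good_T T) ht hQ x1 fun d => by simpa only [d1] using (good_D (by omega) x1 x2).1 d)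
  obtain ⟨T, hT⟩ := ((IsPGroup.of_card (p := 2) (n := j) (G := (⊤ : Subgroup (Multiplicative (Fin m)))) (by simp [hj])).map
    (MulAction.toPermHom _ (Multiplicative (Fin m)))).map (Equiv.permCongrHom Multiplicative.toAdd).toMonoidHom |>.exists_le_sylow
  exact key T (good_ker_tr (good_T T) ht hQ fun i => ⟨_, hT ⟨_, ⟨.ofAdd i, trivial, rfl⟩, rfl⟩, by simp⟩)

end Cfsg.Agent.S4627
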