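import Cfsg.Statements.S4628
import Cfsg.Agent.H5.Wr6

set_option autoImplicit false
open Cfsg

namespace Cfsg.Agent.S4628

open CfsgH5 CfsgH5.Wr Module

/-- Let F be a finite field of odd order q with 4 dividing q + 1, and m ≥ 1. Then a Sylow 2-subgroup P of SL_{2m+1}(F) has P/P' elementary abelian: the square of every element of P lies in the derived subgroup of P. -/
theorem result {F : Type*} [Field F] [Fintype F] (hF : Odd (Fintype.card F)) (hq : 4 ∣ Fintype.card F + 1) (m : ℕ) (hm : 1 ≤ m) (P : Sylow 2 (Matrix.SpecialLinearGroup (Fin (2 * m + 1)) F)) :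
    ∀ x : (P : Subgroup (Matrix.SpecialLinearGroup (Fin (2 * m + 1)) F)), x ^ 2 ∈ commutator (P : Subgroup (Matrix.SpecialLinearGroup (Fin (2 * m + 1)) F)) := by
  have h3 : Fintype.card F % 4 = 3 := by omega
  obtain ⟨D, x, x1, x2⟩ := exists_D hF
  obtain ⟨T⟩ : Nonempty (Sylow 2 (Equiv.Perm (Fin m))) := inferInstance
  let j := slE (F := F) (V := (Fin m → Fin 2 → F) × F) (n := 2 * m + 1) (by simp [rank2])
  let τ : ((Fin m → Fin 2 → F) ≃ₗ[F] (Fin m → Fin 2 → F)) →* _ := (pH.comp ((MonoidHom.id _).prod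
    ((DistribMulAction.toModuleAut F F).comp LinearEquiv.det⁻¹))).codRestrict LinearEquiv.det.ker fun g => Units.ext (by
      rw [LinearEquiv.coe_det, MonoidHom.comp_apply, det_pH, LinearMap.det_ring, ← LinearEquiv.coe_det]
      simp [Units.smul_def, -LinearEquiv.coe_det])
  have hτ : Function.Injective τ := fun a b h => congrArg Prod.fst (pH_inj (congrArg Subtype.val h))
  obtain ⟨ψ⟩ := syl_equiv (φ := j.symm.toMonoidHom.comp (τ.comp (lin.comp (map D.1.subtype))))
    (j.symm.injective.comp (hτ.comp (lin_inj.comp (map_inj D.1.subtype_injective)))) (pg_K D.2 T.2) (by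
      have h1 := congrArg (padicValNat 2) (card_SL (F := F) (2 * m + 1) (by omega))
      have h2 := v_go2 Fintype.one_lt_card hF (2 * m + 1)
      rw [go, Finset.prod_range, ← h1, padicValNat.mul (by omega) Nat.card_pos.ne', show (2 * m + 1) / 2 = m by omega,
        show 2 * m + 1 - m = m + 1 by omega] at h2
      rw [v_K, v_D hF]
      linarith) P
  exact fun y => good_equiv ψ (good_top.2 (good_K (good_D h3 x1 x2).2 (good_T T))) y trivial

end Cfsg.Agent.S4628
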