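import Cfsg.Statements.S4632
import Cfsg.Agent.H5.Wr7
import Cfsg.Agent.H5.Oc2

set_option autoImplicit false
open Cfsg

namespace Cfsg.Agent.S4632

open CfsgH5 CfsgH5.Wr CfsgH5.Oc

/-- Let F be a finite field of odd order and G₂(F) the automorphism group of the split octonion algebra over F (realized on F⁸ with the Zorn vector-matrix multiplication). A Sylow 2-subgroup P of G₂(F) has P/P' elementary abelian: the square of every element of P lies in the derived subgroup of P. -/
theorem result {F : Type*} [Field F] [Fintype F] (hF : Odd (Fintype.card F)) (P : Sylow 2 (Cfsg.Lie.G2 F)) : ∀ x : (P : Subgroup (Cfsg.Lie.G2 F)), x ^ 2 ∈ commutator (P : Subgroup (Cfsg.Lie.G2 F)) := by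
  have := finite_linearEquiv (F := F) (V := Fin 8 → F)
  have hs : Function.Surjective (g2E (F := F)).toMonoidHom := g2E.surjective
  suffices h : ∀ R : Sylow 2 (Au F), S4623.Good 2 R.1 from
    S4623.good_iff.1 (good_comap (f := (g2E (F := F)).toMonoidHom) (g2E (F := F)).injective (h (P.mapSurjective hs)))
  intro R
  rcases subsingleton_or_nontrivial R.1 with h | h
  · exact S4623.good_iff.2 fun x => Subsingleton.elim 1 (x ^ 2) ▸ one_mem _
  have := R.2.center_nontrivial
  obtain ⟨k, k0, hk⟩ := (R.2.to_subgroup (Subgroup.center R.1)).nontrivial_iff_card.1 this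
  obtain ⟨z, hz⟩ := exists_prime_orderOf_dvd_card' (G := Subgroup.center R.1) 2 (hk ▸ dvd_pow_self 2 k0.ne')
  rw [← Subgroup.orderOf_coe, ← Subgroup.orderOf_coe] at hz
  obtain ⟨M, hf, ρ, h1, h2, h3, h4⟩ := cent (two_ne_of_odd hF) (z := z.1.1) (by rw [← sq]; exact orderOf_dvd_iff_pow_eq_one.1 hz.dvd)
    (by rintro e; simp [e] at hz)
  have hle : R.1 ≤ Subgroup.centralizer {z.1.1} := fun x hx => Subgroup.mem_centralizer_singleton_iff.2
    (congrArg Subtype.val (Subgroup.mem_center_iff.1 z.2 ⟨x, hx⟩))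
  have := (S4623.good_iff.2 (so4 hf hF h1 h2 h4 (MonoidHom.ofInjective h3) (R.subtype hle))).map (Subgroup.subtype _)
  rwa [Sylow.coe_subtype, Subgroup.subgroupOf_map_subtype, inf_eq_left.2 hle] at this

end Cfsg.Agent.S4632
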