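import Cfsg.Statements.S4779
import Cfsg.Agent.S4776
import Cfsg.Agent.H1.Fitting

set_option autoImplicit false
open Cfsg

open CfsgH3 CfsgH4 Function Subgroup Cfsg.Agent.S4776
open scoped commutatorElement

namespace Cfsg.Agent.S4779
theorem free {X : Type*} [Group X] [Finite X] {K : Subgroup X} {φ : K → ℂ} {ν : K →* ℂˣ}
    (hφ : IsIrrCharacter K φ) (h : lm ν φ = φ) : orderOf ν ∣ charDegree φ :=
  orderOf_lin_dvd.2 fun n => by
    have := dt_mul_lin hφ.isCharacter (coe_charDegree hφ.isCharacter).symm ν n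
    rw [show (fun n => (ν n : ℂ) * φ n) = φ from h] at this
    simpa using this

theorem lemE {X : Type*} [Group X] [Finite X] {θ : X → ℂ} (hθ : IsIrrCharacter X θ)
    (hc : (charDegree θ).Coprime (commutator X).index) {τ : commutator X →* ℂˣ} {r : ℕ} (hr : r.Prime)
    (hτ : orderOf τ = r) (h : ¬ r ∣ charDegree θ) :
    ∃ η, IsIrrCharacter X η ∧ charDegree θ ∣ charDegree η ∧
      ¬ (charDegree η).Coprime (commutator X).index := by
  have := Fintype.ofFinite X
  have := Fintype.ofFinite (commutator X)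
  have hφ := restrict_irr_of_coprime (N := commutator X) hθ (coe_charDegree hθ.isCharacter).symm hc.symm
  have hφ' : IsIrrCharacter _ (lm τ fun n => θ n) := isIrr_lin_mul hφ τ
  obtain ⟨η, h1⟩ := hφ'.exists_irr_over
  have d := Ov.dvd h1 hφ'
  rw [deg_lm] at d
  refine ⟨η, h1.1, (dvd_mul_left _ _).trans d, fun c => ?_⟩
  by_cases m : (inertia (lf τ)).index = 1
  · obtain ⟨f, f1, f2⟩ := inv_lem le_rfl hφ m
      (⟨hθ, by rw [hφ.classInner_self]; exact one_ne_zero⟩ : Ov θ _) h1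
    obtain ⟨ζ, h2⟩ := (irr_lf (l := τ)).exists_irr_over
    have h3 := (inv_lf le_rfl m h2).trans (deg_dvd_of_over irr_lf h2.1 h2.2).2
    rw [deg_lf, mul_one, hτ] at h3
    exact hr.ne_one (Nat.eq_one_of_dvd_coprimes c
      (((hr.dvd_mul.1 (hτ ▸ f2)).resolve_left h).trans f1) h3)
  refine m (Nat.eq_one_of_dvd_coprimes c ((index_dvd_of_le fun g hg => mem_lf.2 ?_).trans
    ((dvd_mul_right _ _).trans d)) (index_dvd_of_le (le_inertia irr_lf.isClassFunction)))
  rw [mem_inertia, cj_lm, cj_restrict hθ.isClassFunction] at hg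
  have h2 := free (ν := τ⁻¹ * cl g τ) hφ (lm_inj (l := τ) (by rw [lm_lm, uh_mul_inv_cancel_left, hg]))
  have h3 : orderOf (τ⁻¹ * cl g τ) ∣ r := orderOf_lin_dvd.2 fun n => by
    simp only [MonoidHom.mul_apply, MonoidHom.inv_apply, mul_pow, inv_pow, ← hτ, lin_pow_orderOf, cl,
      MonoidHom.comp_apply, inv_one, mul_one]
  exact (inv_mul_eq_one.1 ((orderOf_eq_one_iff (x := τ⁻¹ * cl g τ)).1 (Nat.eq_one_of_dvd_coprimes
    ((Nat.Prime.coprime_iff_not_dvd hr).2 h) h3 h2))).symm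

theorem nc {a b c d : ℕ} (h : ¬ a.Coprime b) (h1 : a ∣ c) (h2 : b ∣ d) : ¬ c.Coprime d :=
  fun e => h ((e.coprime_dvd_left h1).coprime_dvd_right h2)

theorem nc' {a c d : ℕ} (h : a ≠ 1) (h1 : a ∣ c) (h2 : a ∣ d) : ¬ c.Coprime d :=
  fun e => h (Nat.eq_one_of_dvd_coprimes e h1 h2)

theorem idx_eq {G : Type*} [Group G] (N : Subgroup G) : ⁅N, N⁆.relIndex N = (commutator N).index := by
  rw [relIndex, ← N.map_subtype_commutator, subgroupOf,
    comap_map_eq_self_of_injective N.subtype_injective]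

theorem lemF {G : Type*} [Group G] [Finite G] {N : Subgroup G} [N.Normal] [Group.IsSolvable N]
    (hNG : N ≤ commutator G) {b c : ℕ} (hb : b ∈ relCharDegrees N) (hc : c ∈ relCharDegrees N)
    (h1 : ∀ d, Rc N b d → d.Coprime (commutator N).index)
    (h2 : ∀ d, Rc N c d → d.Coprime (commutator N).index) :
    ∃ d ∈ relCharDegrees N, ¬ b.Coprime d ∧ ¬ d.Coprime c := by
  have := Fintype.ofFinite G
  have := Fintype.ofFinite N
  have od : ∀ l : N →* ℂˣ, orderOf l ∣ (commutator N).index := fun l => orderOf_lin_dvd.2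
    (lin_pow_index fun n hn => Abelianization.commutator_subset_ker l hn)
  have nz : ∀ (l : N →* ℂˣ) (p : ℕ), p.Prime → orderOf l = p → (inertia (lf l)).index ≠ 1 :=
    fun l p hp hl m => by
      obtain ⟨d, d1, d2⟩ := lemD hNG hp hl m hb
      exact hp.ne_one (Nat.eq_one_of_dvd_coprimes (h1 d d2) d1 (hl ▸ od l))
  have pw : ∀ (μ : N →* ℂˣ) (χ : G → ℂ), lf μ ≠ (fun _ => 1) → Ov χ (lf μ) → ∃ (l : N →* ℂˣ) (p : ℕ),
      p.Prime ∧ orderOf l = p ∧ (inertia (lf l)).index ∣ charDegree χ := fun μ χ m o => by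
    obtain ⟨p, hp, e⟩ := Nat.exists_prime_and_dvd (mt (orderOf_eq_one_iff (x := μ)).1
      (by rintro rfl; exact m lm_one))
    exact ⟨μ ^ (orderOf μ / p), p, hp, orderOf_pow_orderOf_div
      (fun e => by simpa [e] using orderOf_lin_dvd_card μ) e,
      (idx_pow _).trans ((dvd_mul_right _ _).trans (o.dvd irr_lf))⟩
  have mem : ∀ (θ : N → ℂ) (ψ : G → ℂ), IsIrrCharacter N θ → Ov ψ θ →
      (inertia θ).index * charDegree θ ≠ 1 → charDegree ψ ∈ relCharDegrees N := fun θ ψ a o w =>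
    o.mem a (by rintro rfl; exact w w_one)
  have mix : ∀ (b : ℕ) (l : N →* ℂˣ) (p : ℕ) (θ : N → ℂ) (χ : G → ℂ), b ∈ relCharDegrees N → p.Prime →
      orderOf l = p → (inertia (lf l)).index ∣ b → IsIrrCharacter N θ → Ov χ θ → charDegree θ ≠ 1 →
      (charDegree χ).Coprime (commutator N).index →
      ∃ d ∈ relCharDegrees N, ¬ b.Coprime d ∧ ¬ d.Coprime (charDegree χ) :=
    fun b l p θ χ hb hp hl d1 hθ o t c => by
      have d2 := o.dvd hθ
      by_cases e : (inertia θ).index.Coprime (inertia (lf l)).index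
      · have hθ' : IsIrrCharacter N (lm l θ) := isIrr_lin_mul hθ l
        obtain ⟨ψ, h3⟩ := hθ'.exists_irr_over
        have d3 := Ov.dvd h3 hθ'
        have k := trick hp hθ (hl ▸ pow_orderOf_eq_one l) (nz l p hp hl) (fun e => hp.ne_one
          (Nat.eq_one_of_dvd_coprimes c (e.trans d2) (hl ▸ od l))) e
        refine ⟨_, mem _ ψ hθ' h3 fun e => t ?_, nc (mt Nat.Coprime.symm k) d1
          ((dvd_mul_right _ _).trans d3), nc' t ((dvd_mul_left _ _).trans (deg_lm (l := l) (θ := θ) ▸ d3))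
          ((dvd_mul_left _ _).trans d2)⟩
        rw [← deg_lm (l := l)]
        exact Nat.eq_one_of_mul_eq_one_left e
      · exact ⟨b, hb, nc' (nz l p hp hl) d1 d1,
          nc (mt Nat.Coprime.symm e) d1 ((dvd_mul_right _ _).trans d2)⟩
  have b1 := h1 b ⟨hb, hb, SimpleGraph.Reachable.refl _⟩
  have c1 := h2 c ⟨hc, hc, SimpleGraph.Reachable.refl _⟩
  obtain ⟨χ, θ, hθ, o1, θ1, rfl⟩ := exists_under hb
  obtain ⟨ψ, φ, hφ, o2, φ1, rfl⟩ := exists_under hc
  by_cases t1 : charDegree θ = 1 <;> by_cases t2 : charDegree φ = 1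
  · obtain ⟨l, rfl⟩ := lin_of hθ t1
    obtain ⟨μ, rfl⟩ := lin_of hφ t2
    obtain ⟨l, p, hp, hl, d1⟩ := pw l χ θ1 o1
    obtain ⟨μ, q, hq, hμ, d2⟩ := pw μ ψ φ1 o2
    obtain ⟨ξ, h3⟩ := (irr_lf (l := l * μ)).exists_irr_over
    have d3 := (dvd_mul_right _ _).trans (Ov.dvd h3 irr_lf)
    have m1 := nz l p hp hl
    have m2 := nz μ q hq hμ
    by_cases e : (inertia (lf μ)).index.Coprime (inertia (lf l)).index
    swap
    · exact ⟨_, hb, nc' m1 d1 d1, nc (mt Nat.Coprime.symm e) d1 d2⟩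
    obtain ⟨k1, k2⟩ : ¬ (inertia (lf (l * μ))).index.Coprime (inertia (lf l)).index ∧
        ¬ (inertia (lf (l * μ))).index.Coprime (inertia (lf μ)).index := by
      by_cases pq : p = q
      · subst pq
        have k1 := trick hp irr_lf (hl ▸ pow_orderOf_eq_one l) m1 (fun e => hp.ne_one
          (Nat.eq_one_of_dvd_coprimes c1 (by rw [deg_lf, mul_one] at e; exact e.trans d2) (hl ▸ od l))) e
        have k2 := trick hp irr_lf (hμ ▸ pow_orderOf_eq_one μ) m2 (fun e => hp.ne_one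
          (Nat.eq_one_of_dvd_coprimes b1 (by rw [deg_lf, mul_one] at e; exact e.trans d1) (hl ▸ od l)))
          e.symm
        rw [lm_lm] at k1 k2
        rw [uh_mul_comm] at k2
        exact ⟨k1, k2⟩
      · have co : (orderOf l).Coprime (orderOf μ) := by
          rw [hl, hμ]; exact (Nat.coprime_primes hp hq).2 pq
        have k2 := idx_mul co.symm
        rw [uh_mul_comm] at k2
        exact ⟨nc' m1 (idx_mul co) dvd_rfl, nc' m2 k2 dvd_rfl⟩
    exact ⟨_, mem _ ξ irr_lf h3 fun e => k1 (by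
      rw [Nat.eq_one_of_mul_eq_one_right e]; exact Nat.coprime_one_left _),
      nc (mt Nat.Coprime.symm k1) d1 d3, nc k2 d3 d2⟩
  · obtain ⟨l, rfl⟩ := lin_of hθ t1
    obtain ⟨l, p, hp, hl, d1⟩ := pw l χ θ1 o1
    exact mix _ l p φ ψ hb hp hl d1 hφ o2 t2 c1
  · obtain ⟨l, rfl⟩ := lin_of hφ t2
    obtain ⟨l, p, hp, hl, d1⟩ := pw l ψ φ1 o2
    obtain ⟨d, a1, a2, a3⟩ := mix _ l p θ χ hc hp hl d1 hθ o1 t1 b1
    exact ⟨d, a1, mt Nat.Coprime.symm a3, mt Nat.Coprime.symm a2⟩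
  have d1 := (dvd_mul_left _ _).trans (o1.dvd hθ)
  have d2 := (dvd_mul_left _ _).trans (o2.dvd hφ)
  have K0 : commutator N ≠ ⊥ := fun e => t1 (Nat.eq_one_of_dvd_coprimes b1 d1 (by
    rw [e, index_bot]; exact (deg_dvd_index_ker hθ).trans (index_dvd_card _)))
  obtain ⟨r, hr, r1⟩ := Nat.exists_prime_and_dvd (n := ⁅commutator N, commutator N⁆.relIndex (commutator N))
    fun e => (Group.IsSolvable.commutator_lt_of_ne_bot K0).not_ge (relIndex_eq_one.1 e)
  have := Fintype.ofFinite (commutator N)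
  obtain ⟨τ, hτ⟩ := exists_ord hr r1
  have k : ∀ (χ : G → ℂ) (θ : N → ℂ), IsIrrCharacter N θ → Ov χ θ → charDegree θ ≠ 1 →
      charDegree χ ∈ relCharDegrees N → (∀ d, Rc N (charDegree χ) d → d.Coprime (commutator N).index) →
      r ∣ charDegree χ := fun χ θ hθ o t hb h => by
    have d1 := (dvd_mul_left _ _).trans (o.dvd hθ)
    by_contra e
    obtain ⟨η, e1, e2, e3⟩ := lemE hθ ((h _ ⟨hb, hb, SimpleGraph.Reachable.refl _⟩).coprime_dvd_left d1)
      hr hτ fun h => e (h.trans d1)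
    obtain ⟨ξ, h3⟩ := e1.exists_irr_over
    have d3 := (dvd_mul_left _ _).trans (Ov.dvd h3 e1)
    exact nc e3 d3 dvd_rfl (h _ (rc_of hb (mem _ ξ e1 h3 fun e => t (Nat.dvd_one.1
      (Nat.eq_one_of_mul_eq_one_left e ▸ e2))) d1 (e2.trans d3) t))
  have k1 := k χ θ hθ o1 t1 hb h1
  exact ⟨_, hb, nc' hr.ne_one k1 k1, nc' hr.ne_one k1 (k ψ φ hφ o2 t2 hc h2)⟩

/-- Let N be a solvable normal subgroup of the finite group G contained in the derived subgroup of G, and consider the common-divisor graph on the relative degree set cd(G|N) (degrees of irreducible complex characters of G whose kernel does not contain N, two distinct degrees adjacent when not coprime). If this graph has two vertices that are not joined by any path, then there is a vertex a₀ such that any two distinct vertices in the component of a₀ are adjacent, and any two distinct vertices outside that component are adjacent or have a common neighbour (one component is complete,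 the other has diameter at most 2). -/
theorem result {G : Type*} [Group G] [Finite G] (N : Subgroup G) [N.Normal] [Group.IsSolvable N] (hNG : N ≤ commutator G) (hdisc : ¬ (Cfsg.commonDivisorGraph.induce (Cfsg.relCharDegrees N)).Preconnected) : ∃ a₀ : ↥(Cfsg.relCharDegrees N), (∀ b c : ↥(Cfsg.relCharDegrees N), (Cfsg.commonDivisorGraph.induce (Cfsg.relCharDegrees N)).Reachable a₀ b → (Cfsg.commonDivisorGraph.induce (Cfsg.relCharDegrees N)).Reachable a₀ c → b ≠ c → (Cfsg.commonDivisorGraph.induce (Cfsg.relCharDegrees N)).Adj b c) ∧ (∀ b c : ↥(Cfsg.relCharDegrees N), ¬ (Cfsg.commonDivisorGraph.induce (Cfsg.relCharDegrees N)).Reachable a₀ b → ¬ (Cfsg.commonDivisorGraph.induce (Cfsg.relCharDegrees N)).Reachable a₀ c → b ≠ c → (Cfsg.commonDivisorGraph.induce (Cfsg.relCharDegrees N)).Adj b c ∨ ∃ d : ↥(Cfsg.relCharDegrees N), (Cfsg.commonDivisorGraph.induce (Cfsg.relCharDegrees N)).Adj b d ∧ (Cfsg.commonDivisorGraph.induce (Cfsg.relCharDegrees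 N)).Adj d c) := by
  have := Fintype.ofFinite G
  have := Fintype.ofFinite N
  obtain ⟨⟨a, ha⟩, ⟨b, hb⟩, h⟩ : ∃ a b, ¬ (commonDivisorGraph.induce (relCharDegrees N)).Reachable a b := by
    simpa [SimpleGraph.Preconnected] using hdisc
  have hN : ⁅N, N⁆ < N := CfsgH1.commutator_self_lt (by
    rintro rfl
    obtain ⟨χ, ⟨x, hx, e⟩, -⟩ := ha
    exact e (by rw [mem_bot.1 hx]))
  have R := (S4776.result N hN hNG).2
  obtain ⟨p, hp, p1⟩ := Nat.exists_prime_and_dvd (n := ⁅N, N⁆.relIndex N)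
    fun e => hN.not_ge (relIndex_eq_one.1 e)
  obtain ⟨a, ha, b, hb, h, h1, h2⟩ : ∃ a ha b hb,
      ¬ (commonDivisorGraph.induce (relCharDegrees N)).Reachable ⟨a, ha⟩ ⟨b, hb⟩ ∧
      a.Coprime (⁅N, N⁆.relIndex N) ∧ p ∣ b := by
    rcases R a b ha hb h with e | e
    exacts [⟨a, ha, b, hb, h, e.1, e.2 p hp p1⟩, ⟨b, hb, a, ha, fun e => h e.symm, e.1, e.2 p hp p1⟩]
  have adj : ∀ b c : relCharDegrees N, b ≠ c → ¬ b.1.Coprime c →
      (commonDivisorGraph.induce (relCharDegrees N)).Adj b c := fun b c e h => by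
    refine ⟨fun e' => e (Subtype.ext e'), show 1 < Nat.gcd b.1 c.1 from ?_⟩
    obtain ⟨χ, -, e⟩ := b.2
    have := Nat.gcd_pos_of_pos_left c.1 (e ▸ charDegree_pos χ.2 : 0 < b.1)
    unfold Nat.Coprime at h
    omega
  refine ⟨⟨b, hb⟩, fun c d r1 r2 e => adj c d e ?_, fun c d r1 r2 e => ?_⟩
  · have k : ∀ c, (commonDivisorGraph.induce (relCharDegrees N)).Reachable ⟨b, hb⟩ c → p ∣ c.1 :=
      fun c r => ((R a c ha c.2 fun e => h (e.trans r.symm)).resolve_right fun e => hp.ne_one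
        (Nat.eq_one_of_dvd_coprimes h1 (e.2 p hp p1) p1)).2 p hp p1
    exact nc' hp.ne_one (k c r1) (k d r2)
  have k : ∀ c : relCharDegrees N, ¬ (commonDivisorGraph.induce (relCharDegrees N)).Reachable ⟨b, hb⟩ c →
      ∀ d, Rc N c d → d.Coprime (commutator N).index := fun c r d ⟨_, hd, e⟩ =>
    idx_eq N ▸ ((R b d hb hd fun e' => r (e'.trans e.symm)).resolve_left fun e => hp.ne_one
      (Nat.eq_one_of_dvd_coprimes e.1 h2 p1)).1
  obtain ⟨x, hx, x1, x2⟩ := lemF hNG c.2 d.2 (k c r1) (k d r2)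
  by_cases e1 : c = ⟨x, hx⟩
  · exact Or.inl (adj c d e (by rw [e1]; exact x2))
  by_cases e2 : ⟨x, hx⟩ = d
  · exact Or.inl (adj c d e (by rw [← e2]; exact x1))
  exact Or.inr ⟨⟨x, hx⟩, adj _ _ e1 x1, adj _ _ e2 x2⟩


end Cfsg.Agent.S4779
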