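import Cfsg.Statements.S4811
import Cfsg.Agent.H3.Cd5

set_option autoImplicit false
open Cfsg

open Cfsg CfsgH3 CfsgH4 CfsgCd Function Subgroup

namespace Cfsg.Agent.S4811

/-- For every finite solvable group G the character degree graph of G (vertices: the primes dividing some irreducible complex character degree; edges: distinct primes whose product divides some degree) has at most two connected components. -/
theorem result {G : Type*} [Group G] [Finite G] [Group.IsSolvable G] : Nat.card ((Cfsg.degreeGraph G).induce (Cfsg.degreePrimes G)).ConnectedComponent ≤ 2 := by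
  classical
  obtain ⟨r, p, hr, hp, h⟩ := two_primes (G := G)
  have key : ∀ (q : degreePrimes G) (s : ℕ), s.Prime → (∃ ψ, IsIrrCharacter G ψ ∧ q.1 ∣ charDegree ψ ∧ s ∣ charDegree ψ) →
      ∃ hs : s ∈ degreePrimes G, ((degreeGraph G).induce (degreePrimes G)).connectedComponentMk ⟨s, hs⟩ =
        ((degreeGraph G).induce (degreePrimes G)).connectedComponentMk q := by
    rintro q s hs ⟨ψ, hψ, h1, h2⟩
    refine ⟨⟨hs, _, ⟨⟨ψ, hψ⟩, rfl⟩, h2⟩, ?_⟩
    by_cases e : s = q
    · exact congrArg _ (Subtype.ext e)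
    · exact SimpleGraph.ConnectedComponent.connectedComponentMk_eq_of_adj ⟨e, hs, q.2.1, _, ⟨⟨ψ, hψ⟩, rfl⟩,
        ((Nat.coprime_primes hs q.2.1).2 e).mul_dvd_of_dvd_of_dvd h2 h1⟩
  have h2 : ∀ c, (∃ hs : r ∈ degreePrimes G, ((degreeGraph G).induce (degreePrimes G)).connectedComponentMk ⟨r, hs⟩ = c) ∨
      ∃ hs : p ∈ degreePrimes G, ((degreeGraph G).induce (degreePrimes G)).connectedComponentMk ⟨p, hs⟩ = c := by
    refine SimpleGraph.ConnectedComponent.ind fun q => ?_
    obtain ⟨_, ⟨χ, rfl⟩, hd⟩ := q.2.2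
    exact (h q χ q.2.1 χ.2 hd).imp (key q r hr) (key q p hp)
  refine (Nat.card_le_card_of_injective (fun c => ∃ hs : r ∈ degreePrimes G,
    ((degreeGraph G).induce (degreePrimes G)).connectedComponentMk ⟨r, hs⟩ = c) fun a b e => ?_).trans (by simp)
  rcases h2 a with ha | ⟨_, rfl⟩
  · obtain ⟨_, rfl⟩ := e.to_iff.1 ha
    exact ha.2.symm
  rcases h2 b with hb | ⟨_, rfl⟩
  · obtain ⟨_, h⟩ := e.to_iff.2 hb
    exact h.symm.trans hb.2
  · rfl


end Cfsg.Agent.S4811
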