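import Cfsg.Statements.S4840
import Cfsg.Agent.S4835
import Cfsg.Agent.H8.FC6
import Cfsg.Agent.H4.Tate
import Cfsg.Agent.H3.Dg
import Cfsg.Agent.H1.Cores
import Cfsg.Agent.H1.Cop2

set_option autoImplicit false
open Cfsg

open CfsgH2 Function Subgroup
open CfsgH3 hiding cj
open CfsgH4 hiding cent_le_norm cent_sup
open scoped commutatorElement IsMulCommutative

namespace Cfsg.Agent.S4840
theorem lemB {H : Type*} [Group H] [Finite H] [hs : Group.IsSolvable H] {p : ℕ} [hp : Fact p.Prime]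
    (hO : O[{p}, (⊤ : Subgroup H)] = ⊥)
    (h1 : ∀ r : ℕ, r.Prime → r ≠ p → ∀ S : Subgroup H, IsPGroup r S →
      IsCyclic S ∨ (r = 2 ∧ ∃ a b m, CfsgH4.GQ S a b m))
    {y : H} (hy : y ∈ commutator H) (oy : orderOf y = p) :
    p = 3 ∧ 16 ∣ Nat.card H ∧ ∃ f : H →* Equiv.Perm (Fin 4),
      (∀ u ∈ commutator H, ∀ v ∈ commutator H, u ^ 3 = 1 → v ^ 3 = 1 → f u = f v → u = v) ∧
      ∀ u ∈ commutator H, u ^ 3 = 1 → u ≠ 1 → ∃ q k, u⁻¹ * (q * u * q⁻¹) ≠ 1 ∧
        (u⁻¹ * (q * u * q⁻¹)) ^ 2 ^ k = 1 := by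
  have c1 : ∀ S : Subgroup H, S.Normal → IsCyclic S → commutator H ≤ C[S] := fun S hS hc =>
    commutator_le_cent_of_cyclic hc (top_le_norm_iff.2 hS)
  have c2 : ∀ (r : ℕ) [Fact r.Prime], r ≠ 2 → commutator H ≤ C[O[{r}, (⊤ : Subgroup H)]] :=
    fun r hr h2 => by
    by_cases e : r = p
    · subst e; rw [hO, cent_bot]; exact le_top
    · exact c1 _ inferInstance ((h1 r hr.out e _ isPGroup_piCoreOf).resolve_right fun h => h2 h.1)
  set Q := O[{2}, (⊤ : Subgroup H)] with hQ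
  have c3 : ∀ z ∈ commutator H, z ∈ C[Q] → z ∈ F[(⊤ : Subgroup H)] := fun z hz hc =>
    cent_fit_le inferInstance ⟨mem_top z, le_cent1_iff.1 (fit_le_of_cores fun r _ _ => by
      by_cases e : r = 2
      · subst e; exact le_cent1_iff.2 hc
      · exact le_cent1_iff.2 (c2 r e hz))⟩
  have c4 : ∀ z ∈ commutator H, z ∈ C[Q] → z ^ p = 1 → z = 1 := fun z hz hc h => by
    have := nil_mem_core (π := {p}) fit_nil (c3 z hz hc)
      ((PiN.of_prime hp.out (Set.mem_singleton p)).of_dvd (orderOf_dvd_of_pow_eq_one h))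
    rwa [core_fit, hO, mem_bot] at this
  have y1 : y ≠ 1 := fun e => hp.out.ne_one (by rw [← oy, e, orderOf_one])
  have yc : y ∉ C[Q] := fun h => y1 (c4 y hy h (oy ▸ pow_orderOf_eq_one y))
  have p2 : p ≠ 2 := by
    rintro rfl
    exact yc (by rw [hQ, hO, cent_bot]; exact mem_top _)
  obtain ⟨-, a, b, m, q⟩ := (h1 2 Nat.prime_two p2.symm Q isPGroup_piCoreOf).resolve_left
    fun h => yc (c1 _ inferInstance h hy)
  have od : Odd (orderOf y) := oy ▸ hp.out.odd_of_ne_two p2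
  have nQ : ∀ g : H, g ∈ N[Q] := fun g => top_le_norm_iff.2 inferInstance (mem_top g)
  obtain rfl := CfsgH8.FC.GQ_one q od (nQ y) yc
  have p3 : 3 = p := (Nat.prime_dvd_prime_iff_eq Nat.prime_three hp.out).1
    (oy ▸ CfsgH8.FC.three_dvd q od (nQ y) yc)
  subst p3
  obtain ⟨f, hf, h12⟩ := CfsgH8.FC.q8_hom' q od yc
  have tc : ∀ g : H, a ^ 2 ^ 1 ∈ C1[g] := fun g => by
    have := q.eq_of_two (conj_mem_of_norm (nQ g) q.tmem) (by rw [CfsgH2.orderOf_conj', q.ord_t])
    exact mem_centralizer_singleton_iff.2 (mul_inv_eq_iff_eq_mul.1 this).symm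
  refine ⟨rfl, ?_, f, fun u hu v hv u3 v3 e => ?_, fun u hu u3 u1 => ?_⟩
  · rcases CfsgH8.FC.alt_or_top f (by
      rw [hf]; exact (by decide : Nat.factorial 4 ∣ 2 * 12).trans (mul_dvd_mul_left _ h12)) with
      ⟨g, h2, h3⟩ | h2
    · refine absurd ?_ yc
      have h4 : g y ∈ alternatingGroup.kleinFour (Fin 4) := by
        rw [alternatingGroup.kleinFour_eq_commutator (by simp), _root_.commutator_def,
          ← map_top_of_surjective g h2, ← map_commutator]
        exact mem_map_of_mem g hy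
      have h5 := orderOf_dvd_of_mem h4
      rw [alternatingGroup.kleinFour_card_of_card_eq_four (by simp)] at h5
      rw [← hf, ← h3, MonoidHom.mem_ker, ← orderOf_eq_one_iff]
      exact Nat.eq_one_of_dvd_coprimes (by norm_num : Nat.Coprime 4 3) h5
        (oy ▸ orderOf_map_dvd g y)
    · have h3 := CfsgH8.FC.index_of_surj h2
      rw [hf, Nat.card_perm, Nat.card_fin] at h3
      have h4 : orderOf (a ^ 2 ^ 1) ∣ o[C[Q]] := orderOf_dvd_of_mem
        (mem_cent_iff.2 fun g _ => (mem_centralizer_singleton_iff.1 (tc g)).symm)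
      rw [← C[Q].card_mul_index, h3, q.ord_t] at *
      exact mul_dvd_mul h4 (by decide : 8 ∣ Nat.factorial 4)
  · have hz : u⁻¹ * v ∈ commutator H := mul_mem (inv_mem hu) hv
    have hc : u⁻¹ * v ∈ C[Q] := by
      rw [← hf, MonoidHom.mem_ker, map_mul, map_inv, e, inv_mul_cancel]
    have hF := zpowers_le.2 (c3 _ hz hc)
    have h2 : zpowers (u⁻¹ * v) ≤ C1[u] := nil_le_of_cores inferInstance fun r _ _ w hw => by
      have h3 := core_fit_le (nil_core_mono fit_nil hF hw)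
      by_cases e : r = 2
      · subst e
        rcases q.eq_of_sq h3 (q.sq_of_cent h3 (zpowers_le.2 hc (piCoreOf_le hw))) with rfl | rfl
        exacts [one_mem _, tc u]
      · exact le_cent1_iff.2 (c2 r e hu) h3
    have h3 : Commute (u⁻¹ * v) u := mem_centralizer_singleton_iff.1 (h2 (mem_zpowers _))
    have h4 : Commute u⁻¹ v := by
      have := ((Commute.refl u).mul_left h3).inv_right
      rw [mul_inv_cancel_left] at this
      exact this.symm
    exact inv_mul_eq_one.1 (c4 _ hz hc (by rw [h4.mul_pow, inv_pow, u3, v3]; simp))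
  · obtain ⟨w, hw, h2⟩ : ∃ w ∈ Q, w * u ≠ u * w := by
      by_contra! h
      exact u1 (c4 u hu (mem_cent_iff.2 h) u3)
    have h3 : u⁻¹ * (w * u * w⁻¹) ∈ Q := by
      have := mul_mem (conj_mem_of_norm' (nQ u) hw) (inv_mem hw)
      simpa only [mul_assoc] using this
    obtain ⟨k, hk⟩ := pgroup_pow_eq_one isPGroup_piCoreOf h3
    exact ⟨w, k, fun e => h2 (mul_inv_eq_iff_eq_mul.1 (inv_mul_eq_one.1 e).symm), hk⟩

theorem lemC {G H : Type*} [Group G] [Finite G] [Group H] [Finite H] {N : Subgroup G} [hN : N.Normal]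
    (h0 : N ≠ ⊥) (hA : IsMulCommutative N) (hP : IsPGroup 3 N)
    (tr : ∀ x ∈ N, ∀ y ∈ N, x ≠ 1 → y ≠ 1 → ∃ g : G, g * x * g⁻¹ = y)
    (st : ∀ x ∈ N, x ≠ 1 → IsPGroup 3 C1[x]) {π : G →* H} (hπ : Surjective π)
    (k1 : π.ker ≤ C[N]) (k2 : IsPGroup 3 π.ker) {y : H} (hy : y ∈ commutator H) (oy : orderOf y = 3)
    (h16 : 16 ∣ Nat.card H) (f : H →* Equiv.Perm (Fin 4))
    (f1 : ∀ u ∈ commutator H, ∀ v ∈ commutator H, u ^ 3 = 1 → v ^ 3 = 1 → f u = f v → u = v)
    (f2 : ∀ u ∈ commutator H, u ^ 3 = 1 → u ≠ 1 → ∃ q k, u⁻¹ * (q * u * q⁻¹) ≠ 1 ∧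
        (u⁻¹ * (q * u * q⁻¹)) ^ 2 ^ k = 1) : False := by
  classical
  haveI : Fact (Nat.Prime 3) := ⟨Nat.prime_three⟩
  have := Fintype.ofFinite G
  have n3 := dvd_card_of_pgroup hP h0
  have ix : ∀ x ∈ N, x ≠ 1 → C1[x].index + 1 = o[N] := fun x hx x1 => by
    rw [← CfsgH8.ncard_conj_eq_index, ← Set.ncard_insert_of_notMem (a := 1)
      fun h => x1 (isConj_one_left.1 h)]
    refine congrArg Set.ncard (Set.ext fun z => ⟨?_, fun hz => or_iff_not_imp_left.2 fun z1 =>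
      isConj_iff.2 (tr x hx z hz x1 z1)⟩ : _ = (N : Set G))
    rintro (rfl | h)
    · exact N.one_mem
    · obtain ⟨c, rfl⟩ := isConj_iff.1 h
      exact hN.conj_mem _ hx c
  obtain ⟨x0, hx0, x1⟩ := exists_ne_one h0
  have d16 : 16 ∣ C1[x0].index := by
    have h1 := h16.trans (card_dvd_of_surjective π hπ)
    rw [← C1[x0].card_mul_index] at h1
    obtain ⟨k, hk⟩ := (IsPGroup.iff_card).1 (st x0 hx0 x1)
    exact (hk ▸ Nat.Coprime.pow_right k (by norm_num) : Nat.Coprime 16 _).dvd_of_dvd_mul_left h1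
  obtain ⟨y, rfl⟩ := hπ y
  have y3 : π y ^ 3 = 1 := oy ▸ pow_orderOf_eq_one _
  have y1 : π y ≠ 1 := fun e => by simp [e] at oy
  obtain ⟨j, hj⟩ := pgroup_pow_eq_one k2 (x := y ^ 3) (by rw [MonoidHom.mem_ker, map_pow, y3])
  rw [← pow_mul, ← pow_succ'] at hj
  have ex : ∀ x : G, ∃ g, x ∈ N → x ≠ 1 →
      g ∈ C1[x] ∧ π g ∈ commutator H ∧ π g ^ 3 = 1 ∧ π g ≠ 1 := fun x => by
    by_cases hx : x ∈ N ∧ x ≠ 1
    · have sy : Syl 3 C1[x] ⊤ := ⟨le_top, st x hx.1 hx.2, fun h => by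
        rw [relIndex_top_right] at h
        have := ix x hx.1 hx.2
        omega⟩
      obtain ⟨c, -, hc⟩ := sy.exists_conj_le (isPGroup_zpowers hj) le_top
      refine ⟨c * y * c⁻¹, fun _ _ => ⟨hc (conj_mem_map_cj (mem_zpowers y)), ?_, ?_, ?_⟩⟩ <;>
        simp only [map_mul, map_inv]
      · exact Normal.conj_mem inferInstance _ hy _
      · rw [conj_pow, y3]; simp
      · simpa using y1
    · exact ⟨1, fun a b => absurd ⟨a, b⟩ hx⟩
  choose g hg using ex
  have sq : ∀ u : G, π u ∈ commutator H → π u ^ 3 = 1 → π u ≠ 1 →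
      o[N ⊓ C1[u]] * o[N ⊓ C1[u]] ≤ o[N] := fun u a b c => by
    obtain ⟨q, k, h1, h2⟩ := f2 _ a b c
    obtain ⟨q, rfl⟩ := hπ q
    have h3 : o[N ⊓ C1[q * u * q⁻¹]] = o[N ⊓ C1[u]] := by
      rw [centralizer_conj, ← card_map_cj q (N ⊓ C1[u]), map_cj_inf, map_cj_normal q N]
    nth_rewrite 2 [← h3]
    rw [← card_sup_of_disj (Or.inl (le_norm_of_le_cent
      (inf_le_left.trans (le_cent_of_comm hA inf_le_left))))]
    · exact card_le_of_le (sup_le inf_le_left inf_le_left)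
    refine eq_bot_iff.2 fun x ⟨⟨s1, s2⟩, _, s3⟩ => by_contra fun x1 => h1 ?_
    have s4 : u⁻¹ * (q * u * q⁻¹) ∈ C1[x] := mul_mem (inv_mem
      (mem_centralizer_singleton_iff.2 (mem_centralizer_singleton_iff.1 s2).symm))
      (mem_centralizer_singleton_iff.2 (mem_centralizer_singleton_iff.1 s3).symm)
    obtain ⟨i, hi⟩ := pgroup_pow_eq_one (st x s1 x1) s4
    have s5 := congrArg π hi
    simp only [map_pow, map_mul, map_inv, map_one] at s5
    exact orderOf_eq_one_iff.1 (Nat.eq_one_of_dvd_coprimes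
      (Nat.Coprime.pow k i (by norm_num : Nat.Coprime 2 3)) (orderOf_dvd_of_pow_eq_one h2)
      (orderOf_dvd_of_pow_eq_one s5))
  have cd : ∀ L : Subgroup G, (Finset.univ.filter fun x => x ∈ L ∧ x ≠ 1).card + 1 = o[L] := fun L => by
    rw [← Finset.card_insert_of_notMem (a := 1) (by simp), Nat.card_eq_fintype_card,
      Fintype.card_subtype]
    refine congrArg _ (Finset.ext fun z => ?_)
    by_cases e : z = 1 <;> simp [e]
  have cov : ∀ s : ℕ, (∀ u : G, π u ∈ commutator H → π u ^ 3 = 1 → π u ≠ 1 → o[N ⊓ C1[u]] ≤ s + 1) →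
      C1[x0].index ≤ s * 8 := fun s hs => by
    have h1 := Finset.card_le_mul_card_image_of_maps_to
      (s := Finset.univ.filter fun x => x ∈ N ∧ x ≠ 1)
      (t := Finset.univ.filter fun σ : Equiv.Perm (Fin 4) => σ ^ 3 = 1 ∧ σ ≠ 1)
      (f := fun x => f (π (g x))) (fun x hx => ?_) s fun σ _ => ?_
    · have h2 := cd N
      have h3 := ix x0 hx0 x1
      rw [show (Finset.univ.filter fun σ : Equiv.Perm (Fin 4) => σ ^ 3 = 1 ∧ σ ≠ 1).card = 8 by
        decide] at h1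
      omega
    · simp only [Finset.mem_filter, Finset.mem_univ, true_and] at hx ⊢
      obtain ⟨-, a, b, c⟩ := hg x hx.1 hx.2
      exact ⟨by rw [← map_pow, b, map_one], fun e => c (f1 _ a 1 (one_mem _) b (one_pow _)
        (e.trans f.map_one.symm))⟩
    · rcases (Finset.filter (fun x => f (π (g x)) = σ)
        (Finset.univ.filter fun x => x ∈ N ∧ x ≠ 1)).eq_empty_or_nonempty with e | ⟨z, hz⟩
      · rw [e]; simp
      simp only [Finset.mem_filter, Finset.mem_univ, true_and] at hz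
      obtain ⟨a0, a, b, c⟩ := hg z hz.1.1 hz.1.2
      have h2 := cd (N ⊓ C1[g z])
      have h3 := hs _ a b c
      refine (Finset.card_le_card (t := Finset.univ.filter fun x => x ∈ N ⊓ C1[g z] ∧ x ≠ 1)
        fun w hw => ?_).trans (by omega)
      simp only [Finset.mem_filter, Finset.mem_univ, true_and] at hw ⊢
      obtain ⟨a1, a', b', -⟩ := hg w hw.1.1 hw.1.2
      have h4 : (g w)⁻¹ * g z ∈ π.ker := by
        rw [MonoidHom.mem_ker, map_mul, map_inv, f1 _ a' _ a b' b (hw.2.trans hz.2.symm), inv_mul_cancel]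
      have h5 := mul_mem a1 (cent_le_cent1 hw.1.1 (k1 h4))
      rw [mul_inv_cancel_left] at h5
      exact ⟨⟨hw.1.1, mem_centralizer_singleton_iff.2 (mem_centralizer_singleton_iff.1 h5).symm⟩, hw.1.2⟩
  have e0 := ix x0 hx0 x1
  have e1 : ∀ u : G, π u ∈ commutator H → π u ^ 3 = 1 → π u ≠ 1 →
      o[N ⊓ C1[u]] ≤ o[N].sqrt := fun u a b c => Nat.le_sqrt.2 (sq u a b c)
  have e2 := cov (o[N].sqrt - 1) fun u a b c => (e1 u a b c).trans (by omega)
  have e3 := Nat.sqrt_le o[N]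
  have e4 : o[N].sqrt ≤ 7 := by
    generalize o[N].sqrt = s at e2 e3
    rcases s with _ | s
    · omega
    · simp only [add_tsub_cancel_right] at e2
      nlinarith
  have e5 := cov 2 fun u a b c => by
    obtain ⟨k, hk⟩ := IsPGroup.iff_card.1 (hP.to_le (inf_le_left : N ⊓ C1[u] ≤ N))
    have := (e1 u a b c).trans e4
    rw [hk] at this ⊢
    rcases k with _ | _ | k
    · simp
    · simp
    · rw [pow_succ, pow_succ] at this
      have := Nat.pos_of_ne_zero (pow_ne_zero k three_ne_zero)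
      omega
  have e6 := index_pos C1[x0]
  omega

/-- Let G be a finite solvable group of order greater than 2 with an irreducible character nonzero on exactly two conjugacy classes. Then there is exactly one prime p with O_p(G) ≠ 1, and the quotient G/O_p(G) has a normal p-complement and commutative Sylow p-subgroups. -/
theorem result {G : Type*} [Group G] [Finite G] [hs : Group.IsSolvable G] (hG : 2 < Nat.card G) (χ : Cfsg.IrrCharacter G) (hχ : Nat.card {C : ConjClasses G // ∃ g ∈ C.carrier, (χ : G → ℂ) g ≠ 0} = 2) :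
    ∃ p : ℕ, p.Prime ∧ (∀ q : ℕ, q.Prime → (Cfsg.pCore q G ≠ ⊥ ↔ q = p)) ∧
      Cfsg.HasNormalPComplement p (G ⧸ Cfsg.pCore p G) ∧ ∀ Q : Sylow p (G ⧸ Cfsg.pCore p G), IsMulCommutative (Q : Subgroup (G ⧸ Cfsg.pCore p G)) := by
  obtain ⟨N, hN, h0, hm, ⟨p, hp, hA, he⟩, hs1, tr⟩ := S4835.result hG χ hχ
  haveI := Fact.mk hp
  obtain ⟨x, x1, -, h2, -, h3⟩ := S4835.core hG χ.2 hχ
  have hx : x ∈ N := (hs1 x).1 ((h2 x).2 (Or.inr (IsConj.refl x)))
  have hP : IsPGroup p N := isPGroup_of_exp he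
  have cam : ∀ g, g ∉ N → ∀ z ∈ N, IsConj g (g * z) := fun g hg z hz =>
    CfsgH3.isConj_of_irr_eq fun ψ hψ => by
      by_cases e : ψ = χ.1
      · subst e
        rw [of_not_not (mt (hs1 g).1 hg), of_not_not (mt (hs1 _).1 (mt (mul_mem_cancel_right hz).1 hg))]
      by_cases z1 : z = 1
      · rw [z1, mul_one]
      obtain ⟨c, rfl⟩ := tr x hx z hz x1 z1
      exact (hψ.isCharacter.apply_mul_of_eq ((hψ.isClassFunction _ _).trans (h3 ψ hψ e)) g).symm
  have st : ∀ z ∈ N, z ≠ 1 → IsPGroup p C1[z] := fun z hz z1 => isPGroup_iff_piN.2 fun q hq hd => by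
    obtain ⟨g, hg, ho⟩ := exists_prime_order_mem hq hd
    by_contra e
    have co : q.Coprime p := (Nat.coprime_primes hq hp).2 e
    have h4 := CfsgH3.orderOf_eq_of_isConj (cam g (fun h => hq.ne_one (Nat.eq_one_of_dvd_coprimes co
      dvd_rfl (ho ▸ orderOf_dvd_of_pow_eq_one (he g h)))) z hz)
    have h5 := pow_orderOf_eq_one (g * z)
    rw [← h4, Commute.mul_pow (mem_centralizer_singleton_iff.1 hg), pow_orderOf_eq_one, one_mul, ho] at h5
    exact z1 (orderOf_eq_one_iff.1 (Nat.eq_one_of_dvd_coprimes co (orderOf_dvd_of_pow_eq_one h5)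
      (orderOf_dvd_of_pow_eq_one (he z hz))))
  have hR : IsPGroup p (pCore p G) := by rw [pCore_eq']; exact isPGroup_piCoreOf
  have hNR : N ≤ pCore p G := le_sSup ⟨hN, hP⟩
  have k1 : pCore p G ≤ C[N] := le_centralizer_iff.1 ((hm _ inferInstance
    (inf_cent_ne_bot' hR hP (le_top.trans (top_le_norm_iff.2 hN)) h0)).trans inf_le_right)
  have hk := QuotientGroup.ker_mk' (pCore p G)
  have hπ := QuotientGroup.mk'_surjective (pCore p G)
  have key : ∀ y ∈ commutator (G ⧸ pCore p G), ∀ Q : Sylow p (G ⧸ pCore p G), y ∈ Q.1 → y = 1 := by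
    intro y hy Q hQ
    by_contra y1
    obtain ⟨w, ⟨w1, -⟩, w2⟩ := exists_prime_order_mem (H := commutator _ ⊓ Q.1) hp
      (dvd_card_of_pgroup (Q.2.to_le inf_le_right) fun e => y1 (by simpa [e] using mem_inf.2 ⟨hy, hQ⟩))
    suffices h1 : ∀ r : ℕ, r.Prime → r ≠ p → ∀ S : Subgroup (G ⧸ pCore p G), IsPGroup r S →
        IsCyclic S ∨ (r = 2 ∧ ∃ a b m, CfsgH4.GQ S a b m) by
      obtain ⟨rfl, a, f, b, c⟩ := lemB (pCore_eq'.symm.trans (CfsgH1.pCore_quotient_pCore p)) h1 w1 w2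
      exact lemC h0 hA hP tr st hπ (hk.symm ▸ k1) (hk.symm ▸ hR) w1 w2 a f b c
    intro r hr e S hS
    haveI := Fact.mk hr
    refine (CfsgDg.tri hS).imp_right fun h => h.resolve_right ?_
    rintro ⟨E, -, e1, e2⟩
    obtain ⟨T, hT⟩ := exists_syl (p := r) (E.comap (QuotientGroup.mk' (pCore p G)))
    have t1 := hT.map (QuotientGroup.mk' (pCore p G))
    rw [map_comap_eq_self_of_surjective hπ] at t1
    have t2 := t1.eq_of_pgroup (isPGroup_of_exp e1.2)
    have t0 : ∀ L : Subgroup G, IsPGroup p L → T ⊓ L = ⊥ := fun L hL =>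
      (IsPGroup.disjoint_of_ne r p e _ _ hT.pg hL).eq_bot
    have t3 := card_map_mul_card_inf_ker (QuotientGroup.mk' (pCore p G)) T
    rw [t2, e2, hk, t0 _ hR, card_bot, mul_one] at t3
    haveI := CfsgH1.isCyclic_of_fpf_comm h0 (le_top.trans (top_le_norm_iff.2 hN))
      (fun u hu u1 => eq_bot_iff.2 fun z hz => by_contra fun z1 => u1 (mem_bot.1 (t0 _ (st z hz.1 z1) ▸
        mem_inf.2 ⟨hu, mem_centralizer_singleton_iff.2 (mem_centralizer_singleton_iff.1 hz.2).symm⟩)))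
      (IsPGroup.isMulCommutative_of_card_eq_prime_sq t3.symm)
    exact not_cyclic_of_elem hr e1 e2 le_rfl (t2 ▸ isCyclic_of_surjective _
      ((QuotientGroup.mk' (pCore p G)).subgroupMap_surjective T))
  refine ⟨p, hp, fun q hq => ⟨fun h => ?_, ?_⟩, ?_, fun Q => ?_⟩
  · haveI := Fact.mk hq
    have h4 : IsPGroup q (pCore q G) := by rw [pCore_eq']; exact isPGroup_piCoreOf
    exact ((isPGroup_iff_piN.1 (h4.to_le (hm _ inferInstance h))) p hp (dvd_card_of_pgroup hP h0)).symm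
  · rintro rfl e
    exact h0 (le_bot_iff.1 (e ▸ hNR))
  · obtain ⟨Q⟩ : Nonempty (Sylow p (G ⧸ pCore p G)) := inferInstance
    refine CfsgH4.npc_of_comm_le Q fun u hu g hg => ?_
    rw [key _ ?_ Q (mul_mem (inv_mem hu) hg)]
    · exact one_mem _
    · have := commutator_mem_commutator (mem_top u⁻¹) (mem_top g)
      simpa [commutatorElement_def, mul_assoc, _root_.commutator_def] using this
  · exact isMulComm_iff.2 fun a ha b hb => commutatorElement_eq_one_iff_mul_comm.1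
      (key _ (commutator_mem_commutator (mem_top a) (mem_top b)) Q
        (mul_mem (mul_mem (mul_mem ha hb) (inv_mem ha)) (inv_mem hb)))


end Cfsg.Agent.S4840
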