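import Cfsg.Statements.S4885
import Cfsg.Agent.H3.Cd4
import Cfsg.Agent.H1.Sep
import Cfsg.Agent.H4.FongP
import Cfsg.Agent.S0081

set_option autoImplicit false
open Cfsg

open Cfsg CfsgH3 CfsgH4 CfsgH1 CfsgCd Function Subgroup
open CfsgH2 hiding cj cj_apply isPGroup_pCore le_pCore isNilpotent_map card_mul_relIndex
open scoped ComplexConjugate commutatorElement CfsgH2

namespace Cfsg.Agent.S4885
theorem lemA0 {G : Type*} [Group G] [Finite G] {p : ℕ} [hp : Fact p.Prime] {P : Subgroup G} (hP : Syl p P ⊤) {x : G}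
    (hx : x ∈ P) (h : x ∉ ⁅P, P⁆) : ∃ χ, IsIrrCharacter G χ ∧ ¬ p ∣ charDegree χ ∧ χ x ≠ χ 1 := by
  haveI := Fintype.ofFinite G
  haveI := Fintype.ofFinite P
  obtain ⟨l, -, h1⟩ := exists_unitsHom_of_not_mem (N := commutator P) (v := ⟨x, hx⟩) (fun a b =>
    commutator_mem_commutator (mem_top a) (mem_top b)) fun e => h (map_subtype_commutator P ▸ ⟨_, e, rfl⟩)
  have hl := isIrr_of_unitsHom l
  obtain ⟨χ, hχ, h2, h3⟩ := exists_constituent_not_dvd (m := p) hl.isCharacter.ind (by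
    rw [deg_indFun hl.isCharacter, (charDegree_eq_one hl.isCharacter).2 (by simp), mul_one, ← relIndex_top_right]
    exact hP.not_dvd_of_le le_rfl)
  rw [classInner_indFun_left _ hχ.isClassFunction, Ne, classInner_eq_zero_comm] at h2
  exact ⟨χ, hχ, h3, fun e => h1 (Units.ext (((hχ.isCharacter.restrict P).apply_eq_of_constituent hl h2
    (g := ⟨x, hx⟩) e).trans (by simp)))⟩

theorem lemC {G : Type*} [Group G] [Finite G] {p : ℕ} [hp : Fact p.Prime] (K : Subgroup G) [K.Normal]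
    (h1 : pPrimeCore p G ≤ K) (h2 : ∀ χ, IsIrrCharacter G χ → (∀ n ∈ pPrimeCore p G, χ n = χ 1) → ¬ p ∣ charDegree χ →
      ∀ k ∈ K, χ k = χ 1) : pPrimeCore p (G ⧸ K) = ⊥ ∧ (p ∣ Nat.card G → K ≠ ⊤) := by
  obtain ⟨P⟩ : Nonempty (Sylow p G) := inferInstance
  have hP := syl_top P
  have key : ∀ (A : Subgroup G) [A.Normal] (x : G), x ∈ (P : Subgroup G) → (orderOf (x : G ⧸ A)).Coprime p → x ∈ A :=
    fun A _ x hx h => (QuotientGroup.eq_one_iff x).1 (eq_one_of_coprime_order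
      (P.isPGroup'.map (QuotientGroup.mk' A)) ⟨x, hx, rfl⟩ h)
  have h3 : K ⊓ P ≤ ⁅(P : Subgroup G), (P : Subgroup G)⁆ := fun x hx => by
    by_contra c
    have hP' := hP.map (QuotientGroup.mk' (pPrimeCore p G))
    rw [← MonoidHom.range_eq_map, QuotientGroup.range_mk'] at hP'
    obtain ⟨β, hβ, h4, h5⟩ := lemA0 hP' (x := x) ⟨x, hx.2, rfl⟩ fun e => by
      rw [← map_commutator] at e
      obtain ⟨y, hy, e⟩ := e
      have := eq_one_of_coprime_order P.isPGroup' (mul_mem (inv_mem ((commutator_le_sup _ _).trans (sup_idem _).le hy)) hx.2)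
        ((coprime_pPrimeCore p).coprime_dvd_left (orderOf_dvd_natCard _ (QuotientGroup.eq.1 e)))
      exact c (inv_mul_eq_one.1 this ▸ hy)
    exact h5 (h2 _ (irr_inflate hβ) (fun n hn => congrArg β ((QuotientGroup.eq_one_iff n).2 hn)) h4 x hx.1)
  refine ⟨?_, fun hd e => ?_⟩
  · let M := (pPrimeCore p (G ⧸ K)).comap (QuotientGroup.mk' K)
    have h4 : (P : Subgroup G) ⊓ M ≤ K := fun x hx => key K x hx.1
      ((coprime_pPrimeCore p).coprime_dvd_left (orderOf_dvd_natCard _ hx.2))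
    haveI := P.isPGroup'.isNilpotent
    have h5 := npc_iff.1 (S0081.result P M fun x hx => commutator_le_frattiniOf _ (h3 ⟨h4 ⟨hx.2, hx.1⟩, hx.2⟩))
    have h6 : M ≤ K := (h5.sup_eq (hP.inf_norm le_top le_normalizer_of_normal)).ge.trans
      (sup_le ((CfsgH2.le_pPrimeCore not_dvd_piCoreOf).trans h1) h4)
    refine eq_bot_iff.2 fun x hx => ?_
    obtain ⟨x, rfl⟩ := QuotientGroup.mk_surjective x
    exact (QuotientGroup.eq_one_iff x).2 (h6 hx)
  · rw [e, top_inf_eq] at h3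
    exact (commutator_lt_of_nilpotent P.isPGroup'.isNilpotent le_rfl le_normalizer
      (hP.ne_bot (by rwa [card_top]))).not_ge h3

/-- Let p and q be primes dividing the order of the finite group G, and suppose G is p-solvable and q-solvable. Fix maximal ideals of the algebraic integers containing p and q, defining the principal p-block and the principal q-block. If the irreducible characters of degree prime to p in the principal p-block are exactly the irreducible characters of degree prime to q in the principal q-block, then p = q. -/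
theorem result {G : Type*} [Group G] [Finite G] (p q : ℕ) [Fact p.Prime] [Fact q.Prime] (hp : p ∣ Nat.card G) (hq : q ∣ Nat.card G) (hps : Cfsg.IsPSolvable p G) (hqs : Cfsg.IsPSolvable q G) (Mp Mq : Ideal Cfsg.AlgInt) (hMp : Cfsg.IsPModular p Mp) (hMq : Cfsg.IsPModular q Mq) (h : ∀ χ : Cfsg.IrrCharacter G, (χ ∈ Cfsg.principalBlock Mp G ∧ ¬ p ∣ Cfsg.charDegree (χ : G → ℂ)) ↔ (χ ∈ Cfsg.principalBlock Mq G ∧ ¬ q ∣ Cfsg.charDegree (χ : G → ℂ))) : p = q := by
  haveI : PMod p Mp := ⟨hMp⟩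
  haveI : PMod q Mq := ⟨hMq⟩
  by_contra hpq
  let K : Subgroup G := ⨅ χ : {χ : IrrCharacter G // χ ∈ principalBlock Mp G ∧ ¬ p ∣ charDegree χ.1}, charKer χ.1.1
  haveI : K.Normal := normal_iInf_normal fun χ => χ.1.2.isCharacter.charKer_normal
  obtain ⟨h1, h2⟩ := lemC (p := p) K (le_iInf fun χ n hn => χ.1.2.isCharacter.mem_charKer.2
    ((mem_principal_iff_of_psolv hps).1 χ.2.1 n hn)) fun χ hχ h1 h2 k hk => hχ.isCharacter.mem_charKer.1
      (mem_iInf.1 hk ⟨⟨χ, hχ⟩, (mem_principal_iff_of_psolv hps).2 h1, h2⟩)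
  obtain ⟨h3, -⟩ := lemC (p := q) K (le_iInf fun χ n hn => χ.1.2.isCharacter.mem_charKer.2
    ((mem_principal_iff_of_psolv hqs).1 ((h _).1 χ.2).1 n hn)) fun χ hχ h1 h2 k hk => hχ.isCharacter.mem_charKer.1
      (mem_iInf.1 hk ⟨⟨χ, hχ⟩, (h _).2 ⟨(mem_principal_iff_of_psolv hqs).2 h1, h2⟩⟩)
  have h4 := centralizer_pCore_le (IsPSolvable.quotient' hps K) h1
  rw [eq_bot_iff.2 ((pCore_le_pPrimeCore Fact.out Fact.out hpq).trans h3.le)] at h4
  exact h2 hp (eq_top_iff.2 fun x _ => (QuotientGroup.eq_one_iff x).1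
    (mem_bot.1 (h4 fun y hy => by rw [mem_bot.1 hy, one_mul, mul_one])))


end Cfsg.Agent.S4885
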