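import Cfsg.Statements.S4888
import Mathlib
import Cfsg.Agent.H4.Tate

set_option autoImplicit false
open Cfsg

open Cfsg CfsgH4 CfsgH1 CfsgL0 MonoidAlgebra Function
open CfsgH3 hiding cj cj_cj
open scoped ComplexConjugate Pointwise

namespace Cfsg.Agent.S4888

/-- Let G be a finite group, p a prime and M a maximal ideal of the algebraic integers containing p. Then all height-zero irreducible characters of the principal p-block of G (equivalently, all its characters of degree prime to p) have the same degree if and only if G has a normal p-complement. -/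
theorem result {G : Type*} [Group G] [Finite G] (p : ℕ) [Fact p.Prime] (M : Ideal Cfsg.AlgInt) (hM : Cfsg.IsPModular p M) : (∃ d : ℕ, ∀ χ : Cfsg.IrrCharacter G, χ ∈ (Cfsg.principalBlock M G) → Cfsg.blockHeight p (Cfsg.principalBlock M G) (χ : G → ℂ) = 0 → Cfsg.charDegree (χ : G → ℂ) = d) ↔ Cfsg.HasNormalPComplement p G := by
  haveI : PMod p M := ⟨hM⟩
  have := Fintype.ofFinite G
  have hp : p.Prime := Fact.out
  have h0 : ∀ χ ∈ principalBlock M G, blockHeight p (principalBlock M G) χ.1 = 0 ↔
      ¬ p ∣ charDegree χ.1 := fun χ h => by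
    rw [height_principal h, Nat.factorization_eq_zero_iff]
    simp [hp, charDegree_ne_zero χ.2]
  refine ⟨fun ⟨d, h⟩ => ?_, fun h => ⟨1, fun χ h1 h2 => ?_⟩⟩
  · obtain ⟨P⟩ : Nonempty (Sylow p G) := inferInstance
    have := Fintype.ofFinite P
    have h1 := h _ irrOne_mem_principal (blockHeight_eq_zero_of_degree_one rfl)
    rw [charDegree_eq (n := 1) (by simp [irrOne])] at h1
    refine npc_of_lin_ext P fun l => ?_
    obtain ⟨χ, h2, h3, h4⟩ := exists_principal_over_lin (M := M) P l
    exact ⟨χ.1, χ.2.isClassFunction, congrFun ((χ.2.isCharacter.restrict _).eq_of_constituent_of_apply_one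
      (isIrr_of_unitsHom l) (over_subtype_iff.1 h4) (by
        simpa using (charDegree_eq_one χ.2.isCharacter).1 (h1 ▸ h χ h2 ((h0 χ h2).2 h3))))⟩
  · obtain ⟨β, -, h3, h4⟩ := χ.2.isCharacter.exists_deflation _ fun n hn => principal_ker h1 hn
    have h5 : β 1 = χ.1 1 := h4 1
    rw [charDegree_eq_one χ.2.isCharacter, ← h5]
    exact lin_of_pgroup (IsPGroup.iff_card.2 (npc_iff_index.1 h)) (h3 χ.2) (by
      simpa only [charDegree, h5] using (h0 χ h1).1 h2)

end Cfsg.Agent.S4888
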