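import Cfsg.Statements.S4931
import Cfsg.Agent.H3.Ro
import Cfsg.Agent.H4.Tate
import Cfsg.Agent.H2.Frob

set_option autoImplicit false
open Cfsg

open CfsgH3 CfsgH4 CfsgRo Function
open CfsgH2 hiding cj cj_apply isPGroup_pCore le_pCore isNilpotent_map card_mul_relIndex
open scoped CfsgH2

namespace Cfsg.Agent.S4931

/-- Let G be a finite group, p a prime and P a Sylow p-subgroup of G with normalizer N. Then every irreducible complex character of N of degree not divisible by p is the restriction of an irreducible character of G if and only if there is a normal subgroup K of G with KN = G and K ∩ N = 1. -/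
theorem result {G : Type*} [Group G] [Finite G] (p : ℕ) [Fact p.Prime] (P : Sylow p G) :
    (∀ θ : Cfsg.IrrCharacter ↥(Subgroup.normalizer ((P : Subgroup G) : Set G)), ¬ p ∣ Cfsg.charDegree (θ : ↥(Subgroup.normalizer ((P : Subgroup G) : Set G)) → ℂ) →
        ∃ χ : Cfsg.IrrCharacter G, ∀ x : ↥(Subgroup.normalizer ((P : Subgroup G) : Set G)), (χ : G → ℂ) x = (θ : ↥(Subgroup.normalizer ((P : Subgroup G) : Set G)) → ℂ) x) ↔
      ∃ K : Subgroup G, K.Normal ∧ K ⊔ Subgroup.normalizer ((P : Subgroup G) : Set G) = ⊤ ∧ K ⊓ Subgroup.normalizer ((P : Subgroup G) : Set G) = ⊥ := by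
  refine ⟨fun H => ?_, fun ⟨K, h1, h2, h3⟩ θ _ => ?_⟩
  · have s := syl_top P
    generalize (P : Subgroup G) = P at H s ⊢
    have key : ∀ D : Subgroup G, D ≤ P → N[P] ≤ N[D] → ⁅P, P⁆ ≤ D →
        Subgroup.normalClosure (D : Set G) ⊓ N[P] ≤ D := fun D d1 d2 d3 x hx => by
      have d4 := d1.trans Subgroup.le_normalizer
      haveI := (Subgroup.normal_subgroupOf_iff_le_normalizer d4).2 d2
      refine mem_of_forall_irr (D.subgroupOf N[P]) (g := ⟨x, hx.2⟩) fun ψ a1 a2 => ?_
      obtain ⟨χ, a3⟩ := H ⟨ψ, a1⟩ fun e => (s.mono Subgroup.le_normalizer le_top).nd (e.trans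
        (a1.degree_dvd_index_of_abelian_normal (coe_charDegree a1.isCharacter).symm
          (P.subgroupOf N[P]) fun a ha b hb => a2 _ (d3 (Subgroup.commutator_mem_commutator ha hb))))
      haveI := χ.2.isCharacter.charKer_normal
      have a4 : Subgroup.normalClosure (D : Set G) ≤ charKer χ.1 :=
        Subgroup.normalClosure_le_normal fun y hy => χ.2.isCharacter.mem_charKer.2
          ((a3 ⟨y, d4 hy⟩).trans ((a2 _ hy).trans (a3 1).symm))
      exact (a3 ⟨x, hx.2⟩).symm.trans ((χ.2.isCharacter.mem_charKer.1 (a4 hx.1)).trans (a3 1))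
    have k1 := key P le_rfl le_rfl (Subgroup.commutator_le_self _)
    have k2 := key _ (Subgroup.commutator_le_self _) (le_norm_commutator le_rfl le_rfl) le_rfl
    have k3 : Subgroup.normalClosure ((⁅P, P⁆ : Subgroup G) : Set G) ≤
        Subgroup.normalClosure (P : Set G) :=
      Subgroup.normalClosure_mono (Subgroup.commutator_le_self _)
    have k4 : ⁅P, P⁆ ≤ Subgroup.normalClosure ((⁅P, P⁆ : Subgroup G) : Set G) :=
      Subgroup.le_normalClosure
    have k5 : ∀ x, x ∈ N[Subgroup.normalClosure ((⁅P, P⁆ : Subgroup G) : Set G)] :=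
      fun x => Subgroup.le_normalizer_of_normal (Subgroup.mem_top x)
    generalize Subgroup.normalClosure ((⁅P, P⁆ : Subgroup G) : Set G) = R at k2 k3 k4 k5
    have s1 := s.mono Subgroup.le_normalClosure le_top
    have k6 : ⊤ ≤ N[Subgroup.normalClosure (P : Set G)] := Subgroup.le_normalizer_of_normal
    generalize Subgroup.normalClosure (P : Set G) = J at k1 k3 s1 k6
    have k7 : qt R P ≤ C[qt R P] := (qt_le_cent_iff (fun x _ => k5 x) fun x _ => k5 x).2 k4
    have k8 : NPC p J := by
      obtain ⟨Q, rfl⟩ := s1.exists_sub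
      refine npc_iff.1 (npc_of_comm_le Q fun x hx g hg => ?_)
      have b1 := Subgroup.mem_map_of_mem J.subtype hx
      have b2 := Subgroup.mem_map_of_mem J.subtype hg
      obtain ⟨n, b3, b4⟩ := (s1.qt fun x _ => k5 x).fusion_cent (qmk_mem_qt (k5 _) g.2)
        (k7 (qmk_mem_qt (k5 _) b1)) (k7 (qmk_mem_qt (k5 _) b2))
      rw [← mem_cent_iff.1 (k7 (qt_mono k1 (lift_norm s1 k3 (fun x _ => k5 x) b3))) _ (qmk_mem_qt (k5 _) b1),
        mul_inv_cancel_right, ← map_inv, ← map_mul, ← map_mul, qmk_eq_iff] at b4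
      have := k2 ⟨b4, Subgroup.le_normalizer (mul_mem (inv_mem b1) b2)⟩
      rw [← Subgroup.map_commutator] at this
      exact (Subgroup.mem_map_iff_mem J.subtype_injective).1 this
    refine ⟨piCoreOf {p}ᶜ J, normal_of_top_le_norm (k6.trans norm_le_norm_piCoreOf), ?_, ?_⟩
    · rw [← s1.frattini_sup le_top k6, top_inf_eq, ← k8.sup_eq s1, sup_assoc,
        sup_eq_right.2 (Subgroup.le_normalizer (H := P)), k8.sup_eq s1]
    · rw [eq_bot_iff, ← inf_eq_bot_of_piN (isPGroup_iff_piN.1 s.pg) (piN_piCoreOf (M := J))]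
      exact le_inf ((inf_le_inf_right _ piCoreOf_le).trans k1) inf_le_left
  · let e := MulEquiv.ofBijective ((QuotientGroup.mk' K).comp N[(P : Subgroup G)].subtype)
      ⟨(injective_iff_map_eq_one _).2 fun x hx => Subtype.ext (Subgroup.mem_bot.1
        (h3.le ⟨(QuotientGroup.eq_one_iff _).1 hx, x.2⟩)), fun y => by
        obtain ⟨g, rfl⟩ := QuotientGroup.mk_surjective y
        obtain ⟨k, hk, n, hn, rfl⟩ := (mem_sup_of_norm' Subgroup.le_normalizer_of_normal).1
          (h2.ge (Subgroup.mem_top g))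
        exact ⟨⟨n, hn⟩, by simp [(QuotientGroup.eq_one_iff k).2 hk]⟩⟩
    exact ⟨⟨_, θ.2.comp_of_surjective (e.symm.toMonoidHom.comp (QuotientGroup.mk' K))
      (e.symm.surjective.comp (QuotientGroup.mk'_surjective K))⟩,
      fun x => congrArg θ.1 (e.symm_apply_apply x)⟩


end Cfsg.Agent.S4931
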