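import Cfsg.Statements.S5138
import Cfsg.Agent.H2.Sa21

set_option autoImplicit false
open Cfsg

namespace Cfsg.Agent.S5138
open CfsgH2

/-- Let F be a saturated fusion system over a finite p-group S and E₁, E₂ normal subsystems over T₁, T₂ with [T₁, T₂] = 1. Then there is a normal subsystem of F over T₁T₂ which, if moreover T₁ ∩ T₂ lies in the centre of E₁ and in the centre of E₂, is a central product of E₁ and E₂ (the factor system of a direct product of E₁ and E₂ modulo a subgroup of its centre meeting both factors trivially). -/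
theorem result {Ω : Type*} [Group Ω] {S : Subgroup Ω} [Finite S] (p : ℕ) [Fact p.Prime] (hS : IsPGroup p S) (F : Cfsg.FusionSystem S) (hF : F.IsSaturated p) {T₁ T₂ : Subgroup Ω} (E₁ : Cfsg.FusionSystem T₁) (E₂ : Cfsg.FusionSystem T₂) (hE₁ : E₁.IsNormalIn F p) (hE₂ : E₂.IsNormalIn F p) (hc : ⁅T₁, T₂⁆ = ⊥) : ∃ D : Cfsg.FusionSystem (T₁ ⊔ T₂), D.IsNormalIn F p ∧ (T₁ ⊓ T₂ ≤ E₁.center → T₁ ⊓ T₂ ≤ E₂.center → Cfsg.FusionSystem.IsCentralProductOf E₁ E₂ D) := by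
  open Subgroup Function in open scoped commutatorElement in
  · have c := commutator_eq_bot_iff_le_centralizer.1 hc
    have t₁ := hE₁.1.2.2.2.1
    have t₂ := hE₂.1.2.2.2.1
    haveI := CfsgL0.finite_of_le t₁.1
    haveI := CfsgL0.finite_of_le t₂.1
    by_cases z : T₁ ⊓ T₂ ≤ E₁.center ∧ T₁ ⊓ T₂ ≤ E₂.center
    · obtain ⟨D, a, b⟩ := cp_normal' hS hF hE₁ hE₂ c (CfsgL0.central_mono CfsgL0.central_center z.1)
        (CfsgL0.central_mono CfsgL0.central_center z.2)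
      exact ⟨D, b, fun _ _ => a⟩
    obtain ⟨L₁, l₁, -⟩ := exists_ppr (hS.to_le t₁.1) hE₁.1.1
    obtain ⟨L₂, l₂, -⟩ := exists_ppr (hS.to_le t₂.1) hE₂.1.1
    obtain ⟨D, -, b⟩ := cp_normal' hS hF (ppr_normal hS hF hE₁.1 l₁) (ppr_normal hS hF hE₂.1 l₂) c
      (ppr_cent (hS.to_le t₁.1) hE₁.1.1 l₁ (inf_comm T₂ T₁ ▸ CfsgL0.sc_sub hE₁.1.2.2.1 t₂)
        (c.trans (centralizer_le inf_le_right)))
      (ppr_cent (hS.to_le t₂.1) hE₂.1.1 l₂ (CfsgL0.sc_sub hE₂.1.2.2.1 t₁)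
        ((le_centralizer_iff.1 c).trans (centralizer_le inf_le_left)))
    exact ⟨D, b, fun u v => (z ⟨u, v⟩).elim⟩

end Cfsg.Agent.S5138
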