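import Cfsg.Statements.S5155
import Cfsg.Agent.H2.Sa11

set_option autoImplicit false
open Cfsg

namespace Cfsg.Agent.S5155
open CfsgH2

/-- Let F be a saturated fusion system over a finite p-group S, E a normal subsystem over T, and Y the largest subgroup of C_S(T) such that E is a subsystem of the centralizer system of Y (every map of E extends to a map of F fixing Y elementwise). Then there is a normal subsystem of F over Y that is a subsystem of the centralizer system of T. -/
theorem result {Ω : Type*} [Group Ω] {S : Subgroup Ω} [Finite S] (p : ℕ) [Fact p.Prime] (hS : IsPGroup p S) (F : Cfsg.FusionSystem S) (hF : F.IsSaturated p) {T : Subgroup Ω} (E : Cfsg.FusionSystem T) (hE : E.IsNormalIn F p) (Y : Subgroup Ω) (hY : Y ≤ Cfsg.FusionSystem.centralizerIn S T) (hEY : ∀ P : Subgroup Ω, E.Hom P ⊆ F.centralizerHom Y P) (hmax : ∀ Y' : Subgroup Ω, Y' ≤ Cfsg.FusionSystem.centralizerIn S T → (∀ P : Subgroup Ω, E.Hom P ⊆ F.centralizerHom Y' P) → Y' ≤ Y) : ∃ D : Cfsg.FusionSystem Y, D.IsNormalIn F p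 ∧ ∀ P : Subgroup Ω, D.Hom P ⊆ F.centralizerHom T P := by
  open Subgroup Function in open scoped commutatorElement in
  · obtain rfl : Y = CE F E p := le_antisymm (le_CE hS hF hE hY fun P f hf =>
      (CfsgL0.mem_centralizerHom.1 (hEY P hf.hom_mem)).congr fun x hx =>
        (CfsgL0.ex_apply hf.homOn.hom hx).symm) (hmax _ CE_le fun P φ hφ =>
          CfsgL0.mem_centralizerHom.2 (sub_CE hS hF hE (CfsgL0.M_ex hφ)))
    obtain ⟨D, a, b⟩ := exists_CFE hS hF hE
    exact ⟨D, a, fun P φ hφ => CfsgL0.mem_centralizerHom.2 (b _ _ (CfsgL0.M_ex hφ))⟩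

end Cfsg.Agent.S5155
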