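import Cfsg.Statements.S5162
import Cfsg.Agent.H2.Sa21

set_option autoImplicit false
open Cfsg

namespace Cfsg.Agent.S5162
open CfsgH2

/-- Let F be a saturated fusion system over a finite p-group S that is a central product of two saturated subsystems F₁ (over S₁) and F₂ (over S₂) inside S. Then every component of F is a component of F₁ or a component of F₂. -/
theorem result {Ω : Type*} [Group Ω] {S : Subgroup Ω} [Finite S] (p : ℕ) [Fact p.Prime] (hS : IsPGroup p S) (F : Cfsg.FusionSystem S) (hF : F.IsSaturated p) {S₁ S₂ : Subgroup Ω} (F₁ : Cfsg.FusionSystem S₁) (F₂ : Cfsg.FusionSystem S₂) (h₁ : F₁.IsSaturated p) (h₂ : F₂.IsSaturated p) (h₁F : F₁.IsSubsystemOf F) (h₂F : F₂.IsSubsystemOf F) (hc : Cfsg.FusionSystem.IsCentralProductOf F₁ F₂ F) {T : Subgroup Ω} (C : Cfsg.FusionSystem T) (hC : C.IsComponentIn F p) : C.IsComponentIn F₁ p ∨ C.IsComponentIn F₂ p := by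
  open Subgroup Function in open scoped commutatorElement in
  · haveI := CfsgL0.finite_of_le (CfsgL0.sub_le h₁F)
    haveI := CfsgL0.finite_of_le (CfsgL0.sub_le h₂F)
    haveI := CfsgL0.finite_of_le (CfsgL0.sub_le (subn_le hC.1))
    have c := cp_of hc
    have n₂ := c.symm.normal₁ hS hF h₂
    refine (comp_dich hS hF hC (c.normal₁ hS hF h₁)).imp_right fun a => comp_of_le hS hC n₂.1
      (hC.2.2.1.ge.trans (CfsgL0.hyp_le_foc.trans (CfsgL0.foc_le_iff.2 fun P f u z hz => ?_)))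
    obtain ⟨v, g, g0, g1, g2⟩ := CfsgL0.NKM_bot_iff.1 (a.2 P f u)
    obtain ⟨x, hx, y, hy, rfl⟩ := (sup_of_comm c.comm le_rfl le_rfl).1 (c.sup.ge (v hz).1)
    have w := (mul_mem_cancel_left (mem_sup_right hx : x ∈ P ⊔ S₁)).1 (mem_sup_left hz)
    rw [← g1 _ hz, g0.mul (mem_sup_right hx) w, g2 x hx]
    simpa [mul_assoc] using mul_mem (inv_mem hy) (CfsgL0.sc_mem n₂.1.2.2.2.1 g0 w hy)

end Cfsg.Agent.S5162
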