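import Cfsg.Statements.S5186
import Cfsg.Agent.H2.Es2

set_option autoImplicit false
universe u
open Cfsg

namespace Cfsg.Agent.S5186
open CfsgH2

/-- Let F be a saturated fusion system over a finite p-group S and H an essential subgroup of order p³. Then H is elementary abelian, or p is odd and H is extraspecial of exponent p, or p = 2 and H is the quaternion group of order 8. -/
theorem result {Ω : Type u} [Group Ω] {S : Subgroup Ω} [Finite S] (p : ℕ) [Fact p.Prime] (hS : IsPGroup p S)
    (F : Cfsg.FusionSystem S) (hF : F.IsSaturated p) (H : Subgroup Ω) (hH : F.IsEssential p H) (hcard : Nat.card H = p ^ 3) :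
    Cfsg.IsElementaryAbelian p H ∨ (Odd p ∧ Cfsg.IsExtraspecial p ↥H ∧ ∀ x ∈ H, x ^ p = 1) ∨
      (p = 2 ∧ Nonempty (↥H ≃* QuaternionGroup 2)) := by
  open Subgroup Function in open scoped commutatorElement in
  · obtain ⟨G, _, _, i, j, hi, hj, h⟩ := ess_ae hS hF hH
    haveI := CfsgL0.finite_of_le hH.1.1
    have c : o[map i ⊤] = p ^ 3 := by rw [card_map_of_injective hi, card_top, hcard]
    refine (h.three c).imp (fun el => map_subtype_top H ▸ elem_map H.subtype ((inj_elem hi).1 el))
      (Or.imp (fun ⟨h2, w, ab, e⟩ => ⟨(Fact.out : p.Prime).odd_of_ne_two h2,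
        extraspecial_top_iff.2 ⟨(inj_wx hi).1 w, fun a => ab ((inj_isMulComm hi).2 a)⟩, fun x hx => ?_⟩)
        fun ⟨h2, ⟨e⟩⟩ => ⟨h2, ⟨(topEquiv.symm.trans ((⊤ : Subgroup H).equivMapOfInjective i hi)).trans e⟩⟩)
    exact congrArg Subtype.val (hi ((map_pow i ⟨x, hx⟩ p).trans ((e _ (mem_map_of_mem i trivial)).trans (map_one i).symm)))

end Cfsg.Agent.S5186
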