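import Cfsg.Statements.S5187
import Cfsg.Agent.H2.Es2

set_option autoImplicit false
universe u
open Cfsg

namespace Cfsg.Agent.S5187
open CfsgH2

/-- Let F be a saturated fusion system over a finite p-group S and H an abelian essential subgroup that can be generated by two elements (its Frattini quotient has order at most p²). Then H is elementary abelian of order p², or p ≤ 3 and H is homocyclic of rank two, that is isomorphic to C_{pᵏ} × C_{pᵏ} for some k. -/
theorem result {Ω : Type u} [Group Ω] {S : Subgroup Ω} [Finite S] (p : ℕ) [Fact p.Prime] (hS : IsPGroup p S)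
    (F : Cfsg.FusionSystem S) (hF : F.IsSaturated p) (H : Subgroup Ω) (hH : F.IsEssential p H) (hab : IsMulCommutative ↥H) (hrk : (frattini ↥H).index ≤ p ^ 2) :
    (Cfsg.IsElementaryAbelian p H ∧ Nat.card H = p ^ 2) ∨
      (p ≤ 3 ∧ ∃ k : ℕ, Nonempty (↥H ≃* Multiplicative (ZMod (p ^ k) × ZMod (p ^ k)))) := by
  open Subgroup Function in open scoped commutatorElement in
  · obtain ⟨G, _, _, i, j, hi, hj, h⟩ := ess_ae hS hF hH
    haveI := CfsgL0.finite_of_le hH.1.1
    have pH := isPGroup_top_iff.2 (hS.to_le hH.1.1)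
    have ab : Ab[map i ⊤] := (inj_isMulComm hi).2 (isMulComm_top_iff.2 hab)
    have r : Φ[map i ⊤].relIndex (map i ⊤) ∣ p ^ 2 := by
      rw [← map_phi i pH, relIndex_map_of_ker_le i (ker_le_of_inj hi _), relIndex_top_right, CfsgH1.frattiniOf_top]
      obtain ⟨n, hn⟩ := (hS.to_le hH.1.1).index (frattini H)
      rw [hn] at hrk ⊢
      exact pow_dvd_pow p ((Nat.pow_le_pow_iff_right (Fact.out : p.Prime).one_lt).1 hrk)
    obtain ⟨k, x, y, ox, oy, cm, d, e, ex, hk⟩ := h.ab2 ab r
    obtain ⟨f⟩ := iso_zmod2 cm d e ox oy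
    have f := (topEquiv.symm.trans ((⊤ : Subgroup H).equivMapOfInjective i hi)).trans f
    refine hk.imp (fun k0 => ?_) fun h3 => ⟨h3, _, ⟨f⟩⟩
    subst k0
    exact ⟨map_subtype_top H ▸ elem_map H.subtype ((inj_elem hi).1 ⟨ab, by simpa using ex⟩), by
      rw [Nat.card_congr f.toEquiv, Nat.card_congr Multiplicative.toAdd, Nat.card_prod, Nat.card_zmod]; ring⟩

end Cfsg.Agent.S5187
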