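import Cfsg.Statements.S5188
import Cfsg.Agent.H2.Es2

set_option autoImplicit false
universe u
open Cfsg

namespace Cfsg.Agent.S5188
open CfsgH2

/-- Let F be a saturated fusion system over a finite p-group S and H an essential subgroup of order p⁴. Then H is isomorphic to one of: C_p⁴ or C_{p²} × C_p × C_p (any p); C_{p²} × C_{p²} with p ∈ {2, 3}; p^{1+2}_+ × C_p with p odd (the direct product of an extraspecial group of order p³ and exponent p with a group of order p); Q₈ × C₂ (p = 2); or the non-abelian group of order p⁴ of exponent p² whose centre is cyclic of order p² (the central product of an extraspecial group of order p³ with a cyclic group of order p²; for p = 2 this is D₈ ∘ C₄). -/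
theorem result {Ω : Type u} [Group Ω] {S : Subgroup Ω} [Finite S] (p : ℕ) [Fact p.Prime] (hS : IsPGroup p S)
    (F : Cfsg.FusionSystem S) (hF : F.IsSaturated p) (H : Subgroup Ω) (hH : F.IsEssential p H) (hcard : Nat.card H = p ^ 4) :
    Cfsg.IsElementaryAbelian p H ∨
      Nonempty (↥H ≃* Multiplicative (ZMod (p ^ 2) × ZMod p × ZMod p)) ∨
      ((p = 2 ∨ p = 3) ∧ Nonempty (↥H ≃* Multiplicative (ZMod (p ^ 2) × ZMod (p ^ 2)))) ∨
      (Odd p ∧ ∃ (E : Type) (_ : Group E) (_ : Finite E), Cfsg.IsExtraspecial p E ∧ Nat.card E = p ^ 3 ∧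
        (∀ x : E, x ^ p = 1) ∧ Nonempty (↥H ≃* E × Multiplicative (ZMod p))) ∨
      (p = 2 ∧ Nonempty (↥H ≃* QuaternionGroup 2 × Multiplicative (ZMod 2))) ∨
      (¬ IsMulCommutative ↥H ∧ (∀ x ∈ H, x ^ (p ^ 2) = 1) ∧ IsCyclic ↥(Subgroup.center ↥H) ∧
        Nat.card (Subgroup.center ↥H) = p ^ 2) := by
  open Subgroup Function in open scoped commutatorElement in
  · obtain ⟨G, _, _, i, j, hi, hj, h⟩ := ess_ae hS hF hH
    haveI := CfsgL0.finite_of_le hH.1.1
    have c : o[map i ⊤] = p ^ 4 := by rw [card_map_of_injective hi, card_top, hcard]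
    have f := topEquiv.symm.trans ((⊤ : Subgroup H).equivMapOfInjective i hi)
    have pp : p.Prime := Fact.out
    refine (h.four c).imp (fun el => map_subtype_top H ▸ elem_map H.subtype ((inj_elem hi).1 el))
      (Or.imp (fun ⟨e⟩ => ⟨f.trans e⟩) (Or.imp (fun ⟨h3, ⟨e⟩⟩ => ⟨by have := pp.two_le; omega, ⟨f.trans e⟩⟩)
        (Or.imp (fun ⟨h2, X, w, ab, cX, ex, ⟨e⟩⟩ => ⟨pp.odd_of_ne_two h2, ?_⟩) (Or.imp (fun ⟨h2, ⟨e⟩⟩ => ⟨h2, ⟨f.trans e⟩⟩)
          fun ⟨ab, ex, cy, cz⟩ => ?_))))
    · obtain ⟨Y, _, _, ⟨g⟩⟩ := Finite.exists_type_univ_nonempty_mulEquiv.{_, 0} X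
      have gi : Injective (X.subtype.comp g.symm.toMonoidHom) := X.subtype_injective.comp g.symm.injective
      have eq : map (X.subtype.comp g.symm.toMonoidHom) ⊤ = X := by
        rw [← Subgroup.map_map, map_top_of_surjective _ g.symm.surjective, map_subtype_top]
      refine ⟨Y, _, inferInstance, extraspecial_top_iff.2 ⟨(inj_wx gi).1 (eq.symm ▸ w), fun a => ab (eq ▸ (inj_isMulComm gi).2 a)⟩,
        (Nat.card_congr g.toEquiv).symm.trans cX, fun y => g.symm.injective ?_, ⟨(f.trans e).trans (g.prodCongr (.refl _))⟩⟩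
      rw [map_pow, map_one]; exact Subtype.ext (ex _ (g.symm y).2)
    · rw [inj_inf_cent hi, center_top] at cy cz
      refine ⟨fun a => ab ((inj_isMulComm hi).2 (isMulComm_top_iff.2 a)), fun x hx => ?_, (inj_isCyclic hi).1 cy,
        (card_map_of_injective hi).symm.trans cz⟩
      exact congrArg Subtype.val (hi ((map_pow i ⟨x, hx⟩ _).trans ((ex _ (mem_map_of_mem i trivial)).trans (map_one i).symm)))

end Cfsg.Agent.S5188
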