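import Cfsg.Statements.S5192
import Mathlib
import Cfsg.Agent.L0.Bis3

set_option autoImplicit false
open Cfsg

namespace Cfsg.Agent.S5192

open CfsgL0 CfsgH2 Subgroup

theorem modeq {Ω : Type*} [Group Ω] {S K : Subgroup Ω} [Finite K] {p : ℕ} [Fact p.Prime] (Y : GS S)
    (hK : K ≤ S) (hp : IsPGroup p K) (A : Set Y.X) (hA : ∀ k ∈ K, ∀ y ∈ A, Y.a k y ∈ A) :
    A.ncard ≡ {y ∈ A | ∀ k ∈ K, Y.a k y = y}.ncard [MOD p] := by
  letI : MulAction K A :=
    { smul := fun k y => ⟨Y.a k y, hA k k.2 y y.2⟩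
      one_smul := fun y => Subtype.ext (Y.one _)
      mul_smul := fun k l y => Subtype.ext (Y.mul _ (hK k.2) _ (hK l.2) _) }
  have := hp.card_modEq_card_fixedPoints A
  rw [Nat.card_coe_set_eq, Nat.card_coe_set_eq, ← Set.ncard_image_of_injective _ Subtype.val_injective] at this
  convert this
  ext y
  exact ⟨fun h => ⟨⟨y, h.1⟩, fun k => Subtype.ext (h.2 k k.2), rfl⟩, by
    rintro ⟨y, h, rfl⟩; exact ⟨y.2, fun k hk => congrArg Subtype.val (h ⟨k, hk⟩)⟩⟩

/-- A Thompson-type transfer for saturated fusion systems. Let F be a saturated fusion system on a finite 2-group S, T a subgroup of S of index 2, and i an involution of S such that every fully normalized F-conjugate of i lies in S but outside T. Then i does not lie in the hyperfocal subgroup of F (the Sylow group of the 2-residual subsystem). -/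
theorem result {Ω : Type*} [Group Ω] [Finite Ω] {S : Subgroup Ω}
    (hS : IsPGroup 2 ↥S) (F : Cfsg.FusionSystem S) (hF : F.IsSaturated 2)
    (T : Subgroup Ω) (hTS : T ≤ S) (hT : T.relIndex S = 2)
    (i : Ω) (hi : i ∈ S) (hi2 : orderOf i = 2)
    (h : ∀ j : Ω, F.IsConjElt i j → F.IsFullyNormalized (Subgroup.zpowers j) → j ∉ T) :
    i ∉ F.hyperfocalSubgroup 2 := by
  classical
  intro hyp
  obtain ⟨Y, u, a, b⟩ := exists_Tr hS hF
  haveI := Fintype.ofFinite Y.X
  have hm : ∀ x ∈ S, ∀ y ∈ S, x * y ∈ T ↔ (x ∈ T ↔ y ∈ T) := fun x hx y hy =>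
    mul_mem_iff_of_index_two (H := T.subgroupOf S) hT (a := ⟨x, hx⟩) (b := ⟨y, hy⟩)
  have hχ : HomOn S fun x => if x ∈ T then (1 : ℤˣ) else -1 := fun x hx y hy => by
    simp only [hm x hx y hy]; by_cases h1 : x ∈ T <;> by_cases h2 : y ∈ T <;> simp [h1, h2]
  obtain ⟨f, hf, hn⟩ := sat_nmap_fn hS hF (zpowers_le.2 hi)
  have h1 := le_nI (zpowers_le.2 hi) (mem_zpowers i)
  rw [hf.homOn.im_zpowers h1] at hn
  have k := (a.inv hχ hf h1).trans (a.foc hχ (hyp_le_foc hyp))
  have hj := hf.mem h1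
  have ho := (hf.orderOf h1).trans hi2
  have hc : ∀ P g, M F P g → f i ∈ P → F.IsConjElt i (g (f i)) := fun P g c d => isConjElt_iff.2
    ⟨_, _, (hf.mono (zpowers_le.2 h1)).comp c fun x hx => by
      obtain ⟨n, rfl⟩ := hx
      exact (hf.zpow h1 n).symm ▸ zpow_mem d n, mem_zpowers i, rfl⟩
  generalize f i = j at *
  have hj2 : j * j = 1 := by rw [← pow_two, ← ho, pow_orderOf_eq_one]
  have hz : ∀ x ∈ zpowers j, x = 1 ∨ x = j := fun x hx => by
    obtain ⟨n, rfl⟩ := hx
    beta_reduce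
    rw [← zpow_mod_orderOf, ho]
    rcases Int.emod_two_eq_zero_or_one n with e | e <;> simp [e]
  have hN : ∀ x ∈ FusionSystem.normalizerIn S (zpowers j), x * j = j * x := fun x hx => by
    rcases hz _ (conj_mem_of_norm (nI_le_norm hx) (mem_zpowers j)) with e | e
    · rw [conj_eq_one_iff] at e; simp [e]
    · exact mul_inv_eq_iff_eq_mul.1 e
  have u1 : ∀ y, u 1 y = 1 := fun y => (a.gen y).one
  set A := {y | u j y ∉ T}
  have e1 := modeq Y (zpowers_le.2 hj) (hS.to_le (zpowers_le.2 hj)) A fun x hx y hy => by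
    rcases hz x hx with rfl | rfl
    · rwa [Y.one]
    · intro c
      have := a.mul x hj x hj y
      rw [hj2, u1] at this
      exact hy (((hm _ (a.mem _ _) _ (a.mem _ _)).1 (this ▸ one_mem T)).1 c)
  have e2 := modeq Y nI_le (hS.to_le (nI_le (P := zpowers j))) {y ∈ A | ∀ k ∈ zpowers j, Y.a k y = y}
    fun x hx y hy => by
      have c := hy.2 j (mem_zpowers j)
      refine ⟨fun d => hy.1 ?_, fun z hz' => ?_⟩
      · have := a.mul x (nI_le hx) j hj y
        rw [hN x hx, a.mul j hj x (nI_le hx), c] at this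
        have c1 := hm _ (a.mem j (Y.a x y)) _ (a.mem x y)
        rw [this, hm _ (a.mem _ _) _ (a.mem _ _)] at c1
        tauto
      · rcases hz z hz' with rfl | rfl
        · rw [Y.one]
        · rw [← Y.mul _ hj _ (nI_le hx), ← hN x hx, Y.mul _ (nI_le hx) _ hj, c]
  have e3 := modeq Y nI_le (hS.to_le (nI_le (P := zpowers j))) Set.univ fun _ _ _ _ => trivial
  have e4 : {y ∈ {y ∈ A | ∀ k ∈ zpowers j, Y.a k y = y} | ∀ k ∈ FusionSystem.normalizerIn S (zpowers j),
      Y.a k y = y} = {y ∈ Set.univ | ∀ k ∈ FusionSystem.normalizerIn S (zpowers j), Y.a k y = y} := by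
    ext y
    refine ⟨fun c => ⟨trivial, c.2⟩, fun c => ⟨⟨?_, fun x hx => c.2 x (le_nI (zpowers_le.2 hj) hx)⟩, c.2⟩⟩
    have d : FusionSystem.normalizerIn S (zpowers j) ≤ Y.st y := fun x hx => ⟨nI_le hx, c.2 x hx⟩
    have d' := d (le_nI (zpowers_le.2 hj) (mem_zpowers j))
    have := (a.gen y).fn_im hn d
    rw [(a.gen y).homOn.im_zpowers d'] at this
    exact h _ (hc _ _ (a.gen y) d') this
  rw [e4] at e2
  have e5 := (e1.trans e2).trans e3.symm
  rw [Set.ncard_univ] at e5
  rw [Finset.prod_ite, Finset.prod_const_one, one_mul, Finset.prod_const, neg_one_pow_eq_one_iff_even (by decide),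
    even_iff_two_dvd] at k
  refine b ((e5.dvd_iff dvd_rfl).1 ?_)
  rwa [Set.ncard_eq_toFinset_card', show A.toFinset = _ from Set.toFinset_setOf _]

end Cfsg.Agent.S5192
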