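import Cfsg.Statements.S5193
import Mathlib
import Cfsg.Agent.H9.JW
import Cfsg.Agent.L0.Fus9

set_option autoImplicit false
open Cfsg

namespace Cfsg.Agent.S5193

/-- Glauberman's Theorem for fusion systems. Let F be a saturated fusion system over a finite p-group S, let J(S) be the subgroup generated by the abelian subgroups of S of largest order, and let N be the normalizer fusion system of J(S) in F (a fusion system over N_S(J(S)) = S). Then every p-th power of an element of Z(S) that lies in the centre of N lies in the centre of F; and if p is odd, or if the symmetric group of degree 4 is not involved in any model of the normalizer system of a fully normalized F-centric subgroup (F is S₄-free), then the centre of N equals the centre of F. -/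
theorem result {Ω : Type*} [Group Ω] {S : Subgroup Ω} [Finite S] (p : ℕ) [Fact p.Prime] (hS : IsPGroup p S) (F : Cfsg.FusionSystem S) (hF : F.IsSaturated p) (N : Cfsg.FusionSystem (Cfsg.FusionSystem.normalizerIn S (Cfsg.thompsonSubgroupAOf S))) (hN : F.IsNormalizerSystem (Cfsg.thompsonSubgroupAOf S) N) : Subgroup.closure ((fun z : Ω => z ^ p) '' ((S ⊓ Subgroup.centralizer (S : Set Ω) : Subgroup Ω) : Set Ω)) ⊓ N.center ≤ F.center ∧ (p ≠ 2 ∨ F.IsSectionFree p (Equiv.Perm (Fin 4)) → N.center = F.center) := by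
  open Subgroup Cfsg CfsgH2 Function in
  open scoped commutatorElement in
  open CfsgJW CfsgL0 in
  have eJ : ∀ {G : Type _} [Group G] (U : Subgroup G), Wa (wJ 0) U = J[0, U] := fun _ => iw_J
  have e : thompsonSubgroupAOf S = Wa (wJ 0) S := JA_eq.trans (eJ S).symm
  revert N
  rw [e]
  intro N hN
  have hW : WI p (wJ 0) := (wJ_char (dvd_zero p)).2
  have hWZ : ∀ (Q : Type _) [Group Q] [Finite Q], IsPGroup p Q → center Q ≤ wJ 0 Q :=
    fun Q _ _ _ x hx => center_le_J (P := ⊤) ⟨trivial, by rwa [cent_top]⟩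
  have key : ∀ Y ≤ N.center, (∀ V, F.IsFullyNormalized V → F.IsCentric V →
      ∀ N' : FusionSystem (FusionSystem.normalizerIn S V), F.IsNormalizerSystem V N' →
      ∀ (L : Type _) [Group L] [Finite L] (ι : FusionSystem.normalizerIn S V →* L), N'.IsModel p L ι →
      ∀ y ∈ im Y (ex ι), y ∈ ι.range ⊓ C[⊤ ⊓ N[J[0, ι.range]]] → ∀ g : L, g * y * g⁻¹ ∈ ι.range →
        g * y * g⁻¹ = y) → Y ≤ F.center := fun Y hY h =>
    W_center' hS hF hW hWZ hN hY fun V a b N' c L _ ι hL h1 _ => by
      haveI := hL.1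
      haveI := CfsgL0.finite_nI (S := S) (Q := V)
      rw [eJ] at h1
      have h2 : pCore p L ≤ ι.range := model_le hL
      refine le_centralizer_iff.1 fun y hy => mem_cent_iff.2 fun g _ => ?_
      have h3 := le_centralizer_iff.1 h1 hy
      have h4 := hL.2.2.2 (cent_anti (h2.trans le_norm_J) h3)
      exact mul_inv_eq_iff_eq_mul.1 (h V a b N' c L ι hL y hy ⟨h2 h4, cent_anti inf_le_right h3⟩ g
        (h2 (Normal.conj_mem inferInstance y h4 g)))
  refine ⟨key _ inf_le_right fun V a b N' c L _ _ ι hL y hy h1 g hg => ?_, fun h =>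
    le_antisymm (key _ le_rfl fun V a b N' c L _ _ ι hL y hy h1 g hg => ?_) (center_le_W hS hF hW hN)⟩
  · haveI := CfsgL0.finite_nI (S := S) (Q := V)
    have s := model_syl hL
    refine jw_pow s ⟨(im_le_iff (Q := Φ[Z[ι.range]])).2 (fun x hx => ?_) hy, h1.2⟩ trivial hg
    have : closure ((fun z : Ω => z ^ p) '' ((S ⊓ centralizer (S : Set Ω) : Subgroup Ω) : Set Ω)) ≤
        (Φ[Z[ι.range]].comap ι).map (FusionSystem.normalizerIn S V).subtype := by
      rw [closure_le]
      rintro _ ⟨z, hz, rfl⟩
      have m : z ∈ FusionSystem.normalizerIn S V := ⟨hz.1, cent_le_norm _ (cent_anti a.1 hz.2)⟩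
      refine ⟨⟨z, m⟩ ^ p, ?_, rfl⟩
      rw [SetLike.mem_coe, mem_comap, map_pow]
      refine pow_mem_phi (s.pg.to_le inf_le_left) ⟨⟨_, rfl⟩, mem_cent_iff.2 ?_⟩
      rintro _ ⟨w, rfl⟩
      rw [← map_mul, ← map_mul]
      exact congrArg ι (Subtype.ext (mem_cent_iff.1 hz.2 w w.2.1))
    obtain ⟨w, hw, rfl⟩ := this hx.1
    rw [coe_subtype, ex_coe]
    exact hw
  · haveI := CfsgL0.finite_nI (S := S) (Q := V)
    have s := model_syl hL
    by_cases c2 : p = 2
    · subst c2
      exact jw_s4 (mt i4_top.2 (h.resolve_left (not_not.2 rfl) V a b N' c L ι hL)) s h1 trivial hg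
    · exact jw_odd c2 s h1 trivial hg

end Cfsg.Agent.S5193
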