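import Cfsg.Statements.S5201
import Cfsg.Agent.H2.Sa11

set_option autoImplicit false
open Cfsg

namespace Cfsg.Agent.S5201
open CfsgH2

/-- A reduction to normal subsystems. Let F be a saturated fusion system over a finite p-group S and E a normal subsystem of F over T whose centralizer in S lies in T (every subgroup Y of C_S(T) with E contained in the centralizer fusion system of Y in F satisfies Y ≤ T), and suppose Aut_F(T)/Aut_E(T) is p-solvable. Then F and E have the same residual limit: if F∞ is the residual limit of F (reached by alternately passing to the p-residual and the p'-residual subsystem until nothing changes) and E∞ that of E, then F∞ and E∞ have the same maps. -/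
theorem result {Ω : Type*} [Group Ω] {S : Subgroup Ω} [Finite S] (p : ℕ) [Fact p.Prime] (hS : IsPGroup p S) (F : Cfsg.FusionSystem S) (hF : F.IsSaturated p) {T : Subgroup Ω} (E : Cfsg.FusionSystem T) (hE : E.IsNormalIn F p) (hCE : ∀ Y : Subgroup Ω, Y ≤ Cfsg.FusionSystem.centralizerIn S T → (∀ C : Cfsg.FusionSystem (Cfsg.FusionSystem.centralizerIn S Y), F.IsCentralizerSystem Y C → E.IsSubsystemOf C) → Y ≤ T) [hn : ((E.autGroup T).subgroupOf (F.autGroup T)).Normal] (hsolv : Cfsg.IsPSolvable p (↥(F.autGroup T) ⧸ (E.autGroup T).subgroupOf (F.autGroup T))) {U V : Subgroup Ω} (Finf : Cfsg.FusionSystem U) (hFinf : Finf.IsResidualLimitOf F p) (Einf : Cfsg.FusionSystem V) (hEinf : Einf.IsResidualLimitOf E p) : ∀ P : Subgroup Ω, Finf.Hom P = Einf.Hom P := by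
  open Subgroup Function in open scoped commutatorElement in
  · obtain ⟨R, D, e, a, b, c, d⟩ := st_bot hS hE.1 hsolv
    rw [NSK_aut hS hE.1] at e
    have hT := hE.1.2.2.2.1
    have l := a.2.2.2.1.1
    haveI := CfsgL0.finite_of_le l
    haveI := CfsgL0.finite_of_le hT.1
    have hR := hS.to_le l
    haveI : Finite (FusionSystem.centralizerIn S T) := CfsgL0.finite_cI
    have w := wn_sub hS hE.1 a.1 b a.2.2.1
    obtain ⟨C, hC⟩ := CfsgL0.exists_C F hT.1
    have ce : CE F E p ≤ T := hCE _ CE_le fun C' h => CfsgL0.sub_iff_M.2 fun P f u =>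
      (CfsgL0.isC_iff.1 h P f).2 (sub_CE hS hF hE u)
    have h1 : D.hyperfocalSubgroup p ≤ T := CfsgL0.hyp_le_of_over hR a.1 w.2.2.2.1 le_rfl
      (CfsgL0.sub_le b) fun P hP t α u x hx => by
        have m := (CfsgL0.mem_aut hP).1 (piRes_le u)
        have m' := m.sub a.2.2.1
        obtain ⟨β, b1, b2⟩ := (m.mono t).exists_aut (CfsgL0.sc_im hT m' t)
        obtain ⟨g, g0, g1, g2⟩ := (CfsgL0.normalIn_iff'.1 hE).2 _
          ((CfsgL0.mem_aut le_rfl).1 (c ▸ b1))
        have t1 := xt_triv g0.homOn (CfsgL0.cI_le_cent.trans (cent_le_norm _))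
          (fun x hx => CfsgL0.sc_mem hT g0 (mem_sup_left hx) hx) g2
        obtain ⟨j, j0, j1, j2, -⟩ := g0.exists_inv' (CfsgL0.im_sup_cI hT g0)
        have l1 := hP.trans e.le
        have k := m'.comp j0 fun x hx => l1 (CfsgL0.af_mem _ hx)
        have k1 : ∀ x ∈ T, j (CfsgL0.af α x) = x := fun x hx => by
          rw [← b2 x hx, ← g1 x hx, j1 x (mem_sup_left hx)]
        obtain ⟨y, hy, s, hs, rfl⟩ := (mem_sup_of_norm' (CfsgL0.cI_le_cent.trans
          (cent_le_norm _))).1 (l1 hx)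
        have s1 : s ∈ P := (P.mul_mem_cancel_left (t hy)).1 hx
        have s2 := ce (foc_le_CE hS hF hE hC (CfsgL0.mem_foc ((CfsgL0.isC_iff.1 hC _ _).2
          (CfsgL0.NKM_bot_iff.2 ⟨zpowers_le.2 hs, _, k.mono (sup_le (zpowers_le.2 s1) t),
            fun _ _ => rfl, k1⟩)) (mem_zpowers s)))
        have s3 := mul_mem s2 (t1 _ (j2 _ (l1 (CfsgL0.af_mem α s1))).1)
        rw [(j2 _ (l1 (CfsgL0.af_mem α s1))).2, mul_assoc, mul_inv_cancel_left] at s3
        have := mul_mem (conj_mem_of_norm' (CfsgL0.sc_le_norm hT hs.1) (mul_mem (inv_mem hy)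
          (CfsgL0.sc_mem hT m' (t hy) hy))) s3
        rw [m.mul (t hy) s1]
        simpa [mul_assoc] using this
    obtain ⟨D', d1, d2⟩ := CfsgL0.exists_ppi hR a.1 h1 (CfsgL0.sub_le b)
    have h2 := CfsgL0.wn_le hR d1 d2.1 w.2.2 (c ▸ CfsgL0.aut_mono d2.1)
    obtain ⟨u, -, s⟩ := lim_wn hFinf hS (CfsgL0.self_normal hS hF).1
    obtain ⟨u', -, s'⟩ := lim_wn hEinf hS hE.1
    have v := d _ Finf s u
    have v' : Finf.IsSubsystemOf E := fun P _ z => h2 P (CfsgL0.sub_ppi hR u.1 v
      ((s.1.ge.trans (hyp_mono v)).trans h1) d2 P z)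
    exact fun P => Set.Subset.antisymm (le_lim hEinf (hS.to_le hT.1)
      (wn_sub hS u hE.1.1 v' hE.1.2.2.1) s P) (le_lim hFinf hS u' s' P)

end Cfsg.Agent.S5201
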