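import Cfsg.Statements.S5202
import Cfsg.Agent.H2.Sa6

set_option autoImplicit false
open Cfsg

namespace Cfsg.Agent.S5202
open CfsgH2

/-- Let F be a saturated fusion system over a finite p-group S and E a normal subsystem of F over T such that Aut_F(T)/Aut_E(T) is p-solvable. Then there is a normal subsystem F₀ of F over T·C_S(T) containing E, with Aut_{F₀}(T) = Aut_E(T), containing every residual limit of F, and whose residual limits have the same maps as those of F. -/
theorem result {Ω : Type*} [Group Ω] {S : Subgroup Ω} [Finite S] (p : ℕ) [Fact p.Prime] (hS : IsPGroup p S) (F : Cfsg.FusionSystem S) (hF : F.IsSaturated p) {T : Subgroup Ω} (E : Cfsg.FusionSystem T) (hE : E.IsNormalIn F p) [hn : ((E.autGroup T).subgroupOf (F.autGroup T)).Normal] (hsolv : Cfsg.IsPSolvable p (↥(F.autGroup T) ⧸ (E.autGroup T).subgroupOf (F.autGroup T))) : ∃ F₀ : Cfsg.FusionSystem (T ⊔ Cfsg.FusionSystem.centralizerIn S T), F₀.IsNormalIn F p ∧ E.IsSubsystemOf F₀ ∧ F₀.autGroup T = E.autGroup T ∧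 ∀ {U : Subgroup Ω} (Finf : Cfsg.FusionSystem U), Finf.IsResidualLimitOf F p → Finf.IsSubsystemOf F₀ ∧ ∀ {V : Subgroup Ω} (L : Cfsg.FusionSystem V), L.IsResidualLimitOf F₀ p → ∀ P : Subgroup Ω, L.Hom P = Finf.Hom P := by
  open Subgroup Function in open scoped commutatorElement in
  · obtain ⟨U, D, e, a, b, c, d⟩ := st_bot hS hE.1 hsolv
    rw [NSK_aut hS hE.1] at e
    subst e
    haveI := CfsgL0.finite_of_le a.2.2.2.1.1
    have hU := hS.to_le a.2.2.2.1.1
    refine ⟨D, CfsgL0.normalIn_iff'.2 ⟨a, fun f hf => ?_⟩, b, c, fun L h => ?_⟩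
    · have l : FusionSystem.centralizerIn S (T ⊔ FusionSystem.centralizerIn S T) ≤
          T ⊔ FusionSystem.centralizerIn S T :=
        (inf_le_inf_left _ (cent_anti le_sup_left)).trans le_sup_right
      exact ⟨f, (hf.sub a.2.2.1).mono (sup_le le_rfl l), fun _ _ => rfl, fun x hx =>
        mul_mem (inv_mem (l hx)) (hf.mem (l hx))⟩
    · obtain ⟨u, -, w⟩ := lim_wn h hS (CfsgL0.self_normal hS hF).1
      have v := d _ L w u
      refine ⟨v, fun L' h' P => ?_⟩
      obtain ⟨u', -, w'⟩ := lim_wn h' hS a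
      exact Set.Subset.antisymm (le_lim h hS u' w' P)
        (le_lim h' hU (wn_sub hS u a.1 v a.2.2.1) w P)

end Cfsg.Agent.S5202
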