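import Cfsg.Statements.S5203
import Mathlib
import Cfsg.Agent.L0.Deg2

set_option autoImplicit false
open Cfsg

namespace Cfsg.Agent.S5203

open CfsgL0 CfsgH2

/-- Let F be a saturated fusion system over a finite p-group S and E a normal subsystem of F over T that has p-power index in F. Then every residual limit of E has the same maps as every residual limit of F (the residual limit is reached by alternately passing to the p-residual and the p'-residual subsystem until nothing changes). -/
theorem result {Ω : Type*} [Group Ω] {S : Subgroup Ω} [Finite S] (p : ℕ) [Fact p.Prime] (hS : IsPGroup p S) (F : Cfsg.FusionSystem S) (hF : F.IsSaturated p) {T : Subgroup Ω} (E : Cfsg.FusionSystem T) (hE : E.IsNormalIn F p) (hidx : E.HasPPowerIndexIn F p) {U V : Subgroup Ω} (Finf : Cfsg.FusionSystem U) (hFinf : Finf.IsResidualLimitOf F p) (Einf : Cfsg.FusionSystem V) (hEinf : Einf.IsResidualLimitOf E p) : ∀ P : Subgroup Ω, Finf.Hom P = Einf.Hom P := by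
  haveI := finite_of_le (sub_le hidx.1)
  have hT := hS.to_le (sub_le hidx.1)
  have e := ppi_hyp hS hidx
  cases hFinf with
  | stable _ _ a b =>
    have k := le_antisymm (sub_le hidx.1) (a.ge.trans hidx.2.1)
    exact fun P => (lim_stable hEinf hS a b k (hom_eq_of_ppi hS k hE.1.1 hidx hF ppi_refl) P).symm
  | step _ _ D D' a b c =>
    cases hEinf with
    | stable _ _ d k =>
      exact lim_stable c hT d k (e.symm.trans d) (hom_eq_of_ppr (e.symm.trans d)
        (hom_eq_of_ppi hS (e.symm.trans d) a.1 a.2 hE.1.1 hidx) b k)
    | step _ _ D₁ D₁' d k l =>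
      exact lim_unique l (finite_of_le hyp_le) (hT.to_le hyp_le) c e.symm (hom_eq_of_ppr e.symm
        (hom_eq_of_ppi hS e.symm a.1 a.2 d.1 (ppi_trans hS hidx d.2)) b k)

end Cfsg.Agent.S5203
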