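import Cfsg.Statements.S5206
import Mathlib
import Cfsg.Agent.L0.Quad5

set_option autoImplicit false
universe u
open Cfsg

namespace Cfsg.Agent.S5206

open Cfsg Subgroup CfsgH2 CfsgL0

/-- Let p be an odd prime, G a finite group and P a Sylow p-subgroup of G. Then the fusion system of G on P is Qd(p)-free (Qd(p), the natural semidirect product of an elementary abelian group of order p² by SL₂(p), is not involved in any model of the normalizer system of a fully normalized centric subgroup) if and only if Qd(p) is not involved in G. -/
theorem result {G : Type u} [Group G] [Finite G] {p : ℕ} [Fact p.Prime] (hp : p ≠ 2) (P : Sylow p G) : (Cfsg.groupFusionSystem (P : Subgroup G)).IsSectionFree p ↥(Cfsg.qd p) ↔ ¬ Cfsg.Involves ↥(Cfsg.qd p) G := by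
  refine ⟨fun h c => ?_, free_of_qd P⟩
  have hc := (zj_normal hp P.isPGroup' (group_sat P) h).2
  obtain ⟨L, _, κ, hL⟩ := exists_model P.isPGroup' hc
  haveI := hL.1
  exact free_model P.isPGroup' (group_sat P) h (group_sat P) (fun _ => le_rfl) normal_core
    (constrained_core hc) hL (CfsgH2.involves_iff.2 (sec_qd_of_sub (group_real _)
      (by rw [range_subtype]; exact syl_top P) hL.2.1 (fun _ => le_rfl) (CfsgH2.involves_iff.1 c)))

end Cfsg.Agent.S5206
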