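import Cfsg.Statements.S5235
import Mathlib
import Cfsg.Agent.L0.FE4

set_option autoImplicit false
open Cfsg

namespace Cfsg.Agent.S5235

open Cfsg Subgroup CfsgH2 CfsgL0 CfsgBG Function

/-- Let F be a saturated fusion system over a finite 2-group S (p = 2) and P a metacyclic subgroup of S strongly closed in F that is not dihedral, not semidihedral and not generalized quaternion (here the group of order 2, the Klein four-group and the cyclic group of order 4 also count as excluded). Then P is normal in F. -/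
theorem result {Ω : Type*} [Group Ω] {S : Subgroup Ω} [Finite S] (p : ℕ) [Fact p.Prime] (hS : IsPGroup p S) (F : Cfsg.FusionSystem S) (hF : F.IsSaturated p) (P : Subgroup Ω) (hP : F.StronglyClosed P) (hp : p = 2) (hm : Cfsg.IsMetacyclic ↥P) (hd : ¬ ∃ m : ℕ, Nonempty (↥P ≃* DihedralGroup m)) (hq : ¬ ∃ m : ℕ, Nonempty (↥P ≃* QuaternionGroup m)) (hsd : ¬ Cfsg.IsQuasiDihedral ↥P) : F.IsNormal P := by
  subst hp
  obtain ⟨E, hE, h⟩ := exists_fin hS hF
  rw [← h.normal_iff id_inj hP.1, im_ex_id hP.1]
  have k := h.sc_im hP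
  rw [im_ex_id hP.1] at k
  refine normal_mc2 (h.pgroup hS) hE k ?_ ?_
  · have := (inj_mc_top (inclusion_injective hP.1)).2 (mc_top_iff.1 hm)
    rwa [← MonoidHom.range_eq_map, inclusion_range] at this
  rintro ⟨a, b, m, h⟩
  have := h.map S.subtype_injective
  rw [map_subgroupOf_eq_of_le hP.1] at this
  obtain ⟨a', b', h'⟩ := MC.pull (P := ⊤) P.subtype_injective (by rwa [map_subtype_top])
  rcases h'.types with h | h | h
  exacts [hd ⟨_, h⟩, hq ⟨_, h⟩, hsd h.2]

end Cfsg.Agent.S5235
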