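import Cfsg.Statements.S5212
import Mathlib
import Cfsg.Agent.L0.FE4
import Cfsg.Agent.S5235
import Cfsg.Agent.L0.Bis6

set_option autoImplicit false
open Cfsg

namespace Cfsg.Agent.S5212

open Cfsg Subgroup CfsgH2 CfsgL0 CfsgBG Function

/-- Let S be a finite metacyclic 2-group that is not homocyclic abelian (a direct product of cyclic groups of one common order), not dihedral, not semidihedral and not generalized quaternion. Then every saturated fusion system over S is the inner fusion system of S. -/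
theorem result {Ω : Type*} [Group Ω] {S : Subgroup Ω} [Finite S] (hS : IsPGroup 2 S) (F : Cfsg.FusionSystem S) (hF : F.IsSaturated 2) (hm : Cfsg.IsMetacyclic ↥S) (hh : ¬ ∃ n k : ℕ, Nonempty (↥S ≃* Multiplicative (Fin k → ZMod (2 ^ n)))) (hd : ¬ ∃ m : ℕ, Nonempty (↥S ≃* DihedralGroup m)) (hq : ¬ ∃ m : ℕ, Nonempty (↥S ≃* QuaternionGroup m)) (hsd : ¬ Cfsg.IsQuasiDihedral ↥S) : ∀ P : Subgroup Ω, F.Hom P = (Cfsg.innerFusionSystem S).Hom P := by
  refine inner_iff_hom.2 (inner_of_normal_top hS hF (Cfsg.Agent.S5235.result 2 hS F hF S sc_top rfl hm hd hq hsd)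
    (isPGroup_of_coprime fun α _ k a b => ?_))
  by_contra c
  let e : S ≃* (⊤ : Subgroup S) := topEquiv.symm
  rcases mc2_aut (hS.to_subgroup ⊤) (mc_top_iff.1 hm) (β := MulAut.congr e α) (k := k)
    (by rw [← map_pow, a, map_one]) b (fun k => c ((MulAut.congr e).map_eq_one_iff.1 k)) with ⟨n, ⟨f⟩⟩ | ⟨a, b, m, h⟩
  · exact hh ⟨n, 2, ⟨e.trans f⟩⟩
  · rcases h.types with h | h | h
    exacts [hd ⟨_, h⟩, hq ⟨_, h⟩, hsd h.2]

end Cfsg.Agent.S5212
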