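import Cfsg.Statements.S5219
import Mathlib
import Cfsg.Agent.L0.Fus12

set_option autoImplicit false
open Cfsg

namespace Cfsg.Agent.S5219

open Cfsg Subgroup CfsgH2 CfsgL0

theorem aux {G : Type*} [Group G] {e : ℕ} (h : ∀ z ∈ center G, z ^ e = 1) (i : ℕ) :
    ∀ x ∈ Subgroup.upperCentralSeries G (i + 1), x ^ e ∈ Subgroup.upperCentralSeries G i := by
  induction i with
  | zero => intro x hx; rw [Subgroup.upperCentralSeries_one] at hx; exact mem_bot.2 (h x hx)
  | succ i ih =>
    intro x hx
    rw [Subgroup.mem_upperCentralSeries_succ_iff] at hx ⊢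
    intro y
    simp only [commutatorElement_def] at hx ⊢
    let π := QuotientGroup.mk' (Subgroup.upperCentralSeries G i)
    have hk : ∀ g, π g = 1 ↔ g ∈ Subgroup.upperCentralSeries G i := fun g => QuotientGroup.eq_one_iff g
    have h1 : ∀ g, Commute (π (x * y * x⁻¹ * y⁻¹)) (π g) := fun g => by
      have := (hk _).2 (Subgroup.mem_upperCentralSeries_succ_iff.1 (hx y) g)
      rw [commutatorElement_def, map_mul, map_mul, map_mul, map_inv, map_inv, mul_inv_eq_one, mul_inv_eq_iff_eq_mul] at this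
      exact this
    have h2 : ∀ n : ℕ, π x ^ n * π y * (π x ^ n)⁻¹ = π (x * y * x⁻¹ * y⁻¹) ^ n * π y := fun n => by
      induction n with
      | zero => simp
      | succ n ih =>
        calc _ = π x * (π x ^ n * π y * (π x ^ n)⁻¹) * (π x)⁻¹ := by rw [pow_succ']; group
          _ = π x * π (x * y * x⁻¹ * y⁻¹) ^ n * π y * (π x)⁻¹ := by rw [ih]; group
          _ = _ := by rw [← ((h1 x).pow_left n).eq, pow_succ]; simp only [map_mul, map_inv]; group
    rw [← hk, map_mul, map_mul, map_mul, map_inv, map_inv, map_pow, h2, mul_inv_cancel_right, ← map_pow, hk]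
    exact ih _ (hx y)

theorem aux2 {G : Type*} [Group G] {e : ℕ} (h : ∀ z ∈ center G, z ^ e = 1) (i : ℕ) :
    ∀ x ∈ Subgroup.upperCentralSeries G i, x ^ e ^ i = 1 := by
  induction i with
  | zero => intro x hx; simpa using hx
  | succ i ih => intro x hx; rw [pow_succ', pow_mul]; exact ih _ (aux h i x hx)

/-- Let p be a prime, n a natural number, S a nontrivial finite p-group of nilpotence class at most n(p−1)+1, and F a saturated fusion system over S with no nontrivial normal subgroup (O_p(F) = 1). Then S has exponent dividing p^(n²(p−1)+n). -/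
theorem result {Ω : Type*} [Group Ω] {S : Subgroup Ω} [Finite S] (p : ℕ) [Fact p.Prime] (hS : IsPGroup p S) (F : Cfsg.FusionSystem S) (hF : F.IsSaturated p) (n : ℕ) (hS1 : S ≠ ⊥) (hcl : Subgroup.lowerCentralSeries S (n * (p - 1) + 1) = ⊥) (hcore : F.core = ⊥) : Monoid.exponent ↥S ∣ p ^ (n ^ 2 * (p - 1) + n) := by
  have h1 := le_bot_iff.1 (hcore ▸ le_core (normal_mho hS hF hcl))
  rw [← top_subtype_lowerCentralSeries, map_eq_bot_iff_of_injective _ S.subtype_injective,
    Subgroup.lowerCentralSeries_eq_bot_iff_upperCentralSeries_eq_top] at hcl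
  refine Monoid.exponent_dvd_of_forall_pow_eq_one fun x => ?_
  rw [show n ^ 2 * (p - 1) + n = n * (n * (p - 1) + 1) by ring, pow_mul]
  refine aux2 (fun z hz => Subtype.ext (mem_bot.1 (h1 ▸ subset_closure ⟨z, ⟨z.2, mem_cent_iff.2 fun y hy =>
    congrArg Subtype.val (mem_center_iff.1 hz ⟨y, hy⟩)⟩, rfl⟩))) _ x (hcl ▸ mem_top x)

end Cfsg.Agent.S5219
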