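import Cfsg.Statements.S5222
import Mathlib
import Cfsg.Agent.L0.Bis6

set_option autoImplicit false
open Cfsg

namespace Cfsg.Agent.S5222

open CfsgL0 CfsgH2 Subgroup

/-- Let F be a saturated fusion system over a finite p-group S whose normalizer fusion system of S is the inner fusion system of S (Aut_F(S) is a p-group). Then for every subgroup Q of S with [S, S] ≤ Q ≤ Φ(S), the normalizer fusion system of Q in F is the inner fusion system of N_S(Q) = S. -/
theorem result {Ω : Type*} [Group Ω] {S : Subgroup Ω} [Finite S] (p : ℕ) [Fact p.Prime] (hS : IsPGroup p S) (F : Cfsg.FusionSystem S) (hF : F.IsSaturated p) (hN : ∀ N : Cfsg.FusionSystem (Cfsg.FusionSystem.normalizerIn S S), F.IsNormalizerSystem S N → ∀ P : Subgroup Ω, N.Hom P = (Cfsg.innerFusionSystem (Cfsg.FusionSystem.normalizerIn S S)).Hom P) (Q : Subgroup Ω) (h1 : (commutator ↥S).map S.subtype ≤ Q) (h2 : Q ≤ (frattini ↥S).map S.subtype) : ∀ N : Cfsg.FusionSystem (Cfsg.FusionSystem.normalizerIn S Q), F.IsNormalizerSystem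 Q N → ∀ P : Subgroup Ω, N.Hom P = (Cfsg.innerFusionSystem (Cfsg.FusionSystem.normalizerIn S Q)).Hom P := by
  intro N hN'
  rw [map_subtype_commutator] at h1
  have hQ := h2.trans (map_subtype_le _)
  have hn := le_norm_of_between h1 hQ
  obtain ⟨E, a, b, c⟩ := exists_NS hS hF hQ hn
  have := inner_of_sc_frattini hS a (normal_sc b) h1 h2 ((isPGroup_inn hS).to_le
    ((aut_mono (NK_sub c)).trans (N_top_inner.1 hN).le))
  refine inner_iff_hom.2 (eq_inner_iff.2 fun P f hf => ?_)
  obtain ⟨s, d, e⟩ := eq_inner_iff.1 this P f ((c P f).2 ((isN_iff.1 hN' P f).1 hf))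
  exact ⟨s, mem_nI.2 ⟨d, hn d⟩, e⟩

end Cfsg.Agent.S5222
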