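import Cfsg.Statements.S5224
import Mathlib
import Cfsg.Agent.L0.Bis6

set_option autoImplicit false
open Cfsg

namespace Cfsg.Agent.S5224

open CfsgL0 CfsgH2 Subgroup

/-- Tate's Theorem for fusion systems. Let F be a saturated fusion system over a finite p-group S and H a saturated fusion system over S contained in F. Then the following are equivalent: the elementary focal subgroups Φ(S)·foc agree for F and H; the focal subgroups of F and H agree; the hyperfocal subgroups of F and H agree. -/
theorem result {Ω : Type*} [Group Ω] {S : Subgroup Ω} [Finite S] (p : ℕ) [Fact p.Prime] (hS : IsPGroup p S) (F : Cfsg.FusionSystem S) (hF : F.IsSaturated p) (H : Cfsg.FusionSystem S) (hH : H.IsSaturated p) (hHF : H.IsSubsystemOf F) : (((frattini ↥S).map S.subtype ⊔ F.focalSubgroup) = ((frattini ↥S).map S.subtype ⊔ H.focalSubgroup) ↔ F.focalSubgroup = H.focalSubgroup) ∧ (F.focalSubgroup = H.focalSubgroup ↔ F.hyperfocalSubgroup p = H.hyperfocalSubgroup p) := by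
  have h1 : H.hyperfocalSubgroup p ≤ F.hyperfocalSubgroup p := hyp_le_iff'.2 fun P hP α hα =>
    hyp_le_iff'.1 le_rfl P hP α (aut_mono hHF hα)
  have h3 : (frattini ↥S).map S.subtype ⊔ F.focalSubgroup = (frattini ↥S).map S.subtype ⊔ H.focalSubgroup →
      F.hyperfocalSubgroup p = H.hyperfocalSubgroup p := fun h =>
    le_antisymm (tate2 hS hF hyp_norm h1 ((hyp_le_foc.trans le_sup_right).trans (h.le.trans (by
      rw [foc_eq hS hH]
      exact sup_le le_sup_left (sup_le le_sup_right ((comm_le_frattini hS).trans le_sup_left)))))) h1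
  have h4 : F.hyperfocalSubgroup p = H.hyperfocalSubgroup p → F.focalSubgroup = H.focalSubgroup := fun h => by
    rw [foc_eq hS hF, foc_eq hS hH, h]
  exact ⟨⟨fun h => h4 (h3 h), fun h => by rw [h]⟩, fun h => h3 (by rw [h]), h4⟩

end Cfsg.Agent.S5224
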