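import Cfsg.Statements.S5243
import Cfsg.Agent.H2.Sa5

set_option autoImplicit false
open Cfsg

namespace Cfsg.Agent.S5243
open CfsgH2

/-- Let F be a saturated fusion system over a finite p-group S, E a normal subsystem of F over T ≤ S, and χ a surjective homomorphism from Aut_F(T) onto a nontrivial finite group Δ of order prime to p whose kernel contains Aut_E(T). Then there is a proper normal subsystem F₀ of F over S containing E such that Aut_{F₀}(S) consists of those α ∈ Aut_F(S) whose restriction to T is an element of Aut_F(T) in the kernel of χ; moreover every p'-residual subsystem O^{p'}(F) of F is contained in F₀. -/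
theorem result {Ω : Type*} [Group Ω] {S : Subgroup Ω} [Finite S] (p : ℕ) [Fact p.Prime] (hS : IsPGroup p S) (F : Cfsg.FusionSystem S) (hF : F.IsSaturated p) {T : Subgroup Ω} (hTS : T ≤ S) (E : Cfsg.FusionSystem T) (hE : E.IsNormalIn F p) {Δ : Type*} [Group Δ] [Finite Δ] [Nontrivial Δ] (hΔ : (Nat.card Δ).Coprime p) (χ : ↥(F.autGroup T) →* Δ) (hχ : Function.Surjective χ) (hker : (E.autGroup T).subgroupOf (F.autGroup T) ≤ χ.ker) : ∃ F₀ : Cfsg.FusionSystem S, F₀.IsNormalIn F p ∧ ¬ (∀ P : Subgroup Ω, F₀.Hom P = F.Hom P) ∧ E.IsSubsystemOf F₀ ∧ (∀ α : MulAut ↥S, α ∈ F₀.autGroup S ↔ α ∈ F.autGroup S ∧ ∃ β : ↥(F.autGroup T), χ β = 1 ∧ ∀ t : ↥T, (((β : MulAut ↥T) t : ↥T) : Ω) = ((α ⟨(t : Ω), hTS t.2⟩ : ↥S) : Ω)) ∧ ∀ R : Cfsg.FusionSystem S, F.IsPPrimeResidual p R → R.IsSubsystemOf F₀ := by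
  open Subgroup Function in open scoped commutatorElement in
  · open CfsgL0 in
    have hm : ∀ α : F.autGroup T, α.1 ∈ χ.ker.map (F.autGroup T).subtype ↔ χ α = 1 := fun α =>
      mem_map_iff_mem (f := (F.autGroup T).subtype) (K := χ.ker) (subtype_injective _)
    obtain ⟨D, a, b, c, d, -⟩ := exists_ptp hS (Γ := χ.ker.map (F.autGroup T).subtype) hE.1
      (fun α h => (hm ⟨α, CfsgL0.aut_mono hE.1.2.2.1 h⟩).2 (hker h))
      (fun α h k e => by
        have e1 : χ ⟨α, h⟩ ^ p ^ k = 1 := by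
          rw [← map_pow]; exact (hm (⟨α, h⟩ ^ p ^ k)).1 e
        refine (hm ⟨α, h⟩).2 (orderOf_eq_one_iff.1 ((Nat.coprime_self _).1 ?_))
        exact ((hΔ.pow_right k).coprime_dvd_left (orderOf_dvd_natCard _)).coprime_dvd_right
          (orderOf_dvd_of_pow_eq_one e1))
      (map_subtype_le _) (le_norm_map_subtype _)
    refine ⟨D, a, fun h => ?_, b, fun α => ?_, fun R h => h.2.2 D a.1.1 (CfsgL0.ptp_iff.2
      ⟨a.1.2.2.1, fun P => CfsgL0.ptp_of_fr hS hF (CfsgL0.inv_iff.1 a.1.2.2).2.2.2⟩)⟩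
    · obtain ⟨x, hx⟩ := exists_ne (1 : Δ)
      obtain ⟨α, rfl⟩ := hχ x
      exact hx ((hm α).1 (c ▸ CfsgL0.aut_mono (fun P => (h P).ge) α.2))
    · rw [CfsgL0.mem_aut le_rfl, CfsgL0.mem_aut le_rfl, d]
      refine and_congr_right fun _ => ⟨fun ⟨γ, u, v⟩ => ⟨⟨γ, map_subtype_le _ u⟩, (hm _).1 u,
        fun t => ?_⟩, fun ⟨β, u, v⟩ => ⟨β, (hm β).2 u, fun x hx => ?_⟩⟩
      · rw [← CfsgL0.af_apply α, ← v t t.2, CfsgL0.af_coe]
      · rw [CfsgL0.af_apply _ hx, CfsgL0.af_apply _ (hTS hx)]; exact v ⟨x, hx⟩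

end Cfsg.Agent.S5243
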