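import Cfsg.Statements.S5244
import Mathlib
import Cfsg.Agent.L0.FE6

set_option autoImplicit false
open Cfsg

namespace Cfsg.Agent.S5244

open Cfsg Subgroup CfsgH2 CfsgL0 CfsgBG Function

/-- Let p be an odd prime, S a finite nonabelian p-group with a unique abelian subgroup A of index p, and F a saturated fusion system over S with no nontrivial normal subgroup (O_p(F) = 1) in which A is not F-essential. Then some subgroup Z(S)⟨x⟩ with x ∈ S outside A is F-essential, the centre Z(S) is contained in the commutator subgroup of S, and S has maximal nilpotency class (if S has order pⁿ with n ≥ 3, the term of index n − 2 of its lower central series, counting S itself as the term of index 0, is nontrivial). -/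
theorem result {Ω : Type*} [Group Ω] {S : Subgroup Ω} [Finite S] (p : ℕ) [Fact p.Prime] (hS : IsPGroup p S) (F : Cfsg.FusionSystem S) (hF : F.IsSaturated p) (hp : p ≠ 2) (hna : ¬ IsMulCommutative ↥S) (A : Subgroup Ω) (hA : A ≤ S ∧ IsMulCommutative ↥A ∧ (A.subgroupOf S).index = p) (huniq : ∀ B : Subgroup Ω, B ≤ S → IsMulCommutative ↥B → (B.subgroupOf S).index = p → B = A) (hcore : F.core = ⊥) (hAe : ¬ F.IsEssential p A) : (∃ x ∈ S, x ∉ A ∧ F.IsEssential p ((S ⊓ Subgroup.centralizer (S : Set Ω)) ⊔ Subgroup.zpowers x)) ∧ (S ⊓ Subgroup.centralizer (S : Set Ω)) ≤ (commutator ↥S).map S.subtype ∧ ∀ n : ℕ, Nat.card S = p ^ n → 3 ≤ n → Subgroup.lowerCentralSeries S (n - 2) ≠ ⊥ := by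
  obtain ⟨h, un⟩ := oa_of hS hna hA huniq
  have j := S.subtype_injective
  obtain ⟨E, hE, k⟩ := exists_fin hS hF
  have hAe' : ¬ E.IsEssential p (A.subgroupOf S) := by rwa [← im_ex_id hA.1, k.ess_iff id_inj hS hF hA.1]
  obtain ⟨⟨x, x1, a⟩, b⟩ := h.center_le hE hp un (by rw [k.core_eq id_inj, hcore, im_ex_id bot_le, bot_subgroupOf]) hAe'
  rw [← map_center_subtype]
  have l : (center S).map S.subtype ⊔ zpowers (x : Ω) ≤ S := sup_le (map_subtype_le _) (zpowers_le.2 x.2)
  refine ⟨⟨x, x.2, x1, (k.ess_iff id_inj hS hF l).1 ?_⟩, map_mono b, fun n e n3 => ?_⟩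
  · rw [im_ex_id l, show zpowers (x : Ω) = (zpowers x).map S.subtype from (MonoidHom.map_zpowers S.subtype x).symm,
      ← Subgroup.map_sup]
    rwa [subgroupOf, comap_map_eq_self_of_injective j]
  obtain ⟨y, -, y1, c, d, -⟩ := h.ess hE un a fun e => hAe' (e ▸ a)
  have c1 := (h.five y1 c d).1
  rw [inf_eq_left.2 b] at c1
  obtain ⟨m, rfl⟩ := Nat.exists_eq_add_of_le' (show 2 ≤ n by omega)
  have := lcs_ne_bot_of_cent (p := p) m _ ⊤ (center S ⊔ zpowers x) (card_top.trans e) le_top (by
    rw [card_sup_zpowers_prime Fact.out (mem_norm_normal _ _) (h.cen x1 (h.pow_mem' x) ((Commute.refl x).pow_left p))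
      (fun k => x1 (h.Z_le k)), c1, sq]) ((centric_cI a.1))
  rwa [Ne, ← map_eq_bot_iff_of_injective _ j, map_lowerCentralSeries, map_subtype_top] at this

end Cfsg.Agent.S5244
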