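import Cfsg.Statements.S5245
import Cfsg.Agent.H1.Misc1
import Cfsg.Agent.H2.BG0
import Cfsg.Agent.L0.Bis6
import Cfsg.Agent.H2.Sa4

set_option autoImplicit false
open Cfsg

namespace Cfsg.Agent.S5245

/-- Let F be an extremely sparse fusion system over a finite p-group S (saturated, not the inner system, and every saturated fusion system over any subgroup T of S contained in F is F itself or the inner system of T). Then S is normal in F, the focal and hyperfocal subgroups of F are both S, and Aut_F(S) is generated by the inner automorphisms of S together with a single automorphism of prime order q ≠ p (F is the fusion system of the semidirect product of S by a cyclic group of prime order). -/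
theorem result {Ω : Type*} [Group Ω] {S : Subgroup Ω} [Finite S] (p : ℕ) [Fact p.Prime] (hS : IsPGroup p S) (F : Cfsg.FusionSystem S) (hF : F.IsSaturated p) (hxs : ¬ (∀ P : Subgroup Ω, F.Hom P = (Cfsg.innerFusionSystem S).Hom P) ∧ ∀ (T : Subgroup Ω) (E : Cfsg.FusionSystem T), E.IsSaturated p → E.IsSubsystemOf F → (T = S ∧ ∀ P : Subgroup Ω, E.Hom P = F.Hom P) ∨ (∀ P : Subgroup Ω, E.Hom P = (Cfsg.innerFusionSystem T).Hom P)) : F.IsNormal S ∧ F.focalSubgroup = S ∧ F.hyperfocalSubgroup p = S ∧ ∃ (q : ℕ) (β : MulAut ↥S), q.Prime ∧ q ≠ p ∧ β ∈ F.autGroup S ∧ orderOf β = q ∧ (F.autGroup S : Subgroup (MulAut ↥S)) = Cfsg.Inn ↥S ⊔ Subgroup.zpowers β := by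
  open Subgroup CfsgH2 in
  open CfsgL0 hiding Good alperin exists_good involves_iff in
  open scoped CfsgL0 in
  open scoped commutatorElement in
  · have hp : p.Prime := Fact.out
    have key : ∀ P ≤ S, ∀ β ∈ F.autGroup P, (orderOf β).Prime → orderOf β ≠ p →
        P = S ∧ ∀ Q f, M F Q f → ∃ α ∈ Inn P ⊔ zpowers β, ∀ x ∈ Q, f x = af α x := fun P l β hβ q1 q2 => by
      haveI := finite_of_le l
      have pP : IsPGroup p P := hS.to_le l
      have lK : Inn P ⊔ zpowers β ≤ F.autGroup P := sup_le (inn_le_aut l) (zpowers_le.2 hβ)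
      obtain ⟨E, hE⟩ := exists_subFS F P (fun Q f => Q ≤ P ∧ ∃ α ∈ Inn P ⊔ zpowers β, ∀ x ∈ Q, f x = af α x)
        (fun Q f ⟨h, α, hα, e⟩ => (((mem_aut l).1 (lK hα)).mono h).congr e)
        (fun Q f ⟨h, α, _, e⟩ => ⟨h, fun x hx => e x hx ▸ af_mem α (h hx)⟩)
        (fun Q f g ⟨h, α, hα, e⟩ k => ⟨h, α, hα, fun x hx => (k x hx).trans (e x hx)⟩)
        (fun Q h g hg => ⟨h, cA (le_normalizer hg), mem_sup_left (mem_inn.2 ⟨g, hg, fun y hy => af_cA _ hy⟩), fun x hx => (af_cA _ (h hx)).symm⟩)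
        (fun Q R f g ⟨h, α, hα, e⟩ ⟨_, γ, hγ, e'⟩ k => ⟨h, γ * α, mul_mem hγ hα, fun x hx => by rw [af_mul _ _ (h hx), ← e x hx, ← e' _ (k x hx)]⟩)
        (fun Q f ⟨h, α, hα, e⟩ => ⟨af α⁻¹, ⟨(im_congr e).le.trans ((im_mono _ h).trans (im_af α).le), α⁻¹, inv_mem hα, fun _ _ => rfl⟩,
          fun x hx => by rw [e x hx, af_inv_af _ (h hx)]⟩)
      have a : E.autGroup P = Inn P ⊔ zpowers β := by
        ext γ
        rw [mem_aut le_rfl, hE]
        exact ⟨fun ⟨_, α, hα, e⟩ => af_ext e ▸ hα, fun h => ⟨le_rfl, γ, h, fun _ _ => rfl⟩⟩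
      have c : ¬ p ∣ orderOf β := fun d => q2 ((Nat.prime_dvd_prime_iff_eq hp q1).1 d).symm
      have s : E.IsSaturated p := sat_of_stancu pP (fa_iff.2 ⟨le_rfl, by
        rw [a, ← inn_eq]
        refine ⟨le_sup_left, isPGroup_inn pP, fun d => c ?_⟩
        rw [sup_comm, relIndex_sup_of_norm ((zpowers_le.2 hβ).trans aut_le_norm_inn)] at d
        exact d.trans (Nat.card_zpowers β ▸ relIndex_dvd_card _ _)⟩) fun Q hQ => rec_iff.2 ⟨hQ.1, fun R f hf _ => by
          obtain ⟨h, α, hα, e⟩ := (hE _ _).1 hf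
          exact ⟨af α, (hE _ _).2 ⟨Ext_le, α, hα, fun _ _ => rfl⟩, fun x hx => (e x hx).symm⟩⟩
      rcases hxs.2 P E s (sub_iff_M.2 fun Q f h => let ⟨h, α, hα, e⟩ := (hE _ _).1 h; (((mem_aut l).1 (lK hα)).mono h).congr e) with ⟨e1, e2⟩ | e
      · exact ⟨e1, fun Q f h => ((hE _ _).1 ((hom_eq_iff_M.1 e2 Q f).2 h)).2⟩
      · obtain ⟨-, g, hg, e⟩ := M_inner.1 ((hom_eq_iff_M.1 e P _).1 ((mem_aut le_rfl).1 (a.ge (mem_sup_right (mem_zpowers β)))))
        obtain ⟨k, hk⟩ := (isPGroup_inn pP).exists_orderOf_eq_pow ⟨β, mem_inn.2 ⟨g, hg, e⟩⟩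
        rw [orderOf_mk] at hk
        exact absurd (q1.dvd_of_dvd_pow hk.dvd) fun d => q2 ((Nat.prime_dvd_prime_iff_eq q1 hp).1 d)
    obtain ⟨P, l, β, hβ, q1, q2⟩ : ∃ P ≤ S, ∃ β ∈ F.autGroup P, (orderOf β).Prime ∧ orderOf β ≠ p := by
      by_contra! c
      refine hxs.1 fun P => congrArg (fun E => FusionSystem.Hom E P) (eq_inner_of_pgroup hS hF fun P l => ?_)
      haveI := finite_of_le l
      refine isPGroup_of_coprime fun α hα k h1 h2 => by_contra fun n => ?_
      obtain ⟨q, hq, d⟩ := Nat.exists_prime_and_dvd (mt orderOf_eq_one_iff.1 n)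
      have o := orderOf_pow_orderOf_div (orderOf_pos α).ne' d
      have := c P l _ (pow_mem hα _) (o.symm ▸ hq)
      exact hp.one_lt.ne' (Nat.eq_one_of_dvd_coprimes h2 ((this ▸ o ▸ d :).trans (orderOf_dvd_of_pow_eq_one h1)) dvd_rfl)
    obtain ⟨rfl, k⟩ := key P l β hβ q1 q2
    have co : (orderOf β).Coprime p := (Nat.coprime_primes q1 hp).2 q2
    have lK : Inn P ⊔ zpowers β ≤ F.autGroup P := sup_le (inn_le_aut l) (zpowers_le.2 hβ)
    have h : F.hyperfocalSubgroup p = P := by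
      have m := ((mem_aut l).1 hβ).mono (hyp_le (F := F) (p := p))
      obtain ⟨δ, hδ, e⟩ := m.exists_aut (sc_im (hyp_sc hS hF) m le_rfl)
      have o : orderOf δ = orderOf β := by
        haveI := Fact.mk q1
        refine orderOf_eq_prime (af_ext fun x hx => by rw [af_pow_res hyp_le e _ x hx, pow_orderOf_eq_one, af_one hx, af_one (hyp_le hx)]) fun n => q1.ne_one (orderOf_eq_one_iff.2 (af_ext fun x hx => ?_))
        refine (chain_fix hS (pow_orderOf_eq_one β) co (fun i => if i = 0 then F.hyperfocalSubgroup p else P) (fun y _ hy => ?_) (fun i y hy _ => ?_) 1 x hx hx).trans (af_one hx).symm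
        · rw [← e y hy, n, af_one hy]
        · split_ifs
          · exact mem_hyp l (mem_piRes hβ ((piN_compl_singleton' hp).2 co)) hy
          · exact mul_mem (inv_mem hy) (af_mem _ hy)
      exact (key _ hyp_le δ hδ (o ▸ q1) (o ▸ q2)).1
    refine ⟨isNormal_iff.2 ⟨l, fun Q f hf => ?_⟩, le_antisymm foc_le (h.ge.trans hyp_le_foc), h, _, β, q1, q2, hβ, rfl, le_antisymm (fun γ hγ => ?_) lK⟩
    · obtain ⟨α, hα, e⟩ := k Q f hf
      exact ⟨af α, ((mem_aut l).1 (lK hα)).mono (sup_le hf.le l), fun x hx => (e x hx).symm, im_af α⟩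
    · obtain ⟨α, hα, e⟩ := k _ _ ((mem_aut l).1 hγ)
      exact af_ext e ▸ hα

end Cfsg.Agent.S5245
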