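import Cfsg.Statements.S5247
import Mathlib
import Cfsg.Agent.L0.PSt3

set_option autoImplicit false
open Cfsg

namespace Cfsg.Agent.S5247

open Cfsg Subgroup CfsgH2 CfsgL0

/-- Let p be an odd prime and F a saturated fusion system over a finite p-group S. Call a fusion system E (over any subgroup) p-stable when, for every fully E-normalized subgroup Q and every χ ∈ Aut_E(Q) with χ(a⁻¹)·a·χ(a⁻¹)·χ(χ(a)) = 1 for all a ∈ Q (χ acts quadratically), χ lies in O_p(Aut_E(Q)). Then F is p-stable if and only if every normalizer fusion system N_F(R) of every non-cyclic fully F-normalized subgroup R of S is p-stable. -/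
theorem result {Ω : Type*} [Group Ω] {S : Subgroup Ω} [Finite S] (p : ℕ) [Fact p.Prime] (hS : IsPGroup p S) (F : Cfsg.FusionSystem S) (hF : F.IsSaturated p) (hp : p ≠ 2) : (∀ Q : Subgroup Ω, F.IsFullyNormalized Q → ∀ χ : MulAut ↥Q, χ ∈ F.autGroup Q → (∀ a : ↥Q, (χ a⁻¹) * a * (χ a⁻¹) * (χ (χ a)) = 1) → χ ∈ ((Cfsg.pCore p ↥(F.autGroup Q)).map (F.autGroup Q).subtype : Subgroup (MulAut ↥Q))) ↔ ∀ R : Subgroup Ω, F.IsFullyNormalized R → ¬ IsCyclic ↥R → ∀ N : Cfsg.FusionSystem (Cfsg.FusionSystem.normalizerIn S R), F.IsNormalizerSystem R N → (∀ Q : Subgroup Ω, N.IsFullyNormalized Q → ∀ χ : MulAut ↥Q, χ ∈ N.autGroup Q → (∀ a : ↥Q, (χ a⁻¹) * a * (χ a⁻¹) * (χ (χ a)) = 1) → χ ∈ ((Cfsg.pCore p ↥(N.autGroup Q)).map (N.autGroup Q).subtype : Subgroup (MulAut ↥Q))) := by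
  refine ⟨fun h R _ _ N hN => ?_, fun h Q hQ χ h1 h2 => ?_⟩
  · haveI := finite_nI (S := S) (Q := R)
    exact fst_iff.1 ((fst_iff.2 h).sub (N_sub hN))
  haveI := finite_of_le hQ.1
  by_cases hc : IsCyclic Q
  · rw [map_pCore_subtype]
    refine le_pCoreOf (zpowers_le.2 h1) (fun α _ => mem_norm_zpowers ?_) ?_ (mem_zpowers χ)
    · obtain ⟨g, hg⟩ := hc.exists_zpow_surjective
      have : ∀ (a b : MulAut Q), a (b g) = b (a g) := fun a b => by
        obtain ⟨m, (e : g ^ m = _)⟩ := hg (a g)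
        obtain ⟨n, (e' : g ^ n = _)⟩ := hg (b g)
        rw [← e', map_zpow, ← e, map_zpow, ← e', ← zpow_mul, ← zpow_mul, mul_comm]
      rw [show α * χ = χ * α from MulEquiv.ext fun x => by
        obtain ⟨m, rfl⟩ := hg x
        simp only [MulAut.mul_apply, map_zpow, this α χ], mul_inv_cancel_right]
      exact mem_zpowers χ
    · obtain ⟨k, hk⟩ := IsPGroup.iff_card.1 (hS.to_le hQ.1)
      refine CfsgH2.isPGroup_zpowers (k := k) (MulEquiv.ext fun a => ?_)
      have : ∀ n : ℕ, (χ ^ n) a = a * (a⁻¹ * χ a) ^ n := fun n => by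
        induction n with
        | zero => simp
        | succ n ih => rw [pow_succ', MulAut.mul_apply, ih, map_mul, map_pow, (quad_iff χ).1 h2, pow_succ',
          ← mul_assoc a, mul_inv_cancel_left]
      rw [this, ← hk, pow_card_eq_one', mul_one]; rfl
  obtain ⟨N, hN⟩ := exists_N F hQ.1
  haveI := finite_nI (S := S) (Q := Q)
  have := h Q hQ hc N hN Q (fn_of_normal (le_nI hQ.1) nI_le_norm) χ
  rw [N_aut hN hQ.1] at this
  exact this h1 h2

end Cfsg.Agent.S5247
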