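import Cfsg.Statements.S5253
import Mathlib
import Cfsg.Agent.L0.Fus9

set_option autoImplicit false
universe u
open Cfsg

namespace Cfsg.Agent.S5253

open CfsgL0 CfsgH2 Subgroup
open scoped commutatorElement

theorem aux {L : Type*} [Group L] [Finite L] {p : ℕ} [hp : Fact p.Prime] {T Y : Subgroup L}
    (hT : Syl p T ⊤) (hL : C[pCore p L] ≤ pCore p L) (hY : ∀ y ∈ Y, ∃ z ∈ C[T], y = z ^ p)
    (h : ∀ U, pCore p L < U → U ≤ T → T ≤ N[U] → N[U] ≤ C[Y]) {g : L} (h1 : g ∈ T)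
    (h2 : g ∉ pCore p L) (h3 : ⁅⁅pCore p L ⊓ C[pCore p L], zpowers g⁆, zpowers g⁆ = ⊥) : ⊤ ≤ C[Y] := by
  set Q := pCore p L
  set Z := Q ⊓ C[Q]
  have hQT : Q ≤ T := hT.le_of_norm isPGroup_pCore le_top le_normalizer_of_normal
  let V := Subgroup.closure {y | ∃ z ∈ Z, y = z ^ p}
  have hZ : ⊤ ≤ N[Z] := le_norm_inf le_normalizer_of_normal (le_norm_cent le_normalizer_of_normal)
  have hV : ⊤ ≤ N[V] := fun a _ => mem_norm_of_map_le (by
    rw [MonoidHom.map_closure]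
    refine closure_mono ?_
    rintro _ ⟨_, ⟨z, hz, rfl⟩, rfl⟩
    exact ⟨_, conj_mem_of_norm (hZ (mem_top a)) hz, map_pow (cj a) z p⟩)
  have hYV : Y ≤ V := fun y hy => let ⟨z, a, b⟩ := hY y hy
    subset_closure ⟨z, ⟨hL (cent_anti hQT a), cent_anti hQT a⟩, b⟩
  have hK : ⊤ ≤ N[C[V]] := le_norm_cent hV
  have hQK : Q ≤ C[V] := le_centralizer_iff.1 ((closure_le _).2 fun _ ⟨z, a, b⟩ => b ▸ pow_mem a.2 p)
  obtain ⟨k, hk⟩ := pgroup_pow_eq_one hT.pg h1
  have : ∃ k, g ^ p ^ k ∈ Q := ⟨k, hk ▸ one_mem _⟩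
  classical
  have h4 := Nat.find_spec this
  obtain ⟨m, hm⟩ : ∃ m, Nat.find this = m + 1 := Nat.exists_eq_succ_of_ne_zero fun e => h2 (by
    rwa [e, pow_zero, pow_one] at h4)
  have h5 : g ^ p ^ m ∉ Q := Nat.find_min this (by omega)
  rw [hm, pow_succ, pow_mul] at h4
  set a := g ^ p ^ m
  have ha : a ∈ zpowers g := pow_mem (mem_zpowers g) _
  have h6 : a ∈ C[V] := (le_centralizer_iff.1 : V ≤ C[zpowers a] → _) ((closure_le _).2 fun _ ⟨z, hz, b⟩ => b ▸ by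
    refine mem_cent_iff.2 fun _ hx => ?_
    obtain ⟨i, rfl⟩ := mem_zpowers_iff.1 hx
    refine (Commute.zpow_left ?_ i).eq
    have c1 : ⁅z, a⁆ ∈ ⁅Z, zpowers g⁆ := commutator_mem_commutator hz ha
    have c2 : Commute ⁅z, a⁆ a := commutatorElement_eq_one_iff_commute.1
      (mem_bot.1 (h3 ▸ commutator_mem_commutator c1 ha))
    have c3 : ⁅z, a⁆ ∈ Z := comm_le_left (le_top.trans hZ) c1
    have c4 : Commute ⁅z, a⁆ z := mem_cent_iff.1 hz.2 _ c3.1
    have c5 : ∀ n : ℕ, z * a ^ n * z⁻¹ = ⁅z, a⁆ ^ n * a ^ n := fun n => by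
      rw [← c2.mul_pow, ← conj_pow, commutatorElement_def, inv_mul_cancel_right]
    have c6 : ⁅z, a⁆ ^ p = 1 := by
      have := c5 p
      rw [← mem_cent_iff.1 hz.2 _ h4, mul_inv_cancel_right] at this
      exact right_eq_mul.1 this
    have c7 : a * z * a⁻¹ = ⁅z, a⁆⁻¹ * z := by rw [commutatorElement_def]; group
    have c8 : a * z ^ p * a⁻¹ = z ^ p := by
      rw [← conj_pow, c7, c4.inv_left.mul_pow, inv_pow, c6, inv_one, one_mul]
    exact mul_inv_eq_iff_eq_mul.1 c8) (mem_zpowers a)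
  have h7 := hT.inf_norm (K := C[V]) le_top (le_top.trans hK)
  intro x _
  obtain ⟨k, b, n, c, rfl⟩ := h7.frattini (hK (mem_top x))
  exact mul_mem (cent_anti hYV b) (h _ (lt_of_le_of_ne (le_inf hQT hQK) fun e =>
    h5 (e ▸ ⟨pow_mem h1 _, h6⟩)) inf_le_left (le_norm_inf le_normalizer (le_top.trans hK)) c)

/-- Let p be a prime and W a positive characteristic p-functor with Z(Q) ≤ W(Q): W assigns to every finite p-group Q (in a fixed universe) a subgroup W(Q), nontrivial when Q is, carried to W(R) by every isomorphism Q ≅ R, and containing the centre of Q. Suppose that for every finite group G with Sylow p-subgroup P in which W(P) is not normal there is g ∈ P outside O_p(G) with [Z(O_p(G)), g, g] = 1. Then for every saturated fusion system F over a finite p-group S and every normalizer fusion system N of W(S) in F, every p-th power of an element of Z(S) that lies in the centre of N lies in the centre of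 F. -/
theorem result {p : ℕ} [Fact p.Prime] (W : ∀ (Q : Type u) [Group Q], Subgroup Q) (hW1 : ∀ (Q : Type u) [Group Q] [Finite Q], IsPGroup p Q → Nontrivial Q → W Q ≠ ⊥) (hW2 : ∀ (Q R : Type u) [Group Q] [Group R] [Finite Q], IsPGroup p Q → ∀ φ : Q ≃* R, (W Q).map φ.toMonoidHom = W R) (hWZ : ∀ (Q : Type u) [Group Q] [Finite Q], IsPGroup p Q → Subgroup.center Q ≤ W Q) (hq : ∀ (G : Type u) [Group G] [Finite G] (P : Sylow p G), ¬ (((W ↥(P : Subgroup G)).map (P : Subgroup G).subtype : Subgroup G)).Normal → ∃ g : G, g ∈ (P : Subgroup G) ∧ g ∉ Cfsg.pCore p G ∧ ⁅⁅Subgroup.center ↥(Cfsg.pCore p G) |>.map (Cfsg.pCore p G).subtype, Subgroup.zpowers g⁆, Subgroup.zpowers g⁆ = ⊥) {Ω : Type u} [Group Ω] {S : Subgroup Ω} [Finite S] (hS : IsPGroup p S) (F : Cfsg.FusionSystem S) (hF : F.IsSaturated p) (N : Cfsg.FusionSystem (Cfsg.FusionSystem.normalizerIn S ((W ↥S).map S.subtype))) (hN : F.IsNormalizerSystem ((W ↥S).map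 S.subtype) N) : Subgroup.closure ((fun z => z ^ p) '' ((S ⊓ Subgroup.centralizer (S : Set Ω) : Subgroup Ω) : Set Ω)) ⊓ N.center ≤ F.center := by
  refine W_center' hS hF hW2 hWZ hN inf_le_right fun V hV hc N' _ L _ ι hL h h' => ?_
  haveI := hL.1
  by_cases hn : (Wa W ι.range).Normal
  · exact le_normalizer_of_normal.trans h
  obtain ⟨P, hP⟩ := (model_syl hL).exists_top
  obtain ⟨g, a, b, c⟩ := hq L P (hP ▸ hn)
  have hZ : S ⊓ C[S] ≤ FusionSystem.normalizerIn S V := inf_le_inf_left _ ((cent_anti hV.1).trans (cent_le_norm _))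
  have hle : Subgroup.closure ((fun z => z ^ p) '' ((S ⊓ C[S] : Subgroup Ω) : Set Ω)) ≤ S ⊓ C[S] :=
    (closure_le _).2 fun _ ⟨z, a, b⟩ => b ▸ pow_mem a p
  refine aux (model_syl hL) hL.2.2.2 (fun y hy => ?_) h' (hP ▸ a) b (le_bot_iff.1 (c ▸ commutator_mono
    (commutator_mono (fun x hx => ⟨⟨x, hx.1⟩, mem_center_iff.2 fun z => Subtype.ext (mem_cent_iff.1 hx.2 z z.2), rfl⟩) le_rfl) le_rfl))
  obtain ⟨x, hx, rfl⟩ := (mem_imθ (inf_le_left.trans (hle.trans hZ))).1 hy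
  have : ∃ z ∈ S ⊓ C[S], x = z ^ p := by
    refine closure_induction (p := fun x _ => ∃ z ∈ S ⊓ C[S], x = z ^ p) ?_ ⟨1, one_mem _, (one_pow _).symm⟩ ?_ ?_ (mem_inf.1 hx).1
    · rintro _ ⟨z, a, b⟩; exact ⟨z, a, b.symm⟩
    · rintro _ _ _ _ ⟨a, ha, rfl⟩ ⟨b, hb, rfl⟩
      exact ⟨a * b, mul_mem ha hb, (Commute.mul_pow (mem_cent_iff.1 hb.2 a ha.1) p).symm⟩
    · rintro _ _ ⟨a, ha, rfl⟩
      exact ⟨a⁻¹, inv_mem ha, (inv_pow _ _).symm⟩
  obtain ⟨z, hz, rfl⟩ := this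
  refine ⟨ex ι z, ?_, (homOn_ex ι).pow (hZ hz) p⟩
  rw [range_ex]
  exact (homOn_ex ι).mem_cent' le_rfl (hZ hz) (cent_anti nI_le hz.2)

end Cfsg.Agent.S5253
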