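import Cfsg.Statements.S5254
import Mathlib
import Cfsg.Agent.L0.FE6

set_option autoImplicit false
open Cfsg

namespace Cfsg.Agent.S5254

open Cfsg CfsgH2 CfsgL0 CfsgBG Function
open Subgroup hiding upperCentralSeries

/-- Let p be an odd prime, S a finite nonabelian p-group with a unique abelian subgroup A of index p, and F a saturated fusion system over S. Then every F-essential subgroup P is A, or Z(S)⟨x⟩ for some x ∈ S outside A, or (when the second centre Z₂(S) lies in A) Z₂(S)⟨x⟩ for some x ∈ S outside A; and P has index p in its normalizer in S. -/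
theorem result {Ω : Type*} [Group Ω] {S : Subgroup Ω} [Finite S] (p : ℕ) [Fact p.Prime] (hS : IsPGroup p S) (F : Cfsg.FusionSystem S) (hF : F.IsSaturated p) (hp : p ≠ 2) (hna : ¬ IsMulCommutative ↥S) (A : Subgroup Ω) (hA : A ≤ S ∧ IsMulCommutative ↥A ∧ (A.subgroupOf S).index = p) (huniq : ∀ B : Subgroup Ω, B ≤ S → IsMulCommutative ↥B → (B.subgroupOf S).index = p → B = A) (P : Subgroup Ω) (hP : F.IsEssential p P) : (P = A ∨ (∃ x ∈ S, x ∉ A ∧ P = (S ⊓ Subgroup.centralizer (S : Set Ω)) ⊔ Subgroup.zpowers x) ∨ (((upperCentralSeries ↥S 2).map S.subtype) ≤ A ∧ ∃ x ∈ S, x ∉ A ∧ P = ((upperCentralSeries ↥S 2).map S.subtype) ⊔ Subgroup.zpowers x)) ∧ (P.subgroupOf (S ⊓ Subgroup.normalizer (P : Set Ω))).index = p := by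
  obtain ⟨h, un⟩ := oa_of hS hna hA huniq
  haveI := h.normal
  have l := hP.1.1
  have j := S.subtype_injective
  by_cases e : P = A
  · subst e
    refine ⟨.inl rfl, ?_⟩
    rw [inf_eq_left.2 ((normal_subgroupOf_iff_le_normalizer l).1 inferInstance)]
    exact hA.2.2
  obtain ⟨E, hE, k⟩ := exists_fin hS hF
  have := k.ess id_inj hS hF hP
  rw [im_ex_id l] at this
  obtain ⟨x, -, x1, a, -, b, c⟩ := h.ess hE un this fun k => e (by
    rw [← map_subgroupOf_eq_of_le l, k, map_subgroupOf_eq_of_le hA.1])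
  refine ⟨.inr (c.imp (fun c => ⟨x, x.2, x1, ?_⟩) fun c => ⟨(map_mono a).trans (map_subgroupOf_eq_of_le hA.1).le,
    x, x.2, x1, ?_⟩), ?_⟩
  · rw [← map_subgroupOf_eq_of_le l, c.2, Subgroup.map_sup, map_center_subtype, MonoidHom.map_zpowers]; rfl
  · rw [← map_subgroupOf_eq_of_le l, c.2, Subgroup.map_sup, MonoidHom.map_zpowers]; rfl
  · rwa [← relIndex_map_map_of_injective _ _ j, ← inj_inf_norm j, map_subtype_top, map_subgroupOf_eq_of_le l] at b

end Cfsg.Agent.S5254
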