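import Cfsg.Statements.S5257
import Mathlib
import Cfsg.Agent.L0.FE6

set_option autoImplicit false
open Cfsg

namespace Cfsg.Agent.S5257

open Cfsg CfsgH2 CfsgL0 CfsgBG Function
open Subgroup hiding upperCentralSeries

/-- Let p be an odd prime, S a finite nonabelian p-group with a unique abelian subgroup A of index p, and F a saturated fusion system over S having an F-essential subgroup other than A. Then the second centre Z₂(S) lies in A; Z(S) ∩ [S, S] has order p; Z(S)[S, S] has index p in A; Z(S) has index p in Z₂(S); and S/Z(S) has maximal nilpotency class (if S/Z(S) has order pᵐ with m ≥ 3 then the term of index m − 2 of the lower central series of S, counting S as index 0, is not contained in Z(S)). -/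
theorem result {Ω : Type*} [Group Ω] {S : Subgroup Ω} [Finite S] (p : ℕ) [Fact p.Prime] (hS : IsPGroup p S) (F : Cfsg.FusionSystem S) (hF : F.IsSaturated p) (hp : p ≠ 2) (hna : ¬ IsMulCommutative ↥S) (A : Subgroup Ω) (hA : A ≤ S ∧ IsMulCommutative ↥A ∧ (A.subgroupOf S).index = p) (huniq : ∀ B : Subgroup Ω, B ≤ S → IsMulCommutative ↥B → (B.subgroupOf S).index = p → B = A) (P : Subgroup Ω) (hP : F.IsEssential p P) (hPA : P ≠ A) : ((upperCentralSeries ↥S 2).map S.subtype) ≤ A ∧ Nat.card ↥((S ⊓ Subgroup.centralizer (S : Set Ω)) ⊓ ((commutator ↥S).map S.subtype)) = p ∧ (((S ⊓ Subgroup.centralizer (S : Set Ω)) ⊔ ((commutator ↥S).map S.subtype)).subgroupOf A).index = p ∧ (((S ⊓ Subgroup.centralizer (S : Set Ω))).subgroupOf ((upperCentralSeries ↥S 2).map S.subtype)).index = p ∧ ∀ m : ℕ, ((S ⊓ Subgroup.centralizer (S : Set Ω)).subgroupOf S).index = p ^ m → 3 ≤ m → ¬ Subgroup.lowerCentralSeries S (m - 2) ≤ (S ⊓ Subgroup.centralizer (S : Set Ω)) := by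
  obtain ⟨h, un⟩ := oa_of hS hna hA huniq
  have l := hP.1.1
  have j := S.subtype_injective
  obtain ⟨E, hE, k⟩ := exists_fin hS hF
  have := k.ess id_inj hS hF hP
  rw [im_ex_id l] at this
  obtain ⟨x, -, x1, a, b, -⟩ := h.ess hE un this fun k => hPA (by
    rw [← map_subgroupOf_eq_of_le l, k, map_subgroupOf_eq_of_le hA.1])
  obtain ⟨c1, c2, c3⟩ := h.five x1 a b
  rw [← map_center_subtype]
  refine ⟨(map_mono a).trans (map_subgroupOf_eq_of_le hA.1).le, ?_, ?_, ?_, fun m e m3 k => ?_⟩
  · rw [← map_inf _ _ _ j, card_map_of_injective j]; exact c1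
  · rwa [← relIndex_map_map_of_injective _ _ j, map_subgroupOf_eq_of_le hA.1, Subgroup.map_sup] at c2
  · rwa [← relIndex_map_map_of_injective _ _ j] at b
  · obtain ⟨m, rfl⟩ := Nat.exists_eq_add_of_le' (show 2 ≤ m by omega)
    refine c3 m (by rw [← e]; congr 1; exact (comap_map_eq_self_of_injective j _).symm) ?_
    rwa [← map_le_map_iff_of_injective j, map_lowerCentralSeries, map_subtype_top]

end Cfsg.Agent.S5257
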