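import Cfsg.Statements.S5265
import Mathlib
import Cfsg.Agent.L0.FE7

set_option autoImplicit false
open Cfsg

namespace Cfsg.Agent.S5265

open Cfsg Subgroup CfsgH2 CfsgL0 CfsgBG Function

/-- Let p be a prime, S a nontrivial finite p-group whose centre has index at most p², and F a saturated fusion system over S with no nontrivial normal subgroup and with hyperfocal subgroup equal to S. Then S is extraspecial of order p³; for odd p it has exponent p, and for p = 2 it is dihedral of order 8. -/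
theorem result {Ω : Type*} [Group Ω] {S : Subgroup Ω} [Finite S] (p : ℕ) [Fact p.Prime] (hS : IsPGroup p ↥S) (F : Cfsg.FusionSystem S) (hF : F.IsSaturated p) (hS1 : S ≠ ⊥) (hcore : F.core = ⊥) (hhyp : F.hyperfocalSubgroup p = S) (hZ : (Subgroup.center ↥S).index ≤ p ^ 2) : Cfsg.IsExtraspecial p ↥S ∧ Nat.card S = p ^ 3 ∧ (p ≠ 2 → Monoid.exponent ↥S = p) ∧ (p = 2 → Nonempty (↥S ≃* DihedralGroup 4)) := by
  have n : ¬ IsMulCommutative (⊤ : Subgroup S) := fun k => hS1 (eq_bot_iff.2 (hcore ▸
    le_core (normal_of_comm hS hF sc_top (isMulComm_top_iff.1 k))))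
  obtain ⟨z, h⟩ := exists_CZ hS n hZ
  obtain ⟨E, hE, k⟩ := exists_fin hS hF
  obtain ⟨a, b, c⟩ := h.main hE (by rw [k.core_eq id_inj, hcore, im_ex_id bot_le, bot_subgroupOf])
    (by rw [k.hyp, hhyp, im_ex_id le_rfl, subgroupOf_self]) n
  refine ⟨extraspecial_top_iff.2 ⟨wx_of_card (card_top.trans a) n, n⟩, a, fun p2 => ?_, b⟩
  refine ((Nat.dvd_prime Fact.out).1 (Monoid.exponent_dvd_of_forall_pow_eq_one (c p2))).resolve_left fun h => n ?_
  haveI := Monoid.exp_eq_one_iff.1 h
  infer_instance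

end Cfsg.Agent.S5265
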