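import Cfsg.Statements.S5270
import Cfsg.Agent.H1.Misc1
import Cfsg.Agent.H2.BG0
import Cfsg.Agent.L0.Fus4
import Cfsg.Agent.H1.MxC

set_option autoImplicit false
open Cfsg

namespace Cfsg.Agent.S5270

/-- Let p ≥ 5 be a prime, S a finite p-group of maximal class of order p^n with n ≥ 4, and F a saturated fusion system over S. If some map of F defined on the second centre Z₂(S) with image Z₂(S) does not carry Z(S) into itself, then the centralizer C_S(Z₂(S)) is an F-essential subgroup. -/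
theorem result {Ω : Type*} [Group Ω] {S : Subgroup Ω} [Finite S] (p : ℕ) [Fact p.Prime] (hS : IsPGroup p ↥S) (n : ℕ) (hn : Nat.card S = p ^ n) (h4 : 4 ≤ n) (hmax : Subgroup.lowerCentralSeries S (n - 2) ≠ ⊥) (F : Cfsg.FusionSystem S) (hF : F.IsSaturated p) (hp : 5 ≤ p) (φ : ↥((Subgroup.upperCentralSeries ↥S 2).map S.subtype) →* Ω) (hφ : φ ∈ F.Hom ((Subgroup.upperCentralSeries ↥S 2).map S.subtype)) (hφZ : φ.range = ((Subgroup.upperCentralSeries ↥S 2).map S.subtype)) (hmove : ∃ (z : Ω) (hz : z ∈ ((Subgroup.upperCentralSeries ↥S 2).map S.subtype)), z ∈ ((Subgroup.center ↥S).map S.subtype) ∧ φ ⟨z, hz⟩ ∉ ((Subgroup.center ↥S).map S.subtype)) : F.IsEssential p (S ⊓ Subgroup.centralizer (((Subgroup.upperCentralSeries ↥S 2).map S.subtype) : Set Ω)) := by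
  open Subgroup CfsgH2 in
  open CfsgL0 hiding alperin in
  open scoped CfsgL0 in
  open CfsgH1 hiding card_inf_mul_relIndex card_lt_of_lt card_lt_of_ne_top card_map_mul_card_inf_ker card_mul_relIndex card_subgroupOf card_sup_dvd card_sup_mul_card_inf coprime_le_sup_cent exists_card_prime_le isNilpotent_map isNilpotent_of_le isPGroup_pCore isSolvable_map isSolvable_of_le le_pCore le_pPrimeCore relIndex_map_dvd in
  open scoped CfsgH1 in
  open scoped commutatorElement in
  · have i := S.subtype_injective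
    have c := card_ucs_two (G := S) hn (fun e => hmax (by rw [← top_subtype_lowerCentralSeries, e, Subgroup.map_bot])) h4
    have d := relIndex_cent_dvd_of_card_sq (P := ⊤) (hS.to_subgroup _) (top_le_norm_iff.2 inferInstance) c
    have nV : S ≤ N[(Subgroup.upperCentralSeries S 2).map S.subtype] := le_norm_map_subtype _
    have lV : (Subgroup.upperCentralSeries S 2).map S.subtype ≤ S := map_subtype_le _
    have mx : ∀ Q ≤ S, S ⊓ C[(Subgroup.upperCentralSeries S 2).map S.subtype] < Q → Q = S := fun Q l h => by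
      have l1 : C[Subgroup.upperCentralSeries S 2] ≤ Q.subgroupOf S := fun x hx => h.le ⟨x.2, (inj_mem_cent i).2 hx⟩
      rw [← relIndex_mul_relIndex _ _ _ l1 le_top] at d
      rcases (Nat.dvd_prime Fact.out).1 ((Dvd.intro _ rfl).trans d) with e | e
      · exact absurd (fun x hx => ⟨l hx, (inj_mem_cent i (a := ⟨x, l hx⟩)).2 (relIndex_eq_one.1 e hx)⟩) h.not_ge
      · rw [e] at d
        exact le_antisymm l fun x hx => relIndex_eq_one.1 (Nat.dvd_one.1 (Nat.dvd_of_mul_dvd_mul_left (Fact.out : p.Prime).pos (d.trans (mul_one p).symm.dvd))) (mem_top (⟨x, hx⟩ : S))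
    have mz : ∀ x, x ∈ (center S).map S.subtype ↔ x ∈ S ∧ x ∈ C[S] := fun x =>
      ⟨fun ⟨y, hy, e⟩ => e ▸ ⟨y.2, mem_cent_iff.2 fun z hz => congrArg Subtype.val (mem_center_iff.1 hy ⟨z, hz⟩)⟩,
        fun h => ⟨⟨x, h.1⟩, mem_center_iff.2 fun y => Subtype.ext (mem_cent_iff.1 h.2 y y.2), rfl⟩⟩
    obtain ⟨z, hz, z1, z2⟩ := hmove
    rw [mz] at z1 z2
    have m : φ ⟨z, hz⟩ ∈ (Subgroup.upperCentralSeries S 2).map S.subtype := hφZ.le ⟨_, rfl⟩
    generalize (Subgroup.upperCentralSeries S 2).map S.subtype = V at *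
    have e : im V (ex φ) = V := (range_eq_im φ fun x => (ex_coe φ x).symm).symm.trans hφZ
    obtain ⟨g, hg, k⟩ := (rec_iff.1 (sat_fn_rec hS hF (fn_of_normal lV nV))).2 V _ (M_ex hφ) e
    have l : S ⊓ C[V] ≤ Ext S V (ex φ) := cI_le_Ext
    obtain ⟨ψ, hψ, a⟩ := (hg.mono l).exists_aut ((hg.mono l).im_eq_of_le le_rfl fun x hx => ⟨hg.mem (l hx), by
      have := hg.mem_cent (M_ex hφ).le_Ext (l hx) hx.2
      rwa [im_congr k, e] at this⟩)
    have lZ : ∀ x, x ∈ S ∧ x ∈ C[S] → x ∈ S ⊓ C[V] := fun x h => ⟨h.1, cent_anti lV h.2⟩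
    refine (ess_iff hS hF (inf_le_left.lt_of_ne fun h => z2 ⟨lV m, le_centralizer_iff.1 (h.ge.trans inf_le_right) m⟩)
      (fn_of_normal inf_le_left (le_norm_inf le_normalizer (le_norm_cent nV)))).2 fun h => z2 ?_
    have : ∀ α ∈ HX F (S ⊓ C[V]), ∀ x ∈ S ⊓ C[V], af α x ∈ C[S] ↔ x ∈ C[S] := fun α hα => by
      induction hα using closure_induction with
      | mem α h =>
        obtain ⟨Q, h1, f, h2, h3⟩ := h
        obtain rfl := mx Q h2.le h1
        intro x hx
        rw [← h3 x hx, ← h2.mem_cent_iff le_rfl hx.1, h2.im_top]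
      | one => intro x hx; rw [af_one hx]
      | mul α β _ _ h1 h2 => intro x hx; rw [af_mul _ _ hx, h1 _ (af_mem _ hx), h2 x hx]
      | inv α _ h => intro x hx; rw [← h _ (af_mem _ hx), af_af_inv _ hx]
    have := (this ψ (h.ge hψ) z (lZ z z1)).2 z1.2
    rw [a z (lZ z z1), k z hz, ex_apply φ hz] at this
    exact ⟨lV m, this⟩

end Cfsg.Agent.S5270
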