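import Cfsg.Statements.S5271
import Cfsg.Agent.H2.We1

set_option autoImplicit false
open Cfsg

namespace Cfsg.Agent.S5271
open CfsgH2

/-- A nilpotency criterion for fusion systems. Let F be a saturated fusion system over a finite p-group S of order at least p². Call a subgroup Q of S weakly embedded in F when there is a subgroup P of S strongly closed in F such that both the product QP and the intersection Q ∩ P are strongly closed in F. Then F is the inner fusion system of S if and only if there is a subgroup D of S with 1 < D < S such that every subgroup of S of the same order as D is weakly embedded in F and, for every fully normalized subgroup H of S of that order, the normalizer fusion system of H in F is the inner fusion system of N_S(H). -/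
theorem result {Ω : Type*} [Group Ω] {S : Subgroup Ω} [Finite S] (p : ℕ) [Fact p.Prime] (hS : IsPGroup p ↥S) (F : Cfsg.FusionSystem S) (hF : F.IsSaturated p) (hcard : p ^ 2 ≤ Nat.card S) : (∀ P : Subgroup Ω, F.Hom P = (Cfsg.innerFusionSystem S).Hom P) ↔ ∃ D : Subgroup Ω, ⊥ < D ∧ D < S ∧ (∀ Q : Subgroup Ω, Q ≤ S → Nat.card ↥Q = Nat.card ↥D → ∃ P : Subgroup Ω, F.StronglyClosed P ∧ F.StronglyClosed (Q ⊔ P) ∧ F.StronglyClosed (Q ⊓ P)) ∧ (∀ H : Subgroup Ω, F.IsFullyNormalized H → Nat.card ↥H = Nat.card ↥D → ∀ N : Cfsg.FusionSystem (Cfsg.FusionSystem.normalizerIn S H), F.IsNormalizerSystem H N → ∀ P : Subgroup Ω, N.Hom P = (Cfsg.innerFusionSystem (Cfsg.FusionSystem.normalizerIn S H)).Hom P) := by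
  open Subgroup Function in open scoped commutatorElement in
  · open Subgroup CfsgH2 CfsgL0 in
    open Cfsg.FusionSystem hiding inv_mem center in
    rw [inner_iff_hom]
    constructor
    · intro h
      obtain ⟨D, a, b, c⟩ := exists_idx hS hcard
      refine ⟨D, a, b, fun Q hQ cQ => ?_, fun H hH cH N hN => ?_⟩
      · have sQ : F.StronglyClosed Q := sc_iff.2 ⟨hQ, fun P f hf x hx hx' => by
          obtain ⟨s, d, e⟩ := eq_inner_iff.1 h P f hf
          rw [e x hx]; exact conj_mem_of_norm (c Q hQ cQ d) hx'⟩
        exact ⟨⊥, sc_bot, by rwa [sup_bot_eq], by rw [inf_bot_eq]; exact sc_bot⟩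
      · refine inner_iff_hom.2 (eq_inner_iff.2 fun P f hf => ?_)
        obtain ⟨s, d, e⟩ := eq_inner_iff.1 h P f ((isN_iff.1 hN P f).1 hf).toM
        exact ⟨s, mem_nI.2 ⟨d, c H hH.1 cH d⟩, e⟩
    · rintro ⟨D, a, b, c, d⟩
      haveI := finite_of_le b.le
      obtain ⟨k, hk⟩ := IsPGroup.iff_card.1 (hS.to_le b.le)
      refine WE.inner (k := k) hS hF ⟨Nat.pos_of_ne_zero fun e => a.ne' ?_, ?_, fun Q hQ cQ => c Q hQ (cQ.trans hk.symm),
        fun H hH cH N hN => inner_iff_hom.1 (d H hH (cH.trans hk.symm) N hN)⟩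
      · rw [e, pow_zero] at hk
        exact card_eq_one.1 hk
      · rw [← hk]
        exact lt_of_le_of_ne (card_le_of_le b.le) fun e => b.ne (eq_of_le_of_card_ge b.le e.ge)

end Cfsg.Agent.S5271
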