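import Cfsg.Statements.S5296
import Mathlib
import Cfsg.Agent.L0.Fus13

set_option autoImplicit false
universe u
open Cfsg

namespace Cfsg.Agent.S5296

open Cfsg Subgroup CfsgH2 CfsgL0

/-- Small-exponent abelian subgroups of the hyperfocal subgroup control fusion. Let E and F be saturated fusion systems over the same finite p-group S with E contained in F. Suppose that E and F have the same maps between A and B for all subgroups A, B of the hyperfocal subgroup of F that are elementary abelian when p is odd, respectively abelian of exponent dividing 4 when p = 2. Then E = F. -/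
theorem result {Ω : Type u} [Group Ω] {S : Subgroup Ω} [Finite S] (p : ℕ) [Fact p.Prime] (hS : IsPGroup p S)
    (E F : Cfsg.FusionSystem S) (hE : E.IsSaturated p) (hF : F.IsSaturated p) (hEF : E.IsSubsystemOf F)
    (hodd : p ≠ 2 → ∀ A B : Subgroup Ω, A ≤ (F.hyperfocalSubgroup p) → B ≤ (F.hyperfocalSubgroup p) →
      Cfsg.IsElementaryAbelian p A → Cfsg.IsElementaryAbelian p B → E.homSet A B = F.homSet A B)
    (htwo : p = 2 → ∀ A B : Subgroup Ω, A ≤ (F.hyperfocalSubgroup p) → B ≤ (F.hyperfocalSubgroup p) →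
      IsMulCommutative ↥A → IsMulCommutative ↥B → (∀ a ∈ A, a ^ 4 = 1) → (∀ b ∈ B, b ^ 4 = 1) → E.homSet A B = F.homSet A B) :
    ∀ P : Subgroup Ω, E.Hom P = F.Hom P := by
  refine (hom_eq_iff_M.2 fun P f => ⟨fun h => h.sub hEF, bgh hS hF hE hEF (fun A a b c f hf => ?_) P f⟩)
  have h1 : im A f ≤ F.hyperfocalSubgroup p := im_le_iff.2 fun x hx => sc_mem (hyp_sc hS hF) hf hx (a hx)
  have h2 : IsMulCommutative (im A f) := by
    rw [← hf.homOn.range_hom, MonoidHom.range_eq_map]; exact isMulComm_map _ (isMulComm_top_iff.2 b)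
  have h3 : ∀ n, (∀ x ∈ A, x ^ n = 1) → ∀ y ∈ im A f, y ^ n = 1 := fun n h y hy => by
    obtain ⟨x, hx, rfl⟩ := hf.mem_im.1 hy
    rw [← hf.pow hx, h x hx, hf.one]
  have : E.homSet A (im A f) = F.homSet A (im A f) := by
    by_cases hp : p = 2
    · have k : ∀ x ∈ A, x ^ 4 = 1 := fun x hx => (c x hx).pow.elim
        (fun h => by rw [show 4 = p * 2 by omega, pow_mul, h, one_pow]) fun h => h.2
      exact htwo hp _ _ a h1 b h2 k (h3 _ k)
    · have k : ∀ x ∈ A, x ^ p = 1 := fun x hx => (c x hx).pow.elim id fun h => (hp h.1).elim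
      exact hodd hp _ _ a h1 ⟨b, k⟩ ⟨h2, h3 _ k⟩
  exact ⟨_, (this.ge ⟨hf.hom_mem, fun x => mem_im_of f x.2⟩).1, fun _ => rfl⟩

end Cfsg.Agent.S5296
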