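import Cfsg.Statements.S5274
import Mathlib
import Cfsg.Agent.L0.Fus5
import Cfsg.Agent.S5132

set_option autoImplicit false
open Cfsg

open Subgroup CfsgL0 FusionSystem

namespace Cfsg.Agent.S5274

universe u

theorem real_sq {Ω : Type*} [Group Ω] {S : Subgroup Ω} [Finite S] (hS : IsPGroup 2 ↥S) (F : FusionSystem S)
    (hF : F.IsSaturated 2) {x a z : Ω} (ha : a ∈ S) (hz : z ∈ S ⊓ Subgroup.centralizer (S : Set Ω))
    (h : F.IsConjElt x z) (e : a * x * a⁻¹ = x⁻¹) : x⁻¹ = x := by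
  obtain ⟨P, f, hf, hx, rfl⟩ := isConjElt_iff.1 h
  have hxS := hf.le hx
  have hf' := hf.mono (zpowers_le.2 hx)
  have c1 := hf'.isConj
  rw [hf'.homOn.im_zpowers (mem_zpowers x)] at c1
  obtain ⟨Q, c2, q1, q2⟩ := hF _ (zpowers_le.2 hz.1)
  obtain ⟨g, hg, rfl⟩ := isConj_iff'.1 c2
  obtain ⟨g', hg', e'⟩ := (rec_iff.1 q2).2 _ g hg rfl
  have hg2 : M F S g' := hg'.mono (le_trans (fun y hy => mem_cI.2 ⟨hy, le_centralizer_iff.1
    (zpowers_le.2 hz.2) hy⟩) cI_le_Ext)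
  have c3 : im (zpowers (f x)) g ≤ centralizer (S : Set Ω) := im_le_iff.2 fun y hy => by
    have := hg2.mem_cent le_rfl (zpowers_le.2 hz.1 hy) (zpowers_le.2 hz.2 hy)
    rwa [hg2.im_top, e' y hy] at this
  obtain ⟨k, hk, k1, k2⟩ := exists_conj_into q1 (fconj_trans c1 c2) (isPGroup_autInd (P := zpowers x) hS)
    (autInd_le_aut (zpowers_le.2 hxS) le_rfl)
  have hn : a ∈ normalizer (zpowers x : Set Ω) := mem_norm_of_conj' (zpowers_le.2 hxS) (by
    rintro _ ⟨j, rfl⟩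
    simp only
    rw [← conj_zpow, e]
    exact zpow_mem (inv_mem (mem_zpowers x)) j)
  obtain ⟨s, hs, -, s2⟩ := k2 _ (cA_mem hn ha)
  have := s2 x (mem_zpowers x)
  rw [af_cA hn (mem_zpowers x), e, c3 (k1 ▸ mem_im_of k (mem_zpowers x)) s hs, mul_inv_cancel_right] at this
  exact hk.inj (inv_mem (mem_zpowers x)) (mem_zpowers x) this

theorem aux (n : ℕ) : ∀ {Ω : Type u} [Group Ω] {S : Subgroup Ω} [Finite S], Nat.card S = n → IsPGroup 2 ↥S →
    ∀ F : FusionSystem S, F.IsSaturated 2 →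
    (∀ x ∈ S, ∃ z ∈ S ⊓ Subgroup.centralizer (S : Set Ω), F.IsConjElt x z) → ∀ x ∈ S, ∀ y ∈ S, x * y = y * x := by
  induction n using Nat.strong_induction_on with | _ n ih => ?_
  intro Ω _ S _ hn hS F hF h
  have k : ∀ a ∈ S, ∀ b ∈ S, a * a = 1 → b * b = 1 → a * b = b * a := fun a ha b hb a2 b2 => by
    obtain ⟨z, hz, hc⟩ := h _ (mul_mem ha hb)
    have a1 : a⁻¹ = a := inv_eq_of_mul_eq_one_right a2
    have b1 : b⁻¹ = b := inv_eq_of_mul_eq_one_right b2
    have := real_sq hS F hF ha hz hc (by rw [← mul_assoc, a2, one_mul, mul_inv_rev, b1])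
    rw [← this, mul_inv_rev, a1, b1]
  let A : Subgroup Ω :=
    { carrier := {x | x ∈ S ∧ x * x = 1}
      mul_mem' := fun {a b} ha hb => ⟨mul_mem ha.1 hb.1, by
        calc _ = a * (b * a) * b := by group
          _ = (a * a) * (b * b) := by rw [← k a ha.1 b hb.1 ha.2 hb.2]; group
          _ = 1 := by rw [ha.2, hb.2, one_mul]⟩
      one_mem' := ⟨one_mem _, one_mul _⟩
      inv_mem' := fun {a} ha => ⟨inv_mem ha.1, by rw [← mul_inv_rev, ha.2, inv_one]⟩ }
  have hsc : F.StronglyClosed A := sc_iff.2 ⟨fun _ h => h.1, fun P f hf x hx hA =>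
    ⟨hf.mem hx, by rw [← hf.mul hx hx, hA.2, hf.one]⟩⟩
  let c : ℕ → Subgroup Ω := fun i => match i with | 0 => ⊥ | 1 => A | _ => S
  have hc : ∀ i, F.StronglyClosed (c i) := fun i => match i with | 0 => sc_bot | 1 => hsc | _ + 2 => sc_top
  have cen : ∀ Q, F.IsNormal Q → (∀ x ∈ S, ∀ y ∈ Q, x * y = y * x) := fun Q hQ x hx y hy => by
    obtain ⟨z, hz, hc⟩ := h x hx
    obtain ⟨P, f, hf, hx', rfl⟩ := isConjElt_iff.1 hc
    obtain ⟨g, hg, e, -⟩ := (isNormal_iff.1 hQ).2 P f hf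
    have x1 : x ∈ P ⊔ Q := mem_sup_left hx'
    have y1 : y ∈ P ⊔ Q := mem_sup_right hy
    refine hg.inj (mul_mem x1 y1) (mul_mem y1 x1) ?_
    rw [hg.mul x1 y1, hg.mul y1 x1, e x hx']
    exact (hz.2 _ (hg.mem y1)).symm
  have nA : F.IsNormal A := normal_of_chain hS hF c (n := 1) rfl rfl (fun i _ => hc i) fun i hi y hy x hx => by
    obtain rfl : i = 0 := by omega
    rw [k y hy.1 x hx.1 hy.2 hx.2]
    exact mem_bot.2 (by group)
  by_cases h0 : S = ⊥
  · intro x hx y hy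
    rw [h0, mem_bot] at hx
    simp [hx]
  obtain ⟨t, t2⟩ := exists_prime_orderOf_dvd_card' (G := S) 2 (hS.card_eq_or_dvd.resolve_left (mt card_eq_one.1 h0))
  haveI hAn : (A.subgroupOf S).Normal := ⟨fun a ha g => mem_subgroupOf.2 (by
    rw [coe_mul, coe_mul, coe_inv, cen A nA g g.2 a ha, mul_inv_cancel_right]; exact ha)⟩
  have A0 : A.subgroupOf S ≠ ⊥ := fun e => by
    have : t ∈ A.subgroupOf S := ⟨t.2, by
      have := pow_orderOf_eq_one t
      rw [t2, sq] at this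
      exact congrArg Subtype.val this⟩
    rw [e, mem_bot] at this
    simp [this] at t2
  obtain ⟨E, hE⟩ := Cfsg.Agent.S5132.result 2 hS F A hsc
  have sm := factor_smor hS hF hsc hE
  set θ := QuotientGroup.mk' (A.subgroupOf S)
  have hab := ih _ (by
      rw [card_top, ← hn, card_eq_card_quotient_mul_card_subgroup (A.subgroupOf S)]
      exact lt_mul_of_one_lt_right Nat.card_pos (one_lt_card_iff_ne_bot _ |>.2 A0)) (S := ⊤) rfl
    ((hS.to_quotient _).to_subgroup _) E (sm.sat hS hF) fun y _ => by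
      obtain ⟨x, rfl⟩ := QuotientGroup.mk'_surjective _ y
      obtain ⟨z, hz, hc⟩ := h x x.2
      obtain ⟨P, f, hf, hx', rfl⟩ := isConjElt_iff.1 hc
      obtain ⟨f', h1, h2⟩ := sm.toMor.2 P f hf
      refine ⟨θ ⟨f x, hz.1⟩, ⟨mem_top _, fun w _ => ?_⟩, isConjElt_iff.2 ⟨_, f', h1, ?_, ?_⟩⟩
      · obtain ⟨w, rfl⟩ := QuotientGroup.mk'_surjective _ w
        rw [← map_mul, ← map_mul]
        exact congrArg θ (Subtype.ext (hz.2 w w.2))
      · rw [← ex_coe]; exact mem_im_of _ hx'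
      · rw [← ex_coe, h2 x hx', ex_apply _ hz.1]
  have nS : F.IsNormal S := normal_of_chain hS hF c (n := 2) rfl rfl (fun i _ => hc i) fun i hi y hy x hx => by
    rcases i with _ | _ | i
    · rw [cen A nA y hy x hx]
      exact mem_bot.2 (by group)
    · have := hab (θ ⟨y, hy⟩) (mem_top _) (θ ⟨x, hx⟩) (mem_top _)
      have e : θ ((⟨x, hx⟩ : S)⁻¹ * (⟨y, hy⟩ * ⟨x, hx⟩ * (⟨y, hy⟩ : S)⁻¹)) = 1 := by
        rw [map_mul, map_mul, map_mul, this, map_inv, map_inv]; group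
      exact mem_subgroupOf.1 ((QuotientGroup.eq_one_iff _).1 e)
    · omega
  exact cen S nS

/-- Let F be a saturated fusion system over a finite 2-group S. Suppose that every element of S is F-conjugate to an element of the centre Z(S) (some map of F defined on the cyclic subgroup it generates sends it into Z(S)). Then S is abelian. -/
theorem result {Ω : Type*} [Group Ω] {S : Subgroup Ω} [Finite S] (hS : IsPGroup 2 ↥S) (F : Cfsg.FusionSystem S) (hF : F.IsSaturated 2) (h : ∀ x ∈ S, ∃ z ∈ S ⊓ Subgroup.centralizer (S : Set Ω), F.IsConjElt x z) : IsMulCommutative ↥S := by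
  exact ⟨⟨fun a b => Subtype.ext (aux _ rfl hS F hF h a a.2 b b.2)⟩⟩

end Cfsg.Agent.S5274
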