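import Cfsg.Statements.S5276
import Mathlib
import Cfsg.Agent.L0.Bis6

set_option autoImplicit false
open Cfsg

namespace Cfsg.Agent.S5276

open CfsgL0 CfsgH2 Subgroup

/-- Let p be a prime and F a saturated fusion system over a finite p-group S. Then F is the inner fusion system of S if and only if the normalizer fusion system of S itself in F is the inner fusion system (equivalently, Aut_F(S) is induced by S) and the Frattini subgroup Φ(S) is strongly closed in F. -/
theorem result {Ω : Type*} [Group Ω] {S : Subgroup Ω} [Finite S] (p : ℕ) [Fact p.Prime] (hS : IsPGroup p ↥S) (F : Cfsg.FusionSystem S) (hF : F.IsSaturated p) : (∀ P : Subgroup Ω, F.Hom P = (Cfsg.innerFusionSystem S).Hom P) ↔ (∀ N : Cfsg.FusionSystem (Cfsg.FusionSystem.normalizerIn S S), F.IsNormalizerSystem S N → ∀ P : Subgroup Ω, N.Hom P = (Cfsg.innerFusionSystem (Cfsg.FusionSystem.normalizerIn S S)).Hom P) ∧ F.StronglyClosed ((frattini ↥S).map S.subtype) := by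
  rw [inner_iff_hom, N_top_inner]
  refine ⟨fun h => ⟨le_antisymm (fun α hα => ?_) (inn_le_aut le_rfl), sc_iff.2 ⟨map_subtype_le _,
    fun P f hf x a b => ?_⟩⟩, fun h => inner_of_sc_frattini hS hF h.2 (comm_le_frattini hS) le_rfl
      (h.1 ▸ isPGroup_inn hS)⟩
  · exact mem_inn.2 (eq_inner_iff.1 h _ _ ((mem_aut le_rfl).1 hα))
  · obtain ⟨s, c, d⟩ := eq_inner_iff.1 h P f hf
    exact d x a ▸ conj_mem_of_norm (le_norm_of_between (comm_le_frattini hS |>.trans' (commutator_mono
      (map_subtype_le _) le_rfl)) le_rfl c) b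

end Cfsg.Agent.S5276
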