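import Cfsg.Statements.S5281
import Mathlib
import Cfsg.Agent.L0.PSt3

set_option autoImplicit false
open Cfsg

namespace Cfsg.Agent.S5281

open Cfsg Subgroup CfsgH2 CfsgL0 FusionSystem

/-- Let p be an odd prime and F a saturated fusion system over a finite p-group S. Call a fusion system E (over any subgroup) p-stable when, for every fully E-normalized subgroup Q and every χ in Aut_E(Q) with χ(a⁻¹)·a·χ(a⁻¹)·χ(χ(a)) = 1 for all a in Q (χ acts quadratically), χ lies in O_p(Aut_E(Q)). Then F is p-stable if and only if the normalizer fusion system of R in F is p-stable for every fully F-normalized, F-centric, F-radical subgroup R of S. -/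
theorem result {Ω : Type*} [Group Ω] {S : Subgroup Ω} [Finite S] (p : ℕ) [Fact p.Prime] (hS : IsPGroup p ↥S) (F : Cfsg.FusionSystem S) (hF : F.IsSaturated p) (hp : p ≠ 2) : (∀ Q : Subgroup Ω, F.IsFullyNormalized Q → ∀ χ : MulAut ↥Q, χ ∈ F.autGroup Q → (∀ a : ↥Q, (χ a⁻¹) * a * (χ a⁻¹) * (χ (χ a)) = 1) → χ ∈ ((Cfsg.pCore p ↥(F.autGroup Q)).map (F.autGroup Q).subtype : Subgroup (MulAut ↥Q))) ↔ ∀ R : Subgroup Ω, F.IsFullyNormalized R → F.IsCentric R → F.IsRadical p R → ∀ N : Cfsg.FusionSystem (Cfsg.FusionSystem.normalizerIn S R), F.IsNormalizerSystem R N → (∀ Q : Subgroup Ω, N.IsFullyNormalized Q → ∀ χ : MulAut ↥Q, χ ∈ N.autGroup Q → (∀ a : ↥Q, (χ a⁻¹) * a * (χ a⁻¹) * (χ (χ a)) = 1) → χ ∈ ((Cfsg.pCore p ↥(N.autGroup Q)).map (N.autGroup Q).subtype : Subgroup (MulAut ↥Q))) := by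
  refine ⟨fun h R _ _ _ N hN => ?_, fun h => fst_iff.1 ?_⟩
  · haveI := finite_nI (S := S) (Q := R)
    exact fst_iff.1 ((fst_iff.2 h).sub (N_sub hN))
  let A : Subgroup Ω → Prop := fun Q => ∀ χ ∈ F.autGroup Q, (∀ a ∈ Q, af χ (a⁻¹ * af χ a) = a⁻¹ * af χ a) →
    χ ∈ O[{p}, F.autGroup Q]
  let B : Subgroup Ω → Prop := fun R => ∀ Q ≤ R, (∀ α ∈ F.autGroup Q, ∃ g, M F R g ∧ im R g = R ∧
    ∀ x ∈ Q, g x = af α x) → A Q
  have key : ∀ R, F.IsFullyNormalized R → (∀ T ≤ S, Nat.card R < Nat.card T → B T) → B R := fun R hR ih Q hQ h1 => by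
    haveI := finite_of_le hR.1
    have o1 : O[{p}, F.autGroup R] ≤ autInducedBy S R := (sat_syl hS hF hR).pCoreOf_le
    have o2 : R ≤ NSK S O[{p}, F.autGroup R] := fun x hx => mem_NSK.2 ⟨hR.1 hx, (Kf_cA (le_normalizer hx)).2
      (inn_le_Op hS hF hR.1 (inn_eq R ▸ cA_mem _ hx))⟩
    by_cases hT : NSK S O[{p}, F.autGroup R] ≤ R
    · obtain ⟨N, hN⟩ := exists_N F hR.1
      haveI := finite_nI (S := S) (Q := R)
      have e : N.autGroup Q = F.autGroup Q := le_antisymm (aut_mono (N_sub hN)) fun α hα => by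
        obtain ⟨g, g1, g2, g3⟩ := h1 α hα
        exact ((N_of hN g1 hQ le_rfl (hQ.trans le_normalizer) g2).congr fun x hx => (g3 x hx).symm).af_mem_aut
      have := fst_iff.2 (h R hR (centric_of_fc (sat_fn_fc hS hF hR) (cI_le_NSK.trans hT))
        (radical_iff.2 ⟨hR.1, le_antisymm (fun α hα => by
          obtain ⟨x, x1, x2⟩ := mem_autInd'.1 (o1 hα)
          exact mem_inn.2 ⟨x, hT (mem_NSK.2 ⟨x1, α, hα, x2⟩), x2⟩) (inn_le_Op hS hF hR.1)⟩) N hN) Q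
        (hQ.trans (le_nI hR.1))
      rwa [e] at this
    refine ih _ NSK_le (card_lt_of_lt' NSK_le (o2.lt_of_not_ge hT)) Q (hQ.trans o2) fun α hα => ?_
    obtain ⟨g, g1, g2, g3⟩ := h1 α hα
    obtain ⟨β, b1, b2⟩ := g1.exists_aut g2
    obtain ⟨k, k1, k2⟩ := sat_ext hS hF ((mem_aut hR.1).1 b1) (by rw [im_af]; exact sat_fn_fc hS hF hR)
    have l : NSK S O[{p}, F.autGroup R] ≤ Ext S R (af β) := fun x hx =>
      mem_Ext_of_norm o1 (le_norm_piCoreOf b1) hx.1 hx.2.norm ((Kf_cA _).1 hx.2)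
    refine ⟨k, k1.mono l, (k1.mono l).im_eq_of_le le_rfl fun x hx => ⟨k1.mem (l hx), ?_⟩,
      fun x hx => by rw [k2 x (hQ hx), b2 x (hQ hx), g3 x hx]⟩
    obtain ⟨γ, c1, c2⟩ := hx.2
    refine ⟨β * γ * β⁻¹, conj_mem_of_norm (le_norm_piCoreOf b1) c1, fun y hy => ?_⟩
    have hz := af_mem β⁻¹ hy
    rw [← af_af_inv β hy, af_conj _ _ hz, c2 _ hz, ← k2 _ (conj_mem_of_norm hx.2.norm hz), k1.conj (l hx) (l (o2 hz)),
      k2 _ hz]
  have := down_ind (S := S) (p := B) fun R hR ih Q hQ h1 χ h2 h3 => by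
    obtain ⟨R', h4, hR'⟩ := exists_fn F hR
    obtain ⟨f, hf, rfl⟩ := isConj_iff'.1 h4
    obtain ⟨f', f1, f2, f3, f4⟩ := hf.exists_inv
    have hg := hf.mono hQ
    haveI := finite_of_le (hQ.trans hR)
    haveI := finite_of_le hg.im_le
    have := key _ hR' (hf.card_im ▸ ih) _ (im_mono f hQ) (fun α hα => by
      obtain ⟨α, rfl⟩ := (hg.tr rfl).surjective α
      obtain ⟨g, g1, g2, g3⟩ := h1 α ((hg.tr_mem rfl).1 hα)
      have g4 : ∀ x ∈ R, g x ∈ R := fun x hx => g2.le (mem_im_of g hx)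
      have g5 := (f1.comp g1 fun y hy => (f3 y hy).1).comp hf fun y hy => g4 _ (f3 y hy).1
      refine ⟨_, g5, g5.im_eq_of_le le_rfl fun y hy => mem_im_of f (g4 _ (f3 y hy).1), fun y hy => ?_⟩
      obtain ⟨x, hx, rfl⟩ := hg.mem_im.1 hy
      rw [hg.af_tr rfl α hx, f2 x (hQ hx), g3 x hx]) _ ((hg.tr_mem rfl).2 h2) fun b hb => by
        obtain ⟨a, ha, rfl⟩ := hg.mem_im.1 hb
        rw [hg.af_tr rfl χ ha, ← hg.inv ha, ← hg.mul (inv_mem ha) (af_mem χ ha),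
          hg.af_tr rfl χ (mul_mem (inv_mem ha) (af_mem χ ha)), h3 a ha]
    rwa [← hg.map_tr rfl, inj_piCoreOf (hg.tr rfl).injective, ← MulEquiv.coe_toMonoidHom,
      mem_map_iff_mem (hg.tr rfl).injective] at this
  exact fun Q hQ => this Q hQ Q le_rfl fun α hα => ⟨_, (mem_aut hQ).1 hα, im_af α, fun _ _ => rfl⟩

end Cfsg.Agent.S5281
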