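import Cfsg.Statements.S5289
import Mathlib
import Cfsg.Agent.L0.FE9

set_option autoImplicit false
open Cfsg

namespace Cfsg.Agent.S5289

open Cfsg Subgroup CfsgH2 CfsgL0 CfsgBG Function

/-- Let p ≥ 5 be a prime and S a finite p-group of p-rank two (it has an elementary abelian subgroup of order p² and none of order p³) which is not the extraspecial group of order p³ and exponent p. Then S is resistant: for every saturated fusion system F over S, S is normal in F, that is, every map of F extends to an F-automorphism of S. -/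
theorem result {Ω : Type*} [Group Ω] {S : Subgroup Ω} [Finite S] (p : ℕ) [Fact p.Prime] (hS : IsPGroup p S)
    (F : Cfsg.FusionSystem S) (hF : F.IsSaturated p)
    (hp : 5 ≤ p)
    (hrank2 : ∃ E : Subgroup Ω, E ≤ S ∧ Cfsg.IsElementaryAbelian p E ∧ Nat.card E = p ^ 2)
    (hrank3 : ∀ E : Subgroup Ω, E ≤ S → Cfsg.IsElementaryAbelian p E → Nat.card E ≤ p ^ 2)
    (hnotE : ¬ (Nat.card S = p ^ 3 ∧ Monoid.exponent ↥S = p)) : F.IsNormal S := by
  obtain ⟨E, hE, h⟩ := exists_fin hS hF
  rw [← h.normal_iff id_inj le_rfl, im_ex_id le_rfl, subgroupOf_self]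
  have j := S.subtype_injective
  refine normal_rk2 (h.pgroup hS) hE hp (prk_le_of fun A _ a => ?_) fun k => hnotE ⟨k.1, ?_⟩
  · rw [← card_map_of_injective j]
    exact hrank3 _ (map_subtype_le _) ((inj_elem j).2 a)
  refine ((Nat.dvd_prime Fact.out).1 (Monoid.exponent_dvd_of_forall_pow_eq_one k.2)).resolve_left fun e => ?_
  haveI := Monoid.exp_eq_one_iff.1 e
  have := k.1
  rw [Nat.card_of_subsingleton 1] at this
  exact (Nat.one_lt_pow three_ne_zero (by omega)).ne this

end Cfsg.Agent.S5289
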