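import Cfsg.Statements.S5292
import Mathlib
import Cfsg.Agent.L0.Fus14
import Cfsg.Agent.H1.Sep

set_option autoImplicit false
universe u
open Cfsg

namespace Cfsg.Agent.S5292

open Cfsg Subgroup CfsgH2 CfsgL0 CfsgH1

/-- Let F be a saturated fusion system over a finite p-group S. Then F is the fusion system of some finite p-solvable group on a Sylow p-subgroup if and only if F is constrained (some subgroup normal in F is centric in F) and the group of automorphisms that F induces on its largest normal subgroup O_p(F) is p-solvable. -/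
theorem result {Ω : Type u} [Group Ω] {S : Subgroup Ω} [Finite S] (p : ℕ) [Fact p.Prime] (hS : IsPGroup p S)
    (F : Cfsg.FusionSystem S) (hF : F.IsSaturated p) :
    (∃ (G : Type u) (_ : Group G) (_ : Finite G) (ι : S →* G), Cfsg.IsPSolvable p G ∧ F.IsRealizedBy ι ∧
        ∃ T : Sylow p G, (T : Subgroup G) = ι.range) ↔
      (F.IsConstrained p ∧ Cfsg.IsPSolvable p ↥(F.autGroup F.core)) := by
  constructor
  · rintro ⟨G, _, _, ι, h1, h2, T, hT⟩
    have hU : Syl p ι.range ⊤ := hT ▸ syl_top T
    let π := QuotientGroup.mk' (pPrimeCore p G)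
    have hπ : Function.Surjective π := QuotientGroup.mk'_surjective _
    have hi : Function.Injective (π.comp ι) := (injective_iff_map_eq_one _).2 fun x hx => by
      have : ι x ∈ ι.range ⊓ pPrimeCore p G := ⟨⟨x, rfl⟩, (QuotientGroup.eq_one_iff _).1 hx⟩
      rw [inf_eq_bot_of_coprime' (coprime_of_pgroup hU.pg not_dvd_pPrimeCore)] at this
      exact h2.1 (this.trans (map_one ι).symm)
    have h3 := IsPSolvable.quotient' h1 (pPrimeCore p G)
    have hL : F.IsModel p _ (π.comp ι) := ⟨inferInstance, real_of_smor (real_smor_quot h2 hU π hπ) hi,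
      (syl_comp hU π hπ).exists_top, centralizer_pCore_le h3 (pPrimeCore_quotient_pPrimeCore p)⟩
    obtain ⟨ρ, hρ⟩ := model_prem hL normal_core (centric_cI (model_centric hL))
    haveI : Finite (F.autGroup F.core) := Finite.of_surjective ρ (hρ.surj core_le)
    exact ⟨model_constrained hL, (isPSolvable_iff Fact.out).2 (((isPSolvable_iff Fact.out).1 h3).of_surjective
      (hρ.surj core_le))⟩
  · rintro ⟨h1, h2⟩
    obtain ⟨L, _, ι, hL⟩ := exists_model hS h1
    haveI := hL.1
    obtain ⟨ρ, hρ⟩ := model_prem hL normal_core (centric_cI (model_centric hL))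
    haveI : Finite (F.autGroup F.core) := Finite.of_surjective ρ (hρ.surj core_le)
    refine ⟨L, _, hL.1, ι, (isPSolvable_iff Fact.out).2 (Sep.of_quotient_piNum (N := ρ.ker) (σ := {p})
      (by simp) (piNum_singleton_card_iff.2 ((model_syl hL).pg.to_le fun x hx => ?_))
      (((isPSolvable_iff Fact.out).1 h2).of_mulEquiv (QuotientGroup.quotientKerEquivOfSurjective ρ
        (hρ.surj core_le)).symm)), hL.2.1, hL.2.2.1⟩
    obtain ⟨z, a, rfl⟩ := hρ.ker x hx
    exact ⟨_, (ex_apply ι (core_le a)).symm⟩

end Cfsg.Agent.S5292
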