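import Cfsg.Statements.S5298
import Mathlib
import Cfsg.Agent.L0.Fus13

set_option autoImplicit false
universe u
open Cfsg

namespace Cfsg.Agent.S5298

open Cfsg Subgroup CfsgH2 CfsgL0

/-- Let F be a saturated fusion system over a finite p-group S. If every map of F between cyclic subgroups of the hyperfocal subgroup of F of order p or 4 is conjugation by an element of S, then F is the inner fusion system of S. -/
theorem result {Ω : Type u} [Group Ω] {S : Subgroup Ω} [Finite S] (p : ℕ) [Fact p.Prime] (hS : IsPGroup p S)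
    (F : Cfsg.FusionSystem S) (hF : F.IsSaturated p)
    (h : ∀ A B : Subgroup Ω, A ≤ (F.hyperfocalSubgroup p) → B ≤ (F.hyperfocalSubgroup p) → IsCyclic ↥A → (Nat.card ↥A = p ∨ Nat.card ↥A = 4) → IsCyclic ↥B → (Nat.card ↥B = p ∨ Nat.card ↥B = 4) →
      F.homSet A B ⊆ (Cfsg.innerFusionSystem S).Hom A) :
    ∀ P : Subgroup Ω, F.Hom P = (Cfsg.innerFusionSystem S).Hom P := by
  refine inner_iff_hom.2 (inner_of_small hS hF fun P f hf x hx a b => ?_)
  by_cases h1 : x = 1
  · exact ⟨1, one_mem _, by rw [h1, hf.one]; simp⟩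
  have k : orderOf x = p ∨ orderOf x = 4 := (b.resolve_left h1).imp_right fun h => h.2
  have hf' := hf.mono (zpowers_le.2 hx)
  obtain ⟨-, g, g1, g2⟩ := M_inner.1 (M_ex (h (zpowers x) (zpowers (f x)) (zpowers_le.2 a)
    (zpowers_le.2 (sc_mem (hyp_sc hS hF) hf hx a)) inferInstance (by rwa [Nat.card_zpowers]) inferInstance
    (by rwa [Nat.card_zpowers, hf.orderOf hx]) ⟨hf'.hom_mem, fun y =>
      hf'.homOn.im_zpowers (mem_zpowers x) ▸ mem_im_of f y.2⟩))
  exact ⟨g, g1, by rw [← g2 x (mem_zpowers x), ex_apply _ (mem_zpowers x)]; rfl⟩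

end Cfsg.Agent.S5298
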