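import Cfsg.Statements.S5300
import Mathlib
import Cfsg.Agent.L0.Fus13

set_option autoImplicit false
universe u
open Cfsg

namespace Cfsg.Agent.S5300

open Cfsg Subgroup CfsgH2 CfsgL0

theorem aux {Ω : Type*} [Group Ω] {p : ℕ} [hp : Fact p.Prime] {x s : Ω} {k : ℕ} (hs : s ^ p ^ k = 1)
    (hx : x ^ p = 1) (h : s * x * s⁻¹ ∈ zpowers x) : s * x * s⁻¹ = x := by
  obtain ⟨m, hm⟩ := (isOfFinOrder_iff_pow_eq_one.2 ⟨p, hp.out.pos, hx⟩).mem_powers_iff_mem_zpowers.2 h
  replace hm : x ^ m = _ := hm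
  have h1 : ∀ n : ℕ, s ^ n * x * (s ^ n)⁻¹ = x ^ m ^ n := fun n => by
    induction n with
    | zero => simp
    | succ n ih =>
      calc _ = s * (s ^ n * x * (s ^ n)⁻¹) * s⁻¹ := by rw [pow_succ']; group
        _ = _ := by rw [ih, ← conj_pow, ← hm, ← pow_mul, pow_succ']
  have h2 := h1 (p ^ k)
  rw [hs, one_mul, inv_one, mul_one] at h2
  rw [← hm]
  refine Eq.trans ?_ h2.symm
  refine pow_eq_pow_of_modEq ?_ hx
  rw [← ZMod.natCast_eq_natCast_iff]; push_cast
  exact (ZMod.pow_card_pow _).symm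

/-- Let F be a saturated fusion system over a finite p-group S. If every cyclic subgroup of the focal subgroup of F of order p (of order 2 or 4 when p = 2) is normal in S, then S is normal in F. -/
theorem result {Ω : Type u} [Group Ω] {S : Subgroup Ω} [Finite S] (p : ℕ) [Fact p.Prime] (hS : IsPGroup p S)
    (F : Cfsg.FusionSystem S) (hF : F.IsSaturated p)
    (hnorm : ∀ x ∈ F.focalSubgroup, (x ^ p = 1 ∨ (p = 2 ∧ x ^ 4 = 1)) → ∀ s ∈ S, s * x * s⁻¹ ∈ Subgroup.zpowers x) :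
    F.IsNormal S := by
  have h1 : ∀ x ∈ F.hyperfocalSubgroup p, x ^ p = 1 → ∀ s ∈ S, s * x * s⁻¹ = x := fun x a b s hs =>
    let ⟨_, hk⟩ := pgroup_pow_eq_one hS hs
    aux hk b (hnorm x (hyp_le_foc a) (.inl b) s hs)
  let W : Subgroup Ω :=
    { carrier := {x | x ∈ F.hyperfocalSubgroup p ∧ x ^ p = 1}
      mul_mem' := fun {a b} ha hb => ⟨mul_mem ha.1 hb.1, by
        rw [Commute.mul_pow (mul_inv_eq_iff_eq_mul.1 (h1 b hb.1 hb.2 a (hyp_le ha.1))), ha.2, hb.2, one_mul]⟩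
      one_mem' := ⟨one_mem _, one_pow _⟩
      inv_mem' := fun {a} ha => ⟨inv_mem ha.1, by rw [inv_pow, ha.2, inv_one]⟩ }
  refine normal_of_small hS hF (fun i => if i = 0 then ⊥ else if i = 1 then W else ⊤) 2 rfl
    (fun P f hf i x hx a b c => ?_) (fun x _ _ => mem_top x) fun i y hy x a b c => ?_
  · split_ifs at c ⊢
    · rw [mem_bot.1 c, hf.one]; exact one_mem _
    · exact ⟨sc_mem (hyp_sc hS hF) hf hx a, by rw [← hf.pow hx, c.2, hf.one]⟩
    · exact mem_top _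
  · rcases i with _ | _ | i
    · exact mem_bot.2 (by rw [h1 x a c.2 y hy, inv_mul_cancel])
    · refine ⟨mul_mem (inv_mem a) (conj_mem_of_norm (sc_le_norm (hyp_sc hS hF) hy) a), ?_⟩
      rcases b.pow with h | ⟨rfl, h⟩
      · rw [h1 x a h y hy, inv_mul_cancel, one_pow]
      · obtain ⟨m, hm⟩ := mem_zpowers_iff.1 (hnorm x (hyp_le_foc a) (.inr ⟨rfl, h⟩) y hy)
        have h2 := h1 (x ^ 2) (pow_mem a 2) (by rw [← pow_mul]; exact h) y hy
        rw [← conj_pow, ← hm] at h2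
        rw [← hm, Commute.mul_pow (Commute.zpow_right (Commute.refl x).inv_left m), h2, inv_pow, inv_mul_cancel]
    · exact mem_top _

end Cfsg.Agent.S5300
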