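import Cfsg.Statements.S5308
import Cfsg.Agent.H2.Sa19

set_option autoImplicit false
open Cfsg

namespace Cfsg.Agent.S5308
open CfsgH2

/-- A saturated fusion system F over a finite p-group S has a generalized Fitting subsystem — a central product of the inner fusion system of O_p(F) (the largest subgroup of S normal in F) with a layer of F — and every generalized Fitting subsystem of F is a normal subsystem of F. -/
theorem result {Ω : Type*} [Group Ω] {S : Subgroup Ω} [Finite S] (p : ℕ) [Fact p.Prime] (hS : IsPGroup p S) (F : Cfsg.FusionSystem S) (hF : F.IsSaturated p) :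
    (∃ (U : Subgroup Ω) (D : Cfsg.FusionSystem U), D.IsGeneralizedFittingOf F p) ∧
      ∀ (U : Subgroup Ω) (D : Cfsg.FusionSystem U), D.IsGeneralizedFittingOf F p → D.IsNormalIn F p := by
  open Subgroup Function in open scoped commutatorElement in
  · have key : ∀ {T : Subgroup Ω} {E : FusionSystem T}, E.IsLayerOf F p →
        T ≤ FusionSystem.centralizerIn S F.core := fun a =>
      (CfsgL0.NKM_bot_iff.1 (layer_le_C hS hF a CfsgL0.normal_core (CfsgL0.M_id le_rfl))).1
    haveI := CfsgL0.finite_of_le (CfsgL0.core_le (F := F))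
    have h0 := hS.to_le (CfsgL0.core_le (F := F))
    constructor
    · obtain ⟨T, E, a⟩ := exists_layer hS hF
      have hT := a.1.1.2.2.2.1.1
      haveI := CfsgL0.finite_of_le hT
      have c := fun x (hx : x ∈ F.core) y (hy : y ∈ T) => mem_cent_iff.1 (key a hy).2 x hx
      obtain ⟨D, b⟩ := exists_cp (E₁ := innerFusionSystem F.core) (E₂ := E) c
        (CfsgL0.central_of_fix h0 (CfsgL0.inner_sat h0) inf_le_left fun P f u x v w => by
          obtain ⟨-, k, k1, k2⟩ := CfsgL0.M_inner.1 u
          rw [k2 x v, c k k1 x w.2]; simp)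
        (CfsgL0.central_of_fix (hS.to_le hT) a.1.1.1 inf_le_right fun P f u x v w => by
          obtain ⟨-, g, -, g1, g2⟩ := CfsgL0.NKM_bot_iff.1 (layer_le_C hS hF a CfsgL0.normal_core u)
          rw [← g1 x v, g2 x w.1]) rfl
      exact ⟨_, D, T, E, a, b⟩
    rintro U D ⟨T, E, a, b⟩
    have hT := a.1.1.2.2.2.1.1
    haveI := CfsgL0.finite_of_le hT
    have c := cp_of b
    refine c.normal hS hF (cp_sat b h0 (hS.to_le hT) (CfsgL0.inner_sat h0) a.1.1.1)
      (CfsgL0.inner_normal hS hF CfsgL0.normal_core) a.1 (fun P f u => ?_)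
      fun P f => layer_le_C hS hF a CfsgL0.normal_core
    obtain ⟨l, k, k1, k2⟩ := CfsgL0.M_inner.1 u
    refine CfsgL0.NKM_bot_iff.2 ⟨fun x v => CfsgL0.mem_cI.2 ⟨CfsgL0.core_le (l v),
      mem_cent_iff.2 fun y w => (c.comm x (l v) y w).symm⟩, _, CfsgL0.M_conj
      (sup_le (l.trans CfsgL0.core_le) hT) (CfsgL0.core_le k1), fun x v => (k2 x v).symm,
      fun y w => ?_⟩
    rw [c.comm k k1 y w]; simp

end Cfsg.Agent.S5308
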