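import Cfsg.Statements.S5309
import Cfsg.Agent.H2.Sa15

set_option autoImplicit false
open Cfsg

namespace Cfsg.Agent.S5309
open CfsgH2

/-- Self-centralizing property of the generalized Fitting subsystem. Let F be a saturated fusion system over a finite p-group S and D a generalized Fitting subsystem of F, over U. Then the centre of D is the largest subgroup Y of C_S(U) centralized by D in F, in the sense that every map of D extends to a map of F fixing Y elementwise: the centre of D is such a subgroup, and every such Y lies in the centre of D. -/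
theorem result {Ω : Type*} [Group Ω] {S : Subgroup Ω} [Finite S] (p : ℕ) [Fact p.Prime] (hS : IsPGroup p S) (F : Cfsg.FusionSystem S) (hF : F.IsSaturated p)
    {U : Subgroup Ω} (D : Cfsg.FusionSystem U) (hD : D.IsGeneralizedFittingOf F p) :
    (D.center ≤ Cfsg.FusionSystem.centralizerIn S U ∧ ∀ P : Subgroup Ω, D.Hom P ⊆ F.centralizerHom D.center P) ∧
      ∀ Y : Subgroup Ω, Y ≤ Cfsg.FusionSystem.centralizerIn S U →
        (∀ P : Subgroup Ω, D.Hom P ⊆ F.centralizerHom Y P) → Y ≤ D.center := by
  open Subgroup Function in open scoped commutatorElement in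
  · obtain ⟨T, E, hE, h⟩ := hD
    haveI := CfsgL0.finite_of_le hE.1.1.2.2.2.1.1
    haveI := CfsgL0.finite_of_le (CfsgL0.core_le (F := F))
    replace h := cp_of h
    have l := fit_sub hS hF hE h
    haveI := CfsgL0.finite_of_le (CfsgL0.sub_le l)
    refine ⟨⟨le_inf (CfsgL0.center_le.trans (CfsgL0.sub_le l)) D.center_le_centralizer,
      fun P φ hφ => ?_⟩, fun Y a b => CfsgL0.le_center (fit_cent hS hF hE h a fun P f hf =>
        (CfsgL0.mem_centralizerHom.1 (b P hf.hom_mem)).congr fun x hx =>
          (CfsgL0.ex_apply hf.homOn.hom hx).symm)⟩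
    have a := CfsgL0.M_ex hφ
    obtain ⟨g, b, c⟩ := CfsgL0.central_ext CfsgL0.central_center a
    exact CfsgL0.mem_centralizerHom.2 (CfsgL0.NKM_bot_iff.2 ⟨le_inf (a.le.trans (CfsgL0.sub_le l))
      (a.le.trans (CfsgL0.central_le_cent CfsgL0.central_center)), g, b.sub l, c⟩)

end Cfsg.Agent.S5309
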