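import Cfsg.Statements.S5311
import Cfsg.Agent.H2.Sa20

set_option autoImplicit false
open Cfsg

namespace Cfsg.Agent.S5311
open CfsgH2

/-- The layer of a saturated fusion system F over a finite p-group S is characteristic in F: for every automorphism α of S that is an automorphism of F (α and its inverse are morphisms from F to F) and every layer E of F over T, α carries T onto T and, for every map φ of E with source P, the map induced by α on α(P) (that is, α ∘ φ ∘ α⁻¹) is a map of E. -/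
theorem result {Ω : Type*} [Group Ω] {S : Subgroup Ω} [Finite S] (p : ℕ) [Fact p.Prime] (hS : IsPGroup p S) (F : Cfsg.FusionSystem S) (hF : F.IsSaturated p)
    (α : ↥S ≃* ↥S) (hα : F.IsMorphism F (S.subtype.comp α.toMonoidHom))
    (hα' : F.IsMorphism F (S.subtype.comp α.symm.toMonoidHom))
    {T : Subgroup Ω} (E : Cfsg.FusionSystem T) (hE : E.IsLayerOf F p) :
    Cfsg.FusionSystem.imageAlong (S.subtype.comp α.toMonoidHom) T = T ∧
      ∀ (P : Subgroup Ω) (φ : ↥P →* Ω), φ ∈ E.Hom P →
        ∀ φ' : ↥(Cfsg.FusionSystem.imageAlong (S.subtype.comp α.toMonoidHom) P) →* Ω,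
          Cfsg.FusionSystem.InducedAlong (S.subtype.comp α.toMonoidHom) φ φ' →
            φ' ∈ E.Hom (Cfsg.FusionSystem.imageAlong (S.subtype.comp α.toMonoidHom) P) := by
  open Subgroup Function in open scoped commutatorElement in
  · have m := CfsgL0.mor_iff.1 hα
    have m' := CfsgL0.mor_iff.1 hα'
    have l := hE.1.1.2.2.2.1.1
    have s : CfsgL0.SMor F (S.subtype.comp α.toMonoidHom) F := by
      refine ⟨m, CfsgL0.im_af α, fun P f hf => ?_⟩
      obtain ⟨f', a, b⟩ := m'.mor P f hf
      refine ⟨f', a.mono fun x hx => ?_, fun x hx => ?_⟩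
      · rw [← CfsgL0.af_inv_af α (CfsgL0.pre_le hx)]
        exact CfsgL0.mem_im_of _ (CfsgL0.mem_pre.1 hx).2
      · have := b _ (CfsgL0.mem_pre.1 hx).2
        change f' (CfsgL0.af α⁻¹ (CfsgL0.af α x)) = CfsgL0.af α⁻¹ (f (CfsgL0.af α x)) at this
        rw [CfsgL0.af_inv_af α (CfsgL0.pre_le hx)] at this
        rw [this]
        exact (CfsgL0.af_af_inv α (hf.mem (CfsgL0.mem_pre.1 hx).2)).symm
    obtain ⟨a, b⟩ := layer_aut hS hE s (CfsgL0.af_hom_inj α)
    refine ⟨(CfsgL0.imageAlong_eq l).trans a, fun P φ hφ φ' h => ?_⟩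
    have u := CfsgL0.M_ex hφ
    have e := CfsgL0.imageAlong_eq (θ := S.subtype.comp α.toMonoidHom) (u.le.trans l)
    rw [CfsgL0.induced_iff (hE.1.1.2.2.1 _ hφ) e.ge] at h
    exact CfsgL0.hom_iff.2 ((b _ _ _ u h).mono e.le)

end Cfsg.Agent.S5311
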