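import Cfsg.Statements.S5312
import Cfsg.Agent.H2.Sa21

set_option autoImplicit false
open Cfsg

namespace Cfsg.Agent.S5312
open CfsgH2

/-- Let F be a saturated fusion system over a finite p-group S. Every component C of F is a normal subsystem of every generalized Fitting subsystem of F. -/
theorem result {Ω : Type*} [Group Ω] {S : Subgroup Ω} [Finite S] (p : ℕ) [Fact p.Prime] (hS : IsPGroup p S) (F : Cfsg.FusionSystem S) (hF : F.IsSaturated p)
    {T : Subgroup Ω} (C : Cfsg.FusionSystem T) (hC : C.IsComponentIn F p)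
    {U : Subgroup Ω} (D : Cfsg.FusionSystem U) (hD : D.IsGeneralizedFittingOf F p) : C.IsNormalIn D p := by
  open Subgroup Function in open scoped commutatorElement in
  · obtain ⟨V, E, hE, d⟩ := hD
    have l := hE.1.1.2.2.2.1.1
    haveI := CfsgL0.finite_of_le l
    haveI := CfsgL0.finite_of_le (CfsgL0.core_le (F := F))
    have c := cp_of d
    have l' : U ≤ S := c.sup ▸ sup_le CfsgL0.core_le l
    haveI := CfsgL0.finite_of_le l'
    exact qs_normal_of (hS.to_le l') hC.2 (c.symm.wn (hS.to_le l') (cp_sat d (hS.to_le CfsgL0.core_le)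
      (hS.to_le l) (CfsgL0.inner_sat (hS.to_le CfsgL0.core_le)) hE.1.1.1) (comp_wn_layer hS hF hC hE))

end Cfsg.Agent.S5312
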