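import Cfsg.Statements.S5315
import Mathlib
import Cfsg.Agent.L0.Bis3

set_option autoImplicit false
open Cfsg

namespace Cfsg.Agent.S5315

open CfsgL0 CfsgH2 Subgroup
open scoped commutatorElement

/-- An analogue of Grün's lemma for fusion systems. Let F be a saturated fusion system over a finite p-group S that is perfect in the sense that its hyperfocal subgroup is all of S (F coincides with its p-residual subsystem). Then the second centre of F equals its centre: every fusion system over S/(Z(F) ∩ S) that is the factor system of F modulo its centre Z(F), read through the quotient map, has trivial centre. -/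
theorem result {Ω : Type*} [Group Ω] {S : Subgroup Ω} [Finite S] (p : ℕ) [Fact p.Prime] (hS : IsPGroup p S) (F : Cfsg.FusionSystem S) (hF : F.IsSaturated p)
    (hperf : F.hyperfocalSubgroup p = S)
    (E : Cfsg.FusionSystem (⊤ : Subgroup (↥S ⧸ (F.center).subgroupOf S)))
    (hE : F.IsFactorSystem F.center (QuotientGroup.mk' ((F.center).subgroupOf S)) E) : E.center = ⊥ := by
  have h := factor_smor hS hF (normal_sc (central_normal central_center)) hE
  have hk := (factor_iff.1 hE).1
  generalize QuotientGroup.mk' (F.center.subgroupOf S) = θ at h hk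
  set Z := FusionSystem.preimageAlong θ E.center
  have hZ : F.StronglyClosed Z := h.toMor.sc_pre (normal_sc (central_normal central_center))
  have h1 : ∀ P f, M F P f → ∀ z ∈ P, z ∈ Z → z⁻¹ * f z ∈ F.center := fun P f hf z a b => by
    obtain ⟨f', c, d⟩ := h.mor P f hf
    rw [hk, ← ex_eq_iff (hf.le a) (hf.mem a), ← d z a,
      central_fix central_center c (mem_im_of _ a) (mem_pre.1 b).2]
  have hc := le_centralizer_iff.1 (central_le_cent (central_center (F := F)))
  have h2 : F.center ≤ Z := hk ▸ ker_le_pre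
  have h3 : ∀ y ∈ S, ∀ z ∈ Z, z⁻¹ * (y * z * y⁻¹) ∈ F.center := fun y hy z hz =>
    h1 _ _ (M_conj le_rfl hy) z (hZ.1 hz) hz
  have h4 : F.IsNormal Z := normal_of_chain hS hF (fun i => if i = 0 then ⊥ else if i = 1 then F.center else Z)
    (n := 2) rfl rfl (fun i _ => by
      split_ifs
      exacts [sc_bot, normal_sc (central_normal central_center), hZ]) fun i hi y hy x hx => by
        interval_cases i
        · exact mem_bot.2 (by rw [mem_cent_iff.1 (hc hx) y (hZ.1 hy)]; group)
        · exact h3 y (hZ.1 hy) x hx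
  have h5 : Z ≤ C[S] := fun z hz => by
    have k : HomOn S fun y => z⁻¹ * (y * z * y⁻¹) := fun x hx y hy => by
      have := mem_cent_iff.1 (hc (h3 y hy z hz)) x hx
      calc _ = z⁻¹ * (x * z * x⁻¹) * (x * (z⁻¹ * (y * z * y⁻¹)) * x⁻¹) := by group
        _ = _ := by rw [this]; group
    have : F.focalSubgroup ≤ k.hom.ker.map S.subtype := foc_le_iff.2 fun P f hf x hx => by
      refine ⟨⟨_, mul_mem (inv_mem (hf.le hx)) (hf.mem hx)⟩, ?_, rfl⟩
      obtain ⟨g, a, b, -⟩ := normal_ext h4 hf
      have hx' := mem_sup_left (T := Z) hx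
      have hz' := mem_sup_right (S := P) hz
      have c := central_fix central_center a (mul_mem (inv_mem hz') (mul_mem (mul_mem hx' hz')
        (inv_mem hx'))) (h3 x (hf.le hx) z hz)
      rw [a.mul (inv_mem hz') (mul_mem (mul_mem hx' hz') (inv_mem hx')), a.conj hx' hz', a.inv hz', b x hx,
        ← mul_inv_cancel_left z (g z)] at c
      have d := h1 _ _ a z hz' hz
      generalize z⁻¹ * g z = w at c d
      refine (k.mul (inv_mem (hf.le hx)) (hf.mem hx)).trans ?_
      beta_reduce
      rw [k.inv (hf.le hx), ← c, inv_mul_eq_one]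
      have e1 := mem_cent_iff.1 (hc d) _ (inv_mem (hf.mem hx))
      have e2 := mem_cent_iff.1 (hc d) _ (h3 _ (hf.mem hx) z hz |> center_le)
      calc _ = w⁻¹ * (z⁻¹ * (f x * z * (w * (f x)⁻¹))) := by group
        _ = w⁻¹ * (z⁻¹ * (f x * z * (f x)⁻¹) * w) := by rw [← e1]; group
        _ = _ := by rw [e2]; group
    refine mem_cent_iff.2 fun y hy => ?_
    obtain ⟨y, a, rfl⟩ := this (hyp_le_foc (hperf.ge hy))
    have b : z⁻¹ * (y * z * (y : Ω)⁻¹) = 1 := a
    rw [inv_mul_eq_one, eq_mul_inv_iff_mul_eq] at b
    exact b.symm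
  haveI := finite_of_le hZ.1
  have h6 := sat_syl hS hF (fn_of_normal hZ.1 (sc_le_norm hZ))
  have h7 : autInducedBy S Z = ⊥ := eq_bot_iff.2 fun α hα => by
    obtain ⟨s, a, b⟩ := mem_autInd'.1 hα
    exact af_ext fun x hx => by rw [b x hx, af_one hx, mem_cent_iff.1 (h5 hx) s a]; group
  have h8 : Z ≤ F.center := le_center (central_of_aut h4 le_rfl fun α hα x hx =>
    chain_fix (hS.to_le hZ.1) (pow_orderOf_eq_one α) ((coprime_iff_not_dvd Fact.out).2 fun k =>
      h6.nd (by rw [h7, relIndex_bot_left]; exact k.trans (orderOf_dvd_natCard _ hα)))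
      (fun i => if i = 0 then F.center else Z) (fun x a b => central_fix central_center
        ((mem_aut hZ.1).1 hα) a b) (fun i x a _ => by
          have := h1 _ _ ((mem_aut hZ.1).1 hα) x a a
          split_ifs
          exacts [this, h2 this]) 1 x hx hx)
  rw [← h.im_pre' center_le, eq_bot_iff, im_le_iff]
  exact fun x hx => (mem_ker_pre.1 (hk ▸ h8 hx)).2

end Cfsg.Agent.S5315
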