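import Cfsg.Statements.S5317
import Mathlib
import Cfsg.Agent.L0.FS1
import Cfsg.Agent.S0261
import Cfsg.Agent.H8.Dick3

set_option autoImplicit false
open Cfsg

namespace Cfsg.Agent.S5317

open CfsgL0 CfsgH8 Subgroup

/-- Let F be a finite field of odd order q with q² ≡ 1 mod 16 (so that a Sylow 2-subgroup of PSL(2,q), dihedral of order the 2-part of (q²−1)/2, has order at least 8). Then the 2-fusion system of PSL(2,F) on a Sylow 2-subgroup is simple: saturated, over a nontrivial 2-group, with no normal subsystem other than the trivial one and itself. -/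
theorem result {F : Type*} [Field F] [Fintype F] (hodd : Fintype.card F % 2 = 1) (h16 : 16 ∣ Fintype.card F ^ 2 - 1)
    (S : Sylow 2 (Matrix.ProjectiveSpecialLinearGroup (Fin 2) F)) :
    (Cfsg.groupFusionSystem (S : Subgroup (Matrix.ProjectiveSpecialLinearGroup (Fin 2) F))).IsSimple 2 := by
  classical
  obtain ⟨P⟩ : Nonempty (Sylow 2 (Matrix.SpecialLinearGroup (Fin 2) F)) := inferInstance
  obtain ⟨k, -, ⟨e⟩⟩ := S0261.result (Nat.odd_iff.2 hodd) P
  have hc := card_PSL2_odd (F := F) hodd
  have hS := CfsgH5.card_SL2 (F := F)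
  have hP : Nat.card P = 2 ^ (k + 2) := by
    haveI : NeZero (2 ^ k) := ⟨by positivity⟩
    rw [Nat.card_congr e.toEquiv, Nat.card_eq_fintype_card, QuaternionGroup.card]; ring
  have h1 : ¬ 2 ^ (k + 3) ∣ Nat.card (Matrix.SpecialLinearGroup (Fin 2) F) := fun h => by
    rw [← card_mul_index (P : Subgroup (Matrix.SpecialLinearGroup (Fin 2) F)), hP, pow_succ,
      Nat.mul_dvd_mul_iff_left (by positivity)] at h
    exact P.not_dvd_index h
  have hk : 2 ≤ k := by
    by_contra h
    exact h1 (hS ▸ ((pow_dvd_pow 2 (by omega : k + 3 ≤ 4)).trans h16).mul_left _)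
  obtain ⟨m, rfl⟩ : ∃ m, k = m + 1 := ⟨k - 1, by omega⟩
  have q4 : 4 ≤ Fintype.card F := by
    have := Fintype.one_lt_card (α := F)
    by_contra h
    have : Fintype.card F = 3 := by omega
    rw [this] at h16
    omega
  haveI := simple_PSL2 (F := F) q4
  haveI : NeZero (2 ^ (m + 1)) := ⟨by positivity⟩
  set φ := (P : Subgroup (Matrix.SpecialLinearGroup (Fin 2) F)).subtype.comp e.symm.toMonoidHom
  have hφ : Function.Injective φ := Subtype.val_injective.comp e.symm.injective
  set π := QuotientGroup.mk' (center (Matrix.SpecialLinearGroup (Fin 2) F))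
  have c1 : ∀ g, π g = 1 ↔ g ^ 2 = 1 := fun g => by
    refine (QuotientGroup.eq_one_iff g).trans ⟨fun h => ?_, fun h => ?_⟩
    · have := pow_card_eq_one' (x := (⟨g, h⟩ : center _))
      rw [card_center_SL2] at this
      exact orderOf_dvd_iff_pow_eq_one.1 ((orderOf_dvd_of_pow_eq_one (congrArg Subtype.val this)).trans
        (Nat.gcd_dvd_left _ _))
    · by_cases h1 : g = 1
      · exact h1 ▸ one_mem _
      · rw [eq_neg_one_of_sq hodd h h1]
        exact mem_center_iff.2 fun g => by simp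
  have oa : orderOf (φ (QuaternionGroup.a 1)) = 2 ^ (m + 2) := by
    rw [orderOf_injective φ hφ, QuaternionGroup.orderOf_a_one]; ring
  have ha : orderOf (π (φ (QuaternionGroup.a 1))) = 2 ^ (m + 1) := orderOf_eq_prime_pow
    (by rw [← map_pow, c1, ← pow_mul, ← pow_succ, ← orderOf_dvd_iff_pow_eq_one, oa,
      Nat.pow_dvd_pow_iff_le_right one_lt_two]; omega)
    (by rw [← map_pow, c1, ← pow_mul, ← pow_succ, ← oa, pow_orderOf_eq_one])
  have hr : π (φ (QuaternionGroup.xa 0)) * π (φ (QuaternionGroup.a 1)) * (π (φ (QuaternionGroup.xa 0)))⁻¹ =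
      (π (φ (QuaternionGroup.a 1)))⁻¹ := by
    simp only [← map_inv, ← map_mul]
    congr 2
    rw [mul_inv_eq_iff_eq_mul, eq_inv_mul_iff_mul_eq]
    simp
  refine dh_simple (perfect_of_simple (a := π (φ (QuaternionGroup.xa 0))) (b := π (φ (QuaternionGroup.a 1))) fun h => ?_)
    (by omega) ha ?_ hr (fun h => h1 ?_) S
  · rw [h, mul_inv_cancel_right, ← mul_eq_one_iff_eq_inv, ← sq, ← orderOf_dvd_iff_pow_eq_one, ha] at hr
    have := (Nat.pow_dvd_pow_iff_le_right one_lt_two (l := 1)).1 hr
    omega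
  · rw [← map_mul, c1, ← map_mul, ← map_pow, ← sq, ← pow_mul, QuaternionGroup.xa_pow_four, map_one]
  · rw [hS, ← hc, pow_succ']
    exact Nat.mul_dvd_mul_left _ h

end Cfsg.Agent.S5317
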