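import Cfsg.Statements.S5318
import Mathlib
import Cfsg.Agent.L0.FS2

set_option autoImplicit false
open Cfsg

namespace Cfsg.Agent.S5318

open CfsgL0 CfsgL0.GLn CfsgH5 Subgroup Matrix

/-- For a finite field F of odd order, the 2-fusion system of PSL(3,F) on a Sylow 2-subgroup (semidihedral or wreathed according as |F| ≡ 3 or 1 mod 4) is simple. -/
theorem result {F : Type*} [Field F] [Fintype F] (hodd : Fintype.card F % 2 = 1) (S : Sylow 2 (Matrix.ProjectiveSpecialLinearGroup (Fin 3) F)) :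
    (Cfsg.groupFusionSystem (S : Subgroup (Matrix.ProjectiveSpecialLinearGroup (Fin 3) F))).IsSimple 2 := by
  classical
  set q := Fintype.card F with hq
  have q1 : 1 < q := Fintype.one_lt_card
  obtain ⟨A, hA⟩ : ∃ A, q = A + 1 := ⟨q - 1, by omega⟩
  have hc : Nat.card (ProjectiveSpecialLinearGroup (Fin 3) F) ∣ A * A * (A + 2) * (q ^ 3 * (A * A + 3 * A + 3)) := by
    have := card_PSL (F := F) 3 (by omega)
    rw [Fin.prod_univ_three, ← hq] at this
    refine Nat.dvd_of_mul_dvd_mul_left (show 0 < A by omega) (Dvd.intro_left (Nat.gcd 3 (q - 1)) ?_)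
    rw [show q - 1 = A by omega] at this ⊢
    rw [this, hA]
    show ((A + 1) ^ 3 - (A + 1) ^ 0) * ((A + 1) ^ 3 - (A + 1) ^ 1) * ((A + 1) ^ 3 - (A + 1) ^ 2) = _
    have e1 : (A + 1) ^ 0 ≤ (A + 1) ^ 3 := Nat.pow_le_pow_right (by omega) (by omega)
    have e2 : (A + 1) ^ 1 ≤ (A + 1) ^ 3 := Nat.pow_le_pow_right (by omega) (by omega)
    have e3 : (A + 1) ^ 2 ≤ (A + 1) ^ 3 := Nat.pow_le_pow_right (by omega) (by omega)
    zify [e1, e2, e3]
    ring
  have ho : Odd (q ^ 3 * (A * A + 3 * A + 3)) := (Nat.odd_iff.2 hodd).pow.mul (by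
    obtain ⟨t, rfl⟩ : ∃ t, A = 2 * t := ⟨A / 2, by omega⟩
    exact ⟨2 * t * t + 3 * t + 1, by ring⟩)
  set π := QuotientGroup.mk' (center (SpecialLinearGroup (Fin 3) F))
  have hf : ∀ x, π x = 1 → x ^ 3 = 1 := fun g h => by
    have := pow_card_eq_one' (x := (⟨g, (QuotientGroup.eq_one_iff g).1 h⟩ : center _))
    rw [card_center_SL] at this
    exact orderOf_dvd_iff_pow_eq_one.1 ((orderOf_dvd_of_pow_eq_one (congrArg Subtype.val this)).trans
      (Nat.gcd_dvd_left _ _))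
  have hG : commutator (ProjectiveSpecialLinearGroup (Fin 3) F) = ⊤ := by
    have := congrArg (map π) (commutator_SL_eq_top (F := F) (ι := Fin 3) (by simp))
    rwa [commutator_def, map_commutator, ← MonoidHom.range_eq_map,
      MonoidHom.range_eq_top.2 (QuotientGroup.mk'_surjective _)] at this
  have h2 : (2 : F) ≠ 0 := fun h => by
    have := (FiniteField.even_card_iff_char_two (F := F)).1 (ringChar.eq_iff.2 (CharP.ringChar_of_prime_eq_zero Nat.prime_two h ▸ inferInstance))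
    omega
  by_cases h4 : A % 4 = 0
  · obtain ⟨m, r, hm, hr, e⟩ := two_part (by omega) h4
    obtain ⟨ζ, z0, hζ⟩ := exists_orderOf_of_dvd F (m := 2 ^ (m + 1))
      (by rw [Nat.card_eq_fintype_card, ← hq, hA, e]; simp)
    obtain ⟨t, ht⟩ : ∃ t, A + 2 = 2 * (2 * t + 1) := ⟨A / 4, by omega⟩
    refine wr_mat (ι := slToMat 3 F) (fun _ _ h => Subtype.ext h) (by decide) hf hG hm
      (x := ⟨diagonal ![ζ, 1, ζ⁻¹], by simp [Fin.prod_univ_three, z0]⟩)
      (y := ⟨diagonal ![1, ζ, ζ⁻¹], by simp [Fin.prod_univ_three, z0]⟩)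
      (z := ⟨!![0, 1, 0; 1, 0, 0; 0, 0, -1], by simp [det_fin_three]⟩) rfl rfl rfl hζ
      (not_two_pow_dvd (hc.trans (dvd_of_eq ?_)) (((hr.mul hr).mul (odd_two_mul_add_one t)).mul ho)) S
    rw [ht, e]; ring
  · obtain ⟨m, r, hm, hr, e⟩ := two_part (A := A + 2) (by omega) (by omega)
    obtain ⟨t, ht⟩ : ∃ t, A = 2 * (2 * t + 1) := ⟨A / 4, by omega⟩
    obtain ⟨K, _, _, _, -, hK⟩ := exists_ext (F := F) two_pos
    rw [Nat.card_eq_fintype_card (α := F), ← hq] at hK
    obtain ⟨ω, w0, hω⟩ := exists_orderOf_of_dvd K (m := 2 ^ (m + 2)) (by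
      rw [hK, hA, show (A + 1) ^ 2 - 1 = A * (A + 2) from Nat.sub_eq_of_eq_add (by ring), e, ht]
      exact ⟨(2 * t + 1) * r, by ring⟩)
    have w1 := half_pow hω
    have w2 : ω ^ q = -ω⁻¹ := by
      rw [eq_neg_iff_add_eq_zero, ← mul_eq_zero_iff_right w0, add_mul, inv_mul_cancel₀ w0, ← pow_succ, hA, add_assoc,
        e, pow_mul, w1, hr.neg_one_pow, neg_add_cancel]
    have k2 : (2 : K) ≠ 0 := by
      rw [← map_ofNat (algebraMap F K)]; exact (_root_.map_ne_zero _).2 h2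
    obtain ⟨s, hs⟩ := mem_range_of_pow (F := F) (b := (ω - ω⁻¹) / 2) (by
      have := map_div₀ (FiniteField.frobeniusAlgHom F K) (ω - ω⁻¹) 2
      rw [map_sub, map_inv₀, map_ofNat] at this
      simp only [FiniteField.coe_frobeniusAlgHom] at this
      rw [Nat.card_eq_fintype_card, this, ← hq, w2]
      simp [sub_eq_add_neg, add_comm])
    refine sd_mat (ι := (algebraMap F K).mapMatrix.toMonoidHom.comp (slToMat 3 F))
      (fun _ _ h => Subtype.ext (map_injective (algebraMap F K).injective h)) (by decide) hf hG (m := m + 1) (by omega) k2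
      (a := ⟨!![s, 1, 0; s ^ 2 + 1, s, 0; 0, 0, -1], by simp [det_fin_three]; ring⟩)
      (b := ⟨!![1, 0, 0; 0, -1, 0; 0, 0, -1], by simp [det_fin_three]⟩) (s := algebraMap F K s) (u := (ω + ω⁻¹) / 2)
      (β := 1) (γ := algebraMap F K s ^ 2 + 1) ?_ ?_ ?_ ?_ ?_
      (not_two_pow_dvd (hc.trans (dvd_of_eq ?_))
        ((((odd_two_mul_add_one t).mul (odd_two_mul_add_one t)).mul hr).mul ho)) S
    · show Matrix.map !![s, 1, 0; s ^ 2 + 1, s, 0; 0, 0, -1] (algebraMap F K) = _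
      ext i j
      fin_cases i <;> fin_cases j <;> simp
    · show Matrix.map !![1, 0, 0; 0, -1, 0; 0, 0, -1] (algebraMap F K) = _
      ext i j
      fin_cases i <;> fin_cases j <;> simp
    · rw [← hs]; field_simp; ring
    · rw [← hs]; field_simp; ring
    · rw [← hs, ← w1]; congr 1; field_simp; ring
    · rw [e]; nth_rw 1 2 [ht]; ring

end Cfsg.Agent.S5318
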