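import Cfsg.Statements.S5319
import Mathlib
import Cfsg.Agent.L0.FS2

set_option autoImplicit false
open Cfsg

namespace Cfsg.Agent.S5319

open CfsgL0 CfsgL0.GLn CfsgH5 CfsgH5.CForm Subgroup Matrix

/-- Let q be an odd prime power and F a field with q² elements. Then the 2-fusion system of PSU(3,q) (realised as the special unitary group of the standard Hermitian form over F modulo its centre) on a Sylow 2-subgroup is simple. -/
theorem result {F : Type*} [Field F] [Fintype F] (q : ℕ) (hq : Fintype.card F = q ^ 2) (hodd : q % 2 = 1) (S : Sylow 2 (Cfsg.PSU 3 F q)) :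
    (Cfsg.groupFusionSystem (S : Subgroup (Cfsg.PSU 3 F q))).IsSimple 2 := by
  classical
  have H := frobq_UF hq
  set σ := frobq hq
  have q2 := H.two_le
  obtain ⟨B, hB⟩ : ∃ B, q = B + 1 := ⟨q - 1, by omega⟩
  have hc : Nat.card (PSU 3 F q) ∣ (B + 2) * (B + 2) * B * (q ^ 3 * (B * B + B + 1)) := by
    have := card_PSU H (n := 3) (by omega)
    refine Nat.dvd_of_mul_dvd_mul_left (show 0 < q + 1 by omega) (Dvd.intro_left (Nat.gcd 3 (q + 1)) ?_)
    rw [this, hB]
    have e1 : 1 ≤ (B + 1) ^ 2 := Nat.one_le_pow _ _ (by omega)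
    simp only [uOrd, Finset.prod_range_succ, Finset.prod_range_zero]
    rw [if_pos (by decide), if_neg (by decide), if_pos (by decide)]
    zify [e1]
    ring
  have ho : Odd (q ^ 3 * (B * B + B + 1)) := (Nat.odd_iff.2 hodd).pow.mul (by
    obtain ⟨t, rfl⟩ : ∃ t, B = 2 * t := ⟨B / 2, by omega⟩
    exact ⟨2 * t * t + t, by ring⟩)
  set π := QuotientGroup.mk' (center (SU 3 F q))
  have hf : ∀ x, π x = 1 → x ^ 3 = 1 := fun g h => by
    have := pow_card_eq_one' (x := (⟨g, (QuotientGroup.eq_one_iff g).1 h⟩ : center _))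
    rw [card_center_SU H (by omega)] at this
    exact orderOf_dvd_iff_pow_eq_one.1 ((orderOf_dvd_of_pow_eq_one (congrArg Subtype.val this)).trans
      (Nat.gcd_dvd_left _ _))
  have hG : commutator (PSU 3 F q) = ⊤ := by
    have h1 := (unit_isSimple H (hermC_nondeg H 3) (by simp) (by omega)).1
    set φ := π.comp (suEquiv H 3).symm.toMonoidHom
    have := congrArg (map φ) h1
    rwa [commutator_def, map_commutator, ← MonoidHom.range_eq_map,
      (MonoidHom.range_eq_top (f := φ)).2 ((QuotientGroup.mk'_surjective _).comp (suEquiv H 3).symm.surjective)] at this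
  have h2 : (2 : F) ≠ 0 := fun h => by
    have := (FiniteField.even_card_iff_char_two (F := F)).1 (ringChar.eq_iff.2 (CharP.ringChar_of_prime_eq_zero Nat.prime_two h ▸ inferInstance))
    rw [hq, Nat.pow_mod, hodd] at this
    omega
  have hι : Function.Injective ((slToMat 3 F).comp (SU 3 F q).subtype) := fun _ _ h => Subtype.ext (Subtype.ext h)
  by_cases h4 : (B + 2) % 4 = 0
  · obtain ⟨m, r, hm, hr, e⟩ := two_part (by omega) h4
    obtain ⟨ζ, z0, hζ⟩ := exists_orderOf_of_dvd F (m := 2 ^ (m + 1))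
      (by rw [H.card_units, hB, add_assoc, e]; exact (dvd_mul_right _ _).mul_left _)
    have z1 : ζ * σ ζ = 1 := by rw [H.norm_eq, hB, add_assoc, e, pow_mul, ← hζ, pow_orderOf_eq_one, one_pow]
    have z2 : ζ⁻¹ * (σ ζ)⁻¹ = 1 := by rw [← mul_inv, z1, inv_one]
    obtain ⟨t, ht⟩ : ∃ t, B = 2 * (2 * t + 1) := ⟨B / 4, by omega⟩
    refine wr_mat hι (by decide) hf hG hm
      (x := ⟨⟨diagonal ![ζ, 1, ζ⁻¹], by simp [Fin.prod_univ_three, z0]⟩, mem_SU_of H.pow ?_⟩)
      (y := ⟨⟨diagonal ![1, ζ, ζ⁻¹], by simp [Fin.prod_univ_three, z0]⟩, mem_SU_of H.pow ?_⟩)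
      (z := ⟨⟨!![0, 1, 0; 1, 0, 0; 0, 0, -1], by simp [det_fin_three]⟩, mem_SU_of H.pow ?_⟩) rfl rfl rfl hζ
      (not_two_pow_dvd (hc.trans (dvd_of_eq ?_)) (((hr.mul hr).mul (odd_two_mul_add_one t)).mul ho)) S
    · ext i j
      fin_cases i <;> fin_cases j <;> simp [mul_apply, Fin.sum_univ_three, z1, z2]
    · ext i j
      fin_cases i <;> fin_cases j <;> simp [mul_apply, Fin.sum_univ_three, z1, z2]
    · ext i j
      fin_cases i <;> fin_cases j <;> simp [mul_apply, Fin.sum_univ_three]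
    · rw [e]; nth_rw 1 [ht]; ring
  · obtain ⟨m, r, hm, hr, e⟩ := two_part (A := B) (by omega) (by omega)
    obtain ⟨t, ht⟩ : ∃ t, B + 2 = 2 * (2 * t + 1) := ⟨B / 4, by omega⟩
    obtain ⟨ω, w0, hω⟩ := exists_orderOf_of_dvd F (m := 2 ^ (m + 2)) (by
      rw [H.card_units, hB, add_assoc, Nat.add_sub_cancel, ht, e]
      exact ⟨(2 * t + 1) * r, by ring⟩)
    have w1 := half_pow hω
    have w2 : σ ω = -ω := by rw [H.pow, hB, pow_succ, e, pow_mul, w1, hr.neg_one_pow, neg_one_mul]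
    obtain ⟨s, hs⟩ : ∃ s, s = (ω - ω⁻¹) / 2 := ⟨_, rfl⟩
    have s1 : σ s = -s := by rw [hs, map_div₀, map_sub, map_inv₀, map_ofNat, w2]; field_simp; ring
    obtain ⟨β, hβ⟩ := H.exists_norm (b := s ^ 2 + 1) (by simp [s1])
    refine sd_mat hι (by decide) hf hG (m := m + 1) (by omega) h2
      (a := ⟨⟨!![s, β, 0; σ β, s, 0; 0, 0, -1], by simp [det_fin_three]; linear_combination hβ⟩, mem_SU_of H.pow ?_⟩)
      (b := ⟨⟨!![1, 0, 0; 0, -1, 0; 0, 0, -1], by simp [det_fin_three]⟩, mem_SU_of H.pow ?_⟩) (u := (ω + ω⁻¹) / 2)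
      rfl rfl ?_ ?_ ?_ (not_two_pow_dvd (hc.trans (dvd_of_eq ?_))
        ((((odd_two_mul_add_one t).mul (odd_two_mul_add_one t)).mul hr).mul ho)) S
    · ext i j
      fin_cases i <;> fin_cases j <;> simp [mul_apply, Fin.sum_univ_three, s1, H.invol] <;>
        first | ring1 | linear_combination hβ
    · ext i j
      fin_cases i <;> fin_cases j <;> simp [mul_apply, Fin.sum_univ_three]
    · rw [hs]; field_simp; ring
    · rw [hβ, hs]; field_simp; ring
    · rw [hs, ← w1]; congr 1; field_simp; ring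
    · rw [ht]; nth_rw 1 [e]; ring

end Cfsg.Agent.S5319
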