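import Cfsg.Statements.S5320
import Mathlib
import Cfsg.Agent.L0.FS7
import Cfsg.Agent.S0261

set_option autoImplicit false
open Cfsg

namespace Cfsg.Agent.S5320

open CfsgL0 CfsgL0.Sp4 CfsgH8 CfsgH2 Subgroup Matrix

/-- For a finite field F of odd order, the 2-fusion system of the projective symplectic group PSp(4,F) on a Sylow 2-subgroup is simple. -/
theorem result {F : Type*} [Field F] [Fintype F] (hodd : Fintype.card F % 2 = 1) (S : Sylow 2 (Cfsg.PSp 2 F)) :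
    (Cfsg.groupFusionSystem (S : Subgroup (Cfsg.PSp 2 F))).IsSimple 2 := by
  classical
  have h2 := two_ne_zero_of_odd hodd
  obtain ⟨P⟩ : Nonempty (Sylow 2 (Matrix.SpecialLinearGroup (Fin 2) F)) := inferInstance
  obtain ⟨m, hm, ⟨e⟩⟩ := S0261.result (Nat.odd_iff.2 hodd) P
  obtain ⟨a, b, gq⟩ := CfsgH4.gq_of_equiv hm e
  set π := QuotientGroup.mk' (center (symplecticGroup (Fin 2) F))
  have hn : a ^ 2 ^ m = -1 := eq_neg_one_of_sq hodd ((sq _).trans (half_sq gq.ord)) (half_ne_one gq.ord)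
  have n1 : (-1 : Matrix.SpecialLinearGroup (Fin 2) F) ≠ 1 := hn ▸ half_ne_one gq.ord
  have n : Φ (-1) (-1) = (-1 : Matrix (Fin 2 ⊕ Fin 2) (Fin 2 ⊕ Fin 2) F) := by rw [Φ_neg, Φ_one]
  have h : P4 (P : Subgroup (Matrix.SpecialLinearGroup (Fin 2) F)) a b (-1) m (π.comp (ψ F)) (π ⟨_, T_mem⟩) := by
    refine ⟨syl_top P, gq, hn, by simp, fun x y => ?_, ?_, fun x y => ?_, fun p k => ?_, fun g k => ?_, ?_,
      fun x y k l => ?_⟩
    · refine (QuotientGroup.eq_one_iff _).trans ((mem_center hodd).trans (or_congr ⟨fun k => ?_, ?_⟩ ⟨fun k => ?_, ?_⟩))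
      · exact (Φ_inj (k.trans Φ_one.symm)).imp Subtype.ext Subtype.ext
      · rintro ⟨rfl, rfl⟩; exact Φ_one
      · exact (Φ_inj (k.trans n.symm)).imp Subtype.ext Subtype.ext
      · rintro ⟨rfl, rfl⟩; exact n
    · rw [← map_mul, ← map_one π]; exact congrArg π (Subtype.ext T_sq)
    · exact (map_mul π _ _).symm.trans ((congrArg π (Subtype.ext T_mul)).trans (map_mul π _ _))
    · exact ((mk_eq hodd).1 k).elim T_ne.1 T_ne.2
    · obtain ⟨g, rfl⟩ := QuotientGroup.mk'_surjective _ g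
      rcases (mk_eq hodd).1 ((map_mul π _ _).trans (k.trans (map_mul π _ _).symm)) with k | k
      · obtain ⟨A, B, e⟩ := exists_Φ h2 k
        exact ⟨⟨A, (Φ_mem.1 (e ▸ g.2)).1⟩, ⟨B, (Φ_mem.1 (e ▸ g.2)).2⟩, .inl (congrArg π (Subtype.ext e))⟩
      · change g.1 * Φ (-1) 1 = -(Φ (-1) 1 * g.1) at k
        obtain ⟨A, B, e⟩ := exists_Φ h2 (M := g.1 * T F) (by
          rw [mul_assoc, T_mul, ← neg_neg (1 : Matrix (Fin 2) (Fin 2) F), neg_neg (-1), Φ_neg, neg_mul, mul_neg,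
            ← mul_assoc, k, neg_mul, neg_neg, mul_assoc, neg_neg])
        have e1 := Φ_mem.1 (e ▸ mul_mem g.2 T_mem)
        refine ⟨⟨A, e1.1⟩, ⟨B, e1.2⟩, .inr ((congrArg π (Subtype.ext ?_)).trans (map_mul π _ _))⟩
        change g.1 = Φ A B * T F
        rw [← e, mul_assoc, T_sq, mul_one]
    · obtain ⟨p, k, l⟩ := exists_P h2
      refine π.map_isConj (isConj_iff.2 ⟨⟨p, k⟩, mul_inv_eq_iff_eq_mul.2 (Subtype.ext l)⟩)
    · have : ∀ x : Matrix.SpecialLinearGroup (Fin 2) F, x * x = -1 → x.1.trace = 0 := fun x k =>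
        trace_of_orderOf_four hodd (orderOf_eq_prime_pow (p := 2) (n := 1) (by rw [pow_one, sq, k]; exact n1)
          (by rw [show 2 ^ (1 + 1) = 2 * 2 from rfl, pow_mul, sq x, k]; simp))
      exact (reg_of_trace_zero hodd (this x k)).isConj_SL ((this x k).trans (this y l).symm)
  refine h.simple (fun hm => ?_) S
  subst hm
  have a2 : a * a = -1 := by rw [← hn]; simp [sq]
  have b2 : b * b = -1 := hn ▸ gq.sq_eq gq.bmem gq.nmem
  have a3 : a.1 * a.1 = -1 := congrArg Subtype.val a2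
  have b3 : b.1 * b.1 = -1 := congrArg Subtype.val b2
  have ba : b.1 * a.1 = -(a.1 * b.1) := by
    have : b * a = -(a * b) := by
      rw [mul_inv_eq_iff_eq_mul.1 gq.inv, inv_eq_of_mul_eq_one_right (b := -a) (by rw [mul_neg, a2, neg_neg]), neg_mul]
    exact congrArg Subtype.val this
  have d : ∀ x : Matrix.SpecialLinearGroup (Fin 2) F, x * x = -1 → (1 + x.1).det = 2 := fun x k => by
    have t := trace_of_orderOf_four hodd (z := x) (orderOf_eq_prime_pow (p := 2) (n := 1)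
      (by rw [pow_one, sq, k]; exact n1) (by rw [show 2 ^ (1 + 1) = 2 * 2 from rfl, pow_mul, sq x, k]; simp))
    have := x.2
    rw [det_fin_two] at this ⊢
    rw [trace_fin_two] at t
    simp
    linear_combination this + t
  set ω : Matrix.SpecialLinearGroup (Fin 2) F := ⟨(1 / 2 : F) • ((1 + a.1) * (1 + b.1)), by
    rw [det_smul, det_mul, d a a2, d b b2, Fintype.card_fin]; field_simp⟩
  have a4 : ∀ x, a.1 * (a.1 * x) = -x := fun x => by rw [← mul_assoc, a3, neg_one_mul]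
  have b4 : ∀ x, b.1 * (b.1 * x) = -x := fun x => by rw [← mul_assoc, b3, neg_one_mul]
  have ba' : ∀ x, b.1 * (a.1 * x) = -(a.1 * (b.1 * x)) := fun x => by rw [← mul_assoc, ba, neg_mul, mul_assoc]
  have w1 : ω * a * ω⁻¹ = b := mul_inv_eq_iff_eq_mul.2 (Subtype.ext (by
    change (1 / 2 : F) • ((1 + a.1) * (1 + b.1)) * a.1 = b.1 * (1 / 2 : F) • ((1 + a.1) * (1 + b.1))
    rw [smul_mul_assoc, mul_smul_comm]
    congr 1
    simp only [mul_add, add_mul, mul_one, one_mul, mul_assoc, a3, b3, ba, a4, b4, ba', mul_neg, neg_neg]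
    abel))
  have w2 : ω * b * ω⁻¹ = a * b := mul_inv_eq_iff_eq_mul.2 (Subtype.ext (by
    change (1 / 2 : F) • ((1 + a.1) * (1 + b.1)) * b.1 = a.1 * b.1 * (1 / 2 : F) • ((1 + a.1) * (1 + b.1))
    rw [smul_mul_assoc, mul_smul_comm]
    congr 1
    simp only [mul_add, add_mul, mul_one, one_mul, mul_assoc, a3, b3, ba, a4, b4, ba', mul_neg, neg_neg]
    abel))
  refine ⟨ω, mem_normalizer_fintype fun x hx => ?_, fun k => gq.nmem ?_, ?_⟩
  · have : (P : Subgroup (Matrix.SpecialLinearGroup (Fin 2) F)) ≤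
        (P : Subgroup (Matrix.SpecialLinearGroup (Fin 2) F)).comap (MulAut.conj ω).toMonoidHom :=
      gq.sup.ge.trans (sup_le (zpowers_le.2 (show ω * a * ω⁻¹ ∈ _ from w1 ▸ gq.bmem))
        (zpowers_le.2 (show ω * b * ω⁻¹ ∈ _ from w2 ▸ mul_mem gq.amem gq.bmem)))
    exact this hx
  · exact w1 ▸ (mem_normalizer_iff.1 (sup_le gq.le_norm ((centralizer_le gq.ale).trans (centralizer_le_normalizer _)) k)
      a).1 (mem_zpowers a)
  · have r1 : π (ψ F (a, a)) ∈ h.R := subset_closure (by simp)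
    have r2 : π (ψ F (b, b)) ∈ h.R := subset_closure (by simp)
    have r3 : π (⟨_, T_mem⟩ * ψ F (-1, 1)) ∈ h.R := (map_mul π _ _).symm ▸ mul_mem (subset_closure (by simp))
      (subset_closure (by simp))
    have r4 : π (⟨_, T_mem⟩ * ψ F (1, -1)) ∈ h.R := by
      refine (congrArg (· ∈ h.R) ((mk_eq hodd).2 (.inr ?_))).mpr r3
      change T F * Φ 1 (-1) = -(T F * Φ (-1) 1)
      rw [← mul_neg, ← Φ_neg, neg_neg]
    have s : ∀ A B : Matrix (Fin 2) (Fin 2) F, T F * Φ A B * (T F * Φ A B) = Φ (B * A) (A * B) := fun A B => by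
      rw [← mul_assoc, T_mul, mul_assoc (Φ B A), T_sq, mul_one, Φ_mul]
    have c : ∀ (x : Matrix (Fin 2) (Fin 2) F) A B, A * x = x * A → B * x = x * B →
        Φ x x * (T F * Φ A B) = T F * Φ A B * Φ x x := fun x A B k l => by
      rw [← mul_assoc, ← T_mul, mul_assoc, mul_assoc, Φ_mul, Φ_mul, k, l]
    have := mul_mem (half_PN hodd h2 (h.R_ab rfl) (a := ψ F (a, a)) (b := ⟨_, T_mem⟩ * ψ F (-1, 1)) (Φ_mul.trans (a3 ▸ n))
      ((s _ _).trans (by simpa using n)) (c _ _ _ (by simp) (by simp)) r1 r3)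
      (half_PN hodd h2 (h.R_ab rfl) (a := ⟨_, T_mem⟩ * ψ F (1, -1)) (b := ψ F (b, b)) ((s _ _).trans (by simpa using n)) (Φ_mul.trans (b3 ▸ n))
      (c _ _ _ (by simp) (by simp)).symm r4 r2)
    rw [← map_mul] at this
    convert this using 1
    refine congrArg π (Subtype.ext ?_)
    change Φ ((1 / 2 : F) • _) ((1 / 2 : F) • _) = (1 / 2 : F) • ((1 + Φ a.1 a.1) * (1 + T F * Φ (-1) 1)) *
      (1 / 2 : F) • ((1 + T F * Φ 1 (-1)) * (1 + Φ b.1 b.1))
    have : (1 + T F * Φ (-1) 1) * (1 + T F * Φ 1 (-1)) = (2 : F) • 1 := by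
      rw [← neg_neg (1 : Matrix (Fin 2) (Fin 2) F), neg_neg (-1), Φ_neg (A := -1), neg_neg, mul_neg, mul_add, add_mul,
        add_mul, mul_neg (T F * _), s, one_mul (-1), mul_one (-1), n, two_smul]
      noncomm_ring
    rw [Φ_smul, ← Φ_mul, Φ_add, Φ_add, Φ_one, smul_mul_assoc, mul_smul_comm, mul_assoc, ← mul_assoc (1 + T F * _), this,
      smul_mul_assoc, mul_smul_comm, one_mul, smul_smul (1 / 2 : F) 2, one_div_mul_cancel h2, one_smul]

end Cfsg.Agent.S5320
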