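import Cfsg.Statements.S5328
import Mathlib
import Cfsg.Agent.L0.Bis3

set_option autoImplicit false
universe u
open Cfsg

namespace Cfsg.Agent.S5328

open CfsgL0 CfsgH2 Subgroup

/-- Every fusion system over a finite p-group S, saturated or not, is realized inside some finite group: there is a finite group G and an injective homomorphism ι of S into G such that the maps of the system are exactly the homomorphisms between subgroups of S that become conjugations by elements of G (the image of S need not be a Sylow p-subgroup of G). -/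
theorem result {Ω : Type u} [Group Ω] {S : Subgroup Ω} [Finite S] (p : ℕ) [Fact p.Prime] (hS : IsPGroup p S) (F : Cfsg.FusionSystem S) : ∃ (G : Type u) (_ : Group G) (_ : Finite G) (ι : ↥S →* G), F.IsRealizedBy ι := by
  obtain ⟨X, h⟩ := exists_CB_unsat F
  let l : S →* Equiv.Perm X.X := X.perm ((MonoidHom.inl Ω Ω).comp S.subtype) fun x => mem_prod.2 ⟨x.2, one_mem _⟩
  let r : S →* Equiv.Perm X.X := X.perm ((MonoidHom.inr Ω Ω).comp S.subtype) fun x => mem_prod.2 ⟨one_mem _, x.2⟩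
  have hl : ∀ x ξ, l x ξ = X.a (x, 1) ξ := fun _ _ => rfl
  have hr : ∀ x ξ, r x ξ = X.a (1, x) ξ := fun _ _ => rfl
  have m1 : ∀ x y : S, ∀ ξ, l x (r y ξ) = X.a (x, y) ξ := fun x y ξ => by
    rw [hl, hr, ← X.mul _ (mem_prod.2 ⟨x.2, one_mem _⟩) _ (mem_prod.2 ⟨one_mem _, y.2⟩)]; simp
  have m2 : ∀ x y : S, ∀ ξ, r y (l x ξ) = X.a (x, y) ξ := fun x y ξ => by
    rw [hl, hr, ← X.mul _ (mem_prod.2 ⟨one_mem _, y.2⟩) _ (mem_prod.2 ⟨x.2, one_mem _⟩)]; simp
  have mc : ∀ g, g ∈ C[r.range] ↔ ∀ y ξ, r y (g ξ) = g (r y ξ) := fun g => by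
    rw [mem_cent_iff]
    exact ⟨fun k y ξ => congrArg (fun σ : Equiv.Perm X.X => σ ξ) (k _ ⟨y, rfl⟩), by
      rintro k _ ⟨y, rfl⟩; exact Equiv.ext (k y)⟩
  obtain ⟨ξ, hξ⟩ := h.base
  refine ⟨C[r.range], inferInstance, inferInstance, l.codRestrict _ fun x => (mc _).2 fun y ξ =>
    (m2 _ _ _).trans (m1 _ _ _).symm, (injective_iff_map_eq_one _).2 fun x hx => ?_,
    fun P hP φ hφ => ⟨fun k => ?_, fun ⟨g, hg⟩ => ?_⟩⟩
  · obtain ⟨P, f, a, b⟩ := h.gr ξ
    obtain ⟨c, d⟩ := b (x, 1) ⟨mem_prod.2 ⟨x.2, one_mem _⟩, by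
      rw [← hl, show l x = 1 from congrArg Subtype.val hx]; rfl⟩
    exact Subtype.ext (a.eq_one c d.symm)
  · obtain ⟨σ, a⟩ := h.stab P _ (M_ex k)
    refine ⟨⟨σ, (mc _).2 fun y ξ => ?_⟩, fun x => Subtype.ext (eq_mul_inv_of_mul_eq (Equiv.ext fun ξ => ?_))⟩
    · rw [hr, hr, a 1 (one_mem _) y y.2, (M_ex k).one]
    · exact ((a x x.2 1 (one_mem _) ξ).trans (by rw [ex_coe]; rfl)).symm
  · obtain ⟨R, f, a, b⟩ := h.gr (g.1 ξ)
    have c : ∀ x ∈ P, ex φ x ∈ R ∧ x = f (ex φ x) := fun x hx => b (ex φ x, x) ⟨mem_prod.2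
      ⟨ex_apply φ hx ▸ hφ _, hP hx⟩, by
        have := congrArg Subtype.val (eq_mul_inv_iff_mul_eq.1 (hg ⟨x, hx⟩))
        rw [ex_apply φ hx, ← m1 ⟨_, hφ ⟨x, hx⟩⟩ ⟨x, hP hx⟩, (mc _).1 g.2]
        refine (congrArg (fun σ : Equiv.Perm X.X => σ _) this).trans (congrArg g.1 ?_)
        exact (m1 _ _ _).trans (hξ x (hP hx))⟩
    have d := (a.mono (im_le_iff.2 fun x hx => (c x hx).1)).of_leftInv (g := ex φ) fun y hy => by
      obtain ⟨x, hx, rfl⟩ := (homOn_ex φ).mem_im.1 hy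
      rw [← (c x hx).2]
    rw [(homOn_ex φ).im_im, im_of_eq fun x hx => (c x hx).2.symm] at d
    exact hom_iff.2 d

end Cfsg.Agent.S5328
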