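import Cfsg.Statements.S5330
import Mathlib
import Cfsg.Agent.L0.Bis3

set_option autoImplicit false
open Cfsg

namespace Cfsg.Agent.S5330

open CfsgL0 CfsgH2 Subgroup
open scoped commutatorElement

/-- Let F be a saturated fusion system over a finite abelian p-group S. Then S is the internal direct product of the centre of the system and the focal subgroup: Z(F) ∩ foc(F) = 1 and Z(F)·foc(F) = S. -/
theorem result {Ω : Type*} [Group Ω] {S : Subgroup Ω} [Finite S] (p : ℕ) [Fact p.Prime] (hS : IsPGroup p S) (F : Cfsg.FusionSystem S) (hF : F.IsSaturated p) (hab : ∀ x ∈ S, ∀ y ∈ S, x * y = y * x) : F.center ⊓ F.focalSubgroup = ⊥ ∧ F.center ⊔ F.focalSubgroup = S := by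
  have h1 : S ≤ C[S] := fun x hx => mem_cent_iff.2 fun y hy => hab y hy x hx
  have h2 : ⁅S, S⁆ = ⊥ := commutator_eq_bot_iff_le_centralizer.2 h1
  refine ⟨eq_bot_iff.2 (h2 ▸ inf_comm F.center _ ▸ foc_inf_center hS hF), le_antisymm
    (sup_le center_le foc_le) fun x hx => ?_⟩
  obtain ⟨n, hn, t, -, a, -⟩ := exists_tr hS hF (CfsgL0.normal_of_comm hS hF sc_top
    (le_centralizer_iff_isMulCommutative.1 h1))
  obtain ⟨y, b, rfl⟩ := exists_pow_root hS hx hn
  have hy := zpowers_le.2 hx b
  obtain ⟨c, d⟩ := a y (mem_inf.2 ⟨hy, h1 hy⟩)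
  simpa using mul_mem (mem_sup_left (T := F.focalSubgroup) c) (mem_sup_right (inv_mem d))

end Cfsg.Agent.S5330
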