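import Cfsg.Statements.S5342
import Mathlib
import Cfsg.Agent.L0.Fus14

set_option autoImplicit false
open Cfsg

namespace Cfsg.Agent.S5342

open Cfsg Subgroup CfsgH2 CfsgL0

/-- Let F be a constrained saturated fusion system over a finite p-group S. Then every subsystem of F that is subnormal in F (reached from F by a finite chain of successive normal subsystems) is constrained. -/
theorem result {Ω : Type*} [Group Ω] {S : Subgroup Ω} [Finite S] (p : ℕ) [Fact p.Prime] (hS : IsPGroup p S) (F : Cfsg.FusionSystem S) (hF : F.IsConstrained p) {T : Subgroup Ω} (E : Cfsg.FusionSystem T) (hE : E.IsSubnormalIn F p) : E.IsConstrained p := by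
  rename_i h1 h2
  revert h1 h2
  induction hE with
  | refl => intro _ _; exact hF
  | step _ h ih =>
    intro _ _
    have a := h.1.2.2
    haveI := finite_of_le a.2.1.1
    exact ih (hS.to_le a.2.1.1) (constrained_sub hS hF h.1.1 a.1 a.2.1)

end Cfsg.Agent.S5342
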