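import Cfsg.Statements.S5522
import Cfsg.Agent.H1.Mh

set_option autoImplicit false
open Cfsg

namespace Cfsg.Agent.S5522

section
open CfsgH1.Mg CfsgH1.Mc CfsgH1.Mh CfsgH7 CfsgH7.Gol MulAction
open scoped commutatorElement

noncomputable def tst (a : Nat) : Bool :=
  Bool.rec true (force (pmul 24 a a) fun b => band (Bool.not (Nat.beq b 0xbdab49ca307b9ac5a928398a418820))
    (Nat.beq (ppow 24 b 4) 0xbdab49ca307b9ac5a928398a418820)) (Nat.beq (Nat.land (pfix 24 a) 0xfacca0) 0)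

end

/-- The Mathieu group M₁₁, realised as the stabiliser of one point of the dodecad of squares inside the stabiliser M₁₂ of that dodecad in M₂₄, acts on the twelve coordinate positions outside the dodecad of squares (its 3-transitive action of degree 12); in this action every element of prime order fixes a point, i.e. the action is elusive. -/
theorem result (g : Equiv.Perm Cfsg.GolayPt) (hg : g ∈ Cfsg.Spor.M11) (hord : (orderOf g).Prime) :
    ∃ x : Cfsg.GolayPt, x ∉ Cfsg.Spor.squareDodecad ∧ g x = x := by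
  open CfsgH1.Mg CfsgH1.Mc CfsgH1.Mh CfsgH7 CfsgH7.Gol MulAction in
  open scoped commutatorElement in
  · obtain ⟨a, ha, h⟩ := P24.all I.inj mem11 card11 [⟨5, [[],[0],[1],[2],[3],[0,0],[0,2],[1,1],[1,3],[2,1],[2,0,0],[3,0,0]]⟩,
    ⟨1, [[],[2,1,2],[3,0,3],[0,0,2,0],[0,0,3,0],[0,2,1,3],[1,2,1,1],[1,3,1,1],[2,0,0,2,1],[2,1,3,3,1],[2,2,1,3,1]]⟩,
    ⟨2, [[],[2,0,2,2],[0,3,0,2,0,2],[3,0,2,0,0,2],[3,1,1,3,1,2],[1,3,1,3,0,0,2],[3,0,0,3,0,3,0],[0,0,2,0,2,0,3,1],[1,1,2,2,1,2,0,0],[3,0,2,0,0,3,1,3]]⟩,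
    ⟨4, [[],[2,0,0,2,1,3,0,3],[1,2,1,2,0,2,0,2,0],[0,0,3,1,1,3,0,3,0,3],[0,0,3,1,2,0,3,1,2,0],[0,2,0,2,1,3,0,0,3,1]]⟩] tst (by decide +kernel) ⟨g, hg.1.1⟩
      ⟨(open Pointwise in (sqD ▸ hg.1.2 : g ∈ stabilizer (Equiv.Perm GolayPt) (S 0x5335f))), hg.2⟩
    by_contra h0
    have h1 : fx ⟨g, hg.1.1⟩ ∩ S 0xfacca0 = S 0 := by
      rw [S_zero, Finset.eq_empty_iff_forall_notMem]
      intro p hp
      rw [← cD0, Finset.mem_inter, Finset.mem_compl, ← sqD] at hp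
      exact h0 ⟨p, hp.2, (Finset.mem_filter.1 hp.1).2⟩
    rw [fx, ha.fix I, msk_inter] at h1
    have e : pid 24 = 0xbdab49ca307b9ac5a928398a418820 := by decide +kernel
    rw [tst, show Nat.land _ _ = 0 from S_inj (lt_of_le_of_lt Nat.and_le_right (by norm_num)) (by norm_num) h1,
      force_eq, ← e] at h
    obtain ⟨h2, h3⟩ := band_iff.1 h
    have h4 := enc_eq hf24 ((ha.mul ha).pow 4) (Enc.one P24.le) h3
    rw [← sq, ← pow_mul, ← orderOf_dvd_iff_pow_eq_one, order_mk] at h4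
    have h5 := (Nat.prime_dvd_prime_iff_eq hord Nat.prime_two).1 (hord.dvd_of_dvd_pow (n := 3) h4)
    have h6 : (⟨g, hg.1.1⟩ : M24) * ⟨g, hg.1.1⟩ = 1 := by rw [← sq, ← h5, ← order_mk hg.1.1, pow_orderOf_eq_one]
    rw [(ha.mul ha).inj I.inj (h6 ▸ Enc.one P24.le), Nat.beq_refl] at h2
    exact absurd h2 (by simp)

end Cfsg.Agent.S5522
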