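import Cfsg.Statements.S5616
import Cfsg.Agent.H1.Mh

set_option autoImplicit false
open scoped Pointwise
open Cfsg

namespace Cfsg.Agent.S5616

section
open CfsgH1.Mg CfsgH1.Mc CfsgH1.Mh CfsgH7 CfsgH7.Gol MulAction
open scoped commutatorElement

abbrev φ (Y : Finset GolayPt) (X : Finset (Finset GolayPt)) : Nat := (X.filter fun t => (t ∩ Y).Nonempty).card

open Pointwise in
theorem φ_smul (c : M24) (Y : Finset GolayPt) (X : Finset (Finset GolayPt)) : φ (c • Y) (c • X) = φ Y X := by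
  rw [φ, φ, ← Finset.card_smul_finset c (X.filter _)]
  congr 1
  ext t
  obtain ⟨t, rfl⟩ := ex_smul c t
  simp only [Finset.mem_filter, Finset.smul_mem_smul_finset_iff, ← Finset.smul_finset_inter, Finset.smul_finset_nonempty]

theorem dec : Dec K3 sextets [xpt 1194, xpt 5, xpt 0] [21, 630, 1120] :=
  FX.dec RX gen3 (Rb.all _ _) [⟨1194, [0,1,0,1,0,0,1], 21⟩, ⟨5, [0,1,0,1,0,1,0,1,0,1,0,1,0,1,0,1,1,0], 630⟩, ⟨0, [0,1,0,1,0,1,0,1,0,1,0,1,0,1,0,1,0,1,0,1], 1120⟩] 11 (by decide +kernel) (by simp)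

theorem v1 : φ (S 0x800003) (xpt 1194) = 1 := by rw [X0_eq]; decide +kernel

theorem v2 : φ (S 0x800003) (xpt 5) = 2 := by
  rw [show xpt 5 = _ from I.ppt_eq (ms := [(0x50a, 1), (0x300a0, 5), (0x44204, 2), (0x308010, 4), (0x481800, 11), (0x802041, 0)]) (by decide +kernel)]; decide +kernel

theorem v3 : φ (S 0x800003) (xpt 0) = 3 := by
  rw [show xpt 0 = _ from I.ppt_eq (ms := [(0x4406, 1), (0x18030, 4), (0x40308, 3), (0x82801, 0), (0x320080, 7), (0xc01040, 6)]) (by decide +kernel)]; decide +kernel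

end

/-- Let Y be a set of 3 of the 24 points. The sextets of the length-24 code whose tetrads meeting Y number 1, 2 or 3 are respectively 21, 630 and 1120 in number, and two sextets with the same number of tetrads meeting Y are conjugate under the setwise stabiliser of Y in the code's group. -/
theorem result (Y : Finset Cfsg.GolayPt) (hY : Y.card = 3) : {S : Finset (Finset Cfsg.GolayPt) | S ∈ Cfsg.sextets ∧ (S.filter fun t => (t ∩ Y).Nonempty).card = 1}.ncard = 21 ∧ {S : Finset (Finset Cfsg.GolayPt) | S ∈ Cfsg.sextets ∧ (S.filter fun t => (t ∩ Y).Nonempty).card = 2}.ncard = 630 ∧ {S : Finset (Finset Cfsg.GolayPt) | S ∈ Cfsg.sextets ∧ (S.filter fun t => (t ∩ Y).Nonempty).card = 3}.ncard = 1120 ∧ ∀ S S' : Finset (Finset Cfsg.GolayPt), S ∈ Cfsg.sextets → S' ∈ Cfsg.sextets → (S.filter fun t => (t ∩ Y).Nonempty).card = (S'.filter fun t => (t ∩ Y).Nonempty).card → ∃ g ∈ Cfsg.M24, g • Y = Y ∧ g • S = S' := by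
  open CfsgH1.Mg CfsgH1.Mc CfsgH1.Mh CfsgH7 CfsgH7.Gol MulAction in
  open scoped commutatorElement in
  · obtain ⟨c, rfl⟩ := sets3 hY
    have i : ∀ k ∈ K3, ∀ y, φ (S 0x800003) (open Pointwise in k • y) = φ (S 0x800003) y := fun k hk y => by
      rw [← φ_smul k _ y, mem_stabilizer_iff.1 hk]
    have n : ([xpt 1194, xpt 5, xpt 0].map (φ (S 0x800003))).Nodup := by simp [v1, v2, v3]
    have l := dec_level dec _ i n
    have d := dec.1
    simp only [List.map_cons, List.map_nil, List.cons.injEq, and_true, List.mem_cons, List.not_mem_nil, or_false,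
      forall_eq_or_imp, forall_eq, v1, v2, v3] at l d
    have key : ∀ k, {X | X ∈ sextets ∧ φ (open Pointwise in c • S 0x800003) X = k}.ncard =
        {X | X ∈ sextets ∧ φ (S 0x800003) X = k}.ncard := fun k => ncard_smul_eq c fun y => by
      rw [Set.mem_setOf_eq, Set.mem_setOf_eq, msext, φ_smul]
    refine ⟨(key 1).trans (l.1 ▸ d.1), (key 2).trans (l.2.1 ▸ d.2.1), (key 3).trans (l.2.2 ▸ d.2.2), fun X X' h h' e => ?_⟩
    obtain ⟨X, rfl⟩ := ex_smul c X
    obtain ⟨X', rfl⟩ := ex_smul c X'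
    obtain ⟨k, hk, e⟩ := dec_tr dec _ i n X ((msext c).1 h) X' ((msext c).1 h')
      ((φ_smul c _ _).symm.trans (e.trans (φ_smul c _ _)))
    exact ⟨_, (c * k * c⁻¹).2, cj_smul c hk, cj_smul c e⟩

end Cfsg.Agent.S5616
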