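import Cfsg.Statements.S5726


set_option autoImplicit false
open Cfsg

namespace Cfsg.Agent.S5726

theorem dvd_index {G Ω : Type*} [Group G] [Finite G] [MulAction G Ω] [Fintype Ω] (htr : MulAction.IsPretransitive G Ω)
    (p k : ℕ) [Fact p.Prime] (P : Sylow p G) (h : p ^ k ∣ Fintype.card Ω) (w : Ω) :
    p ^ k ∣ (MulAction.stabilizer P w).index := by
  have h1 : (MulAction.stabilizer G w).index = Fintype.card Ω := by
    rw [MulAction.index_stabilizer_of_transitive, Nat.card_eq_fintype_card]
  have h2 : (MulAction.stabilizer P w).index = (MulAction.stabilizer G w).relIndex (P : Subgroup G) := rfl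
  have h3 := Subgroup.relIndex_mul_index (show (P : Subgroup G) ⊓ MulAction.stabilizer G w ≤ P from inf_le_left)
  have h4 := Subgroup.index_dvd_of_le (show (P : Subgroup G) ⊓ MulAction.stabilizer G w ≤ MulAction.stabilizer G w from inf_le_right)
  rw [Subgroup.inf_relIndex_left] at h3
  rw [h2]
  have h5 : p ^ k ∣ (MulAction.stabilizer G w).relIndex (P : Subgroup G) * (P : Subgroup G).index := by
    rw [h3]; exact h.trans (h1 ▸ h4)
  exact Nat.Coprime.dvd_of_dvd_mul_right (Nat.Coprime.pow_left _ ((Nat.Prime.coprime_iff_not_dvd Fact.out).mpr P.not_dvd_index)) h5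

/-- If a finite group acts faithfully and transitively on a set with p^k elements, p a prime and k ≥ 1, then some element of order p fixes no point. -/
theorem result {G Ω : Type*} [Group G] [Finite G] [MulAction G Ω] [FaithfulSMul G Ω] [Fintype Ω] (htr : MulAction.IsPretransitive G Ω)
    (p k : ℕ) (hp : p.Prime) (hk : 1 ≤ k) (hΩ : Fintype.card Ω = p ^ k) :
    ∃ g : G, orderOf g = p ∧ ∀ ω : Ω, g • ω ≠ ω := by
  haveI : Fact p.Prime := ⟨hp⟩
  obtain ⟨P⟩ : Nonempty (Sylow p G) := inferInstance
  have hpos : 0 < Fintype.card Ω := hΩ ▸ pow_pos hp.pos k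
  obtain ⟨w⟩ := Fintype.card_pos_iff.mp hpos
  have hd := dvd_index htr p k P (hΩ ▸ dvd_rfl) w
  have horb : MulAction.orbit P w = Set.univ := by
    rw [MulAction.index_stabilizer] at hd
    apply Set.eq_of_subset_of_ncard_le (Set.subset_univ _)
    rw [Set.ncard_univ, Nat.card_eq_fintype_card, hΩ]
    exact Nat.le_of_dvd ((Set.ncard_pos).mpr ⟨w, MulAction.mem_orbit_self w⟩) hd
  have hnt : Nontrivial P := by
    rw [← Finite.one_lt_card_iff_nontrivial]
    have h1 := hd.trans (Subgroup.index_dvd_card _)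
    have := Nat.le_of_dvd Nat.card_pos h1
    have h2 : 1 < p ^ k := Nat.one_lt_pow (by omega) hp.one_lt
    omega
  haveI := P.isPGroup'.center_nontrivial
  have hc : p ∣ Nat.card (Subgroup.center P) := by
    obtain ⟨n, hn, h⟩ := (P.isPGroup'.to_subgroup (Subgroup.center P)).nontrivial_iff_card.mp inferInstance
    rw [h]; exact dvd_pow_self p hn.ne'
  obtain ⟨z, hz⟩ := exists_prime_orderOf_dvd_card' p hc
  refine ⟨((z : P) : G), by rw [Subgroup.orderOf_coe, Subgroup.orderOf_coe, hz], fun v hv => ?_⟩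
  have h1 : ((z : P) : G) = 1 := by
    apply FaithfulSMul.eq_of_smul_eq_smul (α := Ω)
    intro u
    obtain ⟨a, ha⟩ : u ∈ MulAction.orbit P w := horb ▸ Set.mem_univ u
    obtain ⟨b, hb⟩ : v ∈ MulAction.orbit P w := horb ▸ Set.mem_univ v
    have hu : u = (a * b⁻¹) • v := by rw [← ha, ← hb]; simp [smul_smul]
    have hcomm := Subgroup.mem_center_iff.mp z.2 (a * b⁻¹)
    have : (z : P) • u = u := by
      rw [hu, smul_smul, ← hcomm, ← smul_smul]
      congr 1
    rw [one_smul]; exact this
  have : orderOf z = 1 := by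
    rw [← Subgroup.orderOf_coe, ← Subgroup.orderOf_coe, h1, orderOf_one]
  exact hp.one_lt.ne' (hz ▸ this)

end Cfsg.Agent.S5726
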