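import Cfsg.Statements.S5727
import Cfsg.Agent.S5726

set_option autoImplicit false
open Cfsg

namespace Cfsg.Agent.S5727

/-- If a finite group acts faithfully and transitively on a set with m·p elements, where p is a prime and 1 ≤ m ≤ p, then some element of order p fixes no point. -/
theorem result {G Ω : Type*} [Group G] [Finite G] [MulAction G Ω] [FaithfulSMul G Ω] [Fintype Ω] (htr : MulAction.IsPretransitive G Ω)
    (p m : ℕ) (hp : p.Prime) (hm : 1 ≤ m) (hmp : m ≤ p) (hΩ : Fintype.card Ω = m * p) :
    ∃ g : G, orderOf g = p ∧ ∀ ω : Ω, g • ω ≠ ω := by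
  classical
  rcases hmp.eq_or_lt with rfl | hlt
  · exact Cfsg.Agent.S5726.result htr m 2 hp (by norm_num) (by rw [hΩ, sq])
  haveI : Fact p.Prime := ⟨hp⟩
  obtain ⟨P⟩ : Nonempty (Sylow p G) := inferInstance
  haveI : Fintype P := Fintype.ofFinite _
  have hd : ∀ w : Ω, p ∣ (MulAction.stabilizer P w).index := fun w => by
    simpa using Cfsg.Agent.S5726.dvd_index htr p 1 P (by rw [hΩ]; simp) w
  obtain ⟨n, hn⟩ := P.isPGroup'.exists_card_eq
  have hex : ∃ g : P, ∀ w : Ω, g • w ≠ w := by
    by_contra hc
    push Not at hc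
    have h1 : ∀ g : P, p ≤ (Finset.univ.filter (fun w : Ω => g • w = w)).card := by
      intro g
      have hg : (MulAction.toEndHom (α := Ω) g) ^ p ^ n = 1 := by
        rw [← map_pow, ← hn, show g ^ Nat.card (P : Subgroup G) = 1 from pow_card_eq_one', map_one]
      have := Equiv.Perm.card_fixedPoints_modEq hg
      rw [Fintype.card_of_subtype (Finset.univ.filter (fun w : Ω => g • w = w)) (fun x => by simp [Function.mem_fixedPoints_iff]; rfl), hΩ] at this
      obtain ⟨w, hw⟩ := hc g
      apply Nat.le_of_dvd (Finset.card_pos.mpr ⟨w, by simpa using hw⟩)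
      exact (Nat.modEq_zero_iff_dvd).mp (this.symm.trans ((Nat.modEq_zero_iff_dvd).mpr (Dvd.intro_left m rfl)))
    have h2 : ∀ w : Ω, p * (Finset.univ.filter (fun g : P => g • w = w)).card ≤ Fintype.card P := by
      intro w
      have h3 : (Finset.univ.filter (fun g : P => g • w = w)).card = Nat.card (MulAction.stabilizer P w) := by
        rw [Nat.card_eq_fintype_card]
        exact (Fintype.card_of_subtype _ (fun x => by simp)).symm
      rw [h3, ← Nat.card_eq_fintype_card, ← (MulAction.stabilizer P w).index_mul_card]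
      exact Nat.mul_le_mul_right _ (Nat.le_of_dvd (Nat.pos_of_ne_zero Subgroup.index_ne_zero_of_finite) (hd w))
    have h3 : ∑ g : P, (Finset.univ.filter (fun w : Ω => g • w = w)).card = ∑ w : Ω, (Finset.univ.filter (fun g : P => g • w = w)).card := by
      simp only [Finset.card_filter]; exact Finset.sum_comm
    have h4 : Fintype.card P * p ≤ ∑ g : P, (Finset.univ.filter (fun w : Ω => g • w = w)).card := by
      exact Finset.card_nsmul_le_sum Finset.univ _ p (fun g _ => h1 g)
    have h5 : p * ∑ w : Ω, (Finset.univ.filter (fun g : P => g • w = w)).card ≤ m * p * Fintype.card P := by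
      rw [Finset.mul_sum, ← hΩ]
      simpa using Finset.sum_le_card_nsmul Finset.univ _ _ (fun w _ => h2 w)
    rw [← h3] at h5
    have h6 : 0 < Fintype.card P := Fintype.card_pos
    have h7 := hp.pos
    have : p * (Fintype.card P * p) ≤ m * p * Fintype.card P := (Nat.mul_le_mul_left p h4).trans h5
    have h8 : m * (p * Fintype.card P) < p * (p * Fintype.card P) := Nat.mul_lt_mul_of_pos_right hlt (by positivity)
    nlinarith
  obtain ⟨g, hg⟩ := hex
  refine ⟨g, ?_, hg⟩
  have hpos : 0 < Fintype.card Ω := by rw [hΩ]; exact Nat.mul_pos hm hp.pos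
  obtain ⟨w0⟩ := Fintype.card_pos_iff.mp hpos
  apply orderOf_eq_prime
  · apply FaithfulSMul.eq_of_smul_eq_smul (α := Ω)
    intro w
    rw [one_smul, MulAction.pow_smul_eq_iff_period_dvd]
    have h1 : MulAction.period (g : G) w ∣ p ^ n := by
      rw [← MulAction.pow_smul_eq_iff_period_dvd, ← Subgroup.coe_pow, ← hn, pow_card_eq_one']; simp
    obtain ⟨j, -, hj⟩ := (Nat.dvd_prime_pow hp).mp h1
    have h2 : MulAction.period (g : G) w ≤ Fintype.card Ω := by
      rw [MulAction.period_eq_minimalPeriod]
      exact Function.minimalPeriod_le_card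
    have h3 : j < 2 := by
      rw [← Nat.pow_lt_pow_iff_right hp.one_lt, ← hj, sq]
      exact lt_of_le_of_lt h2 (hΩ ▸ Nat.mul_lt_mul_of_pos_right hlt hp.pos)
    rw [hj]
    interval_cases j <;> simp
  · intro h
    apply hg w0
    show (g : G) • w0 = w0
    rw [h, one_smul]

end Cfsg.Agent.S5727
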