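import Cfsg.Statements.S5728


set_option autoImplicit false
open Cfsg

namespace Cfsg.Agent.S5728

/-- An elusive transitive action. Let p = 2^s − 1 be a prime and let F be the field with p² elements. Inside the group of affine maps x ↦ a·x + b of F (a ≠ 0), consider the subgroup of maps with both coefficients in the prime field. Then every element of prime order of the affine group is conjugate, within the affine group, to an element of that subgroup; equivalently, in the transitive action of the affine group on the cosets of that subgroup (of degree p(p + 1)) every element of prime order fixes a point. -/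
theorem result (p s : ℕ) [Fact p.Prime] (hs : p = 2 ^ s - 1)
    (g : Equiv.Perm (GaloisField p 2)) (hg : g ∈ Cfsg.affineGroup (GaloisField p 2)) (hord : (orderOf g).Prime) :
    ∃ x ∈ Cfsg.affineGroup (GaloisField p 2), ∃ a b : ZMod p, a ≠ 0 ∧
      ∀ y : GaloisField p 2, (x * g * x⁻¹) y = algebraMap (ZMod p) (GaloisField p 2) a * y + algebraMap (ZMod p) (GaloisField p 2) b := by
  obtain ⟨a, b, h⟩ := hg
  have hp : p.Prime := Fact.out
  by_cases ha : (a : GaloisField p 2) = 1
  · have hb : b ≠ 0 := by
      rintro rfl
      have : g = 1 := by ext x; simp [h, ha]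
      rw [this, orderOf_one] at hord
      exact Nat.not_prime_one hord
    refine ⟨Equiv.mulLeft₀ b⁻¹ (inv_ne_zero hb), ⟨Units.mk0 b⁻¹ (inv_ne_zero hb), 0, fun x => by simp⟩, 1, 1, one_ne_zero, fun y => ?_⟩
    simp [Equiv.Perm.mul_apply, h, ha, Equiv.Perm.inv_def, mul_add, hb]
  · have hpow : ∀ n : ℕ, ∀ x y, (g ^ n) x - (g ^ n) y = (a : GaloisField p 2) ^ n * (x - y) := by
      intro n
      induction n with
      | zero => simp
      | succ n ih => intro x y; rw [pow_succ', Equiv.Perm.mul_apply, Equiv.Perm.mul_apply, h, h, pow_succ', mul_assoc, ← ih]; ring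
    have h1 : (a : GaloisField p 2) ^ orderOf g = 1 := by
      have := hpow (orderOf g) 1 0
      simpa [pow_orderOf_eq_one] using this.symm
    have hoa : orderOf a = orderOf g := by
      haveI : Fact (orderOf g).Prime := ⟨hord⟩
      apply orderOf_eq_prime
      · exact Units.ext (by simpa using h1)
      · intro h; exact ha (by simp [h])
    have hd : orderOf g ∣ p ^ 2 - 1 := by
      rw [← hoa, ← GaloisField.card p 2 (by norm_num), ← Nat.card_units]
      exact orderOf_dvd_natCard a
    have hs2 : 2 ≤ s := by
      by_contra hlt
      have := hp.two_le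
      interval_cases s <;> simp at hs <;> omega
    have hp1 : p + 1 = 2 ^ s := by have := Nat.one_le_two_pow (n := s); omega
    have hd2 : orderOf g ∣ p - 1 := by
      have : p ^ 2 - 1 = (p + 1) * (p - 1) := by simpa using Nat.sq_sub_sq p 1
      rw [this, hp1] at hd
      rcases (Nat.Prime.dvd_mul hord).mp hd with h2 | h2
      · have := (Nat.prime_dvd_prime_iff_eq hord Nat.prime_two).mp (hord.dvd_of_dvd_pow h2)
        rw [this]
        have : 2 ∣ 2 ^ s := dvd_pow_self 2 (by omega)
        omega
      · exact h2
    have hap : (a : GaloisField p 2) ^ p = a := by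
      obtain ⟨c, hc⟩ := hd2
      have : p = orderOf g * c + 1 := by have := hp.pos; omega
      have e : (a : GaloisField p 2) ^ (orderOf g * c + 1) = a := by rw [pow_succ, pow_mul, h1]; simp
      rwa [← this] at e
    have hmem := (Subfield.mem_bot_iff_pow_eq_self (GaloisField p 2) p).mpr hap
    rw [← ZMod.fieldRange_castHom_eq_bot p] at hmem
    obtain ⟨a0, ha0⟩ := hmem
    have ha0' : algebraMap (ZMod p) (GaloisField p 2) a0 = a := by
      rw [← ha0]; congr 1; exact Subsingleton.elim _ _
    have h1a : (1 - a : GaloisField p 2) ≠ 0 := sub_ne_zero.mpr (Ne.symm ha)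
    refine ⟨Equiv.subRight (b / (1 - a)), ⟨1, -(b / (1 - a)), fun x => by simp [sub_eq_add_neg]⟩, a0, 0, ?_, fun y => ?_⟩
    · rintro rfl
      exact a.ne_zero (by simpa using ha0'.symm)
    · simp [Equiv.Perm.mul_apply, h, ha0', Equiv.Perm.inv_def]
      field_simp; ring

end Cfsg.Agent.S5728
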